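import Groth.Agent.H20.EtaleLocal
import Mathlib.RingTheory.RingHom.StandardSmooth
import Mathlib.RingTheory.RingHom.Etale
import Mathlib.RingTheory.Smooth.StandardSmoothOfFree
import Mathlib.RingTheory.RegularLocalRing.Polynomial
import Mathlib.RingTheory.Localization.LocalizationLocalization

/-!
Smooth points of finite type algebras over a field are regular.
-/

universe u

namespace Groth.Agent.H20.SmoothRegular

theorem isRegularLocalRing (k : Type u) [Field k] {S : Type u} [CommRing S] [Algebra k S]
    [Algebra.FiniteType k S] (q : Ideal S) [q.IsPrime] [Algebra.IsSmoothAt k q] :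
    IsRegularLocalRing (Localization.AtPrime q) := by
  have : Algebra.FinitePresentation k S := Algebra.FinitePresentation.of_finiteType.mp ‹_›
  obtain ⟨f, hf, hstd⟩ := Algebra.IsSmoothAt.exists_notMem_isStandardSmooth k q
  let T := Localization.Away f
  have hstd' : (algebraMap k T).IsStandardSmooth :=
    RingHom.isStandardSmooth_algebraMap.mpr hstd
  obtain ⟨n, g, -, hget⟩ := hstd'.exists_etale_mvPolynomial
  let algP : Algebra (MvPolynomial (Fin n) k) T := g.toAlgebra
  have : Algebra.Etale (MvPolynomial (Fin n) k) T := RingHom.etale_algebraMap.mp hget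
  let q' := q.map (algebraMap S T)
  have hdisj : Disjoint (Submonoid.powers f : Set S) (q : Set S) :=
    (Ideal.disjoint_powers_iff_notMem_of_isPrime _).mpr hf
  have : q'.IsPrime := IsLocalization.isPrime_of_isPrime_disjoint (Submonoid.powers f) T q ‹_› hdisj
  let p := q'.under (MvPolynomial (Fin n) k)
  have : q'.LiesOver p := ⟨rfl⟩
  let := Localization.AtPrime.algebraOfLiesOver p q'
  have hp : IsRegularLocalRing (Localization.AtPrime p) :=
    IsRegularRing.isRegularLocalRing_localization p
  have hq' : IsRegularLocalRing (Localization.AtPrime q') :=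
    (EtaleLocal.isRegularLocalRing_iff (MvPolynomial (Fin n) k) T q' p).mp hp
  have hu : q'.under S = q :=
    IsLocalization.under_map_of_isPrime_disjoint (Submonoid.powers f) T ‹_› hdisj
  have hloc : IsLocalization.AtPrime (Localization.AtPrime q') (q'.under S) :=
    IsLocalization.isLocalization_isLocalization_atPrime_isLocalization (Submonoid.powers f) _ q'
  have hloc' : IsLocalization q.primeCompl (Localization.AtPrime q') := by
    convert hloc using 2
    exact hu.symm
  exact IsRegularLocalRing.of_ringEquiv
    (IsLocalization.algEquiv q.primeCompl (Localization.AtPrime q') (Localization.AtPrime q)).toRingEquiv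

end Groth.Agent.H20.SmoothRegular
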