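import Groth.Agent.H20.FibreDimBC
import Groth.Agent.Lib.FibreDim.Semicont
import Mathlib.RingTheory.Extension.Presentation.Core
import Mathlib.RingTheory.Polynomial.Basic

/-!
The loci of bounded relative dimension are open and, for finitely presented algebras, quasi-compact.
-/

open TensorProduct Groth.Agent.Lib.Dim CategoryTheory AlgebraicGeometry

universe u

namespace Groth.Agent.H20.FibreDimSet

open FibreDimBC

variable {R S : Type u} [CommRing R] [CommRing S] [Algebra R S]

theorem locallyOfFiniteType_specMap [Algebra.FiniteType R S] :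
    LocallyOfFiniteType (Spec.map (CommRingCat.ofHom (algebraMap R S))) := by
  rw [HasRingHomProperty.Spec_iff (P := @LocallyOfFiniteType)]
  exact RingHom.finiteType_algebraMap.mpr inferInstance

theorem fibreDimAt_specMap [Algebra.FiniteType R S] (q : PrimeSpectrum S) :
    FlatMor.fibreDimAt (Spec.map (CommRingCat.ofHom (algebraMap R S))) q =
      (fdim R S q.asIdeal : WithBot ℕ∞) := by
  have h := Groth.Agent.Lib.FibreDim.Chart.fibreDimAt_eq_dimAt
    (Spec.map (CommRingCat.ofHom (algebraMap R S))) (𝟙 _) (𝟙 _)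
    (by rw [Category.comp_id, Category.id_comp]) q
  exact h.trans rfl

theorem isOpen_setOf_fdim_le [Algebra.FiniteType R S] (n : ℕ) :
    IsOpen {q : PrimeSpectrum S | fdim R S q.asIdeal ≤ n} := by
  have := locallyOfFiniteType_specMap (R := R) (S := S)
  have h := Groth.Agent.Lib.FibreDim.Semicont.isOpen_setOf_fibreDimAt_le
    (Spec.map (CommRingCat.ofHom (algebraMap R S))) (n : WithBot ℕ∞)
  have hset : {q : PrimeSpectrum S | fdim R S q.asIdeal ≤ n} =
      {x : Spec (CommRingCat.of S) | FlatMor.fibreDimAt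
        (Spec.map (CommRingCat.ofHom (algebraMap R S))) x ≤ (n : WithBot ℕ∞)} := by
    refine Set.ext fun q => ?_
    show fdim R S q.asIdeal ≤ n ↔
      FlatMor.fibreDimAt (Spec.map (CommRingCat.ofHom (algebraMap R S))) q ≤ (n : WithBot ℕ∞)
    rw [fibreDimAt_specMap]
    norm_cast
  rw [hset]
  exact h

theorem isCompact_preimage {A B : Type u} [CommRing A] [CommRing B] (f : A →+* B)
    {U : Set (PrimeSpectrum A)} (hc : IsCompact U) (ho : IsOpen U) :
    IsCompact (PrimeSpectrum.comap f ⁻¹' U) := by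
  classical
  obtain ⟨s, hs⟩ := PrimeSpectrum.isCompact_isOpen_iff.mp ⟨hc, ho⟩
  refine (PrimeSpectrum.isCompact_isOpen_iff.mpr ⟨s.image f, ?_⟩).1
  rw [← hs, Set.preimage_compl, PrimeSpectrum.preimage_comap_zeroLocus, Finset.coe_image]

theorem isCompact_setOf_fdim_le [Algebra.FinitePresentation R S] (n : ℕ) :
    IsCompact {q : PrimeSpectrum S | fdim R S q.asIdeal ≤ n} := by
  let P := Algebra.Presentation.ofFinitePresentation R S
  let R₀ := P.Core
  let S₀ := P.ModelOfHasCoeffs R₀
  let e : R ⊗[R₀] S₀ ≃ₐ[R] S := P.tensorModelOfHasCoeffsEquiv R₀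
  have : IsNoetherianRing R₀ := Algebra.FiniteType.isNoetherianRing ℤ R₀
  have : IsNoetherianRing S₀ := Algebra.FiniteType.isNoetherianRing R₀ S₀
  let φ : S₀ →+* S := e.toAlgHom.toRingHom.comp
    (Algebra.TensorProduct.includeRight (R := R₀) (A := R) (B := S₀)).toRingHom
  have hset : {q : PrimeSpectrum S | fdim R S q.asIdeal ≤ n} =
      PrimeSpectrum.comap φ ⁻¹' {q₀ : PrimeSpectrum S₀ | fdim R₀ S₀ q₀.asIdeal ≤ n} := by
    ext q
    simp only [Set.mem_ofPred_eq, Set.mem_preimage]
    rw [← fdim_congr (S := R ⊗[R₀] S₀) e q.asIdeal, fdim_baseChange R]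
    rfl
  rw [hset]
  exact isCompact_preimage φ (TopologicalSpace.NoetherianSpace.isCompact _)
    (isOpen_setOf_fdim_le n)

end Groth.Agent.H20.FibreDimSet
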