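import Groth.Agent.H20.PDDepth
import Groth.Agent.Lib.Dim.Local
import Mathlib.RingTheory.RegularLocalRing.Polynomial

/-!
The Cohen–Macaulay locus of a finite type algebra over a field is open.
-/

universe u

open IsLocalRing LocCoh Groth.Agent.Lib.Dim Groth.Agent.Lib.Depth
open Groth.Agent.Lib.Regular.PD

namespace Groth.Agent.H20.CMLocus

variable {k : Type u} [Field k] {S : Type u} [CommRing S] [Algebra k S] [Algebra.FiniteType k S]

variable (k) in
theorem isOpen_setOf_dimAt_le (m : ℕ) :
    IsOpen {q : PrimeSpectrum S | Local.dimAt k q.asIdeal ≤ m} := by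
  have : IsNoetherianRing S := Algebra.FiniteType.isNoetherianRing k S
  have hfin : {p ∈ minimalPrimes S | m < Basic.dimQ k p}.Finite :=
    (minimalPrimes.finite_of_isNoetherianRing S).subset (fun p hp => hp.1)
  have heq : {q : PrimeSpectrum S | Local.dimAt k q.asIdeal ≤ m} =
      (⋃ p ∈ {p ∈ minimalPrimes S | m < Basic.dimQ k p}, PrimeSpectrum.zeroLocus (p : Set S))ᶜ := by
    ext q
    simp only [Set.mem_ofPred_eq, Local.dimAt_le_iff, Set.mem_compl_iff, Set.mem_iUnion,
      PrimeSpectrum.mem_zeroLocus, SetLike.coe_subset_coe, not_exists]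
    exact ⟨fun h p hp hle => hp.2.not_ge (h p hp.1 hle),
      fun h p hp hle => not_lt.mp fun hlt => h p ⟨hp, hlt⟩ hle⟩
  rw [heq]
  exact (hfin.isClosed_biUnion fun p _ => PrimeSpectrum.isClosed_zeroLocus _).isOpen_compl

variable {n : ℕ} [Algebra (MvPolynomial (Fin n) k) S] [IsScalarTower k (MvPolynomial (Fin n) k) S]

omit [Algebra.FiniteType k S] in
variable (n) in
theorem dimQ_under (hπ : Function.Surjective (algebraMap (MvPolynomial (Fin n) k) S))
    (q : Ideal S) [q.IsPrime] :
    Basic.dimQ k (q.under (MvPolynomial (Fin n) k)) = Basic.dimQ k q := by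
  let π := IsScalarTower.toAlgHom k (MvPolynomial (Fin n) k) S
  have h : RingHom.ker ((Ideal.Quotient.mkₐ k q).comp π).toRingHom = q.under _ := by
    ext x
    exact Ideal.Quotient.eq_zero_iff_mem
  unfold Basic.dimQ Basic.trdegNat
  exact congrArg Cardinal.toNat (((Ideal.quotientEquivAlgOfEq k h.symm).trans
    (Ideal.quotientKerAlgEquivOfSurjective
      ((Ideal.Quotient.mkₐ_surjective k q).comp hπ))).trdeg_eq)

variable (k) in
theorem trdegNat_mvPolynomial (n : ℕ) : Basic.trdegNat k (MvPolynomial (Fin n) k) = n := by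
  simp [Basic.trdegNat, MvPolynomial.trdeg_of_isDomain]

theorem isCohenMacaulayLocalRing_iff (hπ : Function.Surjective (algebraMap (MvPolynomial (Fin n) k) S))
    (q : Ideal S) [q.IsPrime] :
    IsCohenMacaulayLocalRing (Localization.AtPrime q) ↔
      ∃ c : ℕ, Local.dimAt k q + c ≤ n ∧
        PDle (Localization.AtPrime (q.under (MvPolynomial (Fin n) k)))
          (LocalizedModule (q.under (MvPolynomial (Fin n) k)).primeCompl S) c := by
  let P := MvPolynomial (Fin n) k
  let Q : Ideal P := q.under P
  let A := Localization.AtPrime Q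
  let Sq := Localization.AtPrime q
  have : IsNoetherianRing S := Algebra.FiniteType.isNoetherianRing k S
  have : Module.Finite P S :=
    Module.Finite.of_surjective (Algebra.linearMap P S) hπ
  have : q.LiesOver Q := ⟨rfl⟩
  have hM : Algebra.algebraMapSubmonoid S Q.primeCompl = q.primeCompl :=
    Ideal.algebraMapSubmonoid_primeCompl_of_liesOver_surjective (P := q) (p := Q) hπ
  have : IsLocalization (Algebra.algebraMapSubmonoid S Q.primeCompl) Sq := by
    rw [hM]; infer_instance
  let φ : A →+* Sq := IsLocalization.map Sq (algebraMap P S)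
    (show Q.primeCompl ≤ q.primeCompl.comap (algebraMap P S) from fun x hx => hx)
  let algAS : Algebra A Sq := φ.toAlgebra
  have : IsScalarTower P A Sq := IsScalarTower.of_algebraMap_eq fun x => by
    rw [RingHom.algebraMap_toAlgebra, IsLocalization.map_eq, ← IsScalarTower.algebraMap_apply]
  have : IsLocalizedModule Q.primeCompl (IsScalarTower.toAlgHom P S Sq).toLinearMap :=
    isLocalizedModule_iff_isLocalization.mpr inferInstance
  let e : LocalizedModule Q.primeCompl S ≃ₗ[A] Sq :=
    (IsLocalizedModule.iso Q.primeCompl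
      (IsScalarTower.toAlgHom P S Sq).toLinearMap).extendScalarsOfIsLocalization Q.primeCompl A
  have hφ : Function.Surjective (algebraMap A Sq) := by
    intro z
    obtain ⟨a, s, rfl⟩ :=
      IsLocalization.exists_mk'_eq (Algebra.algebraMapSubmonoid S Q.primeCompl) z
    obtain ⟨a, rfl⟩ := hπ a
    obtain ⟨s, hs, he⟩ := s.2
    refine ⟨IsLocalization.mk' A a (⟨s, hs⟩ : Q.primeCompl), ?_⟩
    rw [IsLocalization.eq_mk'_iff_mul_eq, RingHom.algebraMap_toAlgebra, ← he]
    show φ _ * algebraMap S Sq (algebraMap P S s) = _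
    rw [show algebraMap S Sq (algebraMap P S s) = φ (algebraMap P A s) from
      (IsLocalization.map_eq _ s).symm, ← map_mul, IsLocalization.mk'_spec]
    exact IsLocalization.map_eq _ a
  have : Module.Finite A Sq := Module.Finite.of_surjective (Algebra.linearMap A Sq) hφ
  have hpd : ∀ c : ℕ, PDle A (LocalizedModule Q.primeCompl S) c ↔
      ((maximalIdeal A).spanFinrank : ℕ∞) ≤ depth Sq Sq + c := fun c => by
    rw [← Basic.depth_eq_of_surjective (R := A) (S := Sq) (M := Sq) hφ,
      ← PDDepth.pdle_iff_le_depth_add Sq c]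
    exact ⟨pdle_of_equiv e, pdle_of_equiv e.symm⟩
  have hreg : IsRegularLocalRing A := IsRegularRing.isRegularLocalRing_localization (R := P) Q
  have hdimA : (maximalIdeal A).spanFinrank + Basic.dimQ k q = n := by
    have h1 := IsRegularLocalRing.spanFinrank_maximalIdeal (R := A)
    rw [IsLocalization.AtPrime.ringKrullDim_eq_height Q A, ← Local.coe_height_toNat k Q] at h1
    have h2 := Local.coe_height_toNat k Q
    have h3 := Basic.height_add_dimQ k Q
    rw [trdegNat_mvPolynomial, dimQ_under n hπ q, ← h2] at h3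
    have h1' : (maximalIdeal A).spanFinrank = Q.height.toNat := by exact_mod_cast h1
    have h3' : Q.height.toNat + Basic.dimQ k q = n := by exact_mod_cast h3
    omega
  have hdimAt : Local.dimAt k q ≤ n := by
    refine (Local.dimAt_le_iff k q n).mpr fun p hp _ => ?_
    have : p.IsPrime := hp.1.1
    rw [← dimQ_under n hπ p]
    have h3 := Basic.height_add_dimQ k (p.under P)
    rw [trdegNat_mvPolynomial, ← Local.coe_height_toNat k (p.under P)] at h3
    have h3' : (p.under P).height.toNat + Basic.dimQ k (p.under P) = n := by exact_mod_cast h3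
    exact (Nat.le_add_left _ _).trans h3'.le
  obtain ⟨j, hj⟩ := ENat.ne_top_iff_exists.mp (Assoc.depth_ne_top (R := Sq) Sq)
  have hCM : IsCohenMacaulayLocalRing Sq ↔ q.height.toNat ≤ j := by
    rw [CM.isCohenMacaulayLocalRing_iff, IsLocalization.AtPrime.ringKrullDim_eq_height q Sq,
      ← Local.coe_height_toNat k q, ← hj, WithBot.coe_le_coe, Nat.cast_le, ENat.toNat_natCast]
  have hda : Local.dimAt k q = q.height.toNat + Basic.dimQ k q := rfl
  rw [hCM]
  constructor
  · intro h
    refine ⟨n - Local.dimAt k q, by omega, (hpd _).mpr ?_⟩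
    rw [← hj]
    exact_mod_cast (show (maximalIdeal A).spanFinrank ≤ j + (n - Local.dimAt k q) by omega)
  · rintro ⟨c, hc, h⟩
    have h' := (hpd c).mp h
    rw [← hj] at h'
    have h'' : (maximalIdeal A).spanFinrank ≤ j + c := by exact_mod_cast h'
    omega

end Groth.Agent.H20.CMLocus
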