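import Groth.Agent.Lib.Depth.CM
import Groth.Agent.Lib.Regular.Serre
import Groth.Agent.Lib.Regular.Quotient
import Mathlib.RingTheory.Regular.ProjectiveDimension
import Mathlib.RingTheory.Spectrum.Prime.FreeLocus

/-!
Auslander–Buchsbaum over regular local rings, and openness of bounded projective dimension.
-/

universe u

open IsLocalRing CategoryTheory RingTheory.Sequence LocCoh Pointwise
open Groth.Agent.Lib.Depth Groth.Agent.Lib.Regular.PD

namespace Groth.Agent.H20.PDDepth

section regular

variable {R : Type u} [CommRing R] [IsRegularLocalRing R]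

omit [IsRegularLocalRing R] in
theorem pdle_iff_projectiveDimension_le (M : Type u) [AddCommGroup M] [Module R M] (n : ℕ) :
    PDle R M n ↔ projectiveDimension (ModuleCat.of R M) ≤ n :=
  (projectiveDimension_le_iff _ n).symm

/-- A nonzero module of depth zero has maximal projective dimension. -/
theorem not_pdle_of_depth_eq_zero (M : Type u) [AddCommGroup M] [Module R M] [Module.Finite R M]
    [Nontrivial M] (h0 : depth R M = 0) {c : ℕ} (hc : c < (maximalIdeal R).spanFinrank) :
    ¬ PDle R M c := by
  intro hM
  obtain ⟨m, hm'⟩ : ∃ m, (maximalIdeal R).spanFinrank = m + 1 := ⟨_, (Nat.sub_add_cancel (by omega)).symm⟩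
  have hm : maximalIdeal R ∈ associatedPrimes R M := (Assoc.depth_eq_zero_iff M).mp h0
  obtain ⟨x, hx⟩ := ((isAssociatedPrime_iff_exists_injective_linearMap _ _).mp hm).2
  have hQ : PDle R (M ⧸ LinearMap.range x) (m + 1) := hm' ▸ Groth.Agent.Lib.Regular.Serre.pdle_all _
  let sc : ShortComplex (ModuleCat.{u} R) :=
    ShortComplex.moduleCatMk x (LinearMap.range x).mkQ (LinearMap.range_mkQ_comp x)
  have hsc : sc.ShortExact :=
    { exact := (ShortComplex.ShortExact.moduleCat_exact_iff_function_exact _).mpr
        (LinearMap.exact_map_mkQ_range x)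
      mono_f := (ModuleCat.mono_iff_injective _).mpr hx
      epi_g := (ModuleCat.epi_iff_surjective _).mpr (Submodule.mkQ_surjective _) }
  have hk : PDle R (R ⧸ maximalIdeal R) m :=
    hsc.hasProjectiveDimensionLT_X₁ (m + 1) (pdle_mono hM (by omega)) hQ
  obtain ⟨rs, hrs, hlen⟩ : ∃ rs : List R,
      Ideal.ofList rs = maximalIdeal R ∧ rs.length = (maximalIdeal R).spanFinrank := by
    classical
    have hfg : (maximalIdeal R).FG := IsNoetherian.noetherian _
    refine ⟨(Submodule.FG.finite_generators hfg).toFinset.toList, ?_, ?_⟩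
    · rw [Ideal.ofList]
      simp [Ideal.span, Submodule.span_generators]
    · rw [Finset.length_toList, ← Set.ncard_eq_toFinset_card _ (Submodule.FG.finite_generators hfg), Submodule.FG.generators_ncard hfg]
  have hreg := Groth.Agent.Lib.Regular.Quotient.isRegular_of_span_eq_maximalIdeal rs hrs hlen
  have hpd := ModuleCat.projectiveDimension_quotient_eq_add_length_of_isWeaklyRegular
    (ModuleCat.of R R) rs hreg.toIsWeaklyRegular
    (fun r hr => hrs ▸ Ideal.subset_span hr)
  have h0R : projectiveDimension (ModuleCat.of R R) = 0 :=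
    (projectiveDimension_eq_zero_iff _).mpr
      ⟨(IsProjective.iff_projective _).mp inferInstance,
        fun h => not_subsingleton R (ModuleCat.isZero_iff_subsingleton.mp h)⟩
  rw [h0R, zero_add, hlen, hm'] at hpd
  have hk' : projectiveDimension (ModuleCat.of R (R ⧸ Ideal.ofList rs • (⊤ : Submodule R R))) ≤ m :=
    (pdle_iff_projectiveDimension_le _ m).mp (pdle_of_equiv
      (Submodule.quotEquivOfEq (maximalIdeal R) _ (by rw [hrs, smul_eq_mul, Ideal.mul_top])) hk)
  rw [hpd] at hk'
  norm_cast at hk'
  omega

theorem pdle_iff_aux (j : ℕ) : ∀ (M : Type u) [AddCommGroup M] [Module R M] [Module.Finite R M]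
    [Nontrivial M], depth R M = j → ∀ c : ℕ,
      PDle R M c ↔ (maximalIdeal R).spanFinrank ≤ j + c := by
  induction j with
  | zero =>
    intro M _ _ _ _ h0 c
    refine ⟨fun h => ?_, fun h => pdle_mono (Groth.Agent.Lib.Regular.Serre.pdle_all M) (by omega)⟩
    by_contra hc
    exact not_pdle_of_depth_eq_zero M h0 (by omega) h
  | succ j ih =>
    intro M _ _ _ _ hj c
    have hI := Basic.smul_top_ne_top (R := R) (M := M) (I := maximalIdeal R) Ideal.IsPrime.ne_top'
    obtain ⟨x, hx, hreg, -⟩ := Basic.exists_isSMulRegular_of_succ_le hI (n := j)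
      (by rw [← hj]; rfl)
    have hnt : Nontrivial (QuotSMulTop x M) := nontrivial_quotSMulTop_of_mem_maximalIdeal M hx
    have hdepth : depth R (QuotSMulTop x M) = j := by
      have h1 := SES.idealDepth_quotSMulTop (maximalIdeal R) hx hreg
      rw [show idealDepth (maximalIdeal R) M = depth R M from rfl, hj, Nat.cast_succ] at h1
      exact (ENat.add_left_injective_of_ne_top ENat.one_ne_top) h1
    have h2 := ih (QuotSMulTop x M) hdepth (c + 1)
    rw [pdle_iff_projectiveDimension_le,
      ModuleCat.projectiveDimension_quotSMulTop_eq_succ_of_isSMulRegular (ModuleCat.of R M) x hreg hx,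
      Nat.cast_succ, ENat.WithBot.add_le_add_one_right_iff,
      ← pdle_iff_projectiveDimension_le] at h2
    rw [h2]
    omega

/-- Auslander–Buchsbaum over a regular local ring. -/
theorem pdle_iff_le_depth_add (M : Type u) [AddCommGroup M] [Module R M] [Module.Finite R M]
    [Nontrivial M] (c : ℕ) :
    PDle R M c ↔ ((maximalIdeal R).spanFinrank : ℕ∞) ≤ depth R M + c := by
  obtain ⟨j, hj⟩ := ENat.ne_top_iff_exists.mp (Assoc.depth_ne_top (R := R) M)
  rw [pdle_iff_aux j M hj.symm c, ← hj]
  exact_mod_cast Iff.rfl

end regular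

section locus

variable {R : Type u} [CommRing R] [IsNoetherianRing R]

theorem isOpen_setOf_pdle (c : ℕ) : ∀ (M : Type u) [AddCommGroup M] [Module R M] [Module.Finite R M],
    IsOpen {p : PrimeSpectrum R |
      PDle (Localization.AtPrime p.asIdeal) (LocalizedModule p.asIdeal.primeCompl M) c} := by
  induction c with
  | zero =>
    intro M _ _ _
    have : Module.FinitePresentation R M := Module.finitePresentation_of_finite R M
    convert Module.isOpen_freeLocus (R := R) (M := M) using 1
    ext p
    have := Module.Finite.of_isLocalizedModule p.asIdeal.primeCompl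
      (Rₚ := Localization.AtPrime p.asIdeal) (LocalizedModule.mkLinearMap p.asIdeal.primeCompl M)
    rw [Set.mem_ofPred_eq, pdle_zero_iff, Module.mem_freeLocus]
    exact ⟨fun _ => Module.free_of_flat_of_isLocalRing, fun _ => Module.Projective.of_free⟩
  | succ c ih =>
    intro M _ _ _
    obtain ⟨k, f, hf⟩ := exists_free_cover (R := R) M
    convert ih (LinearMap.ker f) using 1
    ext p
    let S := p.asIdeal.primeCompl
    let A := Localization S
    have : IsLocalizedModule S (Algebra.linearMap R A) :=
        (isLocalizedModule_iff_isLocalization' S A).mpr inferInstance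
    let ι : (Fin k → R) →ₗ[R] (Fin k → A) :=
      .pi fun i => Algebra.linearMap R A ∘ₗ .proj i
    have hι : IsLocalizedModule S ι := inferInstance
    let g := LocalizedModule.mkLinearMap S M
    let fA : (Fin k → A) →ₗ[A] LocalizedModule S M :=
      IsLocalizedModule.mapExtendScalars S ι g A f
    have hfA : Function.Surjective fA := IsLocalizedModule.map_surjective S ι g f hf
    let g' : LinearMap.ker f →ₗ[R] LinearMap.ker fA := LinearMap.toKerIsLocalized S ι g f
    have : IsLocalizedModule S g' := LinearMap.toKerLocalized_isLocalizedModule A S ι g f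
    let e : LocalizedModule S (LinearMap.ker f) ≃ₗ[A] LinearMap.ker fA :=
      (IsLocalizedModule.iso S g').extendScalarsOfIsLocalization S A
    show PDle A (LocalizedModule S M) (c + 1) ↔ PDle A (LocalizedModule S (LinearMap.ker f)) c
    rw [pdle_succ_iff hfA c]
    exact ⟨pdle_of_equiv e.symm, pdle_of_equiv e⟩

end locus

end Groth.Agent.H20.PDDepth
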