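import Groth.Agent.Lib.Depth.CM
import Mathlib.RingTheory.Support

/-!
Cohen–Macaulay local rings are catenary and satisfy the dimension formula.
-/

universe u

open RingTheory.Sequence Pointwise LocCoh IsLocalRing
open Groth.Agent.Lib.Depth

namespace Groth.Agent.H20.CMDim

variable {R : Type u} [CommRing R] [IsNoetherianRing R] [IsLocalRing R]

/-- The quotient of a Cohen–Macaulay module by a regular sequence is Cohen–Macaulay. -/
theorem isCohenMacaulayModule_quotient_ofList {M : Type u} [AddCommGroup M] [Module R M]
    [Module.Finite R M] (h : IsCohenMacaulayModule R M) (rs : List R)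
    (hmem : ∀ r ∈ rs, r ∈ maximalIdeal R) (hreg : IsWeaklyRegular M rs) :
    IsCohenMacaulayModule R (M ⧸ Ideal.ofList rs • (⊤ : Submodule R M)) := by
  induction rs generalizing M with
  | nil =>
    rw [Ideal.ofList_nil, Submodule.bot_smul]
    exact (CM.isCohenMacaulayModule_congr (Submodule.quotEquivOfEqBot ⊥ rfl)).mpr h
  | cons x rs ih =>
    obtain ⟨hx, hrs⟩ := (isWeaklyRegular_cons_iff M x rs).mp hreg
    have hxm := hmem x List.mem_cons_self
    refine (CM.isCohenMacaulayModule_congr
      (Submodule.quotOfListConsSMulTopEquivQuotSMulTopInner M x rs)).mpr ?_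
    exact ih ((CM.isCohenMacaulayModule_quotSMulTop_iff hxm hx).mpr h)
      (fun r hr => hmem r (List.mem_cons_of_mem _ hr)) hrs

theorem supportDim_of_support_eq_univ {A : Type u} [CommRing A] {M : Type u} [AddCommGroup M]
    [Module A M] (h : Module.support A M = Set.univ) : Module.supportDim A M = ringKrullDim A := by
  rw [Module.supportDim, h]
  exact Order.krullDim_eq_of_orderIso (OrderIso.Set.univ)

omit [IsNoetherianRing R] [IsLocalRing R] in
theorem support_localized_eq_univ {M : Type u} [AddCommGroup M] [Module R M] [Module.Finite R M]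
    (h : Module.support R M = Set.univ) (p : Ideal R) [p.IsPrime] :
    Module.support (Localization.AtPrime p) (LocalizedModule p.primeCompl M) = Set.univ := by
  classical
  have := Module.Finite.of_isLocalizedModule p.primeCompl (Rₚ := Localization.AtPrime p)
    (LocalizedModule.mkLinearMap p.primeCompl M)
  refine Set.eq_univ_of_forall fun P => ?_
  rw [Module.support_eq_zeroLocus, PrimeSpectrum.mem_zeroLocus]
  intro z hz
  obtain ⟨a, s, rfl⟩ := IsLocalization.exists_mk'_eq p.primeCompl z
  rw [SetLike.mem_coe, Module.mem_annihilator] at hz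
  rw [SetLike.mem_coe, IsLocalization.mk'_mem_iff]
  have hkill : ∀ m : M, ∃ t ∈ p.primeCompl, (t * a) • m = 0 := by
    intro m
    have h1 : (algebraMap R (Localization.AtPrime p) a) •
        LocalizedModule.mkLinearMap p.primeCompl M m = 0 := by
      rw [← IsLocalization.mk'_spec (Localization.AtPrime p) a s, mul_comm, ← smul_smul,
        hz _, smul_zero]
    rw [algebraMap_smul, ← map_smul,
      IsLocalizedModule.eq_zero_iff (S := p.primeCompl)] at h1
    obtain ⟨t, ht⟩ := h1
    exact ⟨t, t.2, by rw [← smul_smul]; exact ht⟩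
  choose t ht hta using hkill
  obtain ⟨gen, hgen⟩ := Module.Finite.fg_top (R := R) (M := M)
  let T := ∏ m ∈ gen, t m
  have hT : T ∈ p.primeCompl := Submonoid.prod_mem _ fun m _ => ht m
  have hTa : T * a ∈ Module.annihilator R M := by
    rw [← Submodule.annihilator_top, ← hgen, Submodule.mem_annihilator_span]
    rintro ⟨m, hm⟩
    obtain ⟨c, hc⟩ : t m ∣ T := Finset.dvd_prod_of_mem _ hm
    simp only [hc, mul_right_comm _ c, mul_comm _ c, ← smul_smul]
    rw [smul_smul (t m), hta m, smul_zero]
  have hPp : P.asIdeal.under R ≤ p := by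
    intro c hc
    by_contra hcp
    exact P.2.ne_top (Ideal.eq_top_of_isUnit_mem _ hc
      (IsLocalization.map_units (Localization.AtPrime p) (⟨c, hcp⟩ : p.primeCompl)))
  have hmem : T * a ∈ P.asIdeal.under R := by
    have : (⟨P.asIdeal.under R, inferInstance⟩ : PrimeSpectrum R) ∈ Module.support R M :=
      h ▸ Set.mem_univ _
    exact (Module.annihilator_le_of_mem_support this) hTa
  rcases (inferInstance : (P.asIdeal.under R).IsPrime).mem_or_mem hmem with h1 | h1
  · exact absurd (hPp h1) hT
  · exact h1

variable {M : Type u} [AddCommGroup M] [Module R M] [Module.Finite R M]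
  (h : IsCohenMacaulayModule R M) (hsupp : Module.support R M = Set.univ)

include h hsupp in
/-- In a Noetherian local ring with a Cohen–Macaulay module of full support,
`height p + dim R/p = dim R`. -/
theorem ringKrullDim_quotient_add_height (p : Ideal R) [p.IsPrime] :
    ringKrullDim (R ⧸ p) + (p.height : WithBot ℕ∞) = ringKrullDim R := by
  obtain ⟨n, hn⟩ : ∃ n : ℕ, p.height = n :=
    ⟨_, (ENat.natCast_toNat (Ideal.height_ne_top Ideal.IsPrime.ne_top')).symm⟩
  have hdim : ∀ q : Ideal R, [q.IsPrime] → Module.supportDim (Localization.AtPrime q)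
      (LocalizedModule q.primeCompl M) = (q.height : WithBot ℕ∞) := fun q _ => by
    rw [supportDim_of_support_eq_univ (support_localized_eq_univ hsupp q),
      IsLocalization.AtPrime.ringKrullDim_eq_height q]
  have hp : (⟨p, ‹_›⟩ : PrimeSpectrum R) ∈ Module.support R M := hsupp ▸ Set.mem_univ _
  have h1 := CM.supportDim_localization_le_idealDepth h p hp
  rw [hdim, WithBot.coe_le_coe, hn] at h1
  have hntM := CM.nontrivial_of_isCohenMacaulayModule h
  have hI : p • (⊤ : Submodule R M) ≠ ⊤ := Basic.smul_top_ne_top Ideal.IsPrime.ne_top'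
  obtain ⟨rs, hlen, hmem, hreg⟩ := (Basic.le_idealDepth_iff_of_ne_top hI n).mp h1
  have hmemm : ∀ r ∈ rs, r ∈ maximalIdeal R := fun r hr =>
    le_maximalIdeal Ideal.IsPrime.ne_top' (hmem r hr)
  have hreg' : IsRegular M rs := Basic.isRegular_of_mem hI hreg hmem
  have hCM := isCohenMacaulayModule_quotient_ofList h rs hmemm hreg
  set M' := M ⧸ Ideal.ofList rs • (⊤ : Submodule R M)
  have hsupp' : Module.support R M' = PrimeSpectrum.zeroLocus (Ideal.ofList rs) := by
    rw [Module.support_quotient, hsupp, Set.univ_inter]
  have hmin : p ∈ (Module.annihilator R M').minimalPrimes := by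
    refine ⟨⟨‹_›, ?_⟩, ?_⟩
    · refine Module.annihilator_le_of_mem_support (R := R) (M := M') (p := ⟨p, ‹_›⟩) ?_
      rw [hsupp']
      exact Basic.ofList_le hmem
    · rintro q ⟨hq, hann⟩ hqp
      by_contra hne
      have : q.IsPrime := hq
      have hqs : (⟨q, hq⟩ : PrimeSpectrum R) ∈ Module.support R M' := by
        rw [Module.support_eq_zeroLocus]
        exact hann
      rw [hsupp'] at hqs
      have h2 : (n : ℕ∞) ≤ idealDepth q M := hlen ▸ Basic.length_le_idealDepth hreg
        fun r hr => hqs (Ideal.subset_span hr)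
      have h3 := Groth.Agent.Lib.Depth.CM.idealDepth_le_depth_localization (M := M) q
      have hqsupp : (⟨q, hq⟩ : PrimeSpectrum R) ∈ Module.support R M := hsupp ▸ Set.mem_univ _
      have := Module.Finite.of_isLocalizedModule q.primeCompl (Rₚ := Localization.AtPrime q)
        (LocalizedModule.mkLinearMap q.primeCompl M)
      have : Nontrivial (LocalizedModule q.primeCompl M) := Module.mem_support_iff.mp hqsupp
      have h4 := (WithBot.coe_le_coe.mpr (h2.trans h3)).trans
        (Assoc.depth_le_supportDim (LocalizedModule q.primeCompl M))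
      rw [hdim, WithBot.coe_le_coe, ← hn] at h4
      exact (Ideal.height_strict_mono_of_isPrime_of_isPrime (lt_of_le_not_ge hqp hne)).not_ge h4
  have hass := Module.associatedPrimes.minimalPrimes_annihilator_subset_associatedPrimes R M' hmin
  rw [CM.ringKrullDim_quotient_eq hCM hass, hn, ← hlen,
    ← supportDim_of_support_eq_univ hsupp]
  exact_mod_cast Module.supportDim_add_length_eq_supportDim_of_isRegular rs hreg'

include h hsupp in
/-- Heights go up by one along covering pairs of primes. -/
theorem height_eq_add_one_of_covBy {p q : PrimeSpectrum R} (hpq : p ⋖ q) :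
    q.asIdeal.height = p.asIdeal.height + 1 := by
  have := Module.Finite.of_isLocalizedModule q.asIdeal.primeCompl
    (Rₚ := Localization.AtPrime q.asIdeal) (LocalizedModule.mkLinearMap q.asIdeal.primeCompl M)
  have hCM := CM.isCohenMacaulayModule_localization h q.asIdeal (hsupp ▸ Set.mem_univ _)
  let A := Localization.AtPrime q.asIdeal
  have hdisj : Disjoint (q.asIdeal.primeCompl : Set R) (p.asIdeal : Set R) := by
    rw [Set.disjoint_left]
    exact fun x hx hxp => hx (hpq.le hxp)
  let p' := p.asIdeal.map (algebraMap R A)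
  have hp' : p'.IsPrime :=
    IsLocalization.isPrime_of_isPrime_disjoint q.asIdeal.primeCompl _ _ p.2 hdisj
  have h1 := ringKrullDim_quotient_add_height hCM (support_localized_eq_univ hsupp q.asIdeal) p'
  have hunder : p'.under R = p.asIdeal :=
    IsLocalization.under_map_of_isPrime_disjoint q.asIdeal.primeCompl A p.2 hdisj
  rw [← IsLocalization.height_under q.asIdeal.primeCompl p', hunder,
    IsLocalization.AtPrime.ringKrullDim_eq_height q.asIdeal (Localization.AtPrime q.asIdeal)] at h1
  have h2 : ringKrullDim (A ⧸ p') ≤ 1 := by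
    rw [ringKrullDim_quotient, Order.krullDim_le_one_iff]
    rintro ⟨z, hz⟩
    have hzq : z.asIdeal.under R ≤ q.asIdeal := by
      intro c hc
      by_contra hcq
      exact z.2.ne_top (Ideal.eq_top_of_isUnit_mem _ hc
        (IsLocalization.map_units A (⟨c, hcq⟩ : q.asIdeal.primeCompl)))
    have hpz : p.asIdeal ≤ z.asIdeal.under R := hunder ▸ Ideal.comap_mono hz
    rcases hpq.eq_or_eq (c := ⟨z.asIdeal.under R, inferInstance⟩) hpz hzq with he | he
    · left
      rintro ⟨w, hw⟩ hwz
      show z.asIdeal ≤ w.asIdeal
      rw [← IsLocalization.map_under q.asIdeal.primeCompl A z.asIdeal,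
        show z.asIdeal.under R = p.asIdeal from congrArg PrimeSpectrum.asIdeal he]
      exact hw
    · right
      rintro ⟨w, hw⟩ hzw
      show w.asIdeal ≤ z.asIdeal
      rw [← IsLocalization.map_under q.asIdeal.primeCompl A z.asIdeal,
        show z.asIdeal.under R = q.asIdeal from congrArg PrimeSpectrum.asIdeal he, ← IsLocalization.map_under q.asIdeal.primeCompl A w.asIdeal]
      refine Ideal.map_mono fun c hc => ?_
      by_contra hcq
      exact w.2.ne_top (Ideal.eq_top_of_isUnit_mem _ hc
        (IsLocalization.map_units A (⟨c, hcq⟩ : q.asIdeal.primeCompl)))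
  have h3 : p.asIdeal.height + 1 ≤ q.asIdeal.height := by
    exact Ideal.height_add_one_le_of_lt_of_isPrime hpq.lt
  refine le_antisymm ?_ h3
  rw [← WithBot.coe_le_coe, ← h1, add_comm (ringKrullDim _), WithBot.coe_add]
  gcongr
  exact h2

include h hsupp in
theorem height_last_eq (s : LTSeries (PrimeSpectrum R))
    (hsat : ∀ i : Fin s.length, s (Fin.castSucc i) ⋖ s (Fin.succ i)) (i : Fin (s.length + 1)) :
    (s i).asIdeal.height = s.head.asIdeal.height + (i : ℕ) := by
  induction i using Fin.induction with
  | zero => simp [RelSeries.head]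
  | succ i ih =>
    rw [height_eq_add_one_of_covBy h hsupp (hsat i), ih]
    simp [add_assoc]

end Groth.Agent.H20.CMDim
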