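import Groth.Agent.H20.CMRegular
import Groth.Agent.Lib.LocalFlat.Criterion
import Groth.Agent.Lib.Regular.Quotient
import Mathlib.RingTheory.Regular.RegularSequence

/-!
Regular sequences and flatness: miracle flatness.
-/

universe u

open TensorProduct IsLocalRing RingTheory.Sequence LocCoh
open Groth.Agent.Lib.LocalFlat.Basic

namespace Groth.Agent.H20.RegularFlat

section

variable {R : Type u} [CommRing R] {M : Type u} [AddCommGroup M] [Module R M]

theorem Tor1Zero.cokernel {Q' Q Q'' F : Type u} [AddCommGroup Q'] [Module R Q'] [AddCommGroup Q]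
    [Module R Q] [AddCommGroup Q''] [Module R Q''] [AddCommGroup F] [Module R F]
    [Module.Projective R F] (p : F →ₗ[R] Q) (hp : Function.Surjective p)
    (a : Q' →ₗ[R] Q) (b : Q →ₗ[R] Q'') (ha : Function.Injective a) (hab : Function.Exact a b)
    (hb : Function.Surjective b) (h : Tor1Zero R M Q) (haM : Function.Injective (a.lTensor M)) :
    Tor1Zero R M Q'' := by
  refine Tor1Zero.of_free_presentation (LinearMap.ker (b.comp p)).subtype (b.comp p)
    (LinearMap.exact_subtype_ker_map _) (hb.comp hp) ?_
  set K := LinearMap.ker (b.comp p)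
  have hK : ∀ x : K, p x.1 ∈ LinearMap.range a := fun x => (hab _).1 (LinearMap.mem_ker.1 x.2)
  let φ : K →ₗ[R] Q' := (LinearEquiv.ofInjective a ha).symm.toLinearMap.comp
    ((p.comp K.subtype).codRestrict (LinearMap.range a) hK)
  have hφ : ∀ x : K, a (φ x) = p x.1 := fun x =>
    congrArg Subtype.val ((LinearEquiv.ofInjective a ha).apply_symm_apply
      (((p.comp K.subtype).codRestrict (LinearMap.range a) hK) x))
  have hφs : Function.Surjective φ := fun q => by
    obtain ⟨f, hf⟩ := hp (a q)
    refine ⟨⟨f, by simp [K, hf, hab.apply_apply_eq_zero]⟩, ha ?_⟩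
    rw [hφ, hf]
  have hle : LinearMap.ker p ≤ K := fun f hf => by simp [K, LinearMap.mem_ker.1 hf]
  have hex : Function.Exact (Submodule.inclusion hle) φ := by
    intro x
    constructor
    · intro hx
      refine ⟨⟨x.1, LinearMap.mem_ker.2 ?_⟩, Subtype.ext rfl⟩
      rw [← hφ, hx, map_zero]
    · rintro ⟨w, rfl⟩
      apply ha
      rw [hφ, map_zero]
      exact w.2
  have hJ : Function.Injective ((LinearMap.ker p).subtype.lTensor M) :=
    h _ _ _ p (Submodule.injective_subtype _) (LinearMap.exact_subtype_ker_map _) hp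
  rw [injective_iff_map_eq_zero]
  intro y hy
  have h1 : φ.lTensor M y = 0 := by
    apply haM
    rw [map_zero, ← LinearMap.comp_apply, ← LinearMap.lTensor_comp,
      show a.comp φ = p.comp K.subtype from LinearMap.ext hφ, LinearMap.lTensor_comp,
      LinearMap.comp_apply, hy, map_zero]
  obtain ⟨w, rfl⟩ := ((lTensor_exact M hex hφs) y).1 h1
  rw [← LinearMap.comp_apply, ← LinearMap.lTensor_comp] at hy
  have hw : w = 0 := hJ (by rw [map_zero]; exact hy)
  rw [hw, map_zero]

theorem tor1Zero_quotient_ofList (rs : List R) (hR : IsWeaklyRegular R rs)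
    (hM : IsWeaklyRegular M rs) : Tor1Zero R M (R ⧸ Ideal.ofList rs) := by
  induction rs using List.reverseRecOn with
  | nil =>
    refine Tor1Zero.ideal_quotient ?_
    have : Subsingleton (Ideal.ofList ([] : List R)) := by
      rw [Ideal.ofList_nil]; infer_instance
    rw [injective_iff_map_eq_zero]
    intro z _
    induction z using TensorProduct.induction_on with
    | zero => rfl
    | tmul m i => rw [Subsingleton.elim i 0, tmul_zero]
    | add a b ha hb =>
      rw [ha (by simp [Subsingleton.elim a 0] at *), hb (by simp [Subsingleton.elim b 0] at *),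
        add_zero]
  | append_singleton rs x ih =>
    rw [isWeaklyRegular_append_iff, isWeaklyRegular_singleton_iff] at hR hM
    have hJ := ih hR.1 hM.1
    set J := Ideal.ofList rs
    have hJK : J ≤ Ideal.ofList (rs ++ [x]) := by simp [J]
    let eR : (R ⧸ (J • ⊤ : Submodule R R)) ≃ₗ[R] R ⧸ J :=
      Submodule.quotEquivOfEq _ J (by simp)
    let a : (R ⧸ J) →ₗ[R] (R ⧸ J) := LinearMap.lsmul R (R ⧸ J) x
    refine Tor1Zero.cokernel J.mkQ J.mkQ_surjective a (Submodule.factor hJK) ?_ ?_
      (Submodule.factor_surjective _) hJ ?_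
    · intro u v huv
      have := hR.2 (show x • eR.symm u = x • eR.symm v by
        rw [← map_smul, ← map_smul]; exact congrArg eR.symm huv)
      exact eR.symm.injective this
    · intro u
      obtain ⟨u, rfl⟩ := J.mkQ_surjective u
      have hu : Submodule.factor hJK (J.mkQ u) = 0 ↔ u ∈ Ideal.ofList (rs ++ [x]) :=
        Submodule.Quotient.mk_eq_zero _
      rw [hu, Ideal.ofList_append, Ideal.ofList_singleton, Submodule.mem_sup]
      constructor
      · rintro ⟨j, hj, z, hz, rfl⟩
        obtain ⟨t, rfl⟩ := Ideal.mem_span_singleton.1 hz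
        refine ⟨J.mkQ t, ?_⟩
        show x • J.mkQ t = J.mkQ (j + x * t)
        rw [map_add, show J.mkQ j = 0 from (Submodule.Quotient.mk_eq_zero _).2 hj, zero_add,
          ← map_smul, smul_eq_mul]
      · rintro ⟨v, hv⟩
        obtain ⟨v, rfl⟩ := J.mkQ_surjective v
        refine ⟨u - x * v, ?_, x * v, Ideal.mem_span_singleton.2 ⟨v, rfl⟩, by ring⟩
        have : J.mkQ (u - x * v) = 0 := by
          rw [map_sub, ← hv, show J.mkQ (x * v) = x • J.mkQ v from map_smul J.mkQ x v]
          exact sub_self _
        exact (Submodule.Quotient.mk_eq_zero _).1 this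
    · have ha : ∀ z : M ⊗[R] (R ⧸ J), a.lTensor M z = x • z := by
        intro z
        induction z using TensorProduct.induction_on with
        | zero => simp
        | tmul m i => rw [LinearMap.lTensor_tmul, show a i = x • i from rfl, tmul_smul]
        | add p q hp hq => rw [map_add, hp, hq, smul_add]
      let e := TensorProduct.tensorQuotEquivQuotSMul M J
      intro z w hzw
      rw [ha, ha] at hzw
      apply e.injective
      exact hM.2 (show x • e z = x • e w by rw [← map_smul, hzw, map_smul])

end

/-- Miracle flatness. -/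
theorem flat_of_supportDim_eq (A B : Type u) [CommRing A] [CommRing B] [IsRegularLocalRing A]
    [IsNoetherianRing B] [IsLocalRing B] [Algebra A B] [IsLocalHom (algebraMap A B)]
    (M : Type u) [AddCommGroup M] [Module B M] [Module A M] [IsScalarTower A B M]
    [Module.Finite B M] (hCM : IsCohenMacaulayModule B M)
    (hdim : Module.supportDim B
      (M ⧸ (maximalIdeal A).map (algebraMap A B) • (⊤ : Submodule B M)) + ringKrullDim A ≤
        Module.supportDim B M) :
    Module.Flat A M := by
  classical
  have hfg : (maximalIdeal A).FG := IsNoetherian.noetherian _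
  obtain ⟨rs, hrs, hlen⟩ : ∃ rs : List A,
      Ideal.ofList rs = maximalIdeal A ∧ rs.length = (maximalIdeal A).spanFinrank := by
    refine ⟨(Submodule.FG.finite_generators hfg).toFinset.toList, ?_, ?_⟩
    · rw [Ideal.ofList]
      simp [Ideal.span, Submodule.span_generators]
    · rw [Finset.length_toList, ← Set.ncard_eq_toFinset_card _ (Submodule.FG.finite_generators hfg),
        Submodule.FG.generators_ncard hfg]
  have hregA := Groth.Agent.Lib.Regular.Quotient.isRegular_of_span_eq_maximalIdeal rs hrs hlen
  have hmem : ∀ r ∈ rs.map (algebraMap A B), r ∈ maximalIdeal B := by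
    intro r hr
    obtain ⟨a, ha, rfl⟩ := List.mem_map.1 hr
    exact map_maximalIdeal_le (algebraMap A B)
      (Ideal.mem_map_of_mem _ (hrs ▸ Ideal.subset_span ha))
  have hregM : IsWeaklyRegular M (rs.map (algebraMap A B)) := by
    refine CMRegular.isWeaklyRegular_of_supportDim_le _ hmem M hCM ?_
    rw [List.length_map, ← Ideal.map_ofList, hrs, hlen,
      ← IsRegularLocalRing.spanFinrank_maximalIdeal] at *
    exact hdim
  have hregM' : IsWeaklyRegular M rs := (isWeaklyRegular_map_algebraMap_iff B M rs).1 hregM
  have h1 := (tor1Zero_quotient_ofList rs hregA.toIsWeaklyRegular hregM').injective_subtype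
  rw [hrs] at h1
  let fld : Field (A ⧸ maximalIdeal A) := Ideal.Quotient.field _
  exact Groth.Agent.Lib.LocalFlat.Criterion.flat_of_injective_of_flat_quotient B (maximalIdeal A)
    (Groth.Agent.Lib.LocalFlat.Criterion.map_le_jacobson_bot_of_isLocalHom Ideal.IsPrime.ne_top') h1

end Groth.Agent.H20.RegularFlat
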