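import Groth.Agent.H20.CMDim

/-!
Partial systems of parameters in Cohen–Macaulay modules are regular sequences.
-/

universe u

open RingTheory.Sequence Pointwise LocCoh IsLocalRing
open Groth.Agent.Lib.Depth

namespace Groth.Agent.H20.CMRegular

variable {R : Type u} [CommRing R] [IsNoetherianRing R] [IsLocalRing R]

theorem supportDim_le_quotient_add_length (rs : List R) (hmem : ∀ r ∈ rs, r ∈ maximalIdeal R)
    (M : Type u) [AddCommGroup M] [Module R M] [Module.Finite R M] :
    Module.supportDim R M ≤
      Module.supportDim R (M ⧸ Ideal.ofList rs • (⊤ : Submodule R M)) + rs.length := by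
  induction rs generalizing M with
  | nil =>
    rw [Ideal.ofList_nil, Submodule.bot_smul]
    simpa using (Module.supportDim_eq_of_equiv (Submodule.quotEquivOfEqBot ⊥ rfl)).ge
  | cons x rs ih =>
    rw [Module.supportDim_eq_of_equiv (Submodule.quotOfListConsSMulTopEquivQuotSMulTopInner M x rs)]
    refine (Module.supportDim_le_supportDim_quotSMulTop_succ (hmem x List.mem_cons_self)).trans ?_
    have := ih (fun r hr => hmem r (List.mem_cons_of_mem _ hr)) (QuotSMulTop x M)
    calc _ ≤ _ + (rs.length : WithBot ℕ∞) + 1 := by gcongr
      _ = _ := by simp [add_assoc]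

theorem isWeaklyRegular_of_supportDim_le (rs : List R) (hmem : ∀ r ∈ rs, r ∈ maximalIdeal R)
    (M : Type u) [AddCommGroup M] [Module R M] [Module.Finite R M]
    (h : IsCohenMacaulayModule R M)
    (hdim : Module.supportDim R (M ⧸ Ideal.ofList rs • (⊤ : Submodule R M)) + rs.length ≤
      Module.supportDim R M) :
    IsWeaklyRegular M rs := by
  induction rs generalizing M with
  | nil => exact IsWeaklyRegular.nil R M
  | cons x rs ih =>
    have hx := hmem x List.mem_cons_self
    have hmem' : ∀ r ∈ rs, r ∈ maximalIdeal R := fun r hr => hmem r (List.mem_cons_of_mem _ hr)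
    have := CM.nontrivial_of_isCohenMacaulayModule h
    obtain ⟨d, hd⟩ := CM.supportDim_eq_nat (R := R) M
    rw [Module.supportDim_eq_of_equiv (Submodule.quotOfListConsSMulTopEquivQuotSMulTopInner M x rs),
      hd] at hdim
    have h1 := supportDim_le_quotient_add_length rs hmem' (QuotSMulTop x M)
    have hlt : Module.supportDim R (QuotSMulTop x M) + 1 ≤ ((d : ℕ∞) : WithBot ℕ∞) := by
      calc Module.supportDim R (QuotSMulTop x M) + 1 ≤ _ + (rs.length : WithBot ℕ∞) + 1 := by gcongr
        _ ≤ _ := by simpa [add_assoc] using hdim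
    have hreg : IsSMulRegular M x := by
      by_contra hnot
      have hmemU : x ∈ ⋃ p ∈ associatedPrimes R M, (p : Set R) := by
        rw [biUnion_associatedPrimes_eq_compl_regular R M]
        exact hnot
      obtain ⟨P, hP, hxP⟩ := Set.mem_iUnion₂.mp hmemU
      have hPp := IsAssociatedPrime.isPrime hP
      have hsupp : (⟨P, hPp⟩ : PrimeSpectrum R) ∈ Module.support R (QuotSMulTop x M) := by
        rw [Module.support_quotSMulTop]
        refine ⟨?_, by simpa using hxP⟩
        rw [Module.support_eq_zeroLocus]
        have := IsAssociatedPrime.annihilator_le hP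
        rwa [Submodule.annihilator_top] at this
      have hge : Module.supportDim R M ≤ Module.supportDim R (QuotSMulTop x M) := by
        rw [← CM.ringKrullDim_quotient_eq h hP,
          Module.supportDim_eq_ringKrullDim_quotient_annihilator (R := R) (M := QuotSMulTop x M)]
        have hle := Module.annihilator_le_of_mem_support hsupp
        exact ringKrullDim_le_of_surjective (Ideal.Quotient.factor hle)
          (Ideal.Quotient.factor_surjective hle)
      rw [hd] at hge
      have h2 := (add_le_add hge (le_refl (1 : WithBot ℕ∞))).trans hlt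
      norm_cast at h2
      omega
    refine (isWeaklyRegular_cons_iff M x rs).mpr ⟨hreg, ?_⟩
    refine ih hmem' (QuotSMulTop x M) ((CM.isCohenMacaulayModule_quotSMulTop_iff hx hreg).mpr h) ?_
    rw [← hd, ← Module.supportDim_quotSMulTop_succ_eq_supportDim hreg hx, List.length_cons,
      Nat.cast_succ, ← add_assoc] at hdim
    exact ENat.WithBot.add_le_add_one_right_iff.mp hdim

theorem isRegular_of_ringKrullDim_le {R : Type u} [CommRing R] [IsCohenMacaulayLocalRing R] (rs : List R)
    (hmem : ∀ r ∈ rs, r ∈ maximalIdeal R)
    (hdim : ringKrullDim (R ⧸ Ideal.ofList rs) + rs.length ≤ ringKrullDim R) :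
    IsRegular R rs := by
  refine Basic.isRegular_of_mem (I := maximalIdeal R) (Basic.smul_top_ne_top Ideal.IsPrime.ne_top')
    (isWeaklyRegular_of_supportDim_le rs hmem R CM.isCohenMacaulayModule_self ?_) hmem
  rw [Module.supportDim_self_eq_ringKrullDim]
  refine le_trans (le_of_eq ?_) hdim
  congr 1
  rw [Module.supportDim_eq_of_equiv (Submodule.quotEquivOfEq _ (Ideal.ofList rs) (by simp)),
    Module.supportDim_quotient_eq_ringKrullDim]

end Groth.Agent.H20.CMRegular
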