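import Mathlib

/-!
# Basic elements: reduction of the number of sections keeping the span at primes of small height
-/

namespace Groth.Agent.H20.BasicElement

universe u

variable {A : Type u} [CommRing A] {M : Type u} [AddCommGroup M] [Module A M]

/-- The values at `p` of an element under all linear forms. -/
noncomputable def vec (p : PrimeSpectrum A) : M →ₗ[A] (Module.Dual A M → p.asIdeal.ResidueField) :=
  LinearMap.pi fun φ => (Algebra.linearMap A p.asIdeal.ResidueField).comp φ

@[simp] lemma vec_apply (p : PrimeSpectrum A) (x : M) (φ : Module.Dual A M) :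
    vec p x φ = algebraMap A p.asIdeal.ResidueField (φ x) := rfl

/-- The rank of a family of elements at `p`, measured by linear forms. -/
noncomputable def rk (p : PrimeSpectrum A) {s : ℕ} (m : Fin s → M) : ℕ :=
  Module.finrank p.asIdeal.ResidueField
    (Submodule.span p.asIdeal.ResidueField (Set.range fun i => vec p (m i)))

instance (p : PrimeSpectrum A) {s : ℕ} (m : Fin s → M) : Module.Finite p.asIdeal.ResidueField
    (Submodule.span p.asIdeal.ResidueField (Set.range fun i => vec p (m i))) :=
  Module.Finite.span_of_finite _ (Set.finite_range _)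

lemma exists_points {K X : Type*} [Field K] {n : ℕ} (v : Fin n → X → K)
    (hv : LinearIndependent K v) :
    ∃ x : Fin n → X, (Matrix.of fun j i => v i (x j)).det ≠ 0 := by
  set r : X → (Fin n → K) := fun x i => v i x
  have htop : Submodule.span K (Set.range r) = ⊤ := by
    by_contra hne
    obtain ⟨f, hf0, hf⟩ := Submodule.exists_dual_map_eq_bot_of_lt_top (lt_top_iff_ne_top.2 hne) inferInstance
    apply hf0
    have hc : ∀ i, f (Pi.single i 1) = 0 := by
      refine Fintype.linearIndependent_iff.1 hv _ (funext fun x => ?_)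
      have h0 : f (r x) = 0 := by
        have : f (r x) ∈ (Submodule.span K (Set.range r)).map f :=
          Submodule.mem_map_of_mem (Submodule.subset_span ⟨x, rfl⟩)
        rwa [hf, Submodule.mem_bot] at this
      rw [pi_eq_sum_univ' (r x), map_sum] at h0
      simp only [map_smul, smul_eq_mul] at h0
      rw [Finset.sum_apply, Pi.zero_apply, ← h0]
      exact Finset.sum_congr rfl fun i _ => by simp [r, mul_comm]
    exact LinearMap.pi_ext' fun i => LinearMap.ext_ring (by simpa using hc i)
  obtain ⟨f, hf, -, hli⟩ := Submodule.exists_fun_fin_finrank_span_eq K (Set.range r)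
  have hn : Module.finrank K (Submodule.span K (Set.range r)) = n := by
    rw [htop, finrank_top, Module.finrank_fin_fun]
  choose x hx using hf
  refine ⟨x ∘ Fin.cast hn.symm, ?_⟩
  rw [← isUnit_iff_ne_zero, ← Matrix.isUnit_iff_isUnit_det, ← Matrix.linearIndependent_rows_iff_isUnit]
  have : (Matrix.of fun j i => v i ((x ∘ Fin.cast hn.symm) j)).row = f ∘ Fin.cast hn.symm :=
    funext fun j => hx _
  rw [this]
  exact hli.comp _ (Fin.cast_injective _)

lemma isOpen_le_rk {s : ℕ} (m : Fin s → M) (n : ℕ) :
    IsOpen {p : PrimeSpectrum A | n ≤ rk p m} := by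
  classical
  refine isOpen_iff_forall_mem_open.2 fun p hp => ?_
  obtain ⟨f, hf, -, hli⟩ := Submodule.exists_fun_fin_finrank_span_eq p.asIdeal.ResidueField
    (Set.range fun i => vec p (m i))
  choose σ hσ using hf
  let ι : Fin n → Fin (rk p m) := Fin.castLE hp
  have hli' : LinearIndependent p.asIdeal.ResidueField fun i => vec p (m (σ (ι i))) := by
    have : (fun i => vec p (m (σ (ι i)))) = f ∘ ι := funext fun i => hσ _
    rw [this]
    exact hli.comp _ (Fin.castLE_injective hp)
  obtain ⟨φ, hφ⟩ := exists_points _ hli'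
  set a : A := (Matrix.of fun j i => φ j (m (σ (ι i)))).det
  have key : ∀ q : PrimeSpectrum A, (Matrix.of fun j i => vec q (m (σ (ι i))) (φ j)).det =
      algebraMap A q.asIdeal.ResidueField a := fun q => by
    rw [RingHom.map_det]; rfl
  refine ⟨PrimeSpectrum.basicOpen a, fun q hq => ?_, (PrimeSpectrum.basicOpen a).isOpen, ?_⟩
  · have hdet : (Matrix.of fun j i => vec q (m (σ (ι i))) (φ j)).det ≠ 0 := by
      rw [key, Ne, Ideal.algebraMap_residueField_eq_zero]
      exact hq
    have hcols := (Matrix.linearIndependent_cols_iff_isUnit).2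
      ((Matrix.isUnit_iff_isUnit_det _).2 (isUnit_iff_ne_zero.2 hdet))
    have hli : LinearIndependent q.asIdeal.ResidueField fun i => vec q (m (σ (ι i))) :=
      LinearIndependent.of_comp (LinearMap.funLeft q.asIdeal.ResidueField q.asIdeal.ResidueField φ) hcols
    calc n = Fintype.card (Fin n) := (Fintype.card_fin n).symm
      _ = Module.finrank q.asIdeal.ResidueField
          (Submodule.span q.asIdeal.ResidueField (Set.range fun i => vec q (m (σ (ι i))))) :=
        (finrank_span_eq_card hli).symm
      _ ≤ rk q m := Submodule.finrank_mono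
        (Submodule.span_mono (Set.range_comp_subset_range (σ ∘ ι) fun i => vec q (m i)))
  · show a ∉ p.asIdeal
    rw [← Ideal.algebraMap_residueField_eq_zero, ← key]
    exact hφ

/-- The rank condition at primes of height at most `k`. -/
def Good (k : ℕ) {s : ℕ} (m : Fin s → M) : Prop :=
  ∀ (p : PrimeSpectrum A) (h : ℕ), p.asIdeal.height = (h : ℕ∞) → h ≤ k → min s (k + 1 - h) ≤ rk p m

variable [IsNoetherianRing A]

theorem exists_good_pred {k s : ℕ} (m : Fin (s + 1) → M) (hm : Good (A := A) k m) :
    ∃ a : Fin s → A, Good (A := A) k fun i => m i.castSucc + a i • m (Fin.last s) := by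
  classical
  set P : Set (PrimeSpectrum A) := {p | ∃ h : ℕ, p.asIdeal.height = (h : ℕ∞) ∧ h ≤ k ∧
    k + 1 - h ≤ s ∧ rk p m ≤ k + 1 - h}
  have hP : P.Finite := by
    refine Set.Finite.subset (s := ⋃ h ∈ Set.Iic k, {p : PrimeSpectrum A | p.asIdeal ∈
      (PrimeSpectrum.vanishingIdeal {q | ¬ (k + 1 - h + 1) ≤ rk q m}).minimalPrimes}) ?_ ?_
    · refine (Set.finite_Iic k).biUnion fun h _ => ?_
      exact (Ideal.finite_minimalPrimes_of_isNoetherianRing A _).preimage
        (fun _ _ _ _ e => PrimeSpectrum.ext e)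
    rintro p ⟨h, hh, hhk, hs, hr⟩
    refine Set.mem_iUnion₂.2 ⟨h, hhk, ?_⟩
    set C : Set (PrimeSpectrum A) := {q | ¬ (k + 1 - h + 1) ≤ rk q m}
    have hC : IsClosed C := (isOpen_le_rk m _).isClosed_compl
    have hCz : ∀ q, q ∈ C ↔ PrimeSpectrum.vanishingIdeal C ≤ q.asIdeal := fun q => by
      conv_lhs => rw [← hC.closure_eq, ← PrimeSpectrum.zeroLocus_vanishingIdeal_eq_closure]
      rfl
    refine ⟨⟨p.2, (hCz p).1 (by simp only [C, Set.mem_setOf_eq]; omega)⟩, fun q hq hqp => ?_⟩
    by_contra hne
    have hlt : q < p.asIdeal := lt_of_le_of_ne hqp fun e => hne e.ge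
    haveI := hq.1
    haveI : p.asIdeal.FiniteHeight := ⟨Or.inr (by rw [hh]; exact ENat.natCast_ne_top h)⟩
    have hh' := Ideal.height_strict_mono_of_isPrime_of_isPrime hlt
    rw [hh] at hh'
    obtain ⟨h', hh''⟩ := ENat.ne_top_iff_exists.1 (ne_top_of_lt hh')
    rw [← hh'', Nat.cast_lt] at hh'
    have h1 := hm ⟨q, hq.1⟩ h' hh''.symm (by omega)
    have h2 : ⟨q, hq.1⟩ ∈ C := (hCz _).2 hq.2
    simp only [C, Set.mem_setOf_eq] at h2
    omega
  have hrel : ∀ p : PrimeSpectrum A, ∃ c : Fin (s + 1) → p.asIdeal.ResidueField,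
      p ∈ P → ∑ i, c i • vec p (m i) = 0 ∧ ∃ i, c i ≠ 0 := by
    intro p
    by_cases hp : p ∈ P
    · obtain ⟨h, -, -, hs, hr⟩ := hp
      have hdep : ¬ LinearIndependent p.asIdeal.ResidueField fun i => vec p (m i) := fun hli => by
        have : rk p m = s + 1 := (finrank_span_eq_card hli).trans (Fintype.card_fin _)
        omega
      obtain ⟨c, hc⟩ := Fintype.not_linearIndependent_iff.1 hdep
      exact ⟨c, fun _ => hc⟩
    · exact ⟨0, fun h => absurd h hp⟩
  choose c hc using hrel
  have key : ∀ S : Finset (PrimeSpectrum A), (∀ p ∈ S, ∃ i, c p i ≠ 0) → ∃ a : Fin s → A, ∀ p ∈ S,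
      ∑ i, c p i.castSucc * algebraMap A _ (a i) ≠ c p (Fin.last s) := by
    intro S
    induction S using Finset.strongInduction with
    | _ S ih =>
      intro hS
      rcases S.eq_empty_or_nonempty with rfl | hne
      · exact ⟨0, by simp⟩
      obtain ⟨p, hpS, hmin⟩ : ∃ p ∈ S, ∀ q ∈ S, q ≤ p → q = p := by
        obtain ⟨p, hp⟩ := S.exists_minimal hne
        exact ⟨p, hp.1, fun q hq hqp => le_antisymm hqp (hp.2 hq hqp)⟩
      obtain ⟨a, ha⟩ := ih (S.erase p) (Finset.erase_ssubset hpS)
        fun q hq => hS q (Finset.mem_of_mem_erase hq)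
      by_cases hgood : ∑ i, c p i.castSucc * algebraMap A _ (a i) = c p (Fin.last s)
      swap
      · refine ⟨a, fun q hq => ?_⟩
        by_cases hqp : q = p
        · subst hqp; exact hgood
        · exact ha q (Finset.mem_erase.2 ⟨hqp, hq⟩)
      obtain ⟨j, hj⟩ : ∃ j : Fin s, c p j.castSucc ≠ 0 := by
        by_contra! h0
        obtain ⟨i, hi⟩ := hS p hpS
        induction i using Fin.lastCases with
        | last => exact hi (by rw [← hgood]; simp [h0])
        | cast i => exact hi (h0 i)
      obtain ⟨b, hb, hbp⟩ : ∃ b, (∀ q ∈ S.erase p, b ∈ q.asIdeal) ∧ b ∉ p.asIdeal := by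
        have : ¬ (S.erase p).inf (fun q => q.asIdeal) ≤ p.asIdeal := fun h => by
          obtain ⟨q, hq, hqp⟩ := (Ideal.IsPrime.inf_le' p.2).1 h
          exact (Finset.mem_erase.1 hq).1 (hmin q (Finset.mem_of_mem_erase hq) hqp)
        obtain ⟨b, hb, hbp⟩ := SetLike.not_le_iff_exists.1 this
        exact ⟨b, fun q hq => SetLike.le_def.1 (Finset.inf_le (f := fun q : PrimeSpectrum A => q.asIdeal) hq) hb, hbp⟩
      refine ⟨Function.update a j (a j + b), fun q hq => ?_⟩
      have hsum : ∑ i, c q i.castSucc * algebraMap A _ (Function.update a j (a j + b) i) =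
          ∑ i, c q i.castSucc * algebraMap A _ (a i) + c q j.castSucc * algebraMap A _ b := by
        rw [← sub_eq_iff_eq_add', ← Finset.sum_sub_distrib, Finset.sum_eq_single j]
        · rw [Function.update_self, map_add]; ring
        · intro i _ hij; rw [Function.update_of_ne hij, sub_self]
        · simp
      rw [hsum]
      by_cases hqp : q = p
      · subst hqp
        rw [hgood]
        intro h
        rw [add_eq_left, mul_eq_zero, Ideal.algebraMap_residueField_eq_zero] at h
        exact h.elim hj hbp
      · rw [Ideal.algebraMap_residueField_eq_zero.2 (hb q (Finset.mem_erase.2 ⟨hqp, hq⟩)), mul_zero, add_zero]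
        exact ha q (Finset.mem_erase.2 ⟨hqp, hq⟩)
  obtain ⟨a, ha⟩ := key hP.toFinset fun p hp => (hc p (hP.mem_toFinset.1 hp)).2
  refine ⟨a, fun p h hh hhk => ?_⟩
  set K := p.asIdeal.ResidueField
  set m' : Fin s → M := fun i => m i.castSucc + a i • m (Fin.last s)
  set V' := Submodule.span K (Set.range fun i => vec p (m' i))
  set w := vec p (m (Fin.last s))
  have hcs : ∀ i : Fin s, vec p (m i.castSucc) = vec p (m' i) - algebraMap A K (a i) • w := fun i => by
    simp only [m', w, map_add, map_smul]
    rw [algebraMap_smul, add_sub_cancel_right]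
  have hsub : Submodule.span K (Set.range fun i => vec p (m i)) ≤ V' ⊔ K ∙ w := by
    rw [Submodule.span_le]
    rintro _ ⟨i, rfl⟩
    induction i using Fin.lastCases with
    | last => exact Submodule.mem_sup_right (Submodule.mem_span_singleton_self _)
    | cast i =>
      simp only [SetLike.mem_coe]
      rw [hcs]
      exact sub_mem (Submodule.mem_sup_left (Submodule.subset_span ⟨i, rfl⟩))
        (Submodule.mem_sup_right (Submodule.smul_mem _ _ (Submodule.mem_span_singleton_self _)))
  haveI : Module.Finite K V' := Module.Finite.span_of_finite _ (Set.finite_range _)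
  have hle : rk p m ≤ rk p m' + 1 :=
    ((Submodule.finrank_mono hsub).trans (Submodule.finrank_add_le_finrank_add_finrank _ _)).trans
      (Nat.add_le_add_left ((finrank_span_le_card _).trans (by simp)) _)
  have h0 := hm p h hh hhk
  by_cases hp : p ∈ P
  · have hw : w ∈ V' := by
      obtain ⟨hcsum, -⟩ := hc p hp
      have hne := ha p (hP.mem_toFinset.2 hp)
      rw [Fin.sum_univ_castSucc] at hcsum
      have heq : (∑ i, c p i.castSucc * algebraMap A K (a i) - c p (Fin.last s)) • w =
          ∑ i, c p i.castSucc • vec p (m' i) := by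
        rw [sub_smul, Finset.sum_smul, ← sub_eq_zero, ← neg_eq_zero, ← hcsum]
        simp only [hcs, smul_sub, Finset.sum_sub_distrib, smul_smul]
        abel
      have hmem : (∑ i, c p i.castSucc * algebraMap A K (a i) - c p (Fin.last s)) • w ∈ V' := by
        rw [heq]
        exact Submodule.sum_mem _ fun i _ => Submodule.smul_mem _ _ (Submodule.subset_span ⟨i, rfl⟩)
      have := Submodule.smul_mem V' (∑ i, c p i.castSucc * algebraMap A K (a i) - c p (Fin.last s))⁻¹ hmem
      rwa [inv_smul_smul₀ (sub_ne_zero.2 hne)] at this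
    have hge : rk p m ≤ rk p m' := Submodule.finrank_mono (hsub.trans
      (sup_le le_rfl ((Submodule.span_singleton_le_iff_mem _ _).2 hw)))
    obtain ⟨h', hh', -, hs, -⟩ := hp
    have : h' = h := by exact_mod_cast hh'.symm.trans hh
    subst this
    omega
  · by_cases hs : k + 1 - h ≤ s
    · have : ¬ rk p m ≤ k + 1 - h := fun hr => hp ⟨h, hh, hhk, hs, hr⟩
      omega
    · omega

/-- Bass's basic element lemma: a good family yields one element. -/
theorem exists_good_one {k : ℕ} : ∀ {s : ℕ} (m : Fin (s + 1) → M), Good (A := A) k m →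
    ∃ x : M, ∀ p : PrimeSpectrum A, p.asIdeal.height ≤ (k : ℕ∞) →
      ∃ φ : Module.Dual A M, φ x ∉ p.asIdeal
  | 0, m, hm => ⟨m 0, fun p hp => by
      obtain ⟨h, hh⟩ := ENat.ne_top_iff_exists.1
        (ne_top_of_le_ne_top (ENat.natCast_ne_top k) hp)
      have hhk : h ≤ k := by rw [← hh] at hp; exact_mod_cast hp
      have h1 := hm p h hh.symm hhk
      by_contra! h0
      have : rk p m = 0 := by
        rw [rk, Submodule.finrank_eq_zero, Submodule.span_eq_bot]
        rintro _ ⟨i, rfl⟩
        funext φ
        rw [Fin.fin_one_eq_zero i]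
        exact Ideal.algebraMap_residueField_eq_zero.2 (h0 φ)
      omega⟩
  | s + 1, m, hm => by
      obtain ⟨a, ha⟩ := exists_good_pred m hm
      exact exists_good_one _ ha

end Groth.Agent.H20.BasicElement
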