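import Mathlib.RingTheory.Idempotents
import Mathlib.RingTheory.Spectrum.Prime.Topology
import Mathlib.Topology.LocallyConstant.Basic

/-!
Decomposition of a ring along a locally constant function on its spectrum.
-/

universe u

namespace Groth.Agent.H20.ClopenDecomp

variable {S : Type u} [CommRing S]

theorem exists_completeOrthogonalIdempotents {f : PrimeSpectrum S → ℕ} (hf : IsLocallyConstant f) :
    ∃ (N : ℕ) (e : Fin (N + 1) → S), CompleteOrthogonalIdempotents e ∧
      (∀ q, f q ≤ N) ∧ ∀ (d : Fin (N + 1)) (q : PrimeSpectrum S), e d ∉ q.asIdeal ↔ f q = d := by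
  classical
  obtain ⟨N, hN⟩ := hf.range_finite.bddAbove
  have hle : ∀ q, f q ≤ N := fun q => hN ⟨q, rfl⟩
  have he : ∀ d : Fin (N + 1), ∃ e : S, IsIdempotentElem e ∧
      {q | f q = (d : ℕ)} = (PrimeSpectrum.basicOpen e : Set (PrimeSpectrum S)) := fun d =>
    PrimeSpectrum.exists_idempotent_basicOpen_eq_of_isClopen (hf.isClopen_fiber _)
  choose e he hset using he
  have hmem : ∀ (d : Fin (N + 1)) (q : PrimeSpectrum S), e d ∉ q.asIdeal ↔ f q = d := fun d q =>
    (Set.ext_iff.mp (hset d) q).symm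
  have hortho : OrthogonalIdempotents e := by
    refine ⟨he, fun i j hij => ?_⟩
    refine ((he i).mul (he j)).eq_zero_of_isNilpotent ?_
    rw [← PrimeSpectrum.basicOpen_eq_bot_iff, eq_bot_iff]
    intro q (hq : e i * e j ∉ q.asIdeal)
    have h1 := (hmem i q).mp fun h => hq (Ideal.mul_mem_right _ _ h)
    have h2 := (hmem j q).mp fun h => hq (Ideal.mul_mem_left _ _ h)
    exact absurd (Fin.ext (h1.symm.trans h2)) hij
  refine ⟨N, e, ⟨hortho, ?_⟩, hle, hmem⟩
  have hsum : IsUnit (∑ d, e d) := by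
    by_contra h
    obtain ⟨m, hm, hmem'⟩ := exists_max_ideal_of_mem_nonunits h
    let q : PrimeSpectrum S := ⟨m, hm.isPrime⟩
    let d : Fin (N + 1) := ⟨f q, Nat.lt_succ_of_le (hle q)⟩
    have h1 : e d * ∑ i, e i ∈ m := Ideal.mul_mem_left _ _ hmem'
    rw [hortho.mul_sum_of_mem (Finset.mem_univ d)] at h1
    exact (hmem d q).mpr rfl h1
  exact (IsIdempotentElem.iff_eq_one_of_isUnit hsum).mp hortho.isIdempotentElem_sum

/-- The product decomposition attached to complete orthogonal idempotents. -/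
noncomputable def piEquiv (k : Type*) [CommSemiring k] [Algebra k S] {I : Type*} [Fintype I]
    {e : I → S} (he : CompleteOrthogonalIdempotents e) :
    S ≃ₐ[k] ((i : I) → S ⧸ Ideal.span {1 - e i}) :=
  AlgEquiv.ofBijective
    (AlgHom.pi fun i => Ideal.Quotient.mkₐ k (Ideal.span {1 - e i})) he.bijective_pi

end Groth.Agent.H20.ClopenDecomp
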