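import Mathlib.RingTheory.Spectrum.Prime.FreeLocus
import Mathlib.RingTheory.LocalRing.Module
import Mathlib.RingTheory.Flat.Localization
import Mathlib.Algebra.Module.LocalizedModule.Exact
import Mathlib.Algebra.Module.FinitePresentation
import Mathlib.RingTheory.Support

/-!
# The locus where the cokernel of a map of finite projective modules is free
-/

set_option autoImplicit false

universe u v w

open scoped TensorProduct
open LinearMap

namespace Groth.Agent.H20.CokerFree

/-- The kernel of a surjection from a finite projective onto a projective module. -/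
theorem ker_finite_projective (R : Type u) [CommRing R] {M : Type v} {N : Type w} [AddCommGroup M]
    [Module R M] [AddCommGroup N] [Module R N] [Module.Finite R M] [Module.Projective R M]
    [Module.Projective R N] (g : M →ₗ[R] N) (hg : Function.Surjective g) :
    Module.Finite R (ker g) ∧ Module.Projective R (ker g) := by
  obtain ⟨s, hs⟩ := Module.projective_lifting_property g LinearMap.id hg
  let q : M →ₗ[R] ker g := (LinearMap.id - s ∘ₗ g).codRestrict _ fun x => by
    have : g (s (g x)) = g x := LinearMap.congr_fun hs (g x)
    simp [this]
  have hq : q ∘ₗ (ker g).subtype = LinearMap.id := by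
    ext x
    have hx : g x = 0 := x.2
    simp [q, hx]
  exact ⟨Module.Finite.of_surjective q fun x => ⟨x, LinearMap.congr_fun hq x⟩,
    Module.Projective.of_split (ker g).subtype q hq⟩

variable {R : Type u} [CommRing R] {M : Type v} {N : Type w} [AddCommGroup M] [Module R M]
  [AddCommGroup N] [Module R N]

theorem exact_subtype_mkQ (d : M →ₗ[R] N) :
    Function.Exact (range d).subtype (range d).mkQ := by
  rw [LinearMap.exact_iff, Submodule.ker_mkQ, Submodule.range_subtype]

theorem exact_ker_rangeRestrict (d : M →ₗ[R] N) :
    Function.Exact (ker d).subtype d.rangeRestrict := by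
  rw [LinearMap.exact_iff, LinearMap.ker_rangeRestrict, Submodule.range_subtype]

variable [Module.Finite R M] [Module.Finite R N] [Module.Projective R N]

omit [Module.Projective R N] in
theorem finitePresentation_coker [Module.Projective R N] (d : M →ₗ[R] N) :
    Module.FinitePresentation R (N ⧸ range d) := by
  have : Module.FinitePresentation R N := Module.finitePresentation_of_projective R N
  exact Module.finitePresentation_of_surjective _ (Submodule.mkQ_surjective _)
    (by rw [Submodule.ker_mkQ, range_eq_map]; exact (Module.Finite.fg_top).map d)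

/-- `coker d` is free at `p` iff `κ(p) ⊗ im d → κ(p) ⊗ N` is injective. -/
theorem mem_freeLocus_coker_iff (d : M →ₗ[R] N) (p : PrimeSpectrum R) :
    p ∈ Module.freeLocus R (N ⧸ range d) ↔
      Function.Injective ((range d).subtype.lTensor p.asIdeal.ResidueField) := by
  let Rp := Localization.AtPrime p.asIdeal
  let κ := p.asIdeal.ResidueField
  let g := (range d).subtype.baseChange Rp
  let h := (range d).mkQ.baseChange Rp
  have hh : Function.Surjective h :=
    LinearMap.lTensor_surjective Rp (g := (range d).mkQ) (Submodule.mkQ_surjective _)
  have hgh : Function.Exact g h :=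
    lTensor_exact Rp (exact_subtype_mkQ d) (Submodule.mkQ_surjective _)
  have hgi : Function.Injective g :=
    Module.Flat.lTensor_preserves_injective_linearMap (M := Rp) (range d).subtype
      (range d).injective_subtype
  have hfin : Module.Finite R (range d) := Module.Finite.range d
  have hcomm : ∀ x : κ ⊗[Rp] (Rp ⊗[R] range d),
      TensorProduct.AlgebraTensorModule.cancelBaseChange R Rp κ κ N (g.lTensor κ x) =
        (range d).subtype.lTensor κ
          (TensorProduct.AlgebraTensorModule.cancelBaseChange R Rp κ κ (range d) x) := by
    intro x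
    induction x using TensorProduct.induction_on with
    | zero => simp
    | add x y hx hy => simp [hx, hy]
    | tmul c y =>
      induction y using TensorProduct.induction_on with
      | zero => simp
      | add a b ha hb => simp only [TensorProduct.tmul_add, map_add, ha, hb]
      | tmul r n => simp [g]
  have hiff : Function.Injective (g.lTensor κ) ↔ Function.Injective ((range d).subtype.lTensor κ) := by
    constructor
    · intro H a b hab
      obtain ⟨a, rfl⟩ :=
        (TensorProduct.AlgebraTensorModule.cancelBaseChange R Rp κ κ (range d)).surjective a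
      obtain ⟨b, rfl⟩ :=
        (TensorProduct.AlgebraTensorModule.cancelBaseChange R Rp κ κ (range d)).surjective b
      rw [← hcomm, ← hcomm] at hab
      rw [H ((LinearEquiv.injective _) hab)]
    · intro H a b hab
      apply (TensorProduct.AlgebraTensorModule.cancelBaseChange R Rp κ κ (range d)).injective
      apply H
      rw [← hcomm, ← hcomm, hab]
  rw [Module.mem_freeLocus_iff_tensor p Rp, ← hiff]
  have : Module.Free Rp (Rp ⊗[R] N) := Module.free_of_flat_of_isLocalRing
  constructor
  · intro hfree
    have : Module.Projective Rp (Rp ⊗[R] (N ⧸ range d)) := Module.Projective.of_free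
    obtain ⟨s, hs⟩ := Module.projective_lifting_property h LinearMap.id hh
    obtain ⟨l, hl⟩ := ((hgh.split_tfae hgi hh).out 0 1 rfl rfl).mp ⟨s, hs⟩
    intro a b hab
    have := congrArg (l.lTensor κ) hab
    rwa [← LinearMap.comp_apply, ← LinearMap.comp_apply, ← LinearMap.lTensor_comp, hl,
      LinearMap.lTensor_id, LinearMap.id_apply, LinearMap.id_apply] at this
  · intro H
    exact Module.free_of_lTensor_residueField_injective g h hh hgh H

omit [Module.Finite R M] [Module.Finite R N] [Module.Projective R N] in
/-- `κ ⊗ ker d → ker (κ ⊗ d)` is surjective iff `κ ⊗ im d → κ ⊗ N` is injective. -/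
theorem ker_le_iff (κ : Type u) [CommRing κ] [Algebra R κ] (d : M →ₗ[R] N) :
    ker (d.lTensor κ) ≤ range ((ker d).subtype.lTensor κ) ↔
      Function.Injective ((range d).subtype.lTensor κ) := by
  have hex := lTensor_exact κ (exact_ker_rangeRestrict d) d.surjective_rangeRestrict
  have hs := LinearMap.lTensor_surjective κ (g := d.rangeRestrict) d.surjective_rangeRestrict
  have hcomp : ∀ x, (range d).subtype.lTensor κ (d.rangeRestrict.lTensor κ x) = d.lTensor κ x :=
    fun x => by rw [← LinearMap.comp_apply, ← LinearMap.lTensor_comp]; rfl
  constructor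
  · intro H
    rw [injective_iff_map_eq_zero]
    intro y hy
    obtain ⟨x, rfl⟩ := hs y
    rw [hcomp] at hy
    exact (hex x).mpr (H hy)
  · intro H x hx
    refine (hex x).mp (H ?_)
    rw [hcomp, map_zero]
    exact hx

theorem ker_le_iff_mem_freeLocus (d : M →ₗ[R] N) (p : PrimeSpectrum R) :
    ker (d.baseChange p.asIdeal.ResidueField) ≤
        range ((ker d).subtype.baseChange p.asIdeal.ResidueField) ↔
      p ∈ Module.freeLocus R (N ⧸ range d) := by
  rw [mem_freeLocus_coker_iff, ← ker_le_iff]
  exact Iff.rfl

variable [Module.Projective R M]

/-- Over an open on which the cokernel is projective the kernel is finite projective. -/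
theorem ker_localized_finite_projective (d : M →ₗ[R] N) (S : Submonoid R)
    (hC : Module.Projective (Localization S) (LocalizedModule S (N ⧸ range d))) :
    Module.Finite (Localization S) (LocalizedModule S (ker d)) ∧
      Module.Projective (Localization S) (LocalizedModule S (ker d)) := by
  have : Module.Projective (Localization S) (LocalizedModule S M) :=
    Module.projective_of_isLocalizedModule S (LocalizedModule.mkLinearMap S M)
  have : Module.Projective (Localization S) (LocalizedModule S N) :=
    Module.projective_of_isLocalizedModule S (LocalizedModule.mkLinearMap S N)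
  have h1 := LocalizedModule.map_surjective S (range d).mkQ (Submodule.mkQ_surjective _)
  obtain ⟨-, hI⟩ := ker_finite_projective (Localization S) (LocalizedModule.map S (range d).mkQ) h1
  have hei : ker (LocalizedModule.map S (range d).mkQ) = range (LocalizedModule.map S (range d).subtype) :=
    LinearMap.exact_iff.mp (LocalizedModule.map_exact S _ _ (exact_subtype_mkQ d))
  have hinj := LocalizedModule.map_injective S (range d).subtype (range d).injective_subtype
  have : Module.Projective (Localization S) (LocalizedModule S (range d)) :=
    Module.Projective.of_equiv ((LinearEquiv.ofEq _ _ hei).trans (LinearEquiv.ofInjective _ hinj).symm)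
  have h2 := LocalizedModule.map_surjective S d.rangeRestrict d.surjective_rangeRestrict
  obtain ⟨hKf, hKp⟩ := ker_finite_projective (Localization S) (LocalizedModule.map S d.rangeRestrict) h2
  have hek : ker (LocalizedModule.map S d.rangeRestrict) = range (LocalizedModule.map S (ker d).subtype) :=
    LinearMap.exact_iff.mp (LocalizedModule.map_exact S _ _ (exact_ker_rangeRestrict d))
  have hinj' := LocalizedModule.map_injective S (ker d).subtype (ker d).injective_subtype
  let e := (LinearEquiv.ofEq _ _ hek).trans (LinearEquiv.ofInjective _ hinj').symm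
  exact ⟨Module.Finite.equiv e, Module.Projective.of_equiv e⟩

theorem injective_lTensor_iff (d : M →ₗ[R] N) (p : PrimeSpectrum R) :
    Function.Injective (d.lTensor p.asIdeal.ResidueField) ↔
      p ∈ Module.freeLocus R (N ⧸ range d) ∧ p ∉ Module.support R (ker d) := by
  let κ := p.asIdeal.ResidueField
  let Rp := Localization.AtPrime p.asIdeal
  have hkerSub : p ∉ Module.support R (ker d) → Subsingleton (κ ⊗[R] ker d) := by
    intro hp
    rw [Module.notMem_support_iff] at hp
    have : Subsingleton (Rp ⊗[R] ker d) :=
      (LocalizedModule.equivTensorProduct p.asIdeal.primeCompl (ker d)).symm.toEquiv.subsingleton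
    exact (TensorProduct.AlgebraTensorModule.cancelBaseChange R Rp κ κ (ker d)).symm.toEquiv.subsingleton
  constructor
  · intro H
    have hfree : p ∈ Module.freeLocus R (N ⧸ range d) := by
      rw [mem_freeLocus_coker_iff, ← ker_le_iff, LinearMap.ker_eq_bot.mpr H]
      exact bot_le
    refine ⟨hfree, ?_⟩
    have := finitePresentation_coker d
    obtain ⟨_, ⟨f, rfl⟩, hpf, hf⟩ := PrimeSpectrum.isTopologicalBasis_basic_opens.exists_subset_of_mem_open
      hfree Module.isOpen_freeLocus
    have hCf := Module.basicOpen_subset_freeLocus_iff.mp hf
    have hCp : Module.Free Rp (LocalizedModule p.asIdeal.primeCompl (N ⧸ range d)) := hfree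
    obtain ⟨hKf, -⟩ := ker_localized_finite_projective d p.asIdeal.primeCompl Module.Projective.of_free
    -- the map `κ ⊗ ker d → κ ⊗ M` is injective
    rw [Module.notMem_support_iff]
    have hKp : Module.Finite Rp (Rp ⊗[R] ker d) :=
      Module.Finite.equiv (LocalizedModule.equivTensorProduct p.asIdeal.primeCompl (ker d))
    suffices Subsingleton (Rp ⊗[R] ker d) from
      (LocalizedModule.equivTensorProduct p.asIdeal.primeCompl (ker d)).toEquiv.subsingleton
    rw [← IsLocalRing.subsingleton_tensorProduct (R := Rp)]
    refine @Equiv.subsingleton _ _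
      (TensorProduct.AlgebraTensorModule.cancelBaseChange R Rp κ κ (ker d)).toEquiv ⟨fun a b => ?_⟩
    -- split `M_p → I_p`
    let hK := LinearMap.lTensor Rp (ker d).subtype
    let g := (range d).subtype.baseChange Rp
    let h := (range d).mkQ.baseChange Rp
    have hh : Function.Surjective h :=
      LinearMap.lTensor_surjective Rp (g := (range d).mkQ) (Submodule.mkQ_surjective _)
    have hgh : Function.Exact g h :=
      lTensor_exact Rp (exact_subtype_mkQ d) (Submodule.mkQ_surjective _)
    have hgi : Function.Injective g :=
      Module.Flat.lTensor_preserves_injective_linearMap (M := Rp) (range d).subtype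
        (range d).injective_subtype
    have : Module.Free Rp (Rp ⊗[R] (N ⧸ range d)) := (Module.mem_freeLocus_iff_tensor p Rp).mp hfree
    obtain ⟨t, ht⟩ := Module.projective_lifting_property h LinearMap.id hh
    obtain ⟨l, hl⟩ := ((hgh.split_tfae hgi hh).out 0 1 rfl rfl).mp ⟨t, ht⟩
    have hIproj : Module.Projective Rp (Rp ⊗[R] range d) := Module.Projective.of_split g l hl
    let g' := (ker d).subtype.baseChange Rp
    let h' := d.rangeRestrict.baseChange Rp
    have hh' : Function.Surjective h' :=
      LinearMap.lTensor_surjective Rp (g := d.rangeRestrict) d.surjective_rangeRestrict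
    have hgh' : Function.Exact g' h' :=
      lTensor_exact Rp (exact_ker_rangeRestrict d) d.surjective_rangeRestrict
    have hgi' : Function.Injective g' :=
      Module.Flat.lTensor_preserves_injective_linearMap (M := Rp) (ker d).subtype
        (ker d).injective_subtype
    obtain ⟨t', ht'⟩ := Module.projective_lifting_property h' LinearMap.id hh'
    obtain ⟨l', hl'⟩ := ((hgh'.split_tfae hgi' hh').out 0 1 rfl rfl).mp ⟨t', ht'⟩
    have hcomm : ∀ x : κ ⊗[Rp] (Rp ⊗[R] ker d),
        TensorProduct.AlgebraTensorModule.cancelBaseChange R Rp κ κ M (g'.lTensor κ x) =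
          (ker d).subtype.lTensor κ
            (TensorProduct.AlgebraTensorModule.cancelBaseChange R Rp κ κ (ker d) x) := by
      intro x
      induction x using TensorProduct.induction_on with
      | zero => simp
      | add x y hx hy => simp [hx, hy]
      | tmul c y =>
        induction y using TensorProduct.induction_on with
        | zero => simp
        | add a b ha hb => simp only [TensorProduct.tmul_add, map_add, ha, hb]
        | tmul r n => simp [g']
    have hz : ∀ a, a = (0 : κ ⊗[R] ker d) := fun a => by
      obtain ⟨a, rfl⟩ :=
        (TensorProduct.AlgebraTensorModule.cancelBaseChange R Rp κ κ (ker d)).surjective a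
      have h0 : g'.lTensor κ a = 0 := by
        apply (TensorProduct.AlgebraTensorModule.cancelBaseChange R Rp κ κ M).injective
        rw [map_zero, hcomm]
        apply H
        rw [← LinearMap.comp_apply, ← LinearMap.lTensor_comp, LinearMap.comp_ker_subtype,
          LinearMap.lTensor_zero, LinearMap.zero_apply, map_zero]
      have := congrArg (l'.lTensor κ) h0
      rw [map_zero, ← LinearMap.comp_apply, ← LinearMap.lTensor_comp, hl', LinearMap.lTensor_id,
        LinearMap.id_apply] at this
      rw [this, map_zero]
    rw [hz a, hz b]
  · rintro ⟨hfree, hp⟩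
    have := hkerSub hp
    rw [mem_freeLocus_coker_iff, ← ker_le_iff] at hfree
    refine LinearMap.ker_eq_bot.mp (le_bot_iff.mp (hfree.trans ?_))
    rintro _ ⟨y, rfl⟩
    rw [Subsingleton.elim y 0, map_zero]
    exact zero_mem _

theorem isOpen_injectiveLocus (d : M →ₗ[R] N) :
    IsOpen {p : PrimeSpectrum R | Function.Injective (d.lTensor p.asIdeal.ResidueField)} := by
  simp_rw [injective_lTensor_iff]
  have := finitePresentation_coker d
  rw [isOpen_iff_forall_mem_open]
  rintro p ⟨hfree, hp⟩
  obtain ⟨_, ⟨f, rfl⟩, hpf, hf⟩ := PrimeSpectrum.isTopologicalBasis_basic_opens.exists_subset_of_mem_open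
    hfree Module.isOpen_freeLocus
  obtain ⟨hKf, -⟩ := ker_localized_finite_projective d (Submonoid.powers f)
    (Module.basicOpen_subset_freeLocus_iff.mp hf)
  classical
  obtain ⟨t, ht⟩ := hKf
  choose num hnum using fun z : LocalizedModule (Submonoid.powers f) (ker d) =>
    IsLocalizedModule.surj (Submonoid.powers f) (LocalizedModule.mkLinearMap (Submonoid.powers f) (ker d)) z
  choose s hs hsk using fun m : ker d => (Module.notMem_support_iff'.mp hp) m
  let σ := ∏ z ∈ t, s (num z).1
  refine ⟨PrimeSpectrum.basicOpen f ⊓ PrimeSpectrum.basicOpen σ, ?_, ?_, hpf, ?_⟩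
  · rintro q ⟨hqf, hqσ⟩
    refine ⟨hf hqf, Module.notMem_support_iff'.mpr fun m => ?_⟩
    have hm : LocalizedModule.mkLinearMap (Submonoid.powers f) (ker d) (σ • m) = 0 := by
      rw [map_smul]
      have hmem : LocalizedModule.mkLinearMap (Submonoid.powers f) (ker d) m ∈
          Submodule.span (Localization (Submonoid.powers f))
            (↑t : Set (LocalizedModule (Submonoid.powers f) (ker d))) := ht ▸ Submodule.mem_top
      generalize LocalizedModule.mkLinearMap (Submonoid.powers f) (ker d) m = z at hmem ⊢
      induction hmem using Submodule.span_induction with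
      | mem z hz =>
        obtain ⟨c, hc⟩ : s (num z).1 ∣ σ := Finset.dvd_prod_of_mem (fun z => s (num z).1) hz
        apply ((Module.End.isUnit_iff _).mp (IsLocalizedModule.map_units
          (LocalizedModule.mkLinearMap (Submonoid.powers f) (ker d)) (num z).2)).1
        simp only [Module.algebraMap_end_apply, smul_zero]
        rw [smul_comm, hc, mul_comm, mul_smul, ← Submonoid.smul_def, hnum z, ← map_smul,
          hsk, map_zero, smul_zero]
      | zero => simp
      | add a b _ _ ha hb => rw [smul_add, ha, hb, add_zero]
      | smul a b _ hb => rw [smul_comm, hb, smul_zero]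
    obtain ⟨c, hc⟩ := (IsLocalizedModule.eq_zero_iff (Submonoid.powers f) _).mp hm
    refine ⟨(c : R) * σ, ?_, by rw [mul_smul]; exact hc⟩
    refine q.2.mul_notMem ?_ hqσ
    obtain ⟨n, hn⟩ := c.2
    rw [← hn]
    exact fun h => hqf (q.2.mem_of_pow_mem n h)
  · exact (PrimeSpectrum.basicOpen f ⊓ PrimeSpectrum.basicOpen σ).isOpen
  · show σ ∉ p.asIdeal
    exact fun h => by
      obtain ⟨z, -, hz⟩ := p.2.prod_mem_iff.mp h
      exact hs _ hz

end Groth.Agent.H20.CokerFree
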