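import Mathlib.RingTheory.Spectrum.Prime.Topology
import Mathlib.Topology.Connected.Clopen

/-!
# Connected components of the prime spectrum
-/

set_option autoImplicit false

universe u

namespace Groth.Agent.H20.Components

variable {R : Type u} [CommRing R]

theorem mem_or_one_sub_mem (P : PrimeSpectrum R) {e : R} (he : IsIdempotentElem e) :
    e ∈ P.asIdeal ∨ 1 - e ∈ P.asIdeal :=
  P.2.mem_or_mem (by rw [mul_sub, mul_one, he.eq, sub_self]; exact zero_mem _)

/-- The idempotents contained in a prime. -/
def idemSet (p : PrimeSpectrum R) : Set R := {e : R | IsIdempotentElem e ∧ e ∈ p.asIdeal}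

theorem exists_idem_of_mem_span (p : PrimeSpectrum R) {x : R} (hx : x ∈ Ideal.span (idemSet p)) :
    ∃ e ∈ idemSet p, e * x = x := by
  induction hx using Submodule.span_induction with
  | mem x hx => exact ⟨x, hx, hx.1.eq⟩
  | zero => exact ⟨0, ⟨.zero, zero_mem _⟩, by simp⟩
  | add x y _ _ hx hy =>
    obtain ⟨e, he, hex⟩ := hx
    obtain ⟨f, hf, hfy⟩ := hy
    refine ⟨e + f - e * f, ⟨he.1.add_sub_mul hf.1,
      p.asIdeal.sub_mem (p.asIdeal.add_mem he.2 hf.2) (p.asIdeal.mul_mem_right f he.2)⟩, ?_⟩
    linear_combination (1 - f) * hex + (1 - e) * hfy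
  | smul a x _ hx =>
    obtain ⟨e, he, hex⟩ := hx
    exact ⟨e, he, by rw [smul_eq_mul, mul_left_comm, hex]⟩

theorem mem_span_or (p : PrimeSpectrum R) {e : R} (he : IsIdempotentElem e) :
    e ∈ Ideal.span (idemSet p) ∨ 1 - e ∈ Ideal.span (idemSet p) :=
  (mem_or_one_sub_mem p he).imp (fun h => Ideal.subset_span ⟨he, h⟩)
    (fun h => Ideal.subset_span ⟨he.one_sub, h⟩)

theorem connectedComponent_eq (p : PrimeSpectrum R) :
    connectedComponent p = PrimeSpectrum.zeroLocus (idemSet p) := by
  refine Set.Subset.antisymm ?_ ?_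
  · intro q hq e he
    have hcl : IsClopen (PrimeSpectrum.zeroLocus {e}) :=
      PrimeSpectrum.isClopen_iff_zeroLocus.mpr ⟨e, he.1, rfl⟩
    have := hcl.connectedComponent_subset (show p ∈ PrimeSpectrum.zeroLocus {e} by simpa using he.2) hq
    simpa using this
  · set I := Ideal.span (idemSet p) with hI
    rw [← PrimeSpectrum.zeroLocus_span]
    have hpI : p ∈ PrimeSpectrum.zeroLocus (I : Set R) := Ideal.span_le.mpr fun e he => he.2
    refine IsPreconnected.subset_connectedComponent ?_ hpI
    rw [show PrimeSpectrum.zeroLocus (I : Set R) = Set.range (PrimeSpectrum.comap (Ideal.Quotient.mk I)) by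
      rw [_root_.range_comap_of_surjective _ _ Ideal.Quotient.mk_surjective, Ideal.mk_ker]]
    have : PreconnectedSpace (PrimeSpectrum (R ⧸ I)) := by
      rw [preconnectedSpace_iff_clopen]
      intro s hs
      obtain ⟨e, he, rfl⟩ := PrimeSpectrum.isClopen_iff.mp hs
      obtain ⟨e, rfl⟩ := Ideal.Quotient.mk_surjective e
      have hd : e * e - e ∈ I := by
        rw [← Ideal.Quotient.eq_zero_iff_mem, map_sub, map_mul, he.eq, sub_self]
      obtain ⟨f, hf, hfe⟩ := exists_idem_of_mem_span p hd
      have hfI : f ∈ I := Ideal.subset_span hf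
      have he' : IsIdempotentElem (e * (1 - f)) := by
        show e * (1 - f) * (e * (1 - f)) = e * (1 - f)
        linear_combination -hfe + (e * e) * hf.1.eq
      have hmk : Ideal.Quotient.mk I (e * (1 - f)) = Ideal.Quotient.mk I e := by
        rw [map_mul, map_sub, map_one, Ideal.Quotient.eq_zero_iff_mem.mpr hfI, sub_zero, mul_one]
      rcases mem_span_or p he' with h | h
      · left
        rw [← hmk, Ideal.Quotient.eq_zero_iff_mem.mpr h, PrimeSpectrum.basicOpen_zero]
        rfl
      · right
        rw [← Ideal.Quotient.eq_zero_iff_mem, map_sub, map_one, sub_eq_zero, hmk] at h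
        rw [← h, PrimeSpectrum.basicOpen_one]
        rfl
    rw [← Set.image_univ]
    exact isPreconnected_univ.image _ (PrimeSpectrum.continuous_comap _).continuousOn

end Groth.Agent.H20.Components
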