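import Groth.Agent.H20.ValFP
import Mathlib.RingTheory.Etale.Basic
import Mathlib.RingTheory.Smooth.Fiber
import Mathlib.RingTheory.Etale.QuasiFinite
import Mathlib.RingTheory.Unramified.LocalRing
import Mathlib.RingTheory.Unramified.Field
import Mathlib.RingTheory.Localization.Integral
import Mathlib.RingTheory.RingHom.Etale
import Mathlib.RingTheory.Localization.AtPrime.Basic
import Mathlib.RingTheory.Nakayama
import Mathlib.RingTheory.Kaehler.Basic
import Mathlib.RingTheory.Valuation.ValuationRing

/-!
An extension of valuation rings composed of two étale extensions is étale.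
-/

set_option autoImplicit false

universe u

namespace Groth.Agent.H20.CompositeEtale

variable {A B : Type u} [CommRing A] [IsDomain A] [ValuationRing A] [CommRing B] [IsDomain B] [ValuationRing B]
  [Algebra A B]

theorem etale (hinj : Function.Injective (algebraMap A B)) (P : Ideal B) [P.IsPrime]
    (hA : (Localization.localRingHom (P.comap (algebraMap A B)) P (algebraMap A B) rfl).Etale)
    (hB : (Ideal.quotientMap P (algebraMap A B) (le_refl (P.comap (algebraMap A B)))).Etale) :
    Algebra.Etale A B := by
  classical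
  let p := P.comap (algebraMap A B)
  haveI : p.IsPrime := Ideal.IsPrime.comap _
  let Ap := Localization.AtPrime p
  let BP := Localization.AtPrime P
  let φ : Ap →+* BP := Localization.localRingHom p P (algebraMap A B) rfl
  -- the residue extension
  let ψ : A ⧸ p →+* B ⧸ P := Ideal.quotientMap P (algebraMap A B) le_rfl
  letI algQ : Algebra (A ⧸ p) (B ⧸ P) := ψ.toAlgebra
  haveI : IsScalarTower A (A ⧸ p) (B ⧸ P) := IsScalarTower.of_algebraMap_eq fun a => rfl
  haveI : Algebra.Etale (A ⧸ p) (B ⧸ P) := RingHom.etale_algebraMap.mp hB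
  haveI : Algebra.FormallyUnramified A (A ⧸ p) :=
    Algebra.FormallyUnramified.of_surjective (Algebra.ofId A (A ⧸ p)) Ideal.Quotient.mk_surjective
  haveI : Algebra.FormallyUnramified A (B ⧸ P) := Algebra.FormallyUnramified.comp A (A ⧸ p) (B ⧸ P)
  -- denominators can be taken in the base
  have hden : ∀ s : B, s ∉ P → ∃ a : A, a ∉ p ∧ s ∣ algebraMap A B a := by
    intro s hs
    have hψinj : Function.Injective (algebraMap (A ⧸ p) (B ⧸ P)) := by
      show Function.Injective (Ideal.quotientMap P (algebraMap A B) (le_refl (P.comap (algebraMap A B))))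
      exact Ideal.quotientMap_injective' le_rfl
    have halg : IsAlgebraic (A ⧸ p) (Ideal.Quotient.mk P s) := by
      let F := FractionRing (B ⧸ P)
      letI : Algebra (FractionRing (A ⧸ p)) F :=
        (IsFractionRing.map hψinj : FractionRing (A ⧸ p) →+* F).toAlgebra
      haveI : IsScalarTower (A ⧸ p) (FractionRing (A ⧸ p)) F := IsScalarTower.of_algebraMap_eq fun x => by
        rw [RingHom.algebraMap_toAlgebra, IsFractionRing.map, IsLocalization.map_eq, ← IsScalarTower.algebraMap_apply]
      haveI : Algebra.FormallyUnramified (B ⧸ P) F := Algebra.FormallyUnramified.of_isLocalization (Rₘ := F) (nonZeroDivisors (B ⧸ P))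
      haveI : Algebra.EssFiniteType (B ⧸ P) F := Algebra.EssFiniteType.of_isLocalization F (nonZeroDivisors (B ⧸ P))
      haveI : Algebra.FormallyUnramified (A ⧸ p) F := Algebra.FormallyUnramified.comp (A ⧸ p) (B ⧸ P) F
      haveI : Algebra.FormallyUnramified (FractionRing (A ⧸ p)) F :=
        Algebra.FormallyUnramified.of_restrictScalars (A ⧸ p) (FractionRing (A ⧸ p)) F
      haveI : Algebra.EssFiniteType (A ⧸ p) F := Algebra.EssFiniteType.comp (A ⧸ p) (B ⧸ P) F
      haveI : Algebra.EssFiniteType (FractionRing (A ⧸ p)) F :=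
        Algebra.EssFiniteType.of_comp (A ⧸ p) (FractionRing (A ⧸ p)) F
      haveI := Algebra.FormallyUnramified.isSeparable (FractionRing (A ⧸ p)) F
      haveI : Algebra.IsAlgebraic (A ⧸ p) F :=
        (IsFractionRing.comap_isAlgebraic_iff (K := FractionRing (A ⧸ p))).2 inferInstance
      exact (isAlgebraic_algHom_iff (IsScalarTower.toAlgHom (A ⧸ p) (B ⧸ P) F)
        (IsFractionRing.injective (B ⧸ P) F)).1 (Algebra.IsAlgebraic.isAlgebraic _)
    have hs0 : Ideal.Quotient.mk P s ≠ 0 := fun h => hs (Ideal.Quotient.eq_zero_iff_mem.1 h)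
    obtain ⟨a, ha0, hdvd⟩ := halg.exists_nonzero_dvd (mem_nonZeroDivisors_of_ne_zero hs0)
    · obtain ⟨a, rfl⟩ := Ideal.Quotient.mk_surjective a
      refine ⟨a, fun ha => ha0 (Ideal.Quotient.eq_zero_iff_mem.2 ha), ?_⟩
      rcases ValuationRing.dvd_total s (algebraMap A B a) with h | ⟨e, he⟩
      · exact h
      · obtain ⟨c, hc⟩ := hdvd
        obtain ⟨c, rfl⟩ := Ideal.Quotient.mk_surjective c
        have h1 : algebraMap A B a - s * c ∈ P := by
          rw [← Ideal.Quotient.eq]; rw [map_mul]; exact hc
        rw [he, ← mul_one (algebraMap A B a), mul_assoc, mul_assoc, ← mul_sub] at h1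
        have hu : IsUnit (1 - 1 * e * c) ∨ IsUnit (1 * e * c) := by
          rcases IsLocalRing.isUnit_or_isUnit_one_sub_self (1 * e * c) with h | h
          · exact Or.inr h
          · exact Or.inl h
        rcases hu with hu | hu
        · rcases Ideal.IsPrime.mem_or_mem ‹_› h1 with h | h
          · exact absurd (he ▸ P.mul_mem_right e h) hs
          · exact absurd (P.eq_top_of_isUnit_mem h (by rwa [mul_assoc] at hu)) (Ideal.IsPrime.ne_top ‹_›)
        · rw [one_mul] at hu
          obtain ⟨v, hv⟩ := isUnit_of_mul_isUnit_left hu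
          exact ⟨↑v⁻¹, by rw [he, ← hv, mul_assoc, Units.mul_inv, mul_one]⟩
  -- P = pB
  have hP : P ≤ p.map (algebraMap A B) := by
    letI : Algebra Ap BP := φ.toAlgebra
    haveI : Algebra.Etale Ap BP := RingHom.etale_algebraMap.mp hA
    haveI : IsLocalHom (algebraMap Ap BP) := by rw [RingHom.algebraMap_toAlgebra]; infer_instance
    intro x hx
    have hxm : algebraMap B BP x ∈ (p.map (algebraMap A B)).map (algebraMap B BP) := by
      have : (IsLocalRing.maximalIdeal Ap).map (algebraMap Ap BP) = IsLocalRing.maximalIdeal BP :=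
        Algebra.FormallyUnramified.map_maximalIdeal
      have hxM : algebraMap B BP x ∈ IsLocalRing.maximalIdeal BP :=
        (IsLocalization.AtPrime.to_map_mem_maximal_iff BP P x).2 hx
      rw [← this, ← IsLocalization.AtPrime.map_eq_maximalIdeal p Ap, Ideal.map_map] at hxM
      rw [Ideal.map_map]
      have he : (algebraMap Ap BP).comp (algebraMap A Ap) = (algebraMap B BP).comp (algebraMap A B) := by
        ext a
        exact Localization.localRingHom_to_map p P (algebraMap A B) rfl a
      rwa [he] at hxM
    obtain ⟨s, hs, hsx⟩ := (IsLocalization.algebraMap_mem_map_algebraMap_iff P.primeCompl BP _ _).1 hxm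
    obtain ⟨a, ha, c, hc⟩ := hden s hs
    have hax : algebraMap A B a * x ∈ p.map (algebraMap A B) := by
      rw [hc, mul_right_comm]; exact Ideal.mul_mem_right _ _ hsx
    -- every element of p is divisible by a
    have hpa : p.map (algebraMap A B) ≤ Ideal.span {algebraMap A B a} * p.map (algebraMap A B) := by
      rw [Ideal.map_le_iff_le_comap]
      intro y hy
      rw [Ideal.mem_comap]
      rcases ValuationRing.dvd_total a y with ⟨z, rfl⟩ | h
      · rw [map_mul]
        exact Ideal.mul_mem_mul (Ideal.mem_span_singleton_self _)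
          (Ideal.mem_map_of_mem _ ((Ideal.IsPrime.mem_or_mem ‹_› hy).resolve_left ha))
      · exact absurd (Ideal.mem_of_dvd p h hy) ha
    obtain ⟨z, hz, hze⟩ := Ideal.mem_span_singleton_mul.1 (hpa hax)
    have ha0 : algebraMap A B a ≠ 0 := fun h => ha (by
      rw [(injective_iff_map_eq_zero _).1 hinj a h]; exact zero_mem _)
    rwa [mul_left_cancel₀ ha0 hze] at hz
  -- finite type
  haveI : Algebra.FiniteType A B := by
    letI : Algebra Ap BP := φ.toAlgebra
    haveI : Algebra.Etale Ap BP := RingHom.etale_algebraMap.mp hA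
    obtain ⟨S, hS⟩ := (inferInstance : Algebra.FiniteType Ap BP).out
    obtain ⟨T, hT⟩ := (inferInstance : Algebra.FiniteType (A ⧸ p) (B ⧸ P)).out
    have hnum : ∀ z : BP, ∃ a : A, a ∉ p ∧ ∃ b : B, algebraMap B BP (algebraMap A B a) * z = algebraMap B BP b := by
      intro z
      obtain ⟨⟨b, s⟩, hbs⟩ := IsLocalization.surj P.primeCompl z
      obtain ⟨a, ha, c, hc⟩ := hden s s.2
      exact ⟨a, ha, b * c, by rw [hc, map_mul, map_mul, mul_right_comm, mul_comm (algebraMap B BP (s : B)) z, hbs]⟩
    choose a ha b hb using hnum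
    choose t ht using Ideal.Quotient.mk_surjective (I := P)
    let C := Algebra.adjoin A ((↑(S.image b) : Set B) ∪ ↑(T.image t))
    -- numerators of elements of BP are in C
    have hC1 : ∀ z : BP, ∃ d : A, d ∉ p ∧ ∃ e ∈ C, algebraMap B BP (algebraMap A B d) * z = algebraMap B BP e := by
      intro z
      have hz : z ∈ Algebra.adjoin Ap (S : Set BP) := hS ▸ Algebra.mem_top
      induction hz using Algebra.adjoin_induction with
      | mem z hz => exact ⟨a z, ha z, b z, Algebra.subset_adjoin (Or.inl (Finset.mem_image_of_mem b hz)), hb z⟩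
      | algebraMap r =>
        obtain ⟨⟨r₀, d⟩, hr⟩ := IsLocalization.surj p.primeCompl r
        refine ⟨d, d.2, algebraMap A B r₀, C.algebraMap_mem r₀, ?_⟩
        have hl : ∀ y : A, algebraMap Ap BP (algebraMap A Ap y) = algebraMap B BP (algebraMap A B y) :=
          Localization.localRingHom_to_map p P (algebraMap A B) rfl
        rw [← hl, ← hl, ← map_mul, mul_comm, hr]
      | add x y _ _ hx hy =>
        obtain ⟨d, hd, e, he, hde⟩ := hx
        obtain ⟨d', hd', e', he', hde'⟩ := hy
        refine ⟨d * d', fun h => (Ideal.IsPrime.mem_or_mem ‹_› h).elim hd hd', algebraMap A B d' * e + algebraMap A B d * e',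
          add_mem (mul_mem (C.algebraMap_mem _) he) (mul_mem (C.algebraMap_mem _) he'), ?_⟩
        simp only [map_mul, map_add, ← hde, ← hde']
        ring
      | mul x y _ _ hx hy =>
        obtain ⟨d, hd, e, he, hde⟩ := hx
        obtain ⟨d', hd', e', he', hde'⟩ := hy
        refine ⟨d * d', fun h => (Ideal.IsPrime.mem_or_mem ‹_› h).elim hd hd', e * e', mul_mem he he', ?_⟩
        simp only [map_mul, ← hde, ← hde']
        ring
    have hinjB : Function.Injective (algebraMap B BP) := IsLocalization.injective BP P.primeCompl_le_nonZeroDivisors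
    have hPC : ∀ x ∈ P, x ∈ C := by
      intro x hx
      have := hP hx
      clear hx
      induction this using Submodule.span_induction with
      | mem y hy =>
        obtain ⟨c, -, rfl⟩ := hy
        exact C.algebraMap_mem c
      | zero => exact zero_mem _
      | add _ _ _ _ h h' => exact add_mem h h'
      | smul r y hy ih =>
        -- r * y with y in pB
        clear ih
        induction hy using Submodule.span_induction generalizing r with
        | mem y hy =>
          obtain ⟨c, hc, rfl⟩ := hy
          obtain ⟨d, hd, e, he, hde⟩ := hC1 (algebraMap B BP r)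
          rcases ValuationRing.dvd_total d c with ⟨z, rfl⟩ | h
          · have he' : algebraMap A B d * r = e := hinjB (by rw [map_mul]; exact hde)
            rw [smul_eq_mul, map_mul, mul_comm r, mul_right_comm, he']
            exact mul_mem he (C.algebraMap_mem _)
          · exact absurd (Ideal.mem_of_dvd p h hc) hd
        | zero => rw [smul_zero]; exact zero_mem _
        | add x y _ _ h h' => rw [smul_add]; exact add_mem (h r) (h' r)
        | smul s y _ h => rw [smul_smul]; exact h (r * s)
    have hC2 : ∀ w : B ⧸ P, ∃ e ∈ C, Ideal.Quotient.mk P e = w := by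
      intro w
      have hw : w ∈ Algebra.adjoin (A ⧸ p) (T : Set (B ⧸ P)) := hT ▸ Algebra.mem_top
      induction hw using Algebra.adjoin_induction with
      | mem w hw => exact ⟨t w, Algebra.subset_adjoin (Or.inr (Finset.mem_image_of_mem t hw)), ht w⟩
      | algebraMap r =>
        obtain ⟨r, rfl⟩ := Ideal.Quotient.mk_surjective r
        exact ⟨algebraMap A B r, C.algebraMap_mem r, rfl⟩
      | add x y _ _ hx hy =>
        obtain ⟨e, he, rfl⟩ := hx
        obtain ⟨e', he', rfl⟩ := hy
        exact ⟨e + e', add_mem he he', map_add _ _ _⟩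
      | mul x y _ _ hx hy =>
        obtain ⟨e, he, rfl⟩ := hx
        obtain ⟨e', he', rfl⟩ := hy
        exact ⟨e * e', mul_mem he he', map_mul _ _ _⟩
    refine ⟨⟨S.image b ∪ T.image t, ?_⟩⟩
    rw [Finset.coe_union, eq_top_iff]
    intro x _
    obtain ⟨e, he, hex⟩ := hC2 (Ideal.Quotient.mk P x)
    rw [← add_sub_cancel e x]
    exact add_mem he (hPC _ (Ideal.Quotient.eq.1 hex.symm))
  -- finite presentation and flatness
  have htf : ∀ (a : A) (x : B), a ≠ 0 → a • x = 0 → x = 0 := fun a x ha h => by
    rw [Algebra.smul_def] at h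
    exact (mul_eq_zero.1 h).resolve_left fun h0 => ha ((injective_iff_map_eq_zero _).1 hinj a h0)
  haveI : Algebra.FinitePresentation A B := by
    obtain ⟨n, ρ, hρ⟩ := Algebra.FiniteType.iff_quotient_mvPolynomial''.1 (inferInstance : Algebra.FiniteType A B)
    refine Algebra.FinitePresentation.of_surjective hρ ?_
    letI : Algebra (MvPolynomial (Fin n) A) B := ρ.toRingHom.toAlgebra
    haveI : Module.Finite (MvPolynomial (Fin n) A) B := Module.Finite.of_surjective (Algebra.linearMap _ _) hρ
    haveI : Module.FinitePresentation (MvPolynomial (Fin n) A) B :=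
      ValFP.finitePresentation_of_torsionFree fun a x ha h => htf a x ha (by
        rw [Algebra.smul_def] at h ⊢
        rwa [show algebraMap (MvPolynomial (Fin n) A) B (MvPolynomial.C a) = algebraMap A B a from ρ.commutes a] at h)
    exact Module.FinitePresentation.fg_ker (Algebra.linearMap (MvPolynomial (Fin n) A) B) hρ
  haveI : Module.Flat A B := by
    refine Module.Flat.flat_iff_torsion_eq_bot_of_isBezout.mpr ((Submodule.eq_bot_iff _).mpr fun x hx => ?_)
    obtain ⟨⟨a, ha⟩, hax⟩ := (Submodule.mem_torsion_iff x).mp hx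
    exact htf a x (nonZeroDivisors.ne_zero ha) hax
  -- unramified
  haveI : Algebra.FormallyUnramified A B := by
    refine ⟨?_⟩
    have hall : ∀ x : B, KaehlerDifferential.D A B x ∈ P • (⊤ : Submodule B (Ω[B⁄A])) := by
      have hDP : ∀ x ∈ P, KaehlerDifferential.D A B x ∈ P • (⊤ : Submodule B (Ω[B⁄A])) := by
        intro x hx
        have := hP hx
        clear hx
        induction this using Submodule.span_induction with
        | mem y hy => obtain ⟨c, -, rfl⟩ := hy; rw [Derivation.map_algebraMap]; exact zero_mem _
        | zero => rw [map_zero]; exact zero_mem _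
        | add a b _ _ h h' => rw [map_add]; exact add_mem h h'
        | smul r y hy h =>
          rw [smul_eq_mul, Derivation.leibniz]
          refine add_mem (Submodule.smul_mem _ _ h) (Submodule.smul_mem_smul ?_ trivial)
          exact (Ideal.map_le_iff_le_comap.2 le_rfl : p.map (algebraMap A B) ≤ P) hy
      let M := Ω[B⁄A] ⧸ (P • ⊤ : Submodule B (Ω[B⁄A]))
      let d₀ : B →ₗ[A] M := ((P • ⊤ : Submodule B (Ω[B⁄A])).mkQ.restrictScalars A) ∘ₗ (KaehlerDifferential.D A B).toLinearMap
      let d : B ⧸ P →ₗ[A] M := (P.restrictScalars A).liftQ d₀ fun x hx => (Submodule.Quotient.mk_eq_zero _).2 (hDP x hx)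
      let D : Derivation A (B ⧸ P) M :=
        { toLinearMap := d
          map_one_eq_zero' := by
            show d₀ 1 = 0
            show Submodule.Quotient.mk (KaehlerDifferential.D A B 1) = 0
            rw [Derivation.map_one_eq_zero]; rfl
          leibniz' := fun x y => by
            obtain ⟨x, rfl⟩ := Ideal.Quotient.mk_surjective x
            obtain ⟨y, rfl⟩ := Ideal.Quotient.mk_surjective y
            show Submodule.Quotient.mk (KaehlerDifferential.D A B (x * y)) =
              Ideal.Quotient.mk P x • Submodule.Quotient.mk (KaehlerDifferential.D A B y) +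
              Ideal.Quotient.mk P y • Submodule.Quotient.mk (KaehlerDifferential.D A B x)
            rw [Derivation.leibniz]; rfl }
      intro x
      have h0 : D.liftKaehlerDifferential (KaehlerDifferential.D A (B ⧸ P) (Ideal.Quotient.mk P x)) = 0 := by
        rw [Subsingleton.elim (KaehlerDifferential.D A (B ⧸ P) (Ideal.Quotient.mk P x)) 0, map_zero]
      rw [Derivation.liftKaehlerDifferential_comp_D] at h0
      exact (Submodule.Quotient.mk_eq_zero _).1 h0
    have htop : (⊤ : Submodule B (Ω[B⁄A])) ≤ P • ⊤ := by
      rw [← KaehlerDifferential.span_range_derivation, Submodule.span_le]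
      rintro _ ⟨x, rfl⟩
      rw [KaehlerDifferential.span_range_derivation]
      exact hall x
    have := Submodule.eq_bot_of_le_smul_of_le_jacobson_bot P ⊤ Module.Finite.fg_top htop
      ((IsLocalRing.le_maximalIdeal (Ideal.IsPrime.ne_top ‹_›)).trans (IsLocalRing.jacobson_eq_maximalIdeal ⊥ bot_ne_top).ge)
    exact subsingleton_of_forall_eq 0 fun z => (Submodule.mem_bot B).1 (this ▸ trivial)
  exact Algebra.Etale.of_formallyUnramified_of_flat

end Groth.Agent.H20.CompositeEtale
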