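import Mathlib.LinearAlgebra.TensorProduct.RightExactness
import Mathlib.RingTheory.TensorProduct.Maps
import Mathlib.Data.Fintype.Order
import Mathlib.Algebra.DirectSum.Module
import Mathlib.RingTheory.FinitePresentation
import Mathlib.LinearAlgebra.TensorProduct.Finiteness

/-!
Colimits of algebras given elementwise, without functoriality of the transition maps, and their
stability under tensor products.
-/

universe u v

open TensorProduct

namespace Groth.Agent.H20.Descent

/-- `A` is the filtered union, elementwise, of the `G i`. -/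
structure IsColim {ι : Type u} {R : Type v} [CommRing R] {G : ι → Type u} [∀ i, CommRing (G i)]
    [∀ i, Algebra R (G i)] {A : Type u} [CommRing A] [Algebra R A] (g : ∀ i, G i →ₐ[R] A) : Prop where
  dir : ∀ i j, ∃ k, (∃ h : G i →ₐ[R] G k, (g k).comp h = g i) ∧
    ∃ h : G j →ₐ[R] G k, (g k).comp h = g j
  surj : ∀ a : A, ∃ i, ∃ x : G i, g i x = a
  ker : ∀ i (x : G i), g i x = 0 → ∃ j, ∃ h : G i →ₐ[R] G j, (g j).comp h = g i ∧ h x = 0

section
variable {ι : Type u} {R : Type v} [CommRing R] {G : ι → Type u} [∀ i, CommRing (G i)]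
  [∀ i, Algebra R (G i)] {A : Type u} [CommRing A] [Algebra R A] {g : ∀ i, G i →ₐ[R] A}

theorem IsColim.of_directed [Preorder ι] [IsDirected ι (· ≤ ·)] (f : ∀ i j, i ≤ j → (G i →ₐ[R] G j))
    (hg : ∀ i j (h : i ≤ j), (g j).comp (f i j h) = g i)
    (hsurj : ∀ a : A, ∃ i, ∃ x : G i, g i x = a)
    (hker : ∀ i (x : G i), g i x = 0 → ∃ j, ∃ h : i ≤ j, f i j h x = 0) : IsColim g where
  dir i j := by
    obtain ⟨k, hi, hj⟩ := exists_ge_ge i j
    exact ⟨k, ⟨f i k hi, hg i k hi⟩, f j k hj, hg j k hj⟩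
  surj := hsurj
  ker i x hx := by
    obtain ⟨j, h, hj⟩ := hker i x hx
    exact ⟨j, f i j h, hg i j h, hj⟩

theorem IsColim.comp_eq {i j : ι} {h : G i →ₐ[R] G j} (hh : (g j).comp h = g i) (x : G i) :
    g j (h x) = g i x :=
  DFunLike.congr_fun hh x

theorem IsColim.exists_kill (H : IsColim g) {i : ι} (s : Finset (G i)) (hs : ∀ x ∈ s, g i x = 0) :
    ∃ j, ∃ h : G i →ₐ[R] G j, (g j).comp h = g i ∧ ∀ x ∈ s, h x = 0 := by
  classical
  induction s using Finset.induction_on with
  | empty => exact ⟨i, AlgHom.id R _, AlgHom.comp_id _, by simp⟩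
  | insert a s _ ih =>
    obtain ⟨j, h, hh, h0⟩ := ih fun x hx => hs x (Finset.mem_insert_of_mem hx)
    obtain ⟨k, h', hh', ha⟩ := H.ker j (h a)
      (by rw [IsColim.comp_eq hh]; exact hs a (Finset.mem_insert_self a s))
    refine ⟨k, h'.comp h, by rw [← AlgHom.comp_assoc, hh', hh], fun x hx => ?_⟩
    rcases Finset.mem_insert.mp hx with rfl | hx
    · exact ha
    · rw [AlgHom.comp_apply, h0 x hx, map_zero]

theorem IsColim.exists_eq (H : IsColim g) {i : ι} {κ : Type*} [Finite κ] (x y : κ → G i)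
    (hxy : ∀ a, g i (x a) = g i (y a)) :
    ∃ j, ∃ h : G i →ₐ[R] G j, (g j).comp h = g i ∧ ∀ a, h (x a) = h (y a) := by
  classical
  have := Fintype.ofFinite κ
  obtain ⟨j, h, hh, h0⟩ := H.exists_kill (Finset.univ.image fun a => x a - y a) (by
    simp only [Finset.mem_image, Finset.mem_univ, true_and, forall_exists_index,
      forall_apply_eq_imp_iff, map_sub]
    exact fun a => sub_eq_zero.mpr (hxy a))
  exact ⟨j, h, hh, fun a => sub_eq_zero.mp ((map_sub h _ _).symm.trans
    (h0 _ (Finset.mem_image.mpr ⟨a, Finset.mem_univ a, rfl⟩)))⟩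

theorem IsColim.exists_lift (H : IsColim g) (i₀ : ι) (s : Finset A) :
    ∃ j, ∃ h : G i₀ →ₐ[R] G j, (g j).comp h = g i₀ ∧ ∀ a ∈ s, ∃ x, g j x = a := by
  classical
  induction s using Finset.induction_on with
  | empty => exact ⟨i₀, AlgHom.id R _, AlgHom.comp_id _, by simp⟩
  | insert a s _ ih =>
    obtain ⟨j, h, hh, hs⟩ := ih
    obtain ⟨i, x, hx⟩ := H.surj a
    obtain ⟨k, ⟨h₁, hh₁⟩, h₂, hh₂⟩ := H.dir j i
    refine ⟨k, h₁.comp h, by rw [← AlgHom.comp_assoc, hh₁, hh], fun b hb => ?_⟩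
    rcases Finset.mem_insert.mp hb with rfl | hb
    · exact ⟨h₂ x, by rw [IsColim.comp_eq hh₂, hx]⟩
    · obtain ⟨y, hy⟩ := hs b hb
      exact ⟨h₁ y, by rw [IsColim.comp_eq hh₁, hy]⟩

theorem IsColim.exists_lift_family (H : IsColim g) (i₀ : ι) {κ : Type*} [Finite κ] (a : κ → A) :
    ∃ j, ∃ h : G i₀ →ₐ[R] G j, (g j).comp h = g i₀ ∧ ∃ x : κ → G j, ∀ c, g j (x c) = a c := by
  classical
  have := Fintype.ofFinite κ
  obtain ⟨j, h, hh, hs⟩ := H.exists_lift i₀ (Finset.univ.image a)
  choose x hx using fun c => hs (a c) (Finset.mem_image.mpr ⟨c, Finset.mem_univ c, rfl⟩)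
  exact ⟨j, h, hh, x, hx⟩

theorem IsColim.exists_common (H : IsColim g) (i : ι) (s : Finset ι) :
    ∃ k, (∃ h : G i →ₐ[R] G k, (g k).comp h = g i) ∧
      ∀ j ∈ s, ∃ h : G j →ₐ[R] G k, (g k).comp h = g j := by
  classical
  induction s using Finset.induction_on with
  | empty => exact ⟨i, ⟨AlgHom.id R _, AlgHom.comp_id _⟩, by simp⟩
  | insert a s _ ih =>
    obtain ⟨k, ⟨h, hh⟩, hs⟩ := ih
    obtain ⟨l, ⟨h₁, hh₁⟩, h₂, hh₂⟩ := H.dir k a
    refine ⟨l, ⟨h₁.comp h, by rw [← AlgHom.comp_assoc, hh₁, hh]⟩, fun j hj => ?_⟩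
    rcases Finset.mem_insert.mp hj with rfl | hj
    · exact ⟨h₂, hh₂⟩
    · obtain ⟨h', hh'⟩ := hs j hj
      exact ⟨h₁.comp h', by rw [← AlgHom.comp_assoc, hh₁, hh']⟩

/-- Vanishing in a tensor product happens at a finite stage. -/
theorem IsColim.tensor_ker (H : IsColim g) (B : Type u) [AddCommGroup B] [Module R B] {i : ι}
    (z : B ⊗[R] G i) (hz : LinearMap.lTensor B (g i).toLinearMap z = 0) :
    ∃ j, ∃ h : G i →ₐ[R] G j, (g j).comp h = g i ∧ LinearMap.lTensor B h.toLinearMap z = 0 := by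
  classical
  let Φ : DirectSum ι G →ₗ[R] A := DirectSum.toModule R ι A fun j => (g j).toLinearMap
  have hΦ : Function.Surjective Φ := fun a => by
    obtain ⟨j, x, hx⟩ := H.surj a
    exact ⟨DirectSum.lof R ι G j x, by simpa [Φ] using hx⟩
  have hex : Function.Exact (LinearMap.ker Φ).subtype Φ := fun a => by simp
  have h0 : LinearMap.lTensor B Φ (LinearMap.lTensor B (DirectSum.lof R ι G i) z) = 0 := by
    rw [← LinearMap.comp_apply, ← LinearMap.lTensor_comp]
    have : Φ.comp (DirectSum.lof R ι G i) = (g i).toLinearMap := LinearMap.ext fun x => by simp [Φ]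
    rw [this]
    exact hz
  obtain ⟨w, hw⟩ := (lTensor_exact (R := R) (M := LinearMap.ker Φ) (N := DirectSum ι G) (P := A) B (f := (LinearMap.ker Φ).subtype) (g := Φ) hex hΦ _).mp h0
  obtain ⟨t, ht⟩ := TensorProduct.exists_finset w
  obtain ⟨k, ⟨hi, hhi⟩, hS⟩ :=
    H.exists_common i (t.biUnion fun p => DFinsupp.support p.2.1)
  choose e he using hS
  let Ψ : DirectSum ι G →ₗ[R] G k := DirectSum.toModule R ι (G k) fun j =>
    if hj : j = i then hj ▸ hi.toLinearMap
    else if h : j ∈ t.biUnion fun p => DFinsupp.support p.2.1 then (e j h).toLinearMap else 0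
  have hΨi : Ψ.comp (DirectSum.lof R ι G i) = hi.toLinearMap :=
    LinearMap.ext fun x => by simp [Ψ]
  have hgΨ : ∀ v : DirectSum ι G, (∀ j ∈ DFinsupp.support v,
      j ∈ t.biUnion fun p => DFinsupp.support p.2.1) → g k (Ψ v) = Φ v := by
    intro v hv
    conv_lhs => rw [← DirectSum.sum_support_of v]
    conv_rhs => rw [← DirectSum.sum_support_of v]
    rw [map_sum, map_sum, map_sum]
    refine Finset.sum_congr rfl fun j hj => ?_
    rw [← DirectSum.lof_eq_of R]
    simp only [Ψ, Φ, DirectSum.toModule_lof, AlgHom.toLinearMap_apply]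
    split_ifs with h1 h2
    · subst h1
      exact IsColim.comp_eq hhi _
    · exact IsColim.comp_eq (he j h2) _
    · exact absurd (hv j hj) h2
  obtain ⟨l, h, hh, hkill⟩ := H.exists_kill (t.image fun p => Ψ p.2.1) (by
    simp only [Finset.mem_image, forall_exists_index, and_imp]
    rintro _ p hp rfl
    rw [hgΨ _ fun j hj => Finset.mem_biUnion.mpr ⟨p, hp, hj⟩]
    exact p.2.2)
  refine ⟨l, h.comp hi, by
    rw [← AlgHom.comp_assoc, hh, hhi], ?_⟩
  have key : LinearMap.lTensor B (h.toLinearMap.comp Ψ)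
      (LinearMap.lTensor B (DirectSum.lof R ι G i) z) = 0 := by
    rw [← hw, ht, map_sum, map_sum]
    refine Finset.sum_eq_zero fun p hp => ?_
    simp [hkill _ (Finset.mem_image.mpr ⟨p, hp, rfl⟩)]
  rw [← LinearMap.comp_apply, ← LinearMap.lTensor_comp, LinearMap.comp_assoc, hΨi] at key
  exact key

/-- Tensor products commute with such colimits. -/
theorem IsColim.tensor (H : IsColim g) [Nonempty ι] (B : Type u) [CommRing B] [Algebra R B] :
    IsColim.{u, u} (R := B) (G := fun i => B ⊗[R] G i)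
      fun i => Algebra.TensorProduct.map (AlgHom.id B B) (g i) where
  dir i j := by
    obtain ⟨k, ⟨h, hh⟩, h', hh'⟩ := H.dir i j
    exact ⟨k, ⟨Algebra.TensorProduct.map (AlgHom.id B B) h, by
      rw [← Algebra.TensorProduct.map_id_comp, hh]⟩,
      Algebra.TensorProduct.map (AlgHom.id B B) h', by rw [← Algebra.TensorProduct.map_id_comp, hh']⟩
  surj z := by
    induction z using TensorProduct.induction_on with
    | zero => exact ⟨Classical.arbitrary ι, 0, map_zero _⟩
    | tmul b a =>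
      obtain ⟨i, x, hx⟩ := H.surj a
      exact ⟨i, b ⊗ₜ x, by simp [hx]⟩
    | add z w hz hw =>
      obtain ⟨i, x, hx⟩ := hz
      obtain ⟨j, y, hy⟩ := hw
      obtain ⟨k, ⟨h, hh⟩, h', hh'⟩ := H.dir i j
      refine ⟨k, Algebra.TensorProduct.map (AlgHom.id B B) h x +
        Algebra.TensorProduct.map (AlgHom.id B B) h' y, ?_⟩
      rw [map_add, ← hx, ← hy, ← AlgHom.comp_apply, ← AlgHom.comp_apply,
        ← Algebra.TensorProduct.map_id_comp, ← Algebra.TensorProduct.map_id_comp, hh, hh']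
  ker i z hz := by
    obtain ⟨j, h, hh, hj⟩ := H.tensor_ker B z hz
    exact ⟨j, Algebra.TensorProduct.map (AlgHom.id B B) h, by
      rw [← Algebra.TensorProduct.map_id_comp, hh], hj⟩

/-- A map from a finitely presented algebra to the colimit factors through a stage. -/
theorem IsColim.exists_hom (H : IsColim g) [Nonempty ι] {P : Type u} [CommRing P] [Algebra R P]
    [Algebra.FinitePresentation R P] (φ : P →ₐ[R] A) :
    ∃ i, ∃ ψ : P →ₐ[R] G i, (g i).comp ψ = φ := by
  classical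
  obtain ⟨n, π, hπ, hker⟩ := Algebra.FinitePresentation.out (R := R) (A := P)
  obtain ⟨F, hF⟩ := hker
  obtain ⟨i, -, -, x, hx⟩ := H.exists_lift_family (Classical.arbitrary ι)
    (fun a => φ (π (MvPolynomial.X a)))
  have hev : (g i).comp (MvPolynomial.aeval x) = φ.comp π :=
    MvPolynomial.algHom_ext fun a => by simp [hx]
  obtain ⟨j, e, he, hkill⟩ := H.exists_eq
    (fun p : F => MvPolynomial.aeval x (p : MvPolynomial (Fin n) R)) (fun _ => 0) (fun p => by
      rw [map_zero, ← AlgHom.comp_apply, hev, AlgHom.comp_apply]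
      have : (p : MvPolynomial (Fin n) R) ∈ RingHom.ker π.toRingHom := hF ▸ Ideal.subset_span p.2
      rw [show π (p : MvPolynomial (Fin n) R) = 0 from this, map_zero])
  have hle : RingHom.ker π.toRingHom ≤ RingHom.ker (e.comp (MvPolynomial.aeval x)).toRingHom := by
    rw [← hF, Ideal.span_le]
    exact fun p hp => (hkill ⟨p, hp⟩).trans (map_zero e)
  refine ⟨j, AlgHom.liftOfSurjective π hπ _ hle, (AlgHom.cancel_right hπ).mp ?_⟩
  rw [AlgHom.comp_assoc, AlgHom.liftOfSurjective_comp, ← AlgHom.comp_assoc, he, hev]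

end

end Groth.Agent.H20.Descent
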