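import Groth.Agent.H20.Descent
import Mathlib.RingTheory.FinitePresentation
import Mathlib.RingTheory.IntegralClosure.IntegrallyClosed
import Mathlib.RingTheory.Kaehler.TensorProduct
import Mathlib.RingTheory.Unramified.Basic
import Mathlib.RingTheory.IsTensorProduct
import Mathlib.Algebra.Polynomial.Lifts

/-!
Properties of `C` over `B` that hold after base change to a filtered colimit hold at a finite stage.
-/

universe u

open TensorProduct

namespace Groth.Agent.H20.Descent

section
variable {ι : Type u} {B : Type u} [CommRing B] {G : ι → Type u} [∀ i, CommRing (G i)]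
  [∀ i, Algebra B (G i)] {A : Type u} [CommRing A] [Algebra B A] {g : ∀ i, G i →ₐ[B] A}
  (C : Type u) [CommRing C] [Algebra B C]

theorem map_comp_right {X Y Z : Type u} [CommRing X] [CommRing Y] [CommRing Z] [Algebra B X]
    [Algebra B Y] [Algebra B Z] (f₂ : Y →ₐ[B] Z) (f₁ : X →ₐ[B] Y) (w : X ⊗[B] C) :
    Algebra.TensorProduct.map (f₂.comp f₁) (AlgHom.id B C) w =
      Algebra.TensorProduct.map f₂ (AlgHom.id B C) (Algebra.TensorProduct.map f₁ (AlgHom.id B C) w) :=
  DFunLike.congr_fun (Algebra.TensorProduct.ext' (g := Algebra.TensorProduct.map (f₂.comp f₁) (AlgHom.id B C))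
    (h := (Algebra.TensorProduct.map f₂ (AlgHom.id B C)).comp
      (Algebra.TensorProduct.map f₁ (AlgHom.id B C))) fun _ _ => rfl) w

theorem adjoin_tmul_eq_top (D : Type u) [CommRing D] [Algebra B D] {s : Set C}
    (hs : Algebra.adjoin B s = ⊤) :
    Algebra.adjoin D ((fun c => (1 : D) ⊗ₜ[B] c) '' s) = (⊤ : Subalgebra D (D ⊗[B] C)) := by
  rw [eq_top_iff]
  rintro z -
  set T := Algebra.adjoin D ((fun c => (1 : D) ⊗ₜ[B] c) '' s) with hT
  induction z using TensorProduct.induction_on with
  | zero => exact zero_mem T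
  | add a b ha hb => exact add_mem ha hb
  | tmul d c =>
    have hc : c ∈ (T.restrictScalars B).comap
        (Algebra.TensorProduct.includeRight : C →ₐ[B] D ⊗[B] C) := by
      have h : Algebra.adjoin B s ≤ (T.restrictScalars B).comap
          (Algebra.TensorProduct.includeRight : C →ₐ[B] D ⊗[B] C) :=
        Algebra.adjoin_le fun x hx => Algebra.subset_adjoin ⟨x, hx, rfl⟩
      exact h (by rw [hs]; exact Algebra.mem_top)
    have : d ⊗ₜ[B] c = algebraMap D (D ⊗[B] C) d * ((1 : D) ⊗ₜ[B] c) := by
      rw [Algebra.TensorProduct.algebraMap_apply, Algebra.TensorProduct.tmul_mul_tmul, mul_one,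
        one_mul]
      rfl
    rw [this]
    exact mul_mem (T.algebraMap_mem d) hc

theorem IsColim.exists_kill_bc (H : IsColim g) [Nonempty ι] {i : ι} {κ : Type*} [Finite κ]
    (x y : κ → G i ⊗[B] C)
    (h : ∀ a, Algebra.TensorProduct.map (g i) (AlgHom.id B C) (x a) =
      Algebra.TensorProduct.map (g i) (AlgHom.id B C) (y a)) :
    ∃ j, ∃ e : G i →ₐ[B] G j, (g j).comp e = g i ∧ ∀ a,
      Algebra.TensorProduct.map e (AlgHom.id B C) (x a) =
        Algebra.TensorProduct.map e (AlgHom.id B C) (y a) := by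
  classical
  have := Fintype.ofFinite κ
  suffices hs : ∀ (s : Finset (G i ⊗[B] C)),
      (∀ z ∈ s, Algebra.TensorProduct.map (g i) (AlgHom.id B C) z = 0) →
      ∃ j, ∃ e : G i →ₐ[B] G j, (g j).comp e = g i ∧
        ∀ z ∈ s, Algebra.TensorProduct.map e (AlgHom.id B C) z = 0 by
    obtain ⟨j, e, he, h0⟩ := hs (Finset.univ.image fun a => x a - y a) (by
      simp only [Finset.mem_image, Finset.mem_univ, true_and, forall_exists_index,
        forall_apply_eq_imp_iff, map_sub]
      exact fun a => sub_eq_zero.mpr (h a))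
    exact ⟨j, e, he, fun a => sub_eq_zero.mp ((map_sub _ _ _).symm.trans
      (h0 _ (Finset.mem_image.mpr ⟨a, Finset.mem_univ a, rfl⟩)))⟩
  intro s hs
  induction s using Finset.induction_on with
  | empty => exact ⟨i, AlgHom.id B _, AlgHom.comp_id _, by simp⟩
  | insert a s _ ih =>
    obtain ⟨j, e, he, h0⟩ := ih fun z hz => hs z (Finset.mem_insert_of_mem hz)
    have hcomm : ∀ (k : ι) (φ : G j →ₐ[B] G k) (w : G j ⊗[B] C),
        TensorProduct.comm B (G k) C (Algebra.TensorProduct.map φ (AlgHom.id B C) w) =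
          LinearMap.lTensor C φ.toLinearMap (TensorProduct.comm B (G j) C w) := by
      intro k φ w
      induction w using TensorProduct.induction_on with
      | zero => simp
      | add p q hp hq => simp only [map_add, hp, hq]
      | tmul p q => rfl
    obtain ⟨k, e', he', hk⟩ := H.tensor_ker C (i := j)
      (TensorProduct.comm B (G j) C (Algebra.TensorProduct.map e (AlgHom.id B C) a)) (by
        have := hs a (Finset.mem_insert_self a s)
        rw [← he, map_comp_right] at this
        generalize Algebra.TensorProduct.map e (AlgHom.id B C) a = w at this ⊢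
        rw [← map_zero (TensorProduct.comm B A C), ← this]
        clear this
        induction w using TensorProduct.induction_on with
        | zero => simp
        | add p q hp hq => simp only [map_add, hp, hq]
        | tmul p q => rfl)
    refine ⟨k, e'.comp e, by rw [← AlgHom.comp_assoc, he', he], fun z hz => ?_⟩
    rw [map_comp_right]
    rcases Finset.mem_insert.mp hz with rfl | hz
    · apply (TensorProduct.comm B (G k) C).injective
      rw [hcomm, map_zero]
      exact hk
    · rw [h0 z hz, map_zero]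

theorem exists_surjective (H : IsColim g) [Nonempty ι] [Algebra.FiniteType B C]
    (h : Function.Surjective (algebraMap A (A ⊗[B] C))) :
    ∃ i, Function.Surjective (algebraMap (G i) (G i ⊗[B] C)) := by
  obtain ⟨s, hs⟩ := Algebra.FiniteType.out (R := B) (A := C)
  choose a ha using fun c : s => h ((1 : A) ⊗ₜ[B] (c : C))
  obtain ⟨i, -, -, x, hx⟩ := H.exists_lift_family (Classical.arbitrary ι) a
  obtain ⟨j, e, he, hkill⟩ := H.exists_kill_bc C (fun c => x c ⊗ₜ[B] (1 : C))
    (fun c => (1 : G i) ⊗ₜ[B] (c : C)) (fun c => by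
      rw [Algebra.TensorProduct.map_tmul, Algebra.TensorProduct.map_tmul, hx, map_one, map_one]
      exact ha c)
  refine ⟨j, fun z => ?_⟩
  have hz : z ∈ (⊤ : Subalgebra (G j) (G j ⊗[B] C)) := Algebra.mem_top
  rw [← adjoin_tmul_eq_top C (G j) hs] at hz
  refine Algebra.mem_bot.mp ?_
  refine Algebra.adjoin_le ?_ hz
  rintro _ ⟨c, hc, rfl⟩
  refine Algebra.mem_bot.mpr ⟨e (x ⟨c, hc⟩), ?_⟩
  have := hkill ⟨c, hc⟩
  rw [Algebra.TensorProduct.map_tmul, Algebra.TensorProduct.map_tmul, map_one, map_one] at this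
  exact this

theorem exists_finite (H : IsColim g) [Nonempty ι] [Algebra.FiniteType B C]
    (h : Module.Finite A (A ⊗[B] C)) :
    ∃ i, Module.Finite (G i) (G i ⊗[B] C) := by
  classical
  obtain ⟨s, hs⟩ := Algebra.FiniteType.out (R := B) (A := C)
  have hi : ∀ c : s, IsIntegral A ((1 : A) ⊗ₜ[B] (c : C)) := fun c => IsIntegral.of_finite A _
  choose p hp hp0 using hi
  obtain ⟨i, -, -, hi⟩ := H.exists_lift (Classical.arbitrary ι)
    (Finset.univ.biUnion fun c : s => (p c).coeffs)
  have hlift : ∀ c, p c ∈ Polynomial.lifts (g i).toRingHom := fun c =>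
    (Polynomial.lifts_iff_coeff_lifts _).mpr fun n => by
      by_cases hn : (p c).coeff n = 0
      · exact ⟨0, by rw [hn, map_zero]⟩
      · exact hi _ (Finset.mem_biUnion.mpr ⟨c, Finset.mem_univ c, Polynomial.coeff_mem_coeffs hn⟩)
  choose q hq _ hmon using fun c =>
    Polynomial.lifts_and_natDegree_eq_and_monic (hlift c) (hp c)
  obtain ⟨j, e, he, hkill⟩ := H.exists_kill_bc C
    (fun c : s => Polynomial.eval₂ (algebraMap (G i) (G i ⊗[B] C)) ((1 : G i) ⊗ₜ[B] (c : C)) (q c))
    (fun _ => 0) (fun c => by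
      rw [map_zero]
      refine (Polynomial.hom_eval₂ (q c) (algebraMap (G i) (G i ⊗[B] C))
        (Algebra.TensorProduct.map (g i) (AlgHom.id B C)).toRingHom _).trans ?_
      have : (Algebra.TensorProduct.map (g i) (AlgHom.id B C)).toRingHom.comp
          (algebraMap (G i) (G i ⊗[B] C)) = (algebraMap A (A ⊗[B] C)).comp (g i).toRingHom :=
        RingHom.ext fun x => by simp
      rw [this, ← Polynomial.eval₂_map, hq c]
      simpa using hp0 c)
  refine ⟨j, ?_⟩
  have : Algebra.IsIntegral (G j) (G j ⊗[B] C) := by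
    refine ⟨fun z => ?_⟩
    have hz : z ∈ (⊤ : Subalgebra (G j) (G j ⊗[B] C)) := Algebra.mem_top
    rw [← adjoin_tmul_eq_top C (G j) hs] at hz
    refine Algebra.adjoin_le (S := integralClosure (G j) (G j ⊗[B] C)) ?_ hz
    rintro _ ⟨c, hc, rfl⟩
    refine ⟨(q ⟨c, hc⟩).map e.toRingHom, (hmon _).map _, ?_⟩
    rw [Polynomial.eval₂_map]
    have hk := hkill ⟨c, hc⟩
    rw [map_zero] at hk
    refine Eq.trans ?_ hk
    refine Eq.trans ?_ (Polynomial.hom_eval₂ (q ⟨c, hc⟩) (algebraMap (G i) (G i ⊗[B] C))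
      (Algebra.TensorProduct.map e (AlgHom.id B C)).toRingHom _).symm
    simp only [AlgHom.toRingHom_eq_coe, RingHom.coe_coe, Algebra.TensorProduct.map_tmul, map_one,
      AlgHom.coe_id, id_eq]
    congr 1
  exact Algebra.IsIntegral.finite

attribute [local instance] Algebra.TensorProduct.rightAlgebra in
theorem exists_unramified (H : IsColim g) [Nonempty ι] [Algebra.FiniteType B C]
    (h : Algebra.FormallyUnramified A (A ⊗[B] C)) :
    ∃ i, Algebra.Unramified (G i) (G i ⊗[B] C) := by
  classical
  obtain ⟨s, hs⟩ := Algebra.FiniteType.out (R := B) (A := C)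
  obtain ⟨i⟩ := ‹Nonempty ι›
  let ω : C → G i ⊗[B] Ω[C⁄B] := fun c => (1 : G i) ⊗ₜ[B] KaehlerDifferential.D B C c
  have hω : ∀ c : C, (1 : A) ⊗ₜ[B] KaehlerDifferential.D B C c = 0 := fun c => by
    haveI : Subsingleton Ω[A ⊗[B] C⁄A] := inferInstance
    exact (KaehlerDifferential.tensorKaehlerEquivBase B A C (A ⊗[B] C)).injective
      (Subsingleton.elim _ _)
  have step : ∀ t : Finset C, ∃ j, ∃ e : G i →ₐ[B] G j, (g j).comp e = g i ∧
      ∀ c ∈ t, (1 : G j) ⊗ₜ[B] KaehlerDifferential.D B C c = 0 := by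
    intro t
    induction t using Finset.induction_on with
    | empty => exact ⟨i, AlgHom.id B _, AlgHom.comp_id _, by simp⟩
    | insert a t _ ih =>
      obtain ⟨j, e, he, h0⟩ := ih
      obtain ⟨k, e', he', hk⟩ := H.tensor_ker Ω[C⁄B] (i := j)
        (KaehlerDifferential.D B C a ⊗ₜ[B] (1 : G j)) (by
          rw [LinearMap.lTensor_tmul]
          apply (TensorProduct.comm B Ω[C⁄B] A).injective
          simpa using hω a)
      refine ⟨k, e'.comp e, by rw [← AlgHom.comp_assoc, he', he], fun c hc => ?_⟩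
      rcases Finset.mem_insert.mp hc with rfl | hc
      · apply (TensorProduct.comm B (G k) Ω[C⁄B]).injective
        simpa using hk
      · have := congrArg (LinearMap.rTensor Ω[C⁄B] e'.toLinearMap) (h0 c hc)
        simpa using this
  obtain ⟨j, -, -, hj⟩ := step s
  refine ⟨j, ?_, inferInstance⟩
  rw [Algebra.formallyUnramified_iff]
  have hD : KaehlerDifferential.D (G j) (G j ⊗[B] C) = 0 := by
    apply Derivation.ext_of_adjoin_eq_top _ (adjoin_tmul_eq_top C (G j) hs)
    rintro _ ⟨c, hc, rfl⟩
    have := congrArg (KaehlerDifferential.tensorKaehlerEquivBase B (G j) C (G j ⊗[B] C)) (hj c hc)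
    rw [KaehlerDifferential.tensorKaehlerEquivBase_tmul, map_zero, one_smul,
      KaehlerDifferential.map_D] at this
    simpa [Algebra.TensorProduct.right_algebraMap_apply] using this
  refine subsingleton_of_forall_eq 0 fun w => ?_
  have hw : w ∈ Submodule.span (G j ⊗[B] C) (Set.range (KaehlerDifferential.D (G j) (G j ⊗[B] C))) := by
    rw [KaehlerDifferential.span_range_derivation]; exact Submodule.mem_top
  refine (Submodule.mem_bot (G j ⊗[B] C)).mp (Submodule.span_le.mpr ?_ hw)
  rintro _ ⟨x, rfl⟩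
  rw [hD]
  simp

theorem exists_bijective (H : IsColim g) [Nonempty ι] [Algebra.FinitePresentation B C]
    (h : Function.Bijective (algebraMap A (A ⊗[B] C))) :
    ∃ i, Function.Bijective (algebraMap (G i) (G i ⊗[B] C)) := by
  classical
  obtain ⟨n, π, hπ, hker⟩ := Algebra.FinitePresentation.out (R := B) (A := C)
  obtain ⟨F, hF⟩ := hker
  let ε := (AlgEquiv.ofBijective (Algebra.ofId A (A ⊗[B] C)) h).symm
  let σA : C →ₐ[B] A :=
    (ε.toAlgHom.restrictScalars B).comp Algebra.TensorProduct.includeRight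
  have hσ : ∀ c, σA c ⊗ₜ[B] (1 : C) = (1 : A) ⊗ₜ[B] c := fun c =>
    (AlgEquiv.ofBijective (Algebra.ofId A (A ⊗[B] C)) h).apply_symm_apply _
  obtain ⟨i, -, -, x, hx⟩ := H.exists_lift_family (Classical.arbitrary ι)
    (fun a => σA (π (MvPolynomial.X a)))
  have hev : (g i).comp (MvPolynomial.aeval x) = σA.comp π := by
    refine MvPolynomial.algHom_ext fun a => ?_
    simp [hx]
  obtain ⟨j, e, he, hkill⟩ := H.exists_eq (fun P : F => MvPolynomial.aeval x (P : MvPolynomial (Fin n) B))
    (fun _ => 0) (fun P => by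
      rw [map_zero, ← AlgHom.comp_apply, hev, AlgHom.comp_apply]
      have : (P : MvPolynomial (Fin n) B) ∈ RingHom.ker π := hF ▸ Ideal.subset_span P.2
      rw [RingHom.mem_ker] at this
      rw [this, map_zero])
  obtain ⟨k, e', he', hkill'⟩ := H.exists_kill_bc C (fun a => e (x a) ⊗ₜ[B] (1 : C))
    (fun a => (1 : G j) ⊗ₜ[B] π (MvPolynomial.X a)) (fun a => by
      rw [Algebra.TensorProduct.map_tmul, Algebra.TensorProduct.map_tmul, map_one, map_one,
        IsColim.comp_eq he, hx]
      exact hσ _)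
  let φ : MvPolynomial (Fin n) B →ₐ[B] G k := MvPolynomial.aeval fun a => e' (e (x a))
  have hφ : RingHom.ker π.toRingHom ≤ RingHom.ker φ.toRingHom := by
    rw [← hF, Ideal.span_le]
    intro P hP
    have h1 : φ = e'.comp (e.comp (MvPolynomial.aeval x)) :=
      MvPolynomial.algHom_ext fun a => by simp [φ]
    simp only [SetLike.mem_coe, RingHom.mem_ker, h1, AlgHom.comp_apply]
    change e' (e (MvPolynomial.aeval x P)) = 0
    rw [hkill ⟨P, hP⟩]
    simp
  let σ : C →ₐ[B] G k := AlgHom.liftOfSurjective π hπ φ hφ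
  have hσX : ∀ a, σ (π (MvPolynomial.X a)) = e' (e (x a)) := fun a => by
    rw [← AlgHom.comp_apply, AlgHom.liftOfSurjective_comp]
    exact MvPolynomial.aeval_X _ a
  let r : G k ⊗[B] C →ₐ[G k] G k :=
    Algebra.TensorProduct.lift (Algebra.ofId (G k) (G k)) σ fun _ _ => .all _ _
  refine ⟨k, Function.LeftInverse.injective (g := r) fun z => r.commutes z, fun z => ⟨r z, ?_⟩⟩
  have : (Algebra.ofId (G k) (G k ⊗[B] C)).comp r = AlgHom.id (G k) _ := by
    refine Algebra.TensorProduct.ext (Subsingleton.elim _ _) ?_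
    apply AlgHom.cancel_right hπ |>.mp
    refine MvPolynomial.algHom_ext fun a => ?_
    have := hkill' a
    rw [Algebra.TensorProduct.map_tmul, Algebra.TensorProduct.map_tmul, map_one, map_one] at this
    simp [r, hσX, this, Algebra.ofId_apply]
  exact DFunLike.congr_fun this z

end

end Groth.Agent.H20.Descent
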