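import Groth.Agent.H20.Descent
import Mathlib.Algebra.Category.Ring.FilteredColimits
import Mathlib.CategoryTheory.Limits.ConcreteCategory.Basic

/-!
Filtered colimits of commutative rings are elementwise colimits.
-/

universe u

open CategoryTheory CategoryTheory.Limits

namespace Groth.Agent.H20.Descent

theorem cocone_w {I : Type u} [SmallCategory I] {D : I ⥤ CommRingCat.{u}} (c : Cocone D) {i j : I}
    (φ : i ⟶ j) (x : D.obj i) : (c.ι.app j).hom ((D.map φ).hom x) = (c.ι.app i).hom x :=
  congrArg (fun m => CommRingCat.Hom.hom m x) (c.w φ)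

/-- The ring map from a stage to the point of a cocone. -/
abbrev stageHom {I : Type u} [SmallCategory I] {D : I ⥤ CommRingCat.{u}} (c : Cocone D) (i : I) :
    (D.obj i : Type u) →+* (c.pt : Type u) :=
  (c.ι.app i).hom

theorem isColim_cocone {I : Type u} [SmallCategory I] [IsFiltered I] (D : I ⥤ CommRingCat.{u})
    (c : Cocone D) (hc : IsColimit c) :
    IsColim.{u, 0} (R := ℤ) (G := fun i : I => (D.obj i : Type u)) (A := (c.pt : Type u))
      (fun i : I => (stageHom c i).toIntAlgHom : ∀ i : I, (D.obj i : Type u) →ₐ[ℤ] (c.pt : Type u)) := by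
  refine ⟨fun i j => ⟨IsFiltered.max i j,
      ⟨(D.map (IsFiltered.leftToMax i j)).hom.toIntAlgHom, AlgHom.ext fun x => cocone_w c _ x⟩,
      (D.map (IsFiltered.rightToMax i j)).hom.toIntAlgHom, AlgHom.ext fun x => cocone_w c _ x⟩,
    fun a => Limits.Concrete.isColimit_exists_rep D hc a, fun i x hx => ?_⟩
  obtain ⟨k, f, f', hff⟩ := (Limits.Concrete.isColimit_rep_eq_iff_exists D hc x (0 : D.obj i)).mp
    (by change (c.ι.app i).hom x = (c.ι.app i).hom 0; rw [map_zero]; exact hx)
  refine ⟨k, (D.map f).hom.toIntAlgHom, AlgHom.ext fun x => cocone_w c _ x, ?_⟩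
  change (D.map f).hom x = 0
  exact hff.trans (map_zero (D.map f').hom)

/-- If all transition maps are local, so are the maps to the colimit. -/
theorem isLocalHom_cocone {I : Type u} [SmallCategory I] [IsFiltered I] (D : I ⥤ CommRingCat.{u})
    (hloc : ∀ (i j : I) (a : i ⟶ j), IsLocalHom (D.map a).hom) (c : Cocone D) (hc : IsColimit c)
    (i : I) : IsLocalHom (c.ι.app i).hom := by
  refine ⟨fun x hx => ?_⟩
  obtain ⟨z, hz⟩ := hx.exists_right_inv
  obtain ⟨j, y, hy⟩ := Limits.Concrete.isColimit_exists_rep D hc z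
  have hy' : (c.ι.app j).hom y = z := hy
  let k := IsFiltered.max i j
  let a : i ⟶ k := IsFiltered.leftToMax i j
  let b : j ⟶ k := IsFiltered.rightToMax i j
  obtain ⟨m, f, f', hff⟩ := (Limits.Concrete.isColimit_rep_eq_iff_exists D hc
    ((D.map a).hom x * (D.map b).hom y) (1 : D.obj k)).mp
    (by
      change (c.ι.app k).hom ((D.map a).hom x * (D.map b).hom y) = (c.ι.app k).hom 1
      rw [map_mul, map_one, cocone_w, cocone_w, hy', hz])
  have h1 : (D.map f).hom ((D.map a).hom x) * (D.map f).hom ((D.map b).hom y) = 1 := by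
    rw [← map_mul]
    exact hff.trans (map_one (D.map f').hom)
  haveI := hloc i k a
  haveI := hloc k m f
  exact (isUnit_map_iff (D.map a).hom x).mp ((isUnit_map_iff (D.map f).hom _).mp (IsUnit.of_mul_eq_one _ h1))

end Groth.Agent.H20.Descent
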