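import Groth.Agent.H20.DescentSmooth
import Mathlib.RingTheory.TensorProduct.MonoidAlgebra

/-!
Models of smooth and etale algebras over a stage of a filtered colimit of rings.
-/

universe u

open TensorProduct

namespace Groth.Agent.H20.Descent

section
variable {ι : Type u} [Nonempty ι] {G : ι → Type u} [∀ i, CommRing (G i)] {A : Type u} [CommRing A]
  {g : ∀ i, G i →+* A}

theorem finitePresentation_of_fg {A : Type u} [CommRing A] {T : Subalgebra ℤ A} (hT : T.FG) :
    Algebra.FinitePresentation ℤ T := by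
  haveI : Algebra.FiniteType ℤ T := ⟨T.fg_top.mpr hT⟩
  exact Algebra.FinitePresentation.of_finiteType.mp inferInstance

theorem exists_smooth_model (H : IsColim fun i => (g i).toIntAlgHom) (B : Type u) [CommRing B]
    [Algebra A B] [Algebra.Smooth A B] :
    ∃ (i : ι) (Bi : Type u) (_ : CommRing Bi) (_ : Algebra (G i) Bi), Algebra.Smooth (G i) Bi ∧
      letI : Algebra (G i) A := (g i).toAlgebra
      Nonempty (B ≃ₐ[A] A ⊗[G i] Bi) := by
  obtain ⟨A₀, B₀, _, _, hfg, hsm, ⟨e⟩⟩ := Algebra.Smooth.exists_subalgebra_fg ℤ A B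
  haveI := finitePresentation_of_fg hfg
  obtain ⟨i, ψ, hψ⟩ := H.exists_hom A₀.val
  letI : Algebra A₀ (G i) := ψ.toRingHom.toAlgebra
  letI : Algebra (G i) A := (g i).toAlgebra
  haveI : IsScalarTower A₀ (G i) A := .of_algebraMap_eq fun x => (DFunLike.congr_fun hψ x).symm
  exact ⟨i, G i ⊗[A₀] B₀, inferInstance, inferInstance, inferInstance,
    ⟨e.trans (Algebra.TensorProduct.cancelBaseChange A₀ (G i) A A B₀).symm⟩⟩

theorem exists_etale_model (H : IsColim fun i => (g i).toIntAlgHom) (B : Type u) [CommRing B]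
    [Algebra A B] [Algebra.Etale A B] :
    ∃ (i : ι) (Bi : Type u) (_ : CommRing Bi) (_ : Algebra (G i) Bi), Algebra.Etale (G i) Bi ∧
      letI : Algebra (G i) A := (g i).toAlgebra
      Nonempty (B ≃ₐ[A] A ⊗[G i] Bi) := by
  obtain ⟨A₀, B₀, _, _, hfg, hsm, ⟨e⟩⟩ := Algebra.Etale.exists_subalgebra_fg (R := ℤ) (A := A) (B := B)
  haveI := finitePresentation_of_fg hfg
  obtain ⟨i, ψ, hψ⟩ := H.exists_hom A₀.val
  letI : Algebra A₀ (G i) := ψ.toRingHom.toAlgebra
  letI : Algebra (G i) A := (g i).toAlgebra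
  haveI : IsScalarTower A₀ (G i) A := .of_algebraMap_eq fun x => (DFunLike.congr_fun hψ x).symm
  exact ⟨i, G i ⊗[A₀] B₀, inferInstance, inferInstance, inferInstance,
    ⟨e.trans (Algebra.TensorProduct.cancelBaseChange A₀ (G i) A A B₀).symm⟩⟩

end

end Groth.Agent.H20.Descent
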