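import Groth.Agent.H20.DescentBC
import Mathlib.RingTheory.Smooth.Basic
import Mathlib.RingTheory.TensorProduct.MvPolynomial
import Mathlib.RingTheory.Etale.Basic
import Mathlib.RingTheory.Smooth.NoetherianDescent

/-!
Smoothness after base change to a filtered colimit holds at a finite stage.
-/

universe u

open TensorProduct

namespace Groth.Agent.H20.Descent

section Presentation
variable {B C : Type u} [CommRing B] [CommRing C] [Algebra B C] {n : ℕ}

/-- The base change of a presentation. -/
noncomputable def presMap (π : MvPolynomial (Fin n) B →ₐ[B] C) (D : Type u) [CommRing D]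
    [Algebra B D] : MvPolynomial (Fin n) D →ₐ[D] D ⊗[B] C :=
  MvPolynomial.aeval fun a => (1 : D) ⊗ₜ[B] π (MvPolynomial.X a)

variable (π : MvPolynomial (Fin n) B →ₐ[B] C)

theorem presMap_eq (D : Type u) [CommRing D] [Algebra B D] :
    presMap π D = (Algebra.TensorProduct.map (AlgHom.id D D) π).comp
      (MvPolynomial.algebraTensorAlgEquiv B D).symm.toAlgHom :=
  MvPolynomial.algHom_ext fun a => by simp [presMap]

theorem presMap_surjective (hπ : Function.Surjective π) (D : Type u) [CommRing D] [Algebra B D] :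
    Function.Surjective (presMap π D) := by
  rw [presMap_eq]
  exact (LinearMap.lTensor_surjective D (g := π.toLinearMap) hπ).comp
    (MvPolynomial.algebraTensorAlgEquiv B D).symm.surjective

theorem presMap_ker (hπ : Function.Surjective π) (F : Set (MvPolynomial (Fin n) B))
    (hF : Ideal.span F = RingHom.ker π.toRingHom) (D : Type u) [CommRing D] [Algebra B D] :
    RingHom.ker (presMap π D).toRingHom =
      Ideal.span (MvPolynomial.map (algebraMap B D) '' F) := by
  refine le_antisymm ?_ (Ideal.span_le.mpr ?_)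
  · intro x hx
    let e := MvPolynomial.algebraTensorAlgEquiv (σ := Fin n) B D
    rw [presMap_eq, RingHom.mem_ker] at hx
    change Algebra.TensorProduct.map (AlgHom.id D D) π (e.symm x) = 0 at hx
    have hx' : e.symm x ∈ RingHom.ker (Algebra.TensorProduct.map (AlgHom.id B D) π) :=
      RingHom.mem_ker.mpr hx
    rw [Algebra.TensorProduct.lTensor_ker π hπ] at hx'
    have hk : RingHom.ker π = Ideal.span F := hF.symm
    rw [hk, Ideal.map_span] at hx'
    have := Ideal.mem_map_of_mem e.toRingEquiv.toRingHom hx'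
    rw [Ideal.map_span, ← Set.image_comp] at this
    have h2 : (e.toRingEquiv.toRingHom) (e.symm x) = x := e.apply_symm_apply x
    rw [h2] at this
    refine Ideal.span_mono ?_ this
    rintro _ ⟨p, hp, rfl⟩
    exact ⟨p, hp, by simp [e]⟩
  · rintro _ ⟨p, hp, rfl⟩
    rw [SetLike.mem_coe, RingHom.mem_ker]
    have h0 : π p = 0 := by
      have : p ∈ RingHom.ker π.toRingHom := hF ▸ Ideal.subset_span hp
      exact this
    have : MvPolynomial.map (algebraMap B D) p =
        MvPolynomial.algebraTensorAlgEquiv B D (1 ⊗ₜ p) := by simp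
    rw [presMap_eq, this]
    change Algebra.TensorProduct.map (AlgHom.id D D) π
      ((MvPolynomial.algebraTensorAlgEquiv B D).symm
        (MvPolynomial.algebraTensorAlgEquiv B D (1 ⊗ₜ p))) = 0
    rw [AlgEquiv.symm_apply_apply, Algebra.TensorProduct.map_tmul, h0, TensorProduct.tmul_zero]

theorem presMap_natural {D D' : Type u} [CommRing D] [Algebra B D] [CommRing D'] [Algebra B D']
    (e : D →ₐ[B] D') (p : MvPolynomial (Fin n) D) :
    Algebra.TensorProduct.map e (AlgHom.id B C) (presMap π D p) =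
      presMap π D' (MvPolynomial.mapAlgHom e p) := by
  induction p using MvPolynomial.induction_on with
  | C a => simp [presMap]
  | add p q hp hq => simp only [map_add, hp, hq]
  | mul_X p a hp =>
    simp only [map_mul, hp]
    simp [presMap]

end Presentation

section
variable {ι : Type u} {B : Type u} [CommRing B] {G : ι → Type u} [∀ i, CommRing (G i)]
  [∀ i, Algebra B (G i)] {A : Type u} [CommRing A] [Algebra B A] {g : ∀ i, G i →ₐ[B] A}
  (C : Type u) [CommRing C] [Algebra B C] {σ : Type*}

theorem IsColim.exists_lift_poly (H : IsColim g) (i₀ : ι) {κ : Type*} [Finite κ]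
    (p : κ → MvPolynomial σ A) :
    ∃ j, ∃ h : G i₀ →ₐ[B] G j, (g j).comp h = g i₀ ∧
      ∃ q : κ → MvPolynomial σ (G j), ∀ a, MvPolynomial.mapAlgHom (g j) (q a) = p a := by
  classical
  have := Fintype.ofFinite κ
  obtain ⟨j, h, hh, hj⟩ := H.exists_lift i₀ (Finset.univ.biUnion fun a => (p a).coeffs)
  have : ∀ a, ∃ q, MvPolynomial.mapAlgHom (g j) q = p a := fun a => by
    obtain ⟨q, hq⟩ := (MvPolynomial.mem_range_map_iff_coeffs_subset (f := (g j).toRingHom)
      (x := p a)).mpr fun c hc => hj c (Finset.mem_biUnion.mpr ⟨a, Finset.mem_univ a, hc⟩)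
    exact ⟨q, hq⟩
  choose q hq using this
  exact ⟨j, h, hh, q, hq⟩

theorem IsColim.exists_eq_poly (H : IsColim g) {i : ι} {κ : Type*} [Finite κ]
    (p q : κ → MvPolynomial σ (G i))
    (h : ∀ a, MvPolynomial.mapAlgHom (g i) (p a) = MvPolynomial.mapAlgHom (g i) (q a)) :
    ∃ j, ∃ e : G i →ₐ[B] G j, (g j).comp e = g i ∧
      ∀ a, MvPolynomial.mapAlgHom e (p a) = MvPolynomial.mapAlgHom e (q a) := by
  classical
  have := Fintype.ofFinite κ
  obtain ⟨j, e, he, h0⟩ := H.exists_kill
    (Finset.univ.biUnion fun a => (p a - q a).coeffs) (by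
      intro c hc
      obtain ⟨a, -, hca⟩ := Finset.mem_biUnion.mp hc
      obtain ⟨d, -, rfl⟩ := MvPolynomial.mem_coeffs_iff.mp hca
      have := congrArg (MvPolynomial.coeff d) (sub_eq_zero.mpr (h a))
      rw [← map_sub] at this
      simpa [MvPolynomial.coeff_map] using this)
  refine ⟨j, e, he, fun a => sub_eq_zero.mp ((map_sub (MvPolynomial.mapAlgHom e) _ _).symm.trans ?_)⟩
  refine MvPolynomial.ext _ _ fun d => ?_
  by_cases hd : d ∈ (p a - q a).support
  · have := h0 _ (Finset.mem_biUnion.mpr ⟨a, Finset.mem_univ a, MvPolynomial.mem_coeffs_iff.mpr ⟨d, hd, rfl⟩⟩)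
    simpa [MvPolynomial.coeff_map] using this
  · change MvPolynomial.coeff d (MvPolynomial.map e.toRingHom (p a - q a)) = _
    rw [MvPolynomial.coeff_map, MvPolynomial.notMem_support_iff.mp hd, map_zero,
      MvPolynomial.coeff_zero]

theorem exists_smooth (H : IsColim g) [Nonempty ι] [Algebra.FinitePresentation B C]
    (h : Algebra.FormallySmooth A (A ⊗[B] C)) :
    ∃ i, Algebra.Smooth (G i) (G i ⊗[B] C) := by
  classical
  obtain ⟨n, π, hπ, hker⟩ := Algebra.FinitePresentation.out (R := B) (A := C)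
  obtain ⟨F, hF⟩ := hker
  let Ff : F × F → MvPolynomial (Fin n) B := fun kl => kl.1 * kl.2
  have hsq : ∀ (D : Type u) [CommRing D] [Algebra B D],
      RingHom.ker (presMap π D).toRingHom ^ 2 =
        Ideal.span (Set.range fun kl => MvPolynomial.map (algebraMap B D) (Ff kl)) := by
    intro D _ _
    rw [presMap_ker π hπ _ hF D, pow_two, Ideal.span_mul_span']
    congr 1
    ext x
    simp only [Ff, Set.mem_mul, Set.mem_image, Set.mem_range, Prod.exists, map_mul, SetLike.mem_coe,
      Subtype.exists]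
    constructor
    · rintro ⟨_, ⟨a, ha, rfl⟩, _, ⟨b, hb, rfl⟩, rfl⟩
      exact ⟨a, ha, b, hb, rfl⟩
    · rintro ⟨a, ha, b, hb, rfl⟩
      exact ⟨_, ⟨a, ha, rfl⟩, _, ⟨b, hb, rfl⟩, rfl⟩
  obtain ⟨s, hs⟩ := (Algebra.FormallySmooth.iff_split_surjection (presMap π A)
    (presMap_surjective π hπ A)).mp h
  choose hA hhA using fun a => Ideal.Quotient.mk_surjective (s ((1 : A) ⊗ₜ[B] π (MvPolynomial.X a)))
  have hh1 : ∀ a, presMap π A (hA a) = 1 ⊗ₜ π (MvPolynomial.X a) := fun a => by
    rw [← AlgHom.kerSquareLift_mk]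
    exact (congrArg (presMap π A).kerSquareLift (hhA a)).trans (DFunLike.congr_fun hs _)
  have hdiag : ((Ideal.Quotient.mkₐ A _).restrictScalars B).comp (MvPolynomial.aeval hA) =
      ((s.restrictScalars B).comp Algebra.TensorProduct.includeRight).comp π :=
    MvPolynomial.algHom_ext fun a => by
      simp only [AlgHom.comp_apply, MvPolynomial.aeval_X]
      exact hhA a
  have hh2 : ∀ P : F, ∃ c : F × F → MvPolynomial (Fin n) A, ∑ kl,
      c kl * MvPolynomial.map (algebraMap B A) (Ff kl) =
        MvPolynomial.aeval hA (P : MvPolynomial (Fin n) B) := by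
    intro P
    have hP : π P = 0 := by
      have : (P : MvPolynomial (Fin n) B) ∈ RingHom.ker π.toRingHom := hF ▸ Ideal.subset_span P.2
      exact this
    have h0 := DFunLike.congr_fun hdiag (P : MvPolynomial (Fin n) B)
    rw [AlgHom.comp_apply, AlgHom.comp_apply _ π, hP, map_zero] at h0
    have h1 : MvPolynomial.aeval hA (P : MvPolynomial (Fin n) B) ∈
        RingHom.ker (presMap π A).toRingHom ^ 2 := Ideal.Quotient.eq_zero_iff_mem.mp h0
    rw [hsq] at h1
    exact Ideal.mem_span_range_iff_exists_fun.mp h1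
  choose c hc using hh2
  obtain ⟨i, -, -, q, hq⟩ := H.exists_lift_poly (Classical.arbitrary ι)
    (Sum.elim hA fun x : F × (F × F) => c x.1 x.2)
  obtain ⟨j, e, he, hej⟩ := H.exists_eq_poly
    (fun P : F => ∑ kl, q (Sum.inr (P, kl)) * MvPolynomial.map (algebraMap B (G i)) (Ff kl))
    (fun P : F => MvPolynomial.aeval (fun a => q (Sum.inl a)) (P : MvPolynomial (Fin n) B))
    (fun P => by
      rw [map_sum, ← AlgHom.comp_apply, MvPolynomial.comp_aeval]
      simp only [hq, Sum.elim_inl]
      refine Eq.trans (Finset.sum_congr rfl fun kl _ => ?_) (hc P)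
      rw [map_mul, hq, Sum.elim_inr]
      congr 1
      simp [MvPolynomial.map_map, AlgHom.comp_algebraMap])
  obtain ⟨k, e', he', hek⟩ := H.exists_kill_bc C
    (fun a => presMap π (G j) (MvPolynomial.mapAlgHom e (q (Sum.inl a))))
    (fun a => (1 : G j) ⊗ₜ[B] π (MvPolynomial.X a)) (fun a => by
      rw [presMap_natural]
      have : MvPolynomial.mapAlgHom (g j) (MvPolynomial.mapAlgHom e (q (Sum.inl a))) = hA a := by
        rw [← he] at hq
        have := hq (Sum.inl a)
        simp [MvPolynomial.map_map] at this ⊢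
        exact this
      rw [this, hh1]
      simp)
  refine ⟨k, ?_, inferInstance⟩
  let ρ : MvPolynomial (Fin n) (G i) →ₐ[B] MvPolynomial (Fin n) (G k) :=
    (MvPolynomial.mapAlgHom e').comp (MvPolynomial.mapAlgHom e)
  let hk : Fin n → MvPolynomial (Fin n) (G k) := fun a => ρ (q (Sum.inl a))
  let Φ : MvPolynomial (Fin n) B →ₐ[B]
      MvPolynomial (Fin n) (G k) ⧸ RingHom.ker (presMap π (G k)).toRingHom ^ 2 :=
    ((Ideal.Quotient.mkₐ (G k) _).restrictScalars B).comp (MvPolynomial.aeval hk)
  have hΦ : RingHom.ker π.toRingHom ≤ RingHom.ker Φ.toRingHom := by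
    rw [← hF, Ideal.span_le]
    intro P hP
    simp only [SetLike.mem_coe, RingHom.mem_ker]
    refine Ideal.Quotient.eq_zero_iff_mem.mpr ?_
    have h1 : MvPolynomial.aeval hk P = ρ (MvPolynomial.aeval (fun a => q (Sum.inl a)) P) := by
      rw [← AlgHom.comp_apply, MvPolynomial.comp_aeval]
    change MvPolynomial.aeval hk P ∈ _
    rw [h1, AlgHom.comp_apply, ← hej ⟨P, hP⟩, map_sum, map_sum, hsq]
    refine Ideal.sum_mem _ fun kl _ => ?_
    rw [map_mul, map_mul]
    refine Ideal.mul_mem_left _ _ (Ideal.subset_span ⟨kl, ?_⟩)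
    simp [MvPolynomial.map_map, AlgHom.comp_algebraMap]
  let σ₀ := AlgHom.liftOfSurjective π hπ Φ hΦ
  let S : G k ⊗[B] C →ₐ[G k]
      MvPolynomial (Fin n) (G k) ⧸ RingHom.ker (presMap π (G k)).toRingHom ^ 2 :=
    Algebra.TensorProduct.lift (Algebra.ofId _ _) σ₀ fun _ _ => .all _ _
  refine Algebra.FormallySmooth.of_split (presMap π (G k)) S ?_
  refine (AlgHom.cancel_right (presMap_surjective π hπ (G k))).mp
    (MvPolynomial.algHom_ext fun a => ?_)
  have hσ : σ₀ (π (MvPolynomial.X a)) = Ideal.Quotient.mk _ (hk a) := by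
    rw [← AlgHom.comp_apply, AlgHom.liftOfSurjective_comp]
    simp only [Φ, AlgHom.comp_apply, MvPolynomial.aeval_X]
    rfl
  have hX : presMap π (G k) (MvPolynomial.X a) = 1 ⊗ₜ π (MvPolynomial.X a) :=
    MvPolynomial.aeval_X _ a
  rw [AlgHom.comp_apply, AlgHom.comp_apply, hX, AlgHom.id_comp, hX]
  simp only [S, Algebra.TensorProduct.lift_tmul, map_one, one_mul, hσ]
  rw [AlgHom.kerSquareLift_mk]
  have := hek a
  rw [presMap_natural, Algebra.TensorProduct.map_tmul, map_one] at this
  exact this

theorem exists_etale (H : IsColim g) [Nonempty ι] [Algebra.FinitePresentation B C]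
    (h : Algebra.Etale A (A ⊗[B] C)) :
    ∃ i, Algebra.Etale (G i) (G i ⊗[B] C) := by
  obtain ⟨i, hi⟩ := exists_smooth C H inferInstance
  obtain ⟨j, hj⟩ := exists_unramified C H inferInstance
  obtain ⟨k, ⟨e, -⟩, e', -⟩ := H.dir i j
  have h1 : Algebra.FormallySmooth (G k) (G k ⊗[B] C) := by
    letI := e.toRingHom.toAlgebra
    haveI : IsScalarTower B (G i) (G k) := .of_algebraMap_eq fun b => (e.commutes b).symm
    exact Algebra.FormallySmooth.of_equiv
      (Algebra.TensorProduct.cancelBaseChange B (G i) (G k) (G k) C)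
  have h2 : Algebra.FormallyUnramified (G k) (G k ⊗[B] C) := by
    letI := e'.toRingHom.toAlgebra
    haveI : IsScalarTower B (G j) (G k) := .of_algebraMap_eq fun b => (e'.commutes b).symm
    haveI := hj.formallyUnramified
    exact Algebra.FormallyUnramified.of_equiv
      (Algebra.TensorProduct.cancelBaseChange B (G j) (G k) (G k) C)
  exact ⟨k, ⟨Algebra.FormallyEtale.of_formallyUnramified_and_formallySmooth, inferInstance⟩⟩

end

end Groth.Agent.H20.Descent
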