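import Mathlib.Algebra.Colimit.Ring
import Mathlib.Order.Directed
import Mathlib.Data.Fintype.Order

/-!
# Finite families in directed limits of rings
-/

set_option autoImplicit false

universe u v w

namespace Groth.Agent.H20.DirectLim

variable {ι : Type u} [Preorder ι] [Nonempty ι] [IsDirectedOrder ι] {G : ι → Type v} [∀ i, CommRing (G i)]
  {f : ∀ i j, i ≤ j → G i →+* G j}

theorem exists_stage {κ : Type w} [Finite κ] (z : κ → Ring.DirectLimit G fun i j h => f i j h) (i₀ : ι) :
    ∃ k, i₀ ≤ k ∧ ∃ y : κ → G k, ∀ a, Ring.DirectLimit.of G (fun i j h => f i j h) k (y a) = z a := by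
  choose i x hx using fun a => Ring.DirectLimit.exists_of (z a)
  obtain ⟨k, hk⟩ := Finite.exists_le (fun o : Option κ => o.elim i₀ i)
  refine ⟨k, hk none, fun a => f (i a) k (hk (some a)) (x a), fun a => ?_⟩
  rw [Ring.DirectLimit.of_f]
  exact hx a

variable [DirectedSystem G fun i j h => f i j h]

theorem exists_eq_zero {κ : Type w} [Finite κ] {k : ι} (y : κ → G k)
    (h : ∀ a, Ring.DirectLimit.of G (fun i j h => f i j h) k (y a) = 0) :
    ∃ l, ∃ hkl : k ≤ l, ∀ a, f k l hkl (y a) = 0 := by
  choose j hj hz using fun a => Ring.DirectLimit.of.zero_exact (h a)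
  obtain ⟨l, hl⟩ := Finite.exists_le (fun o : Option κ => o.elim k j)
  have hkl : k ≤ l := hl none
  refine ⟨l, hkl, fun a => ?_⟩
  have hal : j a ≤ l := hl (some a)
  have h2 : f (j a) l hal (f k (j a) (hj a) (y a)) = f k l hkl (y a) :=
    DirectedSystem.map_map (f := fun i j h => f i j h) (hj a) hal (y a)
  rw [← h2, hz, map_zero]

end Groth.Agent.H20.DirectLim
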