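import Mathlib.RingTheory.AlgebraicIndependent.TranscendenceBasis
import Mathlib.RingTheory.Algebraic.Integral
import Mathlib.RingTheory.Ideal.GoingUp
import Mathlib.RingTheory.MvPolynomial.Ideal
import Mathlib.RingTheory.Polynomial.Basic
import Mathlib.RingTheory.Spectrum.Prime.Topology
import Mathlib.RingTheory.FiniteType

/-!
The image of an injective finite type map of domains contains a nonempty open.
-/

universe u v

namespace Groth.Agent.H20.DominantImage

theorem exists_dense {A : Type u} {C : Type v} [CommRing A] [CommRing C] [IsDomain A] [IsDomain C]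
    [Algebra A C] [FaithfulSMul A C] [Algebra.FiniteType A C] {g : C} (hg : g ≠ 0) :
    ∃ a : A, a ≠ 0 ∧ ∀ p : Ideal A, p.IsPrime → a ∉ p →
      ∃ Q : Ideal C, Q.IsPrime ∧ g ∉ Q ∧ Q.comap (algebraMap A C) = p := by
  classical
  obtain ⟨s, hs⟩ := Algebra.FiniteType.out (R := A) (A := C)
  have : Algebra.IsAlgebraic (Algebra.adjoin A (s : Set C)) C := ⟨fun z => by
    have hz : z ∈ Algebra.adjoin A (s : Set C) := hs ▸ Algebra.mem_top
    exact isAlgebraic_algebraMap (⟨z, hz⟩ : Algebra.adjoin A (s : Set C))⟩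
  obtain ⟨t, -, ht⟩ := exists_isTranscendenceBasis_subset (R := A) (s : Set C)
  let P := Algebra.adjoin A (Set.range ((↑) : t → C))
  have halg : Algebra.IsAlgebraic P C := ht.isAlgebraic
  obtain ⟨c, hc, hint⟩ := Algebra.IsAlgebraic.exists_integral_multiples P s
  obtain ⟨b, hb, hgb⟩ := (halg.isAlgebraic g).exists_nonzero_dvd (mem_nonZeroDivisors_of_ne_zero hg)
  let e : MvPolynomial t A ≃ₐ[A] P := ht.1.aevalEquiv
  let f : MvPolynomial t A := e.symm (c * b)
  have hf : f ≠ 0 := fun h => mul_ne_zero hc hb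
    (e.symm.injective (show e.symm (c * b) = e.symm 0 by rw [map_zero]; exact h))
  obtain ⟨d, hd⟩ := MvPolynomial.ne_zero_iff.mp hf
  refine ⟨f.coeff d, hd, fun p hp hap => ?_⟩
  let π : MvPolynomial t A →+* MvPolynomial t (A ⧸ p) := MvPolynomial.map (Ideal.Quotient.mk p)
  let 𝔭 : Ideal P := (RingHom.ker π).comap (e.symm : P →+* MvPolynomial t A)
  have : (RingHom.ker π).IsPrime := RingHom.ker_isPrime π
  have h𝔭 : 𝔭.IsPrime := Ideal.IsPrime.comap _
  have hcb : c * b ∉ 𝔭 := fun h => hap (by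
    have h' : π f = 0 := h
    have := congrArg (MvPolynomial.coeff d) h'
    rw [MvPolynomial.coeff_map, MvPolynomial.coeff_zero, Ideal.Quotient.eq_zero_iff_mem] at this
    exact this)
  have hA : 𝔭.comap (algebraMap A P) = p := by
    ext a
    change π (e.symm (algebraMap A P a)) = 0 ↔ a ∈ p
    rw [AlgEquiv.commutes, MvPolynomial.algebraMap_eq, MvPolynomial.map_C, MvPolynomial.C_eq_zero,
      Ideal.Quotient.eq_zero_iff_mem]
  let C' := integralClosure P C
  obtain ⟨Q', hQ', hQ'c⟩ := Ideal.exists_ideal_over_prime_of_isIntegral_of_isDomain (S := C') 𝔭 (by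
    rw [(RingHom.injective_iff_ker_eq_bot (algebraMap P C')).mp (fun x y h =>
      Subtype.ext (congrArg (fun z : C' => (z : C)) h))]
    exact bot_le)
  have hcQ : ∀ N : ℕ, (algebraMap P C' c) ^ N ∉ Q' := fun N h => hcb (𝔭.mul_mem_right _ (by
    rw [← hQ'c, Ideal.mem_comap]; exact hQ'.mem_of_pow_mem N h))
  have hpow : ∀ z : C, ∃ N : ℕ, IsIntegral P (c ^ N • z) := by
    intro z
    have hz : z ∈ Algebra.adjoin A (s : Set C) := hs ▸ Algebra.mem_top
    induction hz using Algebra.adjoin_induction with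
    | mem z hz => exact ⟨1, by rw [pow_one]; exact hint z hz⟩
    | algebraMap a =>
      refine ⟨0, ?_⟩
      rw [pow_zero, one_smul, IsScalarTower.algebraMap_apply A P C]
      exact isIntegral_algebraMap
    | add x y _ _ hx hy =>
      obtain ⟨n, hn⟩ := hx; obtain ⟨m, hm⟩ := hy
      refine ⟨n + m, ?_⟩
      rw [smul_add]
      refine IsIntegral.add ?_ ?_
      · rw [add_comm, pow_add, mul_smul]; exact hn.smul _
      · rw [pow_add, mul_smul]; exact hm.smul _
    | mul x y _ _ hx hy =>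
      obtain ⟨n, hn⟩ := hx; obtain ⟨m, hm⟩ := hy
      refine ⟨n + m, ?_⟩
      rw [pow_add, mul_smul_mul_comm]
      exact hn.mul hm
  let M : Submonoid C := Q'.primeCompl.map (C'.val : C' →+* C)
  have hdisj : Disjoint ((Q'.map (C'.val : C' →+* C) : Ideal C) : Set C) M := by
    rw [Set.disjoint_left]
    rintro x hx ⟨y, hy, rfl⟩
    have key : ∀ z ∈ Q'.map (C'.val : C' →+* C), ∃ N : ℕ, ∃ w ∈ Q', c ^ N • z = (w : C) := by
      intro z hz
      induction hz using Submodule.span_induction with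
      | mem z hz =>
        obtain ⟨w, hw, rfl⟩ := hz
        exact ⟨0, w, hw, by rw [pow_zero, one_smul]; rfl⟩
      | zero => exact ⟨0, 0, Q'.zero_mem, by simp⟩
      | add x y _ _ hx hy =>
        obtain ⟨n, w, hw, hn⟩ := hx; obtain ⟨m, w', hw', hm⟩ := hy
        refine ⟨n + m, c ^ m • w + c ^ n • w', add_mem (Submodule.smul_of_tower_mem _ _ hw)
          (Submodule.smul_of_tower_mem _ _ hw'), ?_⟩
        push_cast
        rw [← hn, ← hm, smul_add, smul_smul, smul_smul, ← pow_add, ← pow_add, add_comm m n]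
      | smul r x _ hx =>
        obtain ⟨n, w, hw, hn⟩ := hx
        obtain ⟨m, hm⟩ := hpow r
        refine ⟨m + n, ⟨_, hm⟩ * w, Q'.mul_mem_left _ hw, ?_⟩
        rw [smul_eq_mul, pow_add, ← smul_mul_smul_comm, hn]
        rfl
    obtain ⟨N, w, hw, hN⟩ := key _ hx
    refine hy ((hQ'.mem_or_mem (show (algebraMap P C' c) ^ N * y ∈ Q' from ?_)).resolve_left (hcQ N))
    convert hw using 1
    refine Subtype.ext ?_
    rw [← hN, Algebra.smul_def, map_pow]
    rfl
  obtain ⟨Q, hQ, hle, hQd⟩ := Ideal.exists_le_prime_disjoint _ M hdisj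
  have hcomap : ∀ y : C', (y : C) ∈ Q ↔ y ∈ Q' := fun y =>
    ⟨fun h => by_contra fun hy => Set.disjoint_left.mp hQd h ⟨y, hy, rfl⟩,
      fun h => hle (Ideal.mem_map_of_mem _ h)⟩
  refine ⟨Q, hQ, fun hgQ => ?_, ?_⟩
  · obtain ⟨r, hr⟩ := hgb
    have h1 : ((algebraMap P C' b : C') : C) ∈ Q := by
      change algebraMap P C b ∈ Q
      rw [hr]
      exact Ideal.mul_mem_right _ _ hgQ
    exact hcb (𝔭.mul_mem_left _ (by rw [← hQ'c, Ideal.mem_comap]; exact (hcomap _).mp h1))
  · ext a
    rw [← hA, ← hQ'c, Ideal.mem_comap, Ideal.mem_comap, Ideal.mem_comap, ← hcomap]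
    rfl

end Groth.Agent.H20.DominantImage
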