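import Mathlib.RingTheory.EssentialFiniteness
import Mathlib.RingTheory.LocalRing.Basic
import Mathlib.RingTheory.Localization.AtPrime.Basic
import Mathlib.RingTheory.MvPolynomial.Basic
import Mathlib.RingTheory.FinitePresentation

/-!
A local ring essentially of finite type over another is a quotient of the local ring of affine space at
the preimage of its maximal ideal.
-/

set_option autoImplicit false

universe u

namespace Groth.Agent.H20.EssAffine

open MvPolynomial

theorem exists_localization_surjection (A B : Type u) [CommRing A] [IsLocalRing A] [CommRing B] [IsLocalRing B]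
    [Algebra A B] [IsLocalHom (algebraMap A B)] [Algebra.EssFiniteType A B] :
    ∃ (N : ℕ) (q : Ideal (MvPolynomial (Fin N) A)) (_ : q.IsPrime),
      q.comap C = IsLocalRing.maximalIdeal A ∧
      ∃ ψ : Localization.AtPrime q →ₐ[A] B, Function.Surjective ψ := by
  classical
  obtain ⟨σ, hσ⟩ := (Algebra.essFiniteType_iff A B).1 inferInstance
  let f : Fin σ.card → B := fun i => (σ.equivFin.symm i : B)
  have hf : Set.range f = (σ : Set B) := by
    ext b
    simp [f, Set.mem_range, σ.equivFin.symm.exists_congr_left]
  let φ : MvPolynomial (Fin σ.card) A →ₐ[A] B := aeval f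
  let q := (IsLocalRing.maximalIdeal B).comap φ
  haveI : q.IsPrime := Ideal.IsPrime.comap _
  have hunit : ∀ y : q.primeCompl, IsUnit (φ y) := fun y => by
    have : φ y ∉ IsLocalRing.maximalIdeal B := y.2
    simpa [IsLocalRing.mem_maximalIdeal, mem_nonunits_iff] using this
  refine ⟨σ.card, q, inferInstance, ?_, IsLocalization.liftAlgHom hunit, ?_⟩
  · ext a
    simp only [q, Ideal.mem_comap, φ, aeval_C, IsLocalRing.mem_maximalIdeal, mem_nonunits_iff]
    exact not_congr ⟨fun h => isUnit_of_map_unit (algebraMap A B) a h, fun h => h.map _⟩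
  · intro b
    obtain ⟨t, ht, htu, hbt⟩ := hσ b
    rw [← hf, Algebra.adjoin_range_eq_range_aeval, AlgHom.mem_range] at ht hbt
    obtain ⟨t', ht'⟩ := ht
    obtain ⟨b', hb'⟩ := hbt
    have htq : t' ∈ q.primeCompl := fun h => by
      have h' : φ t' ∈ IsLocalRing.maximalIdeal B := h
      rw [show φ t' = t from ht'] at h'
      exact h' htu
    refine ⟨IsLocalization.mk' _ b' ⟨t', htq⟩, ?_⟩
    rw [IsLocalization.liftAlgHom_apply, IsLocalization.lift_mk', Units.mul_inv_eq_iff_eq_mul]
    show φ b' = b * φ t'
    rw [show φ t' = t from ht', show φ b' = b * t from hb']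

/-- Presented version: if the ring is a localisation of a finitely presented algebra, the kernel is
finitely generated. -/
theorem exists_localization_presentation (A B S₀ : Type u) [CommRing A] [IsLocalRing A] [CommRing B] [IsLocalRing B]
    [Algebra A B] [IsLocalHom (algebraMap A B)] [CommRing S₀] [Algebra A S₀] [Algebra S₀ B] [IsScalarTower A S₀ B]
    (M : Submonoid S₀) [IsLocalization M B] [Algebra.FinitePresentation A S₀] :
    ∃ (N : ℕ) (q : Ideal (MvPolynomial (Fin N) A)) (_ : q.IsPrime),
      q.comap C = IsLocalRing.maximalIdeal A ∧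
      ∃ ψ : Localization.AtPrime q →ₐ[A] B, Function.Surjective ψ ∧ (RingHom.ker ψ).FG := by
  classical
  obtain ⟨N, f, hf, hI⟩ := (inferInstance : Algebra.FinitePresentation A S₀).out
  let P := MvPolynomial (Fin N) A
  let φ : P →ₐ[A] B := (IsScalarTower.toAlgHom A S₀ B).comp f
  let q := (IsLocalRing.maximalIdeal B).comap φ
  haveI : q.IsPrime := Ideal.IsPrime.comap _
  have hunit : ∀ y : q.primeCompl, IsUnit (φ y) := fun y => by
    have : φ y ∉ IsLocalRing.maximalIdeal B := y.2
    simpa [IsLocalRing.mem_maximalIdeal, mem_nonunits_iff] using this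
  have hM : ∀ (m : M) (p : P), f p = m → p ∈ q.primeCompl := fun m p hp h => by
    have h' : φ p ∈ IsLocalRing.maximalIdeal B := h
    rw [show φ p = algebraMap S₀ B (f p) from rfl, hp] at h'
    exact h' (IsLocalization.map_units B m)
  have hq : q.comap C = IsLocalRing.maximalIdeal A := by
    ext a
    have : φ (C a) = algebraMap A B a := φ.commutes a
    simp only [q, Ideal.mem_comap, IsLocalRing.mem_maximalIdeal, mem_nonunits_iff, this]
    exact not_congr ⟨fun h => isUnit_of_map_unit (algebraMap A B) a h, fun h => h.map _⟩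
  refine ⟨N, q, inferInstance, hq, IsLocalization.liftAlgHom hunit, fun b => ?_, ?_⟩
  · obtain ⟨⟨x, m⟩, hxm⟩ := IsLocalization.surj M b
    obtain ⟨x', rfl⟩ := hf x
    obtain ⟨m', hm'⟩ := hf (m : S₀)
    refine ⟨IsLocalization.mk' _ x' ⟨m', hM m m' hm'⟩, ?_⟩
    rw [IsLocalization.liftAlgHom_apply, IsLocalization.lift_mk', Units.mul_inv_eq_iff_eq_mul]
    show φ x' = b * φ m'
    rw [show φ m' = algebraMap S₀ B (f m') from rfl, hm']
    exact hxm.symm
  · have hI' : (RingHom.ker f.toRingHom).FG := hI
    suffices he : RingHom.ker (IsLocalization.liftAlgHom hunit : Localization.AtPrime q →ₐ[A] B) =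
        (RingHom.ker f.toRingHom).map (algebraMap P (Localization.AtPrime q)) by
      rw [he]; exact hI'.map _
    refine le_antisymm (fun z hz => ?_) (Ideal.map_le_iff_le_comap.2 fun p hp => ?_)
    · obtain ⟨⟨p, s⟩, rfl⟩ := IsLocalization.mk'_surjective q.primeCompl z
      rw [RingHom.mem_ker, IsLocalization.liftAlgHom_apply, IsLocalization.lift_mk', Units.mul_inv_eq_iff_eq_mul,
        zero_mul] at hz
      have hz' : algebraMap S₀ B (f p) = 0 := hz
      obtain ⟨m, hm⟩ := (IsLocalization.map_eq_zero_iff M B _).1 hz'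
      obtain ⟨m', hm'⟩ := hf (m : S₀)
      have hmem : m' * p ∈ RingHom.ker f.toRingHom := by
        rw [RingHom.mem_ker]
        show f (m' * p) = 0
        rw [map_mul, hm', hm]
      obtain ⟨w, hw⟩ := IsLocalization.map_units (Localization.AtPrime q) (⟨m', hM m m' hm'⟩ : q.primeCompl)
      show IsLocalization.mk' _ p s ∈ _
      rw [IsLocalization.mk'_eq_mul_mk'_one]
      refine Ideal.mul_mem_right _ _ ?_
      have : algebraMap P (Localization.AtPrime q) p = (↑w⁻¹ : Localization.AtPrime q) * algebraMap P _ (m' * p) := by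
        rw [map_mul, ← hw, Units.inv_mul_cancel_left]
      rw [this]
      exact Ideal.mul_mem_left _ _ (Ideal.mem_map_of_mem _ hmem)
    · rw [Ideal.mem_comap, RingHom.mem_ker, IsLocalization.liftAlgHom_apply, IsLocalization.lift_eq]
      show algebraMap S₀ B (f p) = 0
      rw [show f p = 0 from hp, map_zero]

end Groth.Agent.H20.EssAffine
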