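import Groth.Agent.Lib.Regular.Descent
import Mathlib.RingTheory.Etale.Basic
import Mathlib.RingTheory.Flat.Localization
import Mathlib.RingTheory.Flat.FaithfullyFlat.Basic
import Mathlib.RingTheory.Unramified.LocalRing
import Mathlib.RingTheory.Smooth.Flat

/-!
Noetherianity and regularity of local rings along étale ring maps.
-/

universe u

open IsLocalRing TensorProduct

namespace Groth.Agent.H20.EtaleLocal

variable (A B : Type u) [CommRing A] [CommRing B] [Algebra A B] [Algebra.Etale A B]
  (q : Ideal B) [q.IsPrime]

theorem flat_atPrime (p : Ideal A) [p.IsPrime] [q.LiesOver p]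
    [Algebra (Localization.AtPrime p) (Localization.AtPrime q)]
    [Localization.AtPrime.IsLiesOverAlgebra p q] :
    Module.Flat (Localization.AtPrime p) (Localization.AtPrime q) := by
  rw [Module.flat_iff_of_isLocalization (Localization.AtPrime p) p.primeCompl]
  exact Module.Flat.trans A B (Localization.AtPrime q)

theorem isNoetherianRing_iff (p : Ideal A) [p.IsPrime] [q.LiesOver p]
    [Algebra (Localization.AtPrime p) (Localization.AtPrime q)]
    [Localization.AtPrime.IsLiesOverAlgebra p q] :
    IsNoetherianRing (Localization.AtPrime p) ↔ IsNoetherianRing (Localization.AtPrime q) := by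
  constructor
  · intro h
    let M := Algebra.algebraMapSubmonoid B p.primeCompl
    have hMq : M ≤ q.primeCompl := by
      rintro _ ⟨a, ha, rfl⟩ hq
      exact ha ((Ideal.mem_of_liesOver q p a).mpr hq)
    let C := Localization M
    have : Algebra.FiniteType (Localization.AtPrime p) C := by
      have : Algebra.IsPushout A (Localization.AtPrime p) B C :=
        (Algebra.isPushout_of_isLocalization p.primeCompl (Localization.AtPrime p) B C).symm
      exact Algebra.FiniteType.equiv
        (inferInstance : Algebra.FiniteType (Localization.AtPrime p) ((Localization.AtPrime p) ⊗[A] B))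
        (Algebra.IsPushout.equiv A (Localization.AtPrime p) B C)
    have : IsNoetherianRing C := Algebra.FiniteType.isNoetherianRing (Localization.AtPrime p) C
    let φ : C →+* Localization.AtPrime q :=
      IsLocalization.map _ (RingHom.id B) (show M ≤ q.primeCompl.comap (RingHom.id B) from hMq)
    let algC := φ.toAlgebra
    have : IsScalarTower B C (Localization.AtPrime q) := IsScalarTower.of_algebraMap_eq fun x => by
      rw [RingHom.algebraMap_toAlgebra, IsLocalization.map_eq]; rfl
    have := IsLocalization.isLocalization_of_submonoid_le C (Localization.AtPrime q) M q.primeCompl hMq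
    exact IsLocalization.isNoetherianRing (q.primeCompl.map (algebraMap B C)) _ inferInstance
  · intro h
    have := flat_atPrime A B q p
    have : Module.FaithfullyFlat (Localization.AtPrime p) (Localization.AtPrime q) :=
      Module.FaithfullyFlat.of_flat_of_isLocalHom
    have h' : IsNoetherian (Localization.AtPrime q)
        ((Localization.AtPrime q) ⊗[Localization.AtPrime p] (Localization.AtPrime p)) :=
      isNoetherian_of_linearEquiv
        (TensorProduct.AlgebraTensorModule.rid (Localization.AtPrime p) (Localization.AtPrime q)
          (Localization.AtPrime q)).symm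
    exact Submodule.IsNoetherian.of_isNoetherian_tensorProduct_of_faithfullyFlat
      (A := Localization.AtPrime q) h'

theorem isRegularLocalRing_iff (p : Ideal A) [p.IsPrime] [q.LiesOver p]
    [Algebra (Localization.AtPrime p) (Localization.AtPrime q)]
    [Localization.AtPrime.IsLiesOverAlgebra p q] :
    IsRegularLocalRing (Localization.AtPrime p) ↔ IsRegularLocalRing (Localization.AtPrime q) := by
  have := flat_atPrime A B q p
  have : Algebra.EssFiniteType (Localization.AtPrime p) (Localization.AtPrime q) :=
    .of_comp A _ _
  have : Algebra.FormallyUnramified A (Localization.AtPrime q) :=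
    .comp A B (Localization.AtPrime q)
  have : Algebra.FormallyUnramified (Localization.AtPrime p) (Localization.AtPrime q) :=
    .of_restrictScalars A _ _
  constructor
  · intro h
    have : IsNoetherianRing (Localization.AtPrime q) := (isNoetherianRing_iff A B q p).mp inferInstance
    exact (Groth.Agent.Lib.Regular.Descent.isRegularLocalRing_iff _
      Algebra.FormallyUnramified.map_maximalIdeal).mp h
  · intro h
    have : IsNoetherianRing (Localization.AtPrime p) := (isNoetherianRing_iff A B q p).mpr inferInstance
    exact (Groth.Agent.Lib.Regular.Descent.isRegularLocalRing_iff _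
      Algebra.FormallyUnramified.map_maximalIdeal).mpr h

end Groth.Agent.H20.EtaleLocal
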