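import Mathlib.RingTheory.Etale.Field
import Mathlib.RingTheory.Spectrum.Prime.Topology
import Mathlib.RingTheory.Spectrum.Prime.RingHom
import Mathlib.FieldTheory.IsAlgClosed.AlgebraicClosure
import Mathlib.RingTheory.Flat.Basic
import Mathlib.RingTheory.Ideal.MinimalPrime.Noetherian
import Mathlib.LinearAlgebra.Dimension.Constructions

/-!
The largest finite étale subalgebra.
-/

set_option autoImplicit false
set_option linter.style.haveILetI false

universe u

namespace Groth.Agent.H20.EtaleSubalgebra

open scoped TensorProduct

variable (k : Type u) [Field k] (B : Type u) [CommRing B] [Algebra k B]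

theorem etale_range {C : Type u} [CommRing C] [Algebra k C] [Module.Finite k C] [Algebra.Etale k C]
    (φ : C →ₐ[k] B) : Module.Finite k φ.range ∧ Algebra.Etale k φ.range := by
  haveI : Module.Finite k φ.range := Module.Finite.of_surjective φ.rangeRestrict.toLinearMap φ.rangeRestrict_surjective
  haveI : Algebra.FormallyUnramified k φ.range :=
    Algebra.FormallyUnramified.of_surjective φ.rangeRestrict φ.rangeRestrict_surjective
  haveI : Algebra.FormallyEtale k φ.range := .of_formallyUnramified_of_field k _
  exact ⟨inferInstance, ⟨inferInstance, Algebra.FinitePresentation.of_finiteType.mp inferInstance⟩⟩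

theorem etale_sup {E E' : Subalgebra k B} [Module.Finite k E] [Algebra.Etale k E] [Module.Finite k E'] [Algebra.Etale k E'] :
    Module.Finite k ↥(E ⊔ E') ∧ Algebra.Etale k ↥(E ⊔ E') := by
  haveI : Algebra.Etale E (E ⊗[k] E') := inferInstance
  haveI : Algebra.Etale k (E ⊗[k] E') := Algebra.Etale.comp k E (E ⊗[k] E')
  have h := etale_range k B (Algebra.TensorProduct.productMap E.val E'.val)
  rwa [Algebra.TensorProduct.productMap_range, Subalgebra.range_val, Subalgebra.range_val] at h

variable [Algebra.FiniteType k B]

theorem exists_bound : ∃ N : ℕ, ∀ E : Subalgebra k B, Module.Finite k E → Algebra.Etale k E → Module.finrank k E ≤ N := by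
  classical
  let K := AlgebraicClosure k
  let BK := K ⊗[k] B
  haveI : IsNoetherianRing BK := Algebra.FiniteType.isNoetherianRing K BK
  refine ⟨Nat.card (minimalPrimes BK), fun E hE hEt => ?_⟩
  haveI := hE; haveI := hEt
  let EK := K ⊗[k] E
  haveI : Algebra.Etale K EK := inferInstance
  let e := Algebra.FormallyEtale.equivPiOfIsSepClosed K EK
  haveI : Finite (PrimeSpectrum EK) := by
    haveI : IsArtinianRing EK := isArtinian_of_tower K inferInstance
    infer_instance
  cases nonempty_fintype (PrimeSpectrum EK)
  have hdim : Module.finrank k E = Fintype.card (PrimeSpectrum EK) := by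
    rw [← Module.finrank_baseChange (R := K), e.toLinearEquiv.finrank_eq, Module.finrank_fintype_fun_eq_card]
  let ι : EK →ₐ[K] BK := Algebra.TensorProduct.map (AlgHom.id K K) E.val
  have hι : Function.Injective ι := by
    have h := Module.Flat.lTensor_preserves_injective_linearMap (M := K) E.val.toLinearMap Subtype.val_injective
    intro x y hxy
    apply h
    have key : ∀ z, ι z = LinearMap.lTensor K E.val.toLinearMap z := fun z => by
      induction z using TensorProduct.induction_on with
      | zero => simp
      | tmul a b => rfl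
      | add a b ha hb => simp [map_add, ha, hb]
    rw [← key, ← key, hxy]
  let ε : PrimeSpectrum EK → BK := fun p => ι (e.symm (Pi.single p 1))
  have hmul : ∀ p q, p ≠ q → ε p * ε q = 0 := fun p q h => by
    simp only [ε, ← map_mul]
    have h2 : (Pi.single p (1 : K) : PrimeSpectrum EK → K) * Pi.single q (1 : K) = 0 := by
      funext r
      by_cases hr : r = p
      · subst hr; simp [Pi.single_eq_of_ne h]
      · simp [Pi.single_eq_of_ne hr]
    rw [h2, map_zero, map_zero]
  have hne : ∀ p, ε p ≠ 0 := fun p h => by
    have h1 : Pi.single p (1 : K) = 0 := e.symm.injective (hι (by rw [map_zero, map_zero]; exact h))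
    simpa using congrFun h1 p
  have hidem : ∀ p, ε p * ε p = ε p := fun p => by
    simp only [ε, ← map_mul]
    rw [← Pi.single_mul, mul_one]
  have hmin : ∀ p, ∃ P ∈ minimalPrimes BK, ε p ∉ P := fun p => by
    by_contra h
    push Not at h
    have hnil : ε p ∈ (⊥ : Ideal BK).radical := by
      rw [← Ideal.sInf_minimalPrimes]
      exact Ideal.mem_sInf.2 fun {P} hP => h P hP
    obtain ⟨m, hm⟩ := hnil
    rcases Nat.eq_zero_or_pos m with rfl | hmpos
    · rw [pow_zero, Ideal.mem_bot] at hm
      exact hne p (by rw [← one_mul (ε p), hm, zero_mul])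
    · have : IsIdempotentElem (ε p) := hidem p
      obtain ⟨m, rfl⟩ := Nat.exists_eq_add_of_le' hmpos
      rw [Ideal.mem_bot, this.pow_succ_eq] at hm
      exact hne p hm
  choose P hP hPε using hmin
  haveI : Finite (minimalPrimes BK) := (minimalPrimes.finite_of_isNoetherianRing BK).to_subtype
  rw [hdim, ← Nat.card_eq_fintype_card]
  refine Nat.card_le_card_of_injective (fun p => (⟨P p, hP p⟩ : minimalPrimes BK)) fun p q h => ?_
  by_contra hne'
  have h0 : ε p * ε q ∈ P p := by rw [hmul p q hne']; exact zero_mem _
  rcases (Ideal.minimalPrimes_isPrime (hP p)).mem_or_mem h0 with h1 | h1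
  · exact hPε p h1
  · have : P p = P q := congrArg Subtype.val h
    exact hPε q (this ▸ h1)

theorem exists_largest (A : Subalgebra k B) :
    ∃ (E : Subalgebra k B) (hE : E ≤ A), Module.Finite k E ∧ Algebra.Etale k E ∧
      (∀ E' : Subalgebra k B, E' ≤ A → Module.Finite k E' → Algebra.Etale k E' → E' ≤ E) ∧
      Function.Surjective (PrimeSpectrum.comap (Subalgebra.inclusion hE).toRingHom) ∧
      ∀ p q : PrimeSpectrum A, PrimeSpectrum.comap (Subalgebra.inclusion hE).toRingHom p =
          PrimeSpectrum.comap (Subalgebra.inclusion hE).toRingHom q ↔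
        connectedComponent p = connectedComponent q := by
  classical
  obtain ⟨N, hN⟩ := exists_bound k B
  have hbot : Module.Finite k (⊥ : Subalgebra k B) ∧ Algebra.Etale k (⊥ : Subalgebra k B) := by
    have := etale_range k B (Algebra.ofId k B)
    rwa [Algebra.range_ofId] at this
  let S : Set ℕ := {d | ∃ E : Subalgebra k B, E ≤ A ∧ Module.Finite k E ∧ Algebra.Etale k E ∧ Module.finrank k E = d}
  have hSne : S.Nonempty := ⟨_, ⊥, bot_le, hbot.1, hbot.2, rfl⟩
  have hSbdd : BddAbove S := ⟨N, by rintro _ ⟨E, -, h1, h2, rfl⟩; exact hN E h1 h2⟩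
  obtain ⟨E, hEA, hfin, het, hmax⟩ := Nat.sSup_mem hSne hSbdd
  haveI := hfin
  haveI := het
  have hlargest : ∀ E' : Subalgebra k B, E' ≤ A → Module.Finite k E' → Algebra.Etale k E' → E' ≤ E := by
    intro E' h h1 h2
    haveI := h1; haveI := h2
    obtain ⟨hf, he⟩ := etale_sup k B (E := E) (E' := E')
    have hle : Module.finrank k ↥(E ⊔ E') ≤ Module.finrank k E :=
      (le_csSup hSbdd ⟨E ⊔ E', sup_le hEA h, hf, he, rfl⟩).trans_eq hmax.symm
    haveI : Module.Finite k (Subalgebra.toSubmodule (E ⊔ E')) := hf
    have := Submodule.eq_of_le_of_finrank_le (Subalgebra.toSubmodule.monotone (le_sup_left (a := E) (b := E'))) hle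
    exact le_sup_right.trans (Subalgebra.toSubmodule.le_iff_le.1 this.ge)
  refine ⟨E, hEA, hfin, het, hlargest, ?_, fun p q => ?_⟩
  · intro e
    haveI : IsArtinianRing E := isArtinian_of_tower k inferInstance
    have hmin : e.asIdeal ∈ minimalPrimes E := by
      refine ⟨⟨e.2, bot_le⟩, fun J hJ hle => ?_⟩
      haveI := hJ.1
      exact ((IsArtinianRing.isMaximal_of_isPrime J).eq_of_le e.2.ne_top hle).ge
    obtain ⟨P, hP, hPe⟩ := Ideal.exists_comap_eq_of_mem_minimalPrimes_of_injective
      (f := (Subalgebra.inclusion hEA).toRingHom) (Subalgebra.inclusion_injective hEA) e.asIdeal hmin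
    exact ⟨⟨P, hP⟩, PrimeSpectrum.ext hPe⟩
  haveI : IsArtinianRing E := isArtinian_of_tower k inferInstance
  haveI : DiscreteTopology (PrimeSpectrum E) := by
    haveI : Finite (PrimeSpectrum E) := inferInstance
    haveI : T1Space (PrimeSpectrum E) :=
      ⟨fun x => PrimeSpectrum.isClosed_singleton_iff_isMaximal x |>.2 (IsArtinianRing.isMaximal_of_isPrime x.asIdeal)⟩
    infer_instance
  let f := PrimeSpectrum.comap (Subalgebra.inclusion hEA).toRingHom
  have hcont : Continuous f := PrimeSpectrum.continuous_comap _
  constructor
  · intro hpq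
    -- the fibre is preconnected
    have hclopen : IsClopen (f ⁻¹' {f p}) := (isClopen_discrete _).preimage hcont
    have hpre : IsPreconnected (f ⁻¹' {f p}) := by
      rw [isPreconnected_iff_subset_of_disjoint_closed]
      intro u v hu hv hsub hdisj
      by_contra hne
      push Not at hne
      obtain ⟨hnu, hnv⟩ := hne
      let s := f ⁻¹' {f p} ∩ u
      have hs : IsClopen s := by
        refine ⟨hclopen.1.inter hu, ?_⟩
        have : s = f ⁻¹' {f p} ∩ vᶜ := by
          ext x
          refine ⟨fun ⟨h1, h2⟩ => ⟨h1, fun h3 => ?_⟩, fun ⟨h1, h2⟩ => ⟨h1, (hsub h1).resolve_right h2⟩⟩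
          have : x ∈ f ⁻¹' {f p} ∩ (u ∩ v) := ⟨h1, h2, h3⟩
          rw [hdisj] at this
          exact this
        rw [this]
        exact hclopen.2.inter hv.isOpen_compl
      obtain ⟨a, ha, hsa⟩ := PrimeSpectrum.exists_idempotent_basicOpen_eq_of_isClopen hs
      have haE : (a : B) ∈ E := by
        let φ : k × k →ₐ[k] B :=
          { toFun := fun c => c.1 • (a : B) + c.2 • (1 - (a : B))
            map_one' := by simp
            map_zero' := by simp
            map_add' := fun c d => by simp only [Prod.fst_add, Prod.snd_add, add_smul]; abel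
            map_mul' := fun c d => by
              have h1 : (a : B) * a = a := congrArg Subtype.val ha
              simp only [Prod.fst_mul, Prod.snd_mul, Algebra.smul_def, map_mul]
              linear_combination (algebraMap k B c.1 * algebraMap k B d.2 + algebraMap k B c.2 * algebraMap k B d.1
                - algebraMap k B c.1 * algebraMap k B d.1 - algebraMap k B c.2 * algebraMap k B d.2) * h1
            commutes' := fun c => by
              show c • (a : B) + c • (1 - (a : B)) = _
              rw [← smul_add, add_sub_cancel, Algebra.smul_def, mul_one] }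
        haveI : Algebra.Etale k (k × k) := by
          haveI : Algebra.Etale k (Bool → k) := inferInstance
          exact Algebra.Etale.of_equiv (A := Bool → k)
            { toFun := fun f => (f true, f false)
              invFun := fun c b => cond b c.1 c.2
              left_inv := fun f => by funext b; cases b <;> rfl
              right_inv := fun c => rfl
              map_mul' := fun f g => rfl
              map_add' := fun f g => rfl
              commutes' := fun r => rfl }
        obtain ⟨h1, h2⟩ := etale_range k B φ
        refine hlargest φ.range ?_ h1 h2 ⟨(1, 0), by show (1 : k) • (a : B) + (0 : k) • _ = _; simp⟩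
        rintro _ ⟨c, rfl⟩
        exact add_mem (A.smul_mem a.2 _) (A.smul_mem (sub_mem A.one_mem a.2) _)
      have hiff : ∀ x : PrimeSpectrum A, x ∈ s ↔ (⟨(a : B), haE⟩ : E) ∉ (f x).asIdeal := fun x => by
        rw [← SetLike.mem_coe, ← SetLike.mem_coe] at *
        change x ∈ s ↔ a ∉ x.asIdeal
        rw [hsa]
        exact PrimeSpectrum.mem_basicOpen a x
      obtain ⟨x, hxF, hxu⟩ := Set.not_subset.1 hnu
      obtain ⟨y, hyF, hyv⟩ := Set.not_subset.1 hnv
      have hy : y ∈ s := ⟨hyF, (hsub hyF).resolve_right hyv⟩
      have hy' := (hiff y).1 hy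
      rw [show f y = f p from hyF, ← show f x = f p from hxF] at hy'
      exact hxu ((hiff x).2 hy').2
    exact connectedComponent_eq (hpre.subset_connectedComponent (x := p) rfl (show f q = f p from hpq.symm))
  · intro hc
    have h := hcont.image_connectedComponent_subset p
    rw [connectedComponent_eq_singleton (x := f p)] at h
    have hq : q ∈ connectedComponent p := by rw [hc]; exact mem_connectedComponent
    exact (h ⟨q, hq, rfl⟩).symm

end Groth.Agent.H20.EtaleSubalgebra
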