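import Groth.Agent.Lib.Dim.FieldExt
import Groth.Agent.Lib.Dim.LocalDim
import Mathlib.RingTheory.LocalRing.ResidueField.Fiber

/-!
The relative dimension of a finite type algebra at a prime, computed in the fibre ring, and its
invariance under base change.
-/

open TensorProduct Groth.Agent.Lib.Dim

universe u

namespace Groth.Agent.H20.FibreDimBC

section congr

variable {k : Type u} [Field k] {A B : Type u} [CommRing A] [CommRing B] [Algebra k A]
  [Algebra k B]

theorem dimQ_comap (e : A ≃ₐ[k] B) (P : Ideal B) :
    Basic.dimQ k (P.comap (e : A →ₐ[k] B)) = Basic.dimQ k P := by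
  unfold Basic.dimQ Basic.trdegNat
  have he : P = (P.comap (e : A →ₐ[k] B)).map (e : A →ₐ[k] B) :=
    (Ideal.map_comap_of_surjective _ e.surjective P).symm
  rw [(Ideal.quotientEquivAlg _ P e he).trdeg_eq]

theorem dimAt_comap (e : A ≃ₐ[k] B) (P : Ideal B) :
    Local.dimAt k (P.comap (e : A →ₐ[k] B)) = Local.dimAt k P := by
  unfold Local.dimAt
  rw [dimQ_comap]
  congr 2
  exact e.toRingEquiv.height_comap P

end congr

variable (R S : Type u) [CommRing R] [CommRing S] [Algebra R S]

/-- The point of the fibre ring over a prime `q`. -/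
noncomputable def fibrePoint (q : Ideal S) [q.IsPrime] :
    PrimeSpectrum ((q.under R).Fiber S) :=
  PrimeSpectrum.primesOverOrderIsoFiber R S (q.under R) ⟨q, inferInstance, ⟨rfl⟩⟩

/-- The relative dimension at a prime. -/
noncomputable def fdim (q : Ideal S) [q.IsPrime] : ℕ :=
  Local.dimAt (q.under R).ResidueField (fibrePoint R S q).asIdeal

variable {R S}

theorem comap_fibrePoint (q : Ideal S) [q.IsPrime] :
    (fibrePoint R S q).asIdeal.comap
      (Algebra.TensorProduct.includeRight (R := R) (A := (q.under R).ResidueField)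
        (B := S)).toRingHom = q := by
  exact congrArg Subtype.val
    ((PrimeSpectrum.primesOverOrderIsoFiber R S (q.under R)).symm_apply_apply
      ⟨q, inferInstance, ⟨rfl⟩⟩)

theorem eq_fibrePoint (q : Ideal S) [q.IsPrime] (Q : PrimeSpectrum ((q.under R).Fiber S))
    (hQ : Q.asIdeal.comap (Algebra.TensorProduct.includeRight (R := R)
      (A := (q.under R).ResidueField) (B := S)).toRingHom = q) :
    Q = fibrePoint R S q := by
  apply (PrimeSpectrum.primesOverOrderIsoFiber R S (q.under R)).symm.injective
  apply Subtype.ext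
  rw [PrimeSpectrum.coe_primesOverOrderIsoFiber_symm_apply,
    PrimeSpectrum.coe_primesOverOrderIsoFiber_symm_apply]
  exact hQ.trans (comap_fibrePoint q).symm

theorem dimAt_eq_fdim (p : Ideal R) [p.IsPrime] (q : Ideal S) [q.IsPrime] [q.LiesOver p]
    (Q : PrimeSpectrum (p.Fiber S))
    (hQ : Q.asIdeal.comap (Algebra.TensorProduct.includeRight (R := R)
      (A := p.ResidueField) (B := S)).toRingHom = q) :
    Local.dimAt p.ResidueField Q.asIdeal = fdim R S q := by
  obtain rfl : p = q.under R := Ideal.over_def q p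
  rw [fdim, eq_fibrePoint q Q hQ]

/-- The relative dimension can be computed after any field extension of the residue field. -/
theorem dimAt_field [Algebra.FiniteType R S] (q : Ideal S) [q.IsPrime] (K : Type u) [Field K]
    [Algebra R K] (P : Ideal (K ⊗[R] S)) [P.IsPrime]
    (hker : RingHom.ker (algebraMap R K) = q.under R)
    (hP : P.comap (Algebra.TensorProduct.includeRight (R := R) (A := K) (B := S)).toRingHom = q) :
    Local.dimAt K P = fdim R S q := by
  let ι : (q.under R).ResidueField →+* K :=
    Ideal.ResidueField.lift (q.under R) (algebraMap R K) hker.ge (by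
      intro x hx
      refine IsUnit.mem_submonoid_iff _ |>.mpr (Ne.isUnit ?_)
      exact fun h => hx (hker.le h))
  let algκK : Algebra (q.under R).ResidueField K := ι.toAlgebra
  have : IsScalarTower R (q.under R).ResidueField K := IsScalarTower.of_algebraMap_eq fun x => by
    exact (Ideal.ResidueField.lift_algebraMap (q.under R) (algebraMap R K) _ _ x).symm
  let e : K ⊗[(q.under R).ResidueField] ((q.under R).Fiber S) ≃ₐ[K] K ⊗[R] S :=
    Algebra.TensorProduct.cancelBaseChange R (q.under R).ResidueField K K S
  rw [← dimAt_comap (A := K ⊗[(q.under R).ResidueField] ((q.under R).Fiber S)) e P,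
    FieldExt.dimAt_baseChange]
  have hover : q.LiesOver (q.under R) := ⟨rfl⟩
  refine dimAt_eq_fdim (q.under R) q ⟨_, Ideal.IsPrime.comap _⟩ ?_
  refine Eq.trans ?_ hP
  ext s
  simp [e]

/-- The relative dimension is invariant under base change. -/
theorem fdim_baseChange (R' : Type u) [CommRing R'] [Algebra R R'] [Algebra.FiniteType R S]
    (q' : Ideal (R' ⊗[R] S)) [q'.IsPrime] :
    fdim R' (R' ⊗[R] S) q' =
      fdim R S (q'.comap (Algebra.TensorProduct.includeRight (R := R) (A := R') (B := S))) := by
  let K := (q'.under R').ResidueField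
  let e : K ⊗[R'] (R' ⊗[R] S) ≃ₐ[K] K ⊗[R] S :=
    Algebra.TensorProduct.cancelBaseChange R R' K K S
  have hQ := comap_fibrePoint (R := R') q'
  have hdef : fdim R' (R' ⊗[R] S) q' =
    Local.dimAt K (fibrePoint R' (R' ⊗[R] S) q').asIdeal := rfl
  rw [hdef, ← dimAt_comap (B := K ⊗[R'] (R' ⊗[R] S)) (A := K ⊗[R] S) e.symm]
  refine dimAt_field _ K _ ?_ ?_
  · ext r
    rw [RingHom.mem_ker, IsScalarTower.algebraMap_apply R R' K,
      Ideal.algebraMap_residueField_eq_zero]
    simp [← Algebra.TensorProduct.tmul_one_eq_one_tmul, Algebra.TensorProduct.one_def]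
  · ext s
    have := congr_arg (fun I => (1 : R') ⊗ₜ[R] s ∈ I) hQ
    simpa [e] using this

/-- The relative dimension only depends on the algebra up to isomorphism. -/
theorem fdim_congr {T : Type u} [CommRing T] [Algebra R T] [Algebra.FiniteType R T]
    [Algebra.FiniteType R S] (e : S ≃ₐ[R] T) (q : Ideal T) [q.IsPrime] :
    fdim R S (q.comap (e : S →ₐ[R] T)) = fdim R T q := by
  let K := (q.under R).ResidueField
  let e' : K ⊗[R] S ≃ₐ[K] K ⊗[R] T := Algebra.TensorProduct.congr AlgEquiv.refl e
  have hdef : fdim R T q = Local.dimAt K (fibrePoint R T q).asIdeal := rfl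
  rw [hdef, ← dimAt_comap (A := K ⊗[R] S) (B := K ⊗[R] T) e']
  symm
  refine dimAt_field _ K _ ?_ ?_
  · ext r
    simp [K, Ideal.algebraMap_residueField_eq_zero]
  · ext s
    have := congr_arg (fun I => e s ∈ I) (comap_fibrePoint (R := R) q)
    simpa [e'] using this

/-- The local dimension of the fibre at the point over `q` is the relative dimension. -/
theorem localDim_eq_fdim [Algebra.FiniteType R S] (p : Ideal R) [p.IsPrime] (q : Ideal S)
    [q.IsPrime] [q.LiesOver p] (Q : PrimeSpectrum (p.Fiber S))
    (hQ : Q.asIdeal.comap (Algebra.TensorProduct.includeRight (R := R)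
      (A := p.ResidueField) (B := S)).toRingHom = q) :
    FlatMor.localDim (PrimeSpectrum (p.Fiber S)) Q = (fdim R S q : WithBot ℕ∞) := by
  rw [← dimAt_eq_fdim p q Q hQ]
  exact LocalDim.localDim_eq_dimAt p.ResidueField Q.asIdeal

theorem forall_localDim_le_iff [Algebra.FiniteType R S] (q : PrimeSpectrum S) (n : ℕ) :
    (∀ Q : PrimeSpectrum ((q.asIdeal.under R).Fiber S),
        Q.asIdeal.comap (Algebra.TensorProduct.includeRight.toRingHom) = q.asIdeal →
          FlatMor.localDim (PrimeSpectrum ((q.asIdeal.under R).Fiber S)) Q ≤ (n : WithBot ℕ∞)) ↔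
      fdim R S q.asIdeal ≤ n := by
  constructor
  · intro h
    have := h _ (comap_fibrePoint q.asIdeal)
    rw [localDim_eq_fdim _ q.asIdeal _ (comap_fibrePoint q.asIdeal)] at this
    exact_mod_cast this
  · intro h Q hQ
    rw [localDim_eq_fdim _ q.asIdeal Q hQ]
    exact_mod_cast h

end Groth.Agent.H20.FibreDimBC
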