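import Groth.Agent.Lib.LocalFlat.InjMod
import Groth.Agent.Lib.FlatCx.Ker
import Groth.Agent.H19.FlatLocus.Noetherian
import Groth.Prelude.Def_EGA4b
import Mathlib.RingTheory.TensorProduct.IsBaseChangePi
import Mathlib.RingTheory.Flat.Localization
import Mathlib.LinearAlgebra.Matrix.ToLin

/-!
Exactness of a complex of finite free modules on the fibre local rings is an open condition: it amounts to
exactness at the point together with flatness of the cokernel over the base.
-/

set_option autoImplicit false

universe u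

open TensorProduct IsLocalRing

namespace Groth.Agent.H20.FibreExact

theorem lTensor_residueField_injective_iff {R : Type u} [CommRing R] [IsLocalRing R] {N M : Type u}
    [AddCommGroup N] [Module R N] [AddCommGroup M] [Module R M] (u : N →ₗ[R] M) :
    Function.Injective (u.lTensor (ResidueField R)) ↔
      ∀ x : N, u x ∈ maximalIdeal R • (⊤ : Submodule R M) → x ∈ maximalIdeal R • (⊤ : Submodule R N) := by
  let m := maximalIdeal R
  let eN := TensorProduct.quotTensorEquivQuotSMul N m
  let eM := TensorProduct.quotTensorEquivQuotSMul M m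
  have h1 : ∀ {X : Type u} [AddCommGroup X] [Module R X] (x : X),
      TensorProduct.quotTensorEquivQuotSMul X m ((Ideal.Quotient.mk m 1) ⊗ₜ[R] x) =
        Submodule.Quotient.mk x := fun x => by
    simp
  have hsurj : ∀ {X : Type u} [AddCommGroup X] [Module R X] (z : (R ⧸ m) ⊗[R] X),
      ∃ x, (Ideal.Quotient.mk m 1) ⊗ₜ[R] x = z := fun z =>
    ⟨_, (TensorProduct.mk_surjective R _ (R ⧸ m) Ideal.Quotient.mk_surjective z).choose_spec⟩
  change Function.Injective (u.lTensor (R ⧸ m)) ↔ _
  rw [injective_iff_map_eq_zero]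
  constructor
  · intro h x hx
    rw [← Submodule.Quotient.mk_eq_zero, ← h1, LinearEquiv.map_eq_zero_iff]
    refine h _ ?_
    rw [LinearMap.lTensor_tmul, ← eM.map_eq_zero_iff, h1, Submodule.Quotient.mk_eq_zero]
    exact hx
  · intro h z hz
    obtain ⟨x, rfl⟩ := hsurj z
    rw [LinearMap.lTensor_tmul, ← eM.map_eq_zero_iff, h1, Submodule.Quotient.mk_eq_zero] at hz
    rw [← eN.map_eq_zero_iff, h1, Submodule.Quotient.mk_eq_zero]
    exact h x hz

section Local

variable {R S : Type u} [CommRing R] [IsLocalRing R] [CommRing S] [IsLocalRing S] [IsNoetherianRing S]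
  [Algebra R S] [IsLocalHom (algebraMap R S)]
  {G2 G1 G0 : Type u} [AddCommGroup G2] [Module S G2] [AddCommGroup G1] [Module S G1] [Module.Finite S G1]
  [AddCommGroup G0] [Module S G0] [Module R G0] [IsScalarTower R S G0] [Module.Flat R G0]
  (b : G2 →ₗ[S] G1) (a : G1 →ₗ[S] G0)

theorem smul_top_eq {X : Type u} [AddCommGroup X] [Module S X] [Module R X] [IsScalarTower R S X] (x : X) :
    x ∈ maximalIdeal R • (⊤ : Submodule R X) ↔
      x ∈ (maximalIdeal R).map (algebraMap R S) • (⊤ : Submodule S X) :=
  iff_of_eq (congrArg (x ∈ ·) (Ideal.smul_restrictScalars (maximalIdeal R) (⊤ : Submodule S X)).symm)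

/-- Exactness modulo the maximal ideal of the base is exactness with flat cokernel. -/
theorem exact_mod_iff (hab : a ∘ₗ b = 0) :
    (∀ x, a x ∈ (maximalIdeal R).map (algebraMap R S) • (⊤ : Submodule S G0) →
      x ∈ LinearMap.range b ⊔ (maximalIdeal R).map (algebraMap R S) • (⊤ : Submodule S G1)) ↔
    LinearMap.ker a = LinearMap.range b ∧ Module.Flat R (G0 ⧸ LinearMap.range a) := by
  letI : Module R G1 := Module.compHom G1 (algebraMap R S)
  haveI : IsScalarTower R S G1 := IsScalarTower.of_algebraMap_smul fun _ _ => rfl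
  let I := (maximalIdeal R).map (algebraMap R S)
  constructor
  · intro h
    let ub : (G1 ⧸ LinearMap.range b) →ₗ[S] G0 := (LinearMap.range b).liftQ a (LinearMap.range_le_ker_iff.2 hab)
    let u : (G1 ⧸ LinearMap.range b) →ₗ[R] G0 := ub.restrictScalars R
    have hu : Function.Injective (u.lTensor (ResidueField R)) := by
      rw [lTensor_residueField_injective_iff]
      intro z hz
      obtain ⟨x, rfl⟩ := Submodule.Quotient.mk_surjective _ z
      obtain ⟨y, hy, w, hw, rfl⟩ := Submodule.mem_sup.1 (h x ((smul_top_eq (S := S) _).1 hz))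
      rw [smul_top_eq (S := S), Submodule.Quotient.mk_add, (Submodule.Quotient.mk_eq_zero _).2 hy, zero_add]
      have := Submodule.mem_map_of_mem (f := (LinearMap.range b).mkQ) hw
      rw [Submodule.map_smul'', Submodule.map_top, Submodule.range_mkQ] at this
      exact this
    have hinj : Function.Injective u := Lib.LocalFlat.InjMod.injective_of_injective_mod u hu S
    haveI := Lib.LocalFlat.InjMod.flat_coker u hu S
    refine ⟨le_antisymm (fun x hx => ?_) (LinearMap.range_le_ker_iff.2 hab), ?_⟩
    · rw [← Submodule.Quotient.mk_eq_zero (LinearMap.range b)]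
      exact hinj ((show u (Submodule.Quotient.mk x) = 0 from hx).trans (map_zero u).symm)
    · have hr : LinearMap.range u = (LinearMap.range a).restrictScalars R := by
        ext z
        constructor
        · rintro ⟨x, rfl⟩
          obtain ⟨x, rfl⟩ := Submodule.Quotient.mk_surjective _ x
          exact ⟨x, rfl⟩
        · rintro ⟨x, rfl⟩
          exact ⟨Submodule.Quotient.mk x, rfl⟩
      exact Module.Flat.of_linearEquiv ((Submodule.Quotient.restrictScalarsEquiv R (LinearMap.range a)).symm.trans
        (Submodule.quotEquivOfEq _ _ hr.symm))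
  · rintro ⟨hker, hflat⟩ x hx
    let C := (LinearMap.range a).restrictScalars R
    haveI : Module.Flat R (G0 ⧸ C) :=
      Module.Flat.of_linearEquiv (Submodule.Quotient.restrictScalarsEquiv R (LinearMap.range a))
    have hC : Function.Injective (C.subtype.lTensor (ResidueField R)) :=
      LinearMap.lTensor_injective_of_exact_of_flat C.mkQ (Submodule.mkQ_surjective _) _
        Subtype.val_injective (LinearMap.exact_subtype_mkQ _) _
    rw [lTensor_residueField_injective_iff] at hC
    have h1 := hC ⟨a x, x, rfl⟩ ((smul_top_eq (S := S) _).2 hx)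
    let r : G1 →ₗ[R] C := LinearMap.codRestrict C (a.restrictScalars R) fun y => ⟨y, rfl⟩
    have hr : Function.Surjective r := fun ⟨_, y, hy⟩ => ⟨y, Subtype.ext hy⟩
    rw [← LinearMap.range_eq_top.2 hr, ← Submodule.map_top, ← Submodule.map_smul''] at h1
    obtain ⟨y, hy, hyx⟩ := h1
    have hk : x - y ∈ LinearMap.ker a := by
      rw [LinearMap.mem_ker, map_sub, sub_eq_zero]
      exact (congrArg Subtype.val hyx).symm
    rw [hker] at hk
    exact Submodule.mem_sup.2 ⟨x - y, hk, y, (smul_top_eq (S := S) _).1 hy, sub_add_cancel x y⟩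

end Local

theorem mem_smul_top_pi {S : Type u} [CommRing S] (I : Ideal S) {ι : Type} [Fintype ι] [DecidableEq ι] (x : ι → S) :
    x ∈ I • (⊤ : Submodule S (ι → S)) ↔ ∀ k, x k ∈ I := by
  constructor
  · intro hx k
    refine Submodule.smul_induction_on (p := fun z => z k ∈ I) hx (fun r hr y _ => ?_) (fun a b ha hb => add_mem ha hb)
    rw [Pi.smul_apply, smul_eq_mul]
    exact I.mul_mem_right _ hr
  · intro h
    have hx : x = ∑ k, x k • (Pi.single k (1 : S) : ι → S) := pi_eq_sum_univ' x
    rw [hx]
    exact sum_mem fun k _ => Submodule.smul_mem_smul (h k) Submodule.mem_top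

variable {R S : Type u} [CommRing R] [CommRing S] [Algebra R S]

/-- The set where `S^p → S^n → S^m` is exact on the fibre local rings is open. -/
theorem isOpen_exact [IsNoetherianRing R] [Algebra.FiniteType R S] [Module.Flat R S] {m n p : ℕ}
    (A : Matrix (Fin m) (Fin n) S) (B : Matrix (Fin n) (Fin p) S) (hAB : A * B = 0) :
    IsOpen {q : PrimeSpectrum S |
      LinearMap.ker (Matrix.mulVecLin (A.map (algebraMap S (EGA4.FibLocRing R S q.asIdeal)))) =
        LinearMap.range (Matrix.mulVecLin (B.map (algebraMap S (EGA4.FibLocRing R S q.asIdeal))))} := by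
  classical
  haveI : IsNoetherianRing S := Algebra.FiniteType.isNoetherianRing R S
  let a := Matrix.mulVecLin A
  let b := Matrix.mulVecLin B
  let M := (Fin m → S) ⧸ LinearMap.range a
  let J : Ideal S := Submodule.colon (LinearMap.range b) (LinearMap.ker a : Set (Fin n → S))
  have hopen : IsOpen ((PrimeSpectrum.zeroLocus (J : Set S))ᶜ ∩
      {q : PrimeSpectrum S | Module.Flat R (LocalizedModule q.asIdeal.primeCompl M)}) :=
    (PrimeSpectrum.isClosed_zeroLocus _).isOpen_compl.inter H19.FlatLocus.isOpen_flat_of_noetherian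
  convert hopen using 1
  refine Set.ext fun q => ?_
  -- the local picture at `q`
  let P := q.asIdeal.comap (algebraMap R S)
  let Rp := Localization.AtPrime P
  let Sq := Localization.AtPrime q.asIdeal
  haveI : q.asIdeal.LiesOver P := ⟨rfl⟩
  letI := Localization.AtPrime.algebraOfLiesOver P q.asIdeal
  haveI : IsLocalHom (algebraMap Rp Sq) := by
    have h : algebraMap Rp Sq = Localization.localRingHom P q.asIdeal (algebraMap R S) rfl :=
      IsLocalization.ringHom_ext P.primeCompl (RingHom.ext fun r => by
        rw [RingHom.comp_apply, RingHom.comp_apply, ← IsScalarTower.algebraMap_apply, Localization.localRingHom_to_map,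
          ← IsScalarTower.algebraMap_apply])
    rw [h]
    exact Localization.isLocalHom_localRingHom _ _ _ rfl
  haveI : Module.Flat S Sq := IsLocalization.flat Sq q.asIdeal.primeCompl
  haveI : Module.Flat R Sq := Module.Flat.trans R S Sq
  haveI : Module.Flat Rp Sq := (Module.flat_iff_of_isLocalization Rp P.primeCompl Sq).2 inferInstance
  haveI : Module.Flat Rp (Fin m → Sq) := Module.Flat.trans Rp Sq _
  haveI : IsNoetherianRing Sq := IsLocalization.isNoetherianRing q.asIdeal.primeCompl _ inferInstance
  let aq := Matrix.mulVecLin (A.map (algebraMap S Sq))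
  let bq := Matrix.mulVecLin (B.map (algebraMap S Sq))
  have habq : aq ∘ₗ bq = 0 := by
    rw [← Matrix.mulVecLin_mul, ← Matrix.map_mul, hAB, Matrix.map_zero _ (map_zero _), Matrix.mulVecLin_zero]
  let I : Ideal Sq := (IsLocalRing.maximalIdeal Rp).map (algebraMap Rp Sq)
  have hI : I = P.map (algebraMap R Sq) := by
    change (IsLocalRing.maximalIdeal Rp).map (algebraMap Rp Sq) = _
    rw [← Localization.AtPrime.map_eq_maximalIdeal, Ideal.map_map, ← IsScalarTower.algebraMap_eq]
  let F := EGA4.FibLocRing R S q.asIdeal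
  let π : Sq →+* F := Ideal.Quotient.mk _
  have hπ : Function.Surjective π := Ideal.Quotient.mk_surjective
  have hπc : π.comp (algebraMap S Sq) = algebraMap S F := rfl
  have hπI : ∀ {ι : Type} [Fintype ι] (x : ι → Sq), π ∘ x = 0 ↔ x ∈ I • (⊤ : Submodule Sq (ι → Sq)) := fun x => by
    classical
    rw [mem_smul_top_pi, funext_iff]
    refine forall_congr' fun k => ?_
    rw [hI]
    exact Ideal.Quotient.eq_zero_iff_mem
  have hmapA : ∀ x, π ∘ aq x = (A.map (algebraMap S F)).mulVec (π ∘ x) := fun x => by
    funext i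
    simp only [Function.comp_apply, aq, Matrix.mulVecLin_apply, RingHom.map_mulVec, Matrix.map_map, ← hπc, RingHom.coe_comp]
  have hmapB : ∀ x, π ∘ bq x = (B.map (algebraMap S F)).mulVec (π ∘ x) := fun x => by
    funext i
    simp only [Function.comp_apply, bq, Matrix.mulVecLin_apply, RingHom.map_mulVec, Matrix.map_map, ← hπc, RingHom.coe_comp]
  -- exactness on the fibre
  have hfib : (LinearMap.ker (Matrix.mulVecLin (A.map (algebraMap S F))) =
        LinearMap.range (Matrix.mulVecLin (B.map (algebraMap S F)))) ↔
      ∀ x, aq x ∈ I • (⊤ : Submodule Sq (Fin m → Sq)) →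
        x ∈ LinearMap.range bq ⊔ I • (⊤ : Submodule Sq (Fin n → Sq)) := by
    constructor
    · intro h x hx
      have hk : π ∘ x ∈ LinearMap.ker (Matrix.mulVecLin (A.map (algebraMap S F))) := by
        rw [LinearMap.mem_ker, Matrix.mulVecLin_apply, ← hmapA, hπI]
        exact hx
      rw [h] at hk
      obtain ⟨y, hy⟩ := hk
      choose y' hy' using fun k => hπ (y k)
      refine Submodule.mem_sup.2 ⟨bq y', ⟨y', rfl⟩, x - bq y', (hπI _).1 ?_, add_sub_cancel _ _⟩
      funext k
      have h1 : π (bq y' k) = π (x k) := by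
        have h2 := congrFun (hmapB y') k
        rw [show π ∘ y' = y from funext hy', ← Matrix.mulVecLin_apply, hy] at h2
        exact h2
      simp only [Function.comp_apply, Pi.sub_apply, map_sub, h1, sub_self, Pi.zero_apply]
    · intro h
      refine le_antisymm (fun z hz => ?_) ?_
      · choose z' hz' using fun k => hπ (z k)
        obtain rfl : π ∘ z' = z := funext hz'
        rw [LinearMap.mem_ker, Matrix.mulVecLin_apply, ← hmapA, hπI] at hz
        obtain ⟨_, ⟨y, rfl⟩, w, hw, hsum⟩ := Submodule.mem_sup.1 (h z' hz)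
        refine ⟨π ∘ y, ?_⟩
        rw [Matrix.mulVecLin_apply, ← hmapB, ← hsum]
        funext k
        have hw' := congrFun ((hπI w).2 hw) k
        simp only [Function.comp_apply, Pi.zero_apply] at hw'
        simp only [Function.comp_apply, Pi.add_apply, map_add, hw', add_zero]
      · rw [LinearMap.range_le_ker_iff, ← Matrix.mulVecLin_mul, ← Matrix.map_mul, hAB, Matrix.map_zero _ (map_zero _),
          Matrix.mulVecLin_zero]
  change _ ↔ q ∈ (PrimeSpectrum.zeroLocus (J : Set S))ᶜ ∧ Module.Flat R (LocalizedModule q.asIdeal.primeCompl M)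
  refine hfib.trans ((exact_mod_iff (R := Rp) bq aq habq).trans (and_congr ?_ ?_))
  · -- exactness at `q`
    let loc : ∀ k, (Fin k → S) →ₗ[S] (Fin k → Sq) := fun k =>
      LinearMap.pi fun i => (Algebra.linearMap S Sq) ∘ₗ LinearMap.proj i
    haveI : ∀ k, IsLocalizedModule q.asIdeal.primeCompl (loc k) := fun k => inferInstance
    have hca : ∀ x, loc m (a x) = aq (loc n x) := fun x => by
      funext i
      exact RingHom.map_mulVec (algebraMap S Sq) A x i
    have hcb : ∀ x, loc n (b x) = bq (loc p x) := fun x => by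
      funext i
      exact RingHom.map_mulVec (algebraMap S Sq) B x i
    rw [Set.mem_compl_iff, PrimeSpectrum.mem_zeroLocus, SetLike.coe_subset_coe]
    constructor
    · intro h hle
      obtain ⟨gs, hgs⟩ := (IsNoetherian.noetherian (LinearMap.ker a) : (LinearMap.ker a).FG)
      have hone : ∀ x ∈ LinearMap.ker a, ∃ t ∈ q.asIdeal.primeCompl, t • x ∈ LinearMap.range b := by
        intro x hx
        have h1 : loc n x ∈ LinearMap.range bq := by
          rw [← h, LinearMap.mem_ker, ← hca, LinearMap.mem_ker.1 hx, map_zero]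
        obtain ⟨y, hy⟩ := h1
        obtain ⟨⟨y', t⟩, ht⟩ := IsLocalizedModule.surj q.asIdeal.primeCompl (loc p) y
        have h2 : loc n ((t : S) • x) = loc n (b y') := by
          rw [hcb, ← ht, map_smul, ← hy, Submonoid.smul_def, LinearMap.map_smul_of_tower]
        obtain ⟨t', ht'⟩ := IsLocalizedModule.exists_of_eq (S := q.asIdeal.primeCompl) h2
        refine ⟨(t' : S) * t, mul_mem t'.2 t.2, (t' : S) • y', ?_⟩
        rw [map_smul, mul_smul]
        exact ht'.symm
      choose t ht htx using hone
      have hgx : ∀ g : gs, (g : Fin n → S) ∈ LinearMap.ker a := fun g => hgs ▸ Submodule.subset_span g.2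
      have hmem : (∏ g : gs, t _ (hgx g)) ∈ J := by
        rw [Submodule.mem_colon]
        intro x hx
        rw [SetLike.mem_coe, ← hgs] at hx
        induction hx using Submodule.span_induction with
        | mem g hg =>
          rw [← Finset.prod_erase_mul _ _ (Finset.mem_univ (⟨g, hg⟩ : gs)), mul_smul]
          exact Submodule.smul_mem _ _ (htx g (hgx ⟨g, hg⟩))
        | zero => simp
        | add x y _ _ hx hy => rw [smul_add]; exact add_mem hx hy
        | smul c x _ hx => rw [smul_comm]; exact Submodule.smul_mem _ c hx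
      obtain ⟨g, -, hg⟩ := (Ideal.IsPrime.prod_mem_iff (p := q.asIdeal)).1 (hle hmem)
      exact ht _ (hgx g) hg
    · intro hJ
      obtain ⟨s, hsJ, hsq⟩ := SetLike.not_le_iff_exists.1 hJ
      refine le_antisymm (fun x hx => ?_) (LinearMap.range_le_ker_iff.2 habq)
      obtain ⟨⟨x', t⟩, ht⟩ := IsLocalizedModule.surj q.asIdeal.primeCompl (loc n) x
      have h1 : loc m (a x') = loc m 0 := by
        rw [hca, ← ht, Submonoid.smul_def, LinearMap.map_smul_of_tower, LinearMap.mem_ker.1 hx, smul_zero, map_zero]
      obtain ⟨t', ht'⟩ := IsLocalizedModule.exists_of_eq (S := q.asIdeal.primeCompl) h1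
      rw [smul_zero] at ht'
      have h2 : (t' : S) • x' ∈ LinearMap.ker a := by rw [LinearMap.mem_ker, map_smul]; exact ht'
      obtain ⟨y, hy⟩ := Submodule.mem_colon.1 hsJ _ h2
      have hu : IsUnit (algebraMap S Sq (s * (t' * t))) :=
        IsLocalization.map_units Sq (⟨s * (t' * t), mul_mem (show s ∈ q.asIdeal.primeCompl from hsq) (mul_mem t'.2 t.2)⟩ : q.asIdeal.primeCompl)
      have h3 : algebraMap S Sq (s * (t' * t)) • x ∈ LinearMap.range bq := by
        refine ⟨loc p y, ?_⟩
        rw [← hcb, hy, map_smul, map_smul, ← ht, Submonoid.smul_def, algebraMap_smul, mul_smul, mul_smul]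
      have h4 := Submodule.smul_mem _ (↑hu.unit⁻¹ : Sq) h3
      rwa [smul_smul, IsUnit.val_inv_mul, one_smul] at h4
  · -- flatness of the cokernel at `q`
    let loc : (Fin m → S) →ₗ[S] (Fin m → Sq) := LinearMap.pi fun i => (Algebra.linearMap S Sq) ∘ₗ LinearMap.proj i
    let locn : (Fin n → S) →ₗ[S] (Fin n → Sq) := LinearMap.pi fun i => (Algebra.linearMap S Sq) ∘ₗ LinearMap.proj i
    have hra : (LinearMap.range a).localized' Sq q.asIdeal.primeCompl loc = LinearMap.range aq := by
      refine le_antisymm ?_ ?_
      · rw [Submodule.localized'_eq_span, Submodule.span_le]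
        rintro _ ⟨_, ⟨x, rfl⟩, rfl⟩
        exact ⟨locn x, funext fun i => (RingHom.map_mulVec (algebraMap S Sq) A x i).symm⟩
      · rintro _ ⟨x, rfl⟩
        rw [← Finset.univ_sum_single x, map_sum]
        refine sum_mem fun j _ => ?_
        rw [show (Pi.single j (x j) : Fin n → Sq) = x j • Pi.single j 1 by rw [← Pi.single_smul, smul_eq_mul, mul_one], map_smul]
        refine Submodule.smul_mem _ _ ?_
        rw [Submodule.localized'_eq_span]
        refine Submodule.subset_span ⟨a (Pi.single j 1), ⟨_, rfl⟩, ?_⟩
        funext i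
        simp [loc, a, aq]
    let e : LocalizedModule q.asIdeal.primeCompl M ≃ₗ[S] ((Fin m → Sq) ⧸ LinearMap.range aq) :=
      (IsLocalizedModule.iso q.asIdeal.primeCompl
        ((LinearMap.range a).toLocalizedQuotient' Sq q.asIdeal.primeCompl loc)).trans
      ((Submodule.quotEquivOfEq _ _ hra).restrictScalars S)
    rw [Module.flat_iff_of_isLocalization Rp P.primeCompl]
    exact ⟨fun _ => Module.Flat.of_linearEquiv (e.restrictScalars R),
      fun _ => Module.Flat.of_linearEquiv (e.restrictScalars R).symm⟩

end Groth.Agent.H20.FibreExact
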