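import Groth.Agent.H20.FibreDimBC
import Groth.Agent.H20.CMRegular
import Groth.Prelude.Def_EGA4b
import Mathlib.RingTheory.LocalRing.ResidueField.Fiber
import Mathlib.RingTheory.KrullDimension.Regular

/-!
The local ring of a fibre at a point, as a localization of the fibre ring, and regular sequences in it.
-/

set_option autoImplicit false

universe u

open TensorProduct RingTheory.Sequence Groth.Agent.H20.FibreDimBC Groth.Agent.Lib.Dim

namespace Groth.Agent.H20.FibreLocal

theorem isRegular_ringEquiv {A B : Type u} [CommRing A] [CommRing B] (e : A ≃+* B) (rs : List A) :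
    IsRegular A rs ↔ IsRegular B (rs.map e) :=
  e.toAddEquiv.isRegular_congr (List.forall₂_map_right_iff.mpr (List.forall₂_same.mpr fun r _ x => e.map_mul r x))

variable (R S : Type u) [CommRing R] [CommRing S] [Algebra R S]

theorem algEquivAux₂_apply (p : Ideal R) [p.IsPrime] (Q : Ideal (p.Fiber S)) [Q.IsPrime] (s : S) :
    Ideal.Fiber.algEquivAux₂ p Q (algebraMap (p.Fiber S) _ ((1 : p.ResidueField) ⊗ₜ[R] s)) =
      Ideal.Quotient.mk _ (algebraMap S (Localization.AtPrime
        (Q.comap (Algebra.TensorProduct.includeRight (R := R) (A := p.ResidueField) (B := S)))) s) := by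
  letI : Algebra S (p.Fiber S) := Algebra.TensorProduct.rightAlgebra
  rw [show ((1 : p.ResidueField) ⊗ₜ[R] s) = algebraMap S (p.Fiber S) s from rfl, ← IsScalarTower.algebraMap_apply]
  simp only [Ideal.Fiber.algEquivAux₂, AlgEquiv.trans_apply, AlgEquiv.restrictScalars_apply, AlgEquiv.commutes]
  rw [IsScalarTower.algebraMap_apply S (S ⧸ Ideal.map (algebraMap R S) p), AlgEquiv.commutes]
  rfl

theorem exists_fibLocEquiv (p : Ideal R) [p.IsPrime] (Q : Ideal (p.Fiber S)) [Q.IsPrime] (q : Ideal S) [q.IsPrime]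
    (hQ : Q.comap (Algebra.TensorProduct.includeRight (R := R) (A := p.ResidueField) (B := S)) = q) :
    ∃ e : EGA4.FibLocRing R S q ≃+* Localization.AtPrime Q, ∀ s : S,
      e (algebraMap S (EGA4.FibLocRing R S q) s) = algebraMap (p.Fiber S) _ ((1 : p.ResidueField) ⊗ₜ[R] s) := by
  subst hQ
  have hp : p = (Q.comap (Algebra.TensorProduct.includeRight (R := R) (A := p.ResidueField) (B := S))).comap
      (algebraMap R S) := by
    have h := Ideal.over_def Q p
    refine h.trans ?_
    ext r
    simp [Ideal.mem_comap, Ideal.under_def]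
  let e₀ := Ideal.Fiber.algEquivAux₂ p Q
  have hid : (p.map (algebraMap R S)).map (algebraMap S (Localization.AtPrime
      (Q.comap (Algebra.TensorProduct.includeRight (R := R) (A := p.ResidueField) (B := S))))) =
      ((Q.comap (Algebra.TensorProduct.includeRight (R := R) (A := p.ResidueField) (B := S))).comap
        (algebraMap R S)).map (algebraMap R _) := by
    rw [Ideal.map_map, ← IsScalarTower.algebraMap_eq, ← hp]
  refine ⟨(Ideal.quotEquivOfEq hid.symm).trans e₀.symm.toRingEquiv, fun s => ?_⟩
  apply e₀.injective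
  refine (e₀.apply_symm_apply _).trans ?_
  exact (algEquivAux₂_apply R S p Q s).symm

variable {R S}

theorem isRegular_fibLocRing_iff (q : Ideal S) [q.IsPrime] (f : List S) :
    IsRegular (EGA4.FibLocRing R S q) (f.map (algebraMap S (EGA4.FibLocRing R S q))) ↔
      IsRegular (Localization.AtPrime (fibrePoint R S q).asIdeal)
        (f.map fun s => algebraMap ((q.under R).Fiber S) (Localization.AtPrime (fibrePoint R S q).asIdeal)
          ((1 : (q.under R).ResidueField) ⊗ₜ[R] s)) := by
  obtain ⟨e, he⟩ := exists_fibLocEquiv R S (q.under R) (fibrePoint R S q).asIdeal q (comap_fibrePoint q)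
  refine (isRegular_ringEquiv (B := Localization.AtPrime (fibrePoint R S q).asIdeal) e _).trans ?_
  rw [List.map_map]
  exact iff_of_eq (congrArg _ (List.map_congr_left fun s _ => he s))

/-- The dimension of a quotient of a local ring by the kernel of a surjection. -/
theorem ringKrullDim_quot_localization {A A' : Type u} [CommRing A] [CommRing A'] (φ : A →+* A')
    (hφ : Function.Surjective φ) (Q' : Ideal A') [Q'.IsPrime] (Q : Ideal A) [Q.IsPrime] (hQ : Q = Q'.comap φ) :
    ringKrullDim (Localization.AtPrime Q ⧸ (RingHom.ker φ).map (algebraMap A (Localization.AtPrime Q))) =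
      ringKrullDim (Localization.AtPrime Q') := by
  let ψ : Localization.AtPrime Q →+* Localization.AtPrime Q' := Localization.localRingHom Q Q' φ hQ
  have hψ : Function.Surjective ψ := fun y => by
    obtain ⟨⟨a, t⟩, rfl⟩ := IsLocalization.mk'_surjective Q'.primeCompl y
    obtain ⟨a, rfl⟩ := hφ a
    obtain ⟨t, ht⟩ := t
    obtain ⟨t, rfl⟩ := hφ t
    exact ⟨IsLocalization.mk' _ a (⟨t, fun h => ht ((SetLike.ext_iff.1 hQ t).1 h)⟩ : Q.primeCompl), Localization.localRingHom_mk' _ _ _ hQ a _⟩
  have hker : RingHom.ker ψ = (RingHom.ker φ).map (algebraMap A (Localization.AtPrime Q)) := by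
    refine le_antisymm (fun x hx => ?_) (Ideal.map_le_iff_le_comap.2 fun a ha => ?_)
    · obtain ⟨⟨a, t⟩, rfl⟩ := IsLocalization.mk'_surjective Q.primeCompl x
      rw [RingHom.mem_ker, Localization.localRingHom_mk', IsLocalization.mk'_eq_zero_iff] at hx
      obtain ⟨⟨c, hc⟩, hca⟩ := hx
      obtain ⟨c, rfl⟩ := hφ c
      rw [IsLocalization.mk'_mem_map_algebraMap_iff Q.primeCompl]
      exact ⟨c, fun h => hc ((SetLike.ext_iff.1 hQ c).1 h), by rw [RingHom.mem_ker, map_mul]; exact hca⟩
    · rw [Ideal.mem_comap, RingHom.mem_ker, Localization.localRingHom_to_map, RingHom.mem_ker.1 ha, map_zero]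
  rw [← hker]
  exact ringKrullDim_eq_of_ringEquiv (RingHom.quotientKerEquivOfSurjective hψ)

/-- The fibre ring of a quotient, as a quotient of the fibre ring. -/
theorem ker_map_mk (p : Ideal R) [p.IsPrime] (I : Ideal S) :
    RingHom.ker (Algebra.TensorProduct.map (AlgHom.id R p.ResidueField) (Ideal.Quotient.mkₐ R I)).toRingHom =
      I.map (Algebra.TensorProduct.includeRight (R := R) (A := p.ResidueField) (B := S)).toRingHom := by
  have h := Algebra.TensorProduct.lTensor_ker (A := p.ResidueField) (Ideal.Quotient.mkₐ R I)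
    Ideal.Quotient.mk_surjective
  rw [AlgHom.ker_coe] at h
  refine h.trans ((congrArg (Ideal.map _) (Ideal.Quotient.mkₐ_ker R I)).trans ?_)
  rfl

/-- The criterion: `f` is a regular sequence in the fibre at `q` iff the fibre dimension drops by its length. -/
theorem isRegular_iff_fdim_add_le [Algebra.FiniteType R S] {d : ℕ}
    (hCM : ∀ p : PrimeSpectrum R, LocCoh.IsCohenMacaulayRing (p.asIdeal.Fiber S))
    (heq : ∀ p : PrimeSpectrum R, ∀ P ∈ minimalPrimes (p.asIdeal.Fiber S),
      ringKrullDim (p.asIdeal.Fiber S ⧸ P) = (d : WithBot ℕ∞))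
    (f : List S) (q' : Ideal (S ⧸ Ideal.ofList f)) [q'.IsPrime] (q : Ideal S) [q.IsPrime]
    (hq : q = q'.comap (Ideal.Quotient.mk (Ideal.ofList f))) :
    IsRegular (EGA4.FibLocRing R S q) (f.map (algebraMap S (EGA4.FibLocRing R S q))) ↔
      fdim R (S ⧸ Ideal.ofList f) q' + f.length ≤ d := by
  rw [isRegular_fibLocRing_iff]
  have hpp : q'.under R = q.under R := by
    subst hq
    rfl
  set p := q.under R with hp
  haveI : q'.LiesOver p := ⟨hpp.symm⟩
  let I := Ideal.ofList f
  let k := p.ResidueField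
  let φ : p.Fiber S →ₐ[k] p.Fiber (S ⧸ I) :=
    Algebra.TensorProduct.map (AlgHom.id k k) (Ideal.Quotient.mkₐ R I)
  have hφ : Function.Surjective φ := fun x => by
    induction x using TensorProduct.induction_on with
    | zero => exact ⟨0, map_zero _⟩
    | tmul a b => obtain ⟨b, rfl⟩ := Ideal.Quotient.mk_surjective b; exact ⟨a ⊗ₜ b, rfl⟩
    | add a b ha hb =>
      obtain ⟨a, rfl⟩ := ha; obtain ⟨b, rfl⟩ := hb; exact ⟨a + b, map_add _ _ _⟩
  let Q' := PrimeSpectrum.primesOverOrderIsoFiber R (S ⧸ I) p ⟨q', inferInstance, ⟨hpp.symm⟩⟩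
  have hQ' : Q'.asIdeal.comap (Algebra.TensorProduct.includeRight (R := R) (A := k) (B := S ⧸ I)).toRingHom = q' :=
    congrArg Subtype.val ((PrimeSpectrum.primesOverOrderIsoFiber R (S ⧸ I) p).symm_apply_apply
      ⟨q', inferInstance, ⟨hpp.symm⟩⟩)
  set Q := (fibrePoint R S q).asIdeal with hQdef
  have hQ : Q = Q'.asIdeal.comap φ.toRingHom := by
    have h : (⟨Q'.asIdeal.comap φ.toRingHom, inferInstance⟩ : PrimeSpectrum (p.Fiber S)) = fibrePoint R S q :=
      eq_fibrePoint q _ (by
        ext s
        exact (SetLike.ext_iff.1 hQ' (Ideal.Quotient.mk I s) :).trans (SetLike.ext_iff.1 hq s).symm)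
    exact congrArg PrimeSpectrum.asIdeal h.symm
  haveI : Algebra.FiniteType k (p.Fiber S) := inferInstance
  haveI : Algebra.FiniteType k (p.Fiber (S ⧸ I)) := inferInstance
  haveI := hCM ⟨p, inferInstance⟩
  haveI : LocCoh.IsCohenMacaulayLocalRing (Localization.AtPrime Q) :=
    LocCoh.IsCohenMacaulayRing.isCohenMacaulayLocalRing_localization Q
  haveI : IsNoetherianRing (p.Fiber S) := Local.isNoetherianRing_of_field k
  haveI : IsNoetherianRing (Localization.AtPrime Q) := IsLocalization.isNoetherianRing Q.primeCompl _ inferInstance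
  set ι : S → Localization.AtPrime Q := fun s => algebraMap (p.Fiber S) (Localization.AtPrime Q) ((1 : k) ⊗ₜ[R] s) with hι
  have hfI : Ideal.ofList (f.map ι) = (RingHom.ker φ.toRingHom).map (algebraMap (p.Fiber S) (Localization.AtPrime Q)) := by
    have hk : RingHom.ker φ.toRingHom = I.map (Algebra.TensorProduct.includeRight (R := R) (A := k) (B := S)).toRingHom := by
      rw [← ker_map_mk p I]
      rfl
    rw [hk, Ideal.map_map, Ideal.map_ofList]
    rfl
  have hdimq := ringKrullDim_quot_localization φ.toRingHom hφ Q'.asIdeal Q hQ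
  have hdQ : Basic.dimQ k Q = Basic.dimQ k Q'.asIdeal := by
    have h1 : ringKrullDim (p.Fiber S ⧸ Q) = ringKrullDim (p.Fiber (S ⧸ I) ⧸ Q'.asIdeal) := by
      exact ringKrullDim_eq_of_ringEquiv ((Ideal.quotEquivOfEq (hQ.trans (by rw [← RingHom.comap_ker, Ideal.mk_ker]))).trans
        (RingHom.quotientKerEquivOfSurjective (f := (Ideal.Quotient.mk Q'.asIdeal).comp φ.toRingHom)
          (Ideal.Quotient.mk_surjective.comp hφ)))
    rw [Basic.ringKrullDim_quotient_prime k, Basic.ringKrullDim_quotient_prime k] at h1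
    exact_mod_cast h1
  have hd : Local.dimAt k Q = d := by
    obtain ⟨P, hP, -, he⟩ := Local.exists_minimalPrimes_dimAt_eq k Q
    haveI : P.IsPrime := hP.1.1
    have h1 := heq ⟨p, inferInstance⟩ P hP
    rw [Basic.ringKrullDim_quotient_prime k] at h1
    rw [← he]
    exact_mod_cast h1
  have hd' : Local.dimAt k Q'.asIdeal = fdim R (S ⧸ Ideal.ofList f) q' := dimAt_eq_fdim p q' Q' hQ'
  have e1 := Local.ringKrullDim_localization k Q
  have e2 := Local.ringKrullDim_localization k Q'.asIdeal
  rw [hd, IsLocalization.AtPrime.ringKrullDim_eq_height Q, ← Local.coe_height_toNat k Q] at e1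
  rw [hd', IsLocalization.AtPrime.ringKrullDim_eq_height Q'.asIdeal, ← Local.coe_height_toNat k Q'.asIdeal, ← hdQ] at e2
  have e1' : Q.height.toNat + Basic.dimQ k Q = d := by exact_mod_cast e1
  have e2' : Q'.asIdeal.height.toNat + Basic.dimQ k Q = fdim R (S ⧸ Ideal.ofList f) q' := by exact_mod_cast e2
  constructor
  · intro hreg
    have h := ringKrullDim_add_length_eq_ringKrullDim_of_isRegular _ hreg
    rw [hfI, hdimq, IsLocalization.AtPrime.ringKrullDim_eq_height Q'.asIdeal,
      IsLocalization.AtPrime.ringKrullDim_eq_height Q, ← Local.coe_height_toNat k Q,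
      ← Local.coe_height_toNat k Q'.asIdeal, List.length_map] at h
    have h' : Q'.asIdeal.height.toNat + f.length = Q.height.toNat := by exact_mod_cast h
    omega
  · intro hle
    refine CMRegular.isRegular_of_ringKrullDim_le _ (fun r hr => ?_) ?_
    · obtain ⟨s, hs, rfl⟩ := List.mem_map.1 hr
      rw [IsLocalization.AtPrime.to_map_mem_maximal_iff (Localization.AtPrime Q) Q]
      have hsq : s ∈ q := by
        rw [hq, Ideal.mem_comap, Ideal.Quotient.eq_zero_iff_mem.2 (show s ∈ Ideal.ofList f from Ideal.subset_span hs)]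
        exact zero_mem _
      exact (SetLike.ext_iff.1 (comap_fibrePoint q) s).2 hsq
    · rw [hfI, hdimq, IsLocalization.AtPrime.ringKrullDim_eq_height Q'.asIdeal,
        IsLocalization.AtPrime.ringKrullDim_eq_height Q, ← Local.coe_height_toNat k Q,
        ← Local.coe_height_toNat k Q'.asIdeal, List.length_map]
      have h' : Q'.asIdeal.height.toNat + f.length ≤ Q.height.toNat := by omega
      exact_mod_cast h'

end Groth.Agent.H20.FibreLocal
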