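import Groth.Agent.H20.LocalSurj
import Mathlib.RingTheory.Spectrum.Prime.FreeLocus
import Mathlib.LinearAlgebra.Dimension.Free
import Mathlib.LinearAlgebra.StdBasis
import Mathlib.RingTheory.Ideal.Operations

/-!
# A basis near finitely many primes
-/

set_option autoImplicit false

universe u v

open scoped TensorProduct

namespace Groth.Agent.H20.FinitePrimesBasis

variable {R : Type u} [CommRing R] {M : Type v} [AddCommGroup M] [Module R M]

theorem range_localized_linearCombination (n : ℕ) (s : Fin n → M) (S : Submonoid R) :
    LinearMap.range (LocalizedModule.map S (Fintype.linearCombination R s)) =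
      Submodule.span (Localization S) (Set.range fun j => LocalizedModule.mkLinearMap S M (s j)) := by
  classical
  have h : Submodule.span (Localization S)
      (LocalizedModule.mkLinearMap S (Fin n → R) '' Set.range (Pi.basisFun R (Fin n))) = ⊤ :=
    span_eq_top_of_isLocalizedModule (Localization S) S (LocalizedModule.mkLinearMap S (Fin n → R))
      (Pi.basisFun R (Fin n)).span_eq
  rw [LinearMap.range_eq_map, ← h, Submodule.map_span, ← Set.range_comp, ← Set.range_comp]
  congr 1
  refine congrArg Set.range (funext fun j => ?_)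
  simp [Fintype.linearCombination_apply_single]

theorem surjective_iff_span (n : ℕ) (s : Fin n → M) (S : Submonoid R) :
    Function.Surjective (LocalizedModule.map S (Fintype.linearCombination R s)) ↔
      Submodule.span (Localization S) (Set.range fun j => LocalizedModule.mkLinearMap S M (s j)) = ⊤ := by
  rw [← range_localized_linearCombination, LinearMap.range_eq_top]

/-- Generators at finitely many primes can be chosen simultaneously. -/
theorem exists_surjective_at (n : ℕ) [Module.Finite R M] (P : Finset (PrimeSpectrum R))
    (h : ∀ p ∈ P, ∃ t : Fin n → M,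
      Function.Surjective (LocalizedModule.map p.asIdeal.primeCompl (Fintype.linearCombination R t))) :
    ∃ s : Fin n → M, ∀ p ∈ P,
      Function.Surjective (LocalizedModule.map p.asIdeal.primeCompl (Fintype.linearCombination R s)) := by
  classical
  let P' := P.filter fun p => ∀ q ∈ P, p ≤ q → q = p
  have hP' : ∀ p ∈ P, ∃ q ∈ P', p ≤ q := by
    intro p hp
    obtain ⟨q, hpq, hq⟩ := Finset.exists_le_maximal P hp
    exact ⟨q, Finset.mem_filter.mpr ⟨hq.1, fun r hr hqr => le_antisymm (hq.2 hr hqr) hqr⟩, hpq⟩
  -- an element outside `p` and inside every other maximal one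
  have ha : ∀ p ∈ P', ∃ a : R, a ∉ p.asIdeal ∧ ∀ q ∈ P', q ≠ p → a ∈ q.asIdeal := by
    intro p hp
    have hnot : ¬ (P'.erase p).inf (fun q => q.asIdeal) ≤ p.asIdeal := by
      intro hle
      obtain ⟨q, hq, hqp⟩ := (Ideal.IsPrime.inf_le' p.2).mp hle
      obtain ⟨hne, hq⟩ := Finset.mem_erase.mp hq
      exact hne ((Finset.mem_filter.mp hq).2 p (Finset.mem_filter.mp hp).1 hqp).symm
    obtain ⟨a, ha, hap⟩ := SetLike.not_le_iff_exists.mp hnot
    exact ⟨a, hap, fun q hq hne => Finset.inf_le (f := fun q : PrimeSpectrum R => q.asIdeal)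
      (Finset.mem_erase.mpr ⟨hne, hq⟩) ha⟩
  choose! a ha ha' using ha
  choose! t ht using h
  refine ⟨∑ p ∈ P', a p • t p, fun p₀ hp₀ => ?_⟩
  obtain ⟨p, hp, hle⟩ := hP' p₀ hp₀
  rw [LocalSurj.surjective_localized_atPrime_iff]
  refine fun hmem => ?_
  have hp2 := Module.mem_support_mono hle hmem
  revert hp2
  rw [imp_false, ← LocalSurj.surjective_lTensor_residueField_iff]
  have htp : Function.Surjective
      ((Fintype.linearCombination R (t p)).lTensor p.asIdeal.ResidueField) := by
    rw [LocalSurj.surjective_lTensor_residueField_iff, ← LocalSurj.surjective_localized_atPrime_iff]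
    exact ht p (Finset.mem_filter.mp hp).1
  have hzero : ∀ r ∈ p.asIdeal, ∀ c : p.asIdeal.ResidueField, r • c = 0 := fun r hr c => by
    rw [Algebra.smul_def, Ideal.algebraMap_residueField_eq_zero.mpr hr, zero_mul]
  have heq : ((Fintype.linearCombination R (∑ q ∈ P', a q • t q)).lTensor p.asIdeal.ResidueField) =
      a p • (Fintype.linearCombination R (t p)).lTensor p.asIdeal.ResidueField := by
    refine TensorProduct.ext' fun c x => ?_
    simp only [LinearMap.lTensor_tmul, LinearMap.smul_apply, Fintype.linearCombination_apply,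
      Finset.sum_apply, Pi.smul_apply, Finset.smul_sum, TensorProduct.tmul_sum]
    refine Finset.sum_congr rfl fun j _ => ?_
    rw [Finset.sum_eq_single p]
    · rw [← TensorProduct.tmul_smul, smul_comm]
    · intro q hq hne
      rw [smul_comm, TensorProduct.tmul_smul, TensorProduct.smul_tmul',
        hzero _ (ha' q hq p hp (Ne.symm hne)), TensorProduct.zero_tmul]
    · exact fun hn => absurd hp hn
  rw [heq]
  intro y
  obtain ⟨x, hx⟩ := htp ((algebraMap R p.asIdeal.ResidueField (a p))⁻¹ • y)
  refine ⟨x, ?_⟩
  rw [LinearMap.smul_apply, hx, ← algebraMap_smul p.asIdeal.ResidueField (a p), smul_smul,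
    mul_inv_cancel₀ (fun h0 => ha p hp (Ideal.algebraMap_residueField_eq_zero.mp h0)), one_smul]

theorem exists_generators_atPrime (n : ℕ) [Module.Finite R M] [Module.Flat R M] (p : PrimeSpectrum R)
    (h : Module.rankAtStalk (R := R) M p = n) :
    ∃ t : Fin n → M,
      Function.Surjective (LocalizedModule.map p.asIdeal.primeCompl (Fintype.linearCombination R t)) := by
  have : Module.Free (Localization.AtPrime p.asIdeal) (LocalizedModule p.asIdeal.primeCompl M) :=
    Module.free_of_flat_of_isLocalRing
  let b := (Module.finBasisOfFinrankEq _ (LocalizedModule p.asIdeal.primeCompl M) h)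
  choose t ht using fun j => IsLocalizedModule.surj p.asIdeal.primeCompl
    (LocalizedModule.mkLinearMap p.asIdeal.primeCompl M) (b j)
  refine ⟨fun j => (t j).1, (surjective_iff_span _ _ _).mpr (eq_top_iff.mpr ?_)⟩
  rw [← b.span_eq, Submodule.span_le]
  rintro _ ⟨j, rfl⟩
  refine (Submodule.smul_mem_iff_of_isUnit _
    (IsLocalization.map_units (Localization.AtPrime p.asIdeal) (t j).2)).mp ?_
  rw [algebraMap_smul, ← Submonoid.smul_def, ht j]
  exact Submodule.subset_span ⟨j, rfl⟩

/-- A finite projective module has a basis on an open set containing given finitely many primes. -/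
theorem exists_basis_near (n : ℕ) [Module.Finite R M] [Module.Projective R M]
    (P : Finset (PrimeSpectrum R)) (h : ∀ p ∈ P, Module.rankAtStalk (R := R) M p = n) :
    ∃ (s : Fin n → M) (U : Set (PrimeSpectrum R)), IsOpen U ∧ (∀ p ∈ P, p ∈ U) ∧
      ∀ q ∈ U,
        LinearIndependent (Localization.AtPrime q.asIdeal)
            (fun j => LocalizedModule.mkLinearMap q.asIdeal.primeCompl M (s j)) ∧
          Submodule.span (Localization.AtPrime q.asIdeal)
            (Set.range fun j => LocalizedModule.mkLinearMap q.asIdeal.primeCompl M (s j)) = ⊤ := by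
  have := Module.finitePresentation_of_projective R M
  obtain ⟨s, hs⟩ := exists_surjective_at n P fun p hp => exists_generators_atPrime n p (h p hp)
  refine ⟨s, {q | Function.Surjective (LocalizedModule.map q.asIdeal.primeCompl (Fintype.linearCombination R s))}
    ∩ {q | Module.rankAtStalk (R := R) M q = n},
    (LocalSurj.isOpen_surjectiveLocus _).inter (Module.isLocallyConstant_rankAtStalk {n}),
    fun p hp => ⟨hs p hp, h p hp⟩, fun q ⟨hq, hn⟩ => ?_⟩
  have hspan := (surjective_iff_span _ _ _).mp hq
  refine ⟨?_, hspan⟩
  have : Module.Free (Localization.AtPrime q.asIdeal) (LocalizedModule q.asIdeal.primeCompl M) :=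
    Module.free_of_flat_of_isLocalRing
  refine Fintype.linearIndependent_iff.mpr fun g hg i => ?_
  have hb := OrzechProperty.bijective_of_surjective_of_finrank_le
    (Fintype.linearCombination (Localization.AtPrime q.asIdeal)
      (fun j => LocalizedModule.mkLinearMap q.asIdeal.primeCompl M (s j)))
    (LinearMap.range_eq_top.mp (by rw [Fintype.range_linearCombination, hspan]))
    (by rw [Module.finrank_fin_fun]; exact hn.ge)
  exact congrFun (hb.1 (a₁ := g) (a₂ := 0) (by simpa [Fintype.linearCombination_apply] using hg)) i

end Groth.Agent.H20.FinitePrimesBasis
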