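import Mathlib.RingTheory.Spectrum.Prime.Basic
import Mathlib.RingTheory.Localization.Basic
import Mathlib.RingTheory.Localization.AtPrime.Basic
import Mathlib.RingTheory.Localization.Away.Basic
import Mathlib.RingTheory.Nilpotent.Lemmas

/-!
In a ring with finite spectrum the localization at a prime is the localization at an element.
-/

universe u

namespace Groth.Agent.H20.FiniteSpectrumLoc

theorem exists_away {B : Type u} [CommRing B] [Finite (PrimeSpectrum B)] (P : Ideal B) [P.IsPrime] :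
    ∃ f : B, f ∉ P ∧ ∀ (S : Type u) [CommRing S] [Algebra B S] [IsLocalization.AtPrime S P],
      IsLocalization.Away f S := by
  classical
  have := Fintype.ofFinite (PrimeSpectrum B)
  have : ∀ Q : PrimeSpectrum B, ∃ g : B, g ∉ P ∧ (¬ Q.asIdeal ≤ P → g ∈ Q.asIdeal) := by
    intro Q
    by_cases h : Q.asIdeal ≤ P
    · exact ⟨1, P.ne_top_iff_one.mp (Ideal.IsPrime.ne_top ‹_›), fun h' => absurd h h'⟩
    · obtain ⟨g, hg, hg'⟩ := SetLike.not_le_iff_exists.mp h
      exact ⟨g, hg', fun _ => hg⟩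
  choose g hg hgQ using this
  refine ⟨∏ Q, g Q, fun h => ?_, fun S _ _ _ => ?_⟩
  · obtain ⟨Q, -, hQ⟩ := Ideal.IsPrime.prod_mem_iff.mp h
    exact hg Q hQ
  · refine (IsLocalization.iff_of_le_of_exists_dvd (Submonoid.powers (∏ Q, g Q)) P.primeCompl
      ?_ ?_).mpr ‹_›
    · rintro _ ⟨n, rfl⟩ h
      obtain ⟨Q, -, hQ⟩ := Ideal.IsPrime.prod_mem_iff.mp
        (Ideal.IsPrime.mem_of_pow_mem ‹P.IsPrime› n h)
      exact hg Q hQ
    · intro s hs
      have hmem : ∏ Q, g Q ∈ (Ideal.span {s}).radical := by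
        rw [Ideal.radical_eq_sInf, Submodule.mem_sInf]
        rintro Q ⟨hsQ, hQ⟩
        let Q' : PrimeSpectrum B := ⟨Q, hQ⟩
        refine Ideal.mem_of_dvd Q (Finset.dvd_prod_of_mem g (Finset.mem_univ Q')) (hgQ Q' fun h => ?_)
        exact hs (h (hsQ (Ideal.mem_span_singleton_self s)))
      obtain ⟨n, hn⟩ := hmem
      exact ⟨_, ⟨n, rfl⟩, Ideal.mem_span_singleton.mp hn⟩

end Groth.Agent.H20.FiniteSpectrumLoc
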