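import Groth.Prelude.Def_FlatCA
import Groth.Agent.H25.Fitting
import Mathlib

/-!
# Fitting ideal of a quotient of a finite algebra, along an etale localisation
-/

universe u

open TensorProduct

namespace Groth.Agent.H20.FittingEtale

open Groth.Agent.H25.Fitting

theorem fittingZero_eq {R M : Type u} [CommRing R] [AddCommGroup M] [Module R M] :
    FlatCA.fittingZero R M = Fitt.ideal R M 0 := by
  unfold FlatCA.fittingZero Fitt.ideal
  congr 1
  ext d
  constructor
  · rintro ⟨n, x, a, hx, ha, rfl⟩; exact ⟨n, x, a, hx, fun i _ => ha i, rfl⟩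
  · rintro ⟨n, x, a, hx, ha, rfl⟩; exact ⟨n, x, a, hx, fun i => ha i (by omega), rfl⟩

theorem ideal_fg {R M : Type u} [CommRing R] [AddCommGroup M] [Module R M] [Module.FinitePresentation R M]
    (k : ℕ) : (Fitt.ideal R M k).FG := by
  obtain ⟨n, x, hx⟩ := Module.Finite.exists_fin (R := R) (M := M)
  have hsurj : Function.Surjective (Fintype.linearCombination R x) :=
    LinearMap.range_eq_top.1 (by rw [Fintype.range_linearCombination]; exact hx)
  obtain ⟨S, hS⟩ := Module.FinitePresentation.fg_ker (Fintype.linearCombination R x) hsurj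
  rw [ideal_eq_of_rel x hx (S : Set (Fin n → R)) hS.symm k]
  exact Mn_fg S.finite_toSet _

theorem ideal_quotient {R : Type u} [CommRing R] (J : Ideal R) : Fitt.ideal R (R ⧸ J) 0 = J := by
  have hx : Submodule.span R (Set.range fun _ : Fin 1 => (1 : R ⧸ J)) = ⊤ := by
    rw [eq_top_iff]
    intro y _
    obtain ⟨y, rfl⟩ := Ideal.Quotient.mk_surjective y
    rw [show Ideal.Quotient.mk J y = y • (1 : R ⧸ J) by rw [Algebra.smul_def, mul_one]; rfl]
    exact Submodule.smul_mem _ _ (Submodule.subset_span ⟨0, rfl⟩)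
  rw [ideal_eq _ hx 0]
  show Mn _ 1 = J
  have hrel : ∀ v : Fin 1 → R, v ∈ rel (R := R) (fun _ : Fin 1 => (1 : R ⧸ J)) ↔ v 0 ∈ J := fun v => by
    rw [mem_rel, Fin.sum_univ_one, Algebra.smul_def, mul_one, Ideal.Quotient.algebraMap_eq,
      Ideal.Quotient.eq_zero_iff_mem]
  refine le_antisymm (Ideal.span_le.2 ?_) fun j hj => ?_
  · rintro d ⟨z, e, hz, rfl⟩
    rw [SetLike.mem_coe, Matrix.det_unique]
    simp only [Matrix.of_apply]
    rw [Subsingleton.elim (e default) 0]
    exact (hrel _).1 (hz _)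
  · refine Ideal.subset_span ⟨fun _ _ => j, fun _ => 0, fun _ => (hrel _).2 hj, ?_⟩
    simp

/-- Fitting ideals of products. -/
theorem ideal_prod {R M N : Type u} [CommRing R] [AddCommGroup M] [Module R M] [AddCommGroup N] [Module R N]
    [Module.Finite R M] [Module.Finite R N] :
    Fitt.ideal R (M × N) 0 = Fitt.ideal R M 0 * Fitt.ideal R N 0 := by
  classical
  obtain ⟨p, x, hx⟩ := Module.Finite.exists_fin (R := R) (M := M)
  obtain ⟨q, y, hy⟩ := Module.Finite.exists_fin (R := R) (M := N)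
  let z : Fin p ⊕ Fin q → M × N := Sum.elim (fun i => (x i, 0)) fun j => (0, y j)
  have hz : Submodule.span R (Set.range (z ∘ finSumFinEquiv.symm)) = ⊤ := by
    rw [finSumFinEquiv.symm.surjective.range_comp, Set.Sum.elim_range, Submodule.span_union]
    rw [show (fun i => (x i, (0 : N))) = LinearMap.inl R M N ∘ x from rfl,
      show (fun j => ((0 : M), y j)) = LinearMap.inr R M N ∘ y from rfl, Set.range_comp, Set.range_comp,
      Submodule.span_image, Submodule.span_image, hx, hy, Submodule.map_top, Submodule.map_top,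
      LinearMap.sup_range_inl_inr]
  let L : Set (Fin (p + q) → R) :=
    {v | ∃ a ∈ rel (R := R) x, v = Sum.elim a (0 : Fin q → R) ∘ finSumFinEquiv.symm}
  let Rt : Set (Fin (p + q) → R) :=
    {v | ∃ b ∈ rel (R := R) y, v = Sum.elim (0 : Fin p → R) b ∘ finSumFinEquiv.symm}
  have hrel : rel (R := R) (z ∘ finSumFinEquiv.symm) = Submodule.span R (L ∪ Rt) := by
    refine le_antisymm (fun v hv => ?_) (Submodule.span_le.2 ?_)
    · rw [mem_rel, ← finSumFinEquiv.sum_comp] at hv
      simp only [Function.comp_apply, Equiv.symm_apply_apply, Fintype.sum_sum_type, z, Sum.elim_inl,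
        Sum.elim_inr, Prod.smul_mk, smul_zero] at hv
      rw [Prod.ext_iff] at hv
      simp only [Prod.fst_add, Prod.snd_add, Prod.fst_sum, Prod.snd_sum, Finset.sum_const_zero, add_zero,
        zero_add, Prod.fst_zero, Prod.snd_zero] at hv
      have hdec : v = Sum.elim (fun i => v (finSumFinEquiv (Sum.inl i))) (0 : Fin q → R) ∘ finSumFinEquiv.symm +
          Sum.elim (0 : Fin p → R) (fun j => v (finSumFinEquiv (Sum.inr j))) ∘ finSumFinEquiv.symm := by
        funext k
        obtain ⟨k, rfl⟩ := finSumFinEquiv.surjective k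
        rcases k with i | j <;> simp
      rw [hdec]
      exact add_mem (Submodule.subset_span (Or.inl ⟨_, mem_rel.2 hv.1, rfl⟩))
        (Submodule.subset_span (Or.inr ⟨_, mem_rel.2 hv.2, rfl⟩))
    · rintro v (⟨a, ha, rfl⟩ | ⟨b, hb, rfl⟩) <;> rw [SetLike.mem_coe, mem_rel, ← finSumFinEquiv.sum_comp]
      · simp only [Function.comp_apply, Equiv.symm_apply_apply, Fintype.sum_sum_type, z, Sum.elim_inl,
          Sum.elim_inr, Pi.zero_apply, zero_smul, Finset.sum_const_zero, add_zero, Prod.smul_mk, smul_zero]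
        exact Prod.ext (by simpa [Prod.fst_sum] using mem_rel.1 ha) (by simp [Prod.snd_sum])
      · simp only [Function.comp_apply, Equiv.symm_apply_apply, Fintype.sum_sum_type, z, Sum.elim_inl,
          Sum.elim_inr, Pi.zero_apply, zero_smul, Finset.sum_const_zero, zero_add, Prod.smul_mk, smul_zero]
        exact Prod.ext (by simp [Prod.fst_sum]) (by simpa [Prod.snd_sum] using mem_rel.1 hb)
  rw [ideal_eq_of_rel _ hz _ hrel 0, ideal_eq x hx 0, ideal_eq y hy 0]
  simp only [Nat.sub_zero]
  refine le_antisymm (Ideal.span_le.2 ?_) ?_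
  · rintro d ⟨w, e, hw, rfl⟩
    -- normalise the columns
    by_cases he : Function.Injective e
    swap
    · obtain ⟨a, b, hab, hne⟩ := Function.not_injective_iff.1 he
      rw [SetLike.mem_coe, Matrix.det_zero_of_row_eq hne (funext fun c => by simp [hab])]
      exact zero_mem _
    let eσ : Fin (p + q) ≃ Fin (p + q) := Equiv.ofBijective e (Finite.injective_iff_bijective.1 he)
    have hd : (Matrix.of fun a b => w b (e a)) = (Matrix.of fun a b => w b a).submatrix eσ id := rfl
    rw [SetLike.mem_coe, hd, Matrix.det_permute]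
    refine Ideal.mul_mem_left _ _ ?_
    let W : Matrix (Fin (p + q)) (Fin (p + q)) R := Matrix.of fun a b => w b a
    let s : Finset (Fin (p + q)) := Finset.univ.filter fun b => w b ∈ L
    let P : Finset (Fin (p + q)) := Finset.univ.filter fun a => (finSumFinEquiv.symm a).isLeft
    have hcase : ∀ b, b ∉ s → w b ∈ Rt := fun b hb =>
      (hw b).resolve_left fun h => hb (Finset.mem_filter.2 ⟨Finset.mem_univ _, h⟩)
    have hP : P.card = p := by
      rw [show P = (Finset.univ : Finset (Fin p)).map ((⟨Sum.inl, Sum.inl_injective⟩ : Fin p ↪ Fin p ⊕ Fin q).trans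
        finSumFinEquiv.toEmbedding) from ?_, Finset.card_map, Finset.card_univ, Fintype.card_fin]
      ext a
      obtain ⟨a, rfl⟩ := finSumFinEquiv.surjective a
      rcases a with i | j
      · simp [P]
      · simp only [P, Finset.mem_map, Finset.mem_filter, Finset.mem_univ, true_and, Equiv.symm_apply_apply,
          Sum.isLeft_inr, Bool.false_eq_true, false_iff, not_exists, Function.Embedding.trans_apply,
          Function.Embedding.coeFn_mk, Equiv.coe_toEmbedding]
        exact fun i h => Sum.inl_ne_inr (finSumFinEquiv.injective h)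
    show W.det ∈ _
    by_cases hs : s.card = p
    swap
    · rw [Matrix.det_apply]
      refine sum_mem fun σ _ => ?_
      suffices h : ∏ i, W (σ i) i = 0 by rw [h, smul_zero]; exact zero_mem _
      by_contra hne
      have hall : ∀ i, W (σ i) i ≠ 0 := fun i h => hne (Finset.prod_eq_zero (Finset.mem_univ i) h)
      apply hs
      refine ((Finset.card_map σ.toEmbedding).symm.trans ?_).trans hP
      congr 1
      ext a
      rw [Finset.mem_map_equiv]
      have h1 := hall (σ.symm a)
      rw [Equiv.apply_symm_apply] at h1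
      constructor
      · intro ha
        obtain ⟨v, -, hv⟩ := (Finset.mem_filter.1 ha).2
        refine Finset.mem_filter.2 ⟨Finset.mem_univ _, ?_⟩
        simp only [W, Matrix.of_apply, hv, Function.comp_apply] at h1
        rcases hc : finSumFinEquiv.symm a with i | j
        · rfl
        · simp [hc] at h1
      · intro ha
        by_contra hns
        obtain ⟨v, -, hv⟩ := hcase _ hns
        simp only [W, Matrix.of_apply, hv, Function.comp_apply] at h1
        rcases hc : finSumFinEquiv.symm a with i | j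
        · simp [hc] at h1
        · simp [P, hc] at ha
    have hsc : Fintype.card {b // b ∈ s} = p := by rw [Fintype.card_coe, hs]
    have hsc' : Fintype.card {b // b ∉ s} = q := by
      rw [Fintype.card_subtype_compl, Fintype.card_fin, hsc]; omega
    let τ : Fin p ⊕ Fin q ≃ Fin (p + q) :=
      (Equiv.sumCongr (Fintype.equivFinOfCardEq hsc).symm (Fintype.equivFinOfCardEq hsc').symm).trans
        (Equiv.sumCompl (· ∈ s))
    have hdet : W.det = Matrix.det (W.submatrix finSumFinEquiv finSumFinEquiv) :=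
      (Matrix.det_submatrix_equiv_self finSumFinEquiv W).symm
    have hfac : W.submatrix finSumFinEquiv finSumFinEquiv =
        (W.submatrix finSumFinEquiv τ).submatrix id (finSumFinEquiv.trans τ.symm) := by
      ext a b; simp
    rw [hdet, hfac, Matrix.det_permute']
    refine Ideal.mul_mem_left _ _ ?_
    choose va hva hvaeq using fun i : Fin p => show w (τ (Sum.inl i)) ∈ L from
      (Finset.mem_filter.1 ((Fintype.equivFinOfCardEq hsc).symm i).2).2
    choose vb hvb hvbeq using fun j : Fin q => show w (τ (Sum.inr j)) ∈ Rt from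
      hcase _ ((Fintype.equivFinOfCardEq hsc').symm j).2
    have hblock : W.submatrix finSumFinEquiv τ =
        Matrix.fromBlocks (Matrix.of fun a b => va b a) 0 0 (Matrix.of fun a b => vb b a) := by
      ext a b
      rcases b with b | b
      · rcases a with a | a <;> simp [W, hvaeq b]
      · rcases a with a | a <;> simp [W, hvbeq b]
    rw [hblock, Matrix.det_fromBlocks_zero₁₂]
    exact Ideal.mul_mem_mul (det_mem_Mn va id hva) (det_mem_Mn vb id hvb)
  · rw [Mn, Mn, Ideal.span_mul_span', Ideal.span_le]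
    rintro _ ⟨_, ⟨za, ea, hza, rfl⟩, _, ⟨zb, eb, hzb, rfl⟩, rfl⟩
    refine Ideal.subset_span ⟨fun b => Sum.elim (fun i => Sum.elim (za i) (0 : Fin q → R) ∘ finSumFinEquiv.symm)
      (fun j => Sum.elim (0 : Fin p → R) (zb j) ∘ finSumFinEquiv.symm) (finSumFinEquiv.symm b),
      fun a => finSumFinEquiv (Sum.map ea eb (finSumFinEquiv.symm a)), fun b => ?_, ?_⟩
    · obtain ⟨b, rfl⟩ := finSumFinEquiv.surjective b
      simp only [Equiv.symm_apply_apply]
      rcases b with b | b
      · exact Or.inl ⟨_, hza b, rfl⟩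
      · exact Or.inr ⟨_, hzb b, rfl⟩
    · rw [← Matrix.det_submatrix_equiv_self finSumFinEquiv (Matrix.of _)]
      have : (Matrix.of fun a b : Fin (p + q) => Sum.elim (fun i => Sum.elim (za i) (0 : Fin q → R) ∘ finSumFinEquiv.symm)
          (fun j => Sum.elim (0 : Fin p → R) (zb j) ∘ finSumFinEquiv.symm) (finSumFinEquiv.symm b)
          (finSumFinEquiv (Sum.map ea eb (finSumFinEquiv.symm a)))).submatrix finSumFinEquiv finSumFinEquiv =
          Matrix.fromBlocks (Matrix.of fun a b => za b (ea a)) 0 0 (Matrix.of fun a b => zb b (eb a)) := by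
        ext a b
        rcases a with a | a <;> rcases b with b | b <;> simp
      rw [this, Matrix.det_fromBlocks_zero₁₂]

section Main

variable {A C L : Type u} [CommRing A] [CommRing C] [CommRing L] [Algebra A C] [Algebra A L] [Algebra C L]
  [IsScalarTower A C L] [Module.Finite A C] [Algebra.EssFiniteType A L] [Algebra.FormallyUnramified A L]

/-- The diagonal idempotent lifted to the finite algebra. -/
theorem exists_idem (h : C) [IsLocalization.Away h L] :
    ∃ e : C ⊗[A] L, (∀ c : C, (c ⊗ₜ[A] (1 : L)) * e = ((1 : C) ⊗ₜ[A] algebraMap C L c) * e) ∧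
      Algebra.TensorProduct.lift (IsScalarTower.toAlgHom A C L) (AlgHom.id A L) (fun _ _ => Commute.all _ _) e = 1 := by
  classical
  set μ := Algebra.TensorProduct.lift (IsScalarTower.toAlgHom A C L) (AlgHom.id A L) (fun _ _ => Commute.all _ _)
  let φ : C ⊗[A] L →ₐ[A] L ⊗[A] L := Algebra.TensorProduct.map (IsScalarTower.toAlgHom A C L) (AlgHom.id A L)
  have hμφ : ∀ t, Algebra.TensorProduct.lmul' A (φ t) = μ t := fun t => by
    induction t using TensorProduct.induction_on with
    | zero => simp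
    | tmul c l => simp [φ, μ]
    | add a b ha hb => rw [map_add, map_add, ha, hb, map_add]
  set hu : Lˣ := (IsLocalization.Away.algebraMap_isUnit (S := L) h).unit
  have hlift : ∀ t : L ⊗[A] L, ∃ (n : ℕ) (y : C ⊗[A] L), φ y = t * (((algebraMap C L h) ^ n) ⊗ₜ[A] (1 : L)) := fun t => by
    induction t using TensorProduct.induction_on with
    | zero => exact ⟨0, 0, by simp⟩
    | tmul a l =>
      obtain ⟨⟨c, ⟨_, n, rfl⟩⟩, hc⟩ := IsLocalization.surj (Submonoid.powers h) a
      refine ⟨n, c ⊗ₜ l, ?_⟩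
      rw [map_pow] at hc
      simp [φ, ← hc]
    | add a b ha hb =>
      obtain ⟨n, y, hy⟩ := ha
      obtain ⟨m, y', hy'⟩ := hb
      refine ⟨n + m, y * ((h ^ m) ⊗ₜ 1) + y' * ((h ^ n) ⊗ₜ 1), ?_⟩
      rw [map_add, map_mul, map_mul, hy, hy', mul_assoc, mul_assoc, add_mul]
      simp [φ, Algebra.TensorProduct.tmul_mul_tmul, ← pow_add, add_comm n m]
  set z := Algebra.FormallyUnramified.elem A L
  have hz : ∀ a : L, (a ⊗ₜ[A] 1) * z = ((1 : L) ⊗ₜ[A] a) * z := fun a =>
    (Algebra.FormallyUnramified.one_tmul_mul_elem a).symm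
  obtain ⟨n, y, hy⟩ := hlift z
  let z0 := y * ((1 : C) ⊗ₜ[A] ((↑(hu⁻¹) : L) ^ n))
  have hz0 : φ z0 = z := by
    rw [map_mul, hy, mul_comm z, hz, mul_comm (1 ⊗ₜ[A] _) z, mul_assoc]
    simp only [φ, Algebra.TensorProduct.map_tmul, map_one, AlgHom.coe_id, id_eq,
      Algebra.TensorProduct.tmul_mul_tmul, one_mul, ← mul_pow]
    rw [show algebraMap C L h * ↑hu⁻¹ = 1 from hu.mul_inv, one_pow, ← Algebra.TensorProduct.one_def, mul_one]
  have hker : ∀ t : C ⊗[A] L, φ t = 0 → ∃ N : ℕ, ((h ^ N) ⊗ₜ[A] (1 : L)) * t = 0 := fun t ht => by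
    let f : C ⊗[A] L →ₗ[C] L ⊗[A] L :=
      TensorProduct.AlgebraTensorModule.rTensor A L (Algebra.linearMap C L)
    haveI : IsLocalizedModule (Submonoid.powers h) f := inferInstance
    have hf : ∀ s, f s = φ s := fun s => by
      induction s using TensorProduct.induction_on with
      | zero => simp
      | tmul c l => simp [f, φ]
      | add a b ha hb => rw [map_add, map_add, ha, hb]
    obtain ⟨⟨_, N, rfl⟩, hN⟩ := (IsLocalizedModule.eq_zero_iff (Submonoid.powers h) f).1 (hf t ▸ ht)
    refine ⟨N, ?_⟩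
    rw [show (h ^ N) ⊗ₜ[A] (1 : L) = algebraMap C (C ⊗[A] L) (h ^ N) from rfl, ← Algebra.smul_def]
    exact hN
  obtain ⟨s, hs⟩ := Module.Finite.fg_top (R := A) (M := C)
  choose! Nc hNc using fun c (hc : c ∈ s) =>
    hker (((c : C) ⊗ₜ[A] (1 : L) - (1 : C) ⊗ₜ[A] algebraMap C L c) * z0) (by
      rw [map_mul, map_sub, hz0, sub_mul, sub_eq_zero]
      simp only [φ, Algebra.TensorProduct.map_tmul, map_one, AlgHom.coe_id, id_eq, IsScalarTower.coe_toAlgHom']
      exact hz _)
  let N := s.sup Nc
  refine ⟨z0 * ((h ^ N) ⊗ₜ[A] ((↑(hu⁻¹) : L) ^ N)), fun c => ?_, ?_⟩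
  · have hgen : ∀ c ∈ s, ((c : C) ⊗ₜ[A] (1 : L) - (1 : C) ⊗ₜ[A] algebraMap C L c) *
        (z0 * ((h ^ N) ⊗ₜ[A] ((↑(hu⁻¹) : L) ^ N))) = 0 := fun c hc => by
      obtain ⟨k, hk⟩ := Nat.exists_eq_add_of_le (Finset.le_sup (f := Nc) hc)
      rw [show (h ^ N) ⊗ₜ[A] ((↑(hu⁻¹) : L) ^ N) = ((h ^ Nc c) ⊗ₜ[A] (1 : L)) * ((h ^ k) ⊗ₜ[A] ((↑(hu⁻¹) : L) ^ N)) by
        rw [Algebra.TensorProduct.tmul_mul_tmul, one_mul, ← pow_add, ← hk],
        ← mul_assoc, ← mul_assoc, mul_comm _ ((h ^ Nc c) ⊗ₜ[A] (1 : L)), hNc c hc, zero_mul]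
    have hc : c ∈ Submodule.span A (s : Set C) := hs ▸ Submodule.mem_top
    rw [← sub_eq_zero, ← sub_mul]
    induction hc using Submodule.span_induction with
    | mem x hx => exact hgen x hx
    | zero => simp
    | add a b _ _ ha hb =>
      rw [TensorProduct.add_tmul, map_add, TensorProduct.tmul_add, add_sub_add_comm, add_mul, ha, hb, add_zero]
    | smul r a _ ha =>
      rw [← TensorProduct.smul_tmul', Algebra.smul_def r a, map_mul, ← IsScalarTower.algebraMap_apply,
        ← Algebra.smul_def, TensorProduct.tmul_smul, ← smul_sub, smul_mul_assoc, ha, smul_zero]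
  · rw [map_mul, ← hμφ z0, hz0, Algebra.FormallyUnramified.lmul_elem, one_mul]
    simp only [μ, Algebra.TensorProduct.lift_tmul, AlgHom.coe_id, id_eq, IsScalarTower.coe_toAlgHom', map_pow,
      ← mul_pow]
    rw [show algebraMap C L h * ↑hu⁻¹ = 1 from hu.mul_inv, one_pow]

/-- The decomposition. -/
theorem exists_factor (h : C) [IsLocalization.Away h L] (J : Ideal C) :
    ∃ J' : Ideal L, (Fitt.ideal A (C ⧸ J) 0).map (algebraMap A L) = J.map (algebraMap C L) * J' ∧
      (Module.FinitePresentation A (C ⧸ J) → J'.FG) := by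
  classical
  obtain ⟨e, he, hμe⟩ := exists_idem (A := A) (L := L) h
  let π : C →ₐ[A] C ⧸ J := Ideal.Quotient.mkₐ A J
  let κ : C ⊗[A] L →ₐ[A] L ⊗[A] (C ⧸ J) :=
    (Algebra.TensorProduct.comm A (C ⧸ J) L).toAlgHom.comp (Algebra.TensorProduct.map π (AlgHom.id A L))
  have hκ : ∀ c l, κ (c ⊗ₜ[A] l) = l ⊗ₜ[A] π c := fun c l => rfl
  set ε := κ e
  have hε : ∀ c : C, ((1 : L) ⊗ₜ[A] π c) * ε = (algebraMap C L c ⊗ₜ[A] (1 : C ⧸ J)) * ε := fun c => by
    have := congrArg κ (he c)
    simp only [map_mul, hκ, map_one] at this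
    exact this
  let JL := J.map (algebraMap C L)
  let μQ : L ⊗[A] (C ⧸ J) →ₐ[L] L ⧸ JL :=
    Algebra.TensorProduct.lift (Algebra.ofId L (L ⧸ JL))
      (Ideal.Quotient.liftₐ J ((Ideal.Quotient.mkₐ A JL).comp (IsScalarTower.toAlgHom A C L))
        fun a ha => Ideal.Quotient.eq_zero_iff_mem.2 (Ideal.mem_map_of_mem _ ha))
      fun _ _ => Commute.all _ _
  have hμQ : ∀ l c, μQ (l ⊗ₜ[A] π c) = Ideal.Quotient.mk JL (l * algebraMap C L c) := fun l c => rfl
  have hμε : μQ ε = 1 := by
    have hcomp : ∀ t, μQ (κ t) = Ideal.Quotient.mk JL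
        (Algebra.TensorProduct.lift (IsScalarTower.toAlgHom A C L) (AlgHom.id A L) (fun _ _ => Commute.all _ _) t) :=
      fun t => by
        induction t using TensorProduct.induction_on with
        | zero => simp
        | tmul c l => rw [hκ, hμQ]; simp [mul_comm]
        | add a b ha hb => rw [map_add, map_add, ha, hb, map_add, map_add]
    rw [hcomp, hμe, map_one]
  have hJ0 : ∀ l ∈ JL, (l ⊗ₜ[A] (1 : C ⧸ J)) * ε = 0 := fun l hl => by
    induction hl using Submodule.span_induction with
    | mem x hx =>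
      obtain ⟨j, hj, rfl⟩ := hx
      rw [← hε, show π j = 0 from Ideal.Quotient.eq_zero_iff_mem.2 hj, TensorProduct.tmul_zero, zero_mul]
    | zero => simp
    | add a b _ _ ha hb => rw [TensorProduct.add_tmul, add_mul, ha, hb, add_zero]
    | smul r a _ ha =>
      rw [smul_eq_mul, show (r * a) ⊗ₜ[A] (1 : C ⧸ J) = (r ⊗ₜ 1) * (a ⊗ₜ 1) by
        rw [Algebra.TensorProduct.tmul_mul_tmul, one_mul], mul_assoc, ha, mul_zero]
  have hεq : ∀ q, ∀ l, μQ q = Ideal.Quotient.mk JL l → q * ε = (l ⊗ₜ[A] (1 : C ⧸ J)) * ε := fun q => by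
    induction q using TensorProduct.induction_on with
    | zero =>
      intro l hl
      rw [map_zero, eq_comm, Ideal.Quotient.eq_zero_iff_mem] at hl
      rw [zero_mul, hJ0 l hl]
    | tmul a c =>
      obtain ⟨c, rfl⟩ := Ideal.Quotient.mk_surjective c
      intro l hl
      rw [show (Ideal.Quotient.mk J c) = π c from rfl] at hl ⊢
      rw [hμQ, Ideal.Quotient.eq] at hl
      have h1 : (a ⊗ₜ[A] π c) = (a ⊗ₜ[A] (1 : C ⧸ J)) * ((1 : L) ⊗ₜ[A] π c) := by
        rw [Algebra.TensorProduct.tmul_mul_tmul, mul_one, one_mul]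
      rw [h1, mul_assoc, hε, ← mul_assoc, Algebra.TensorProduct.tmul_mul_tmul, one_mul,
        ← sub_eq_zero, ← sub_mul, ← TensorProduct.sub_tmul]
      exact hJ0 _ hl
    | add a b ha hb =>
      intro l hl
      obtain ⟨la, hla⟩ := Ideal.Quotient.mk_surjective (μQ a)
      have hlb : μQ b = Ideal.Quotient.mk JL (l - la) := by
        rw [map_sub, hla, ← hl, map_add, add_sub_cancel_left]
      rw [add_mul, ha la hla.symm, hb _ hlb, ← add_mul, ← TensorProduct.add_tmul, add_sub_cancel]
  let K := (L ⊗[A] (C ⧸ J)) ⧸ Ideal.span {ε}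
  let F : L ⊗[A] (C ⧸ J) →ₗ[L] (L ⧸ JL) × K :=
    μQ.toLinearMap.prod (Ideal.Quotient.mkₐ L (Ideal.span {ε})).toLinearMap
  have hεε : ε * ε = ε := by
    rw [hεq ε 1 (by rw [hμε, map_one]), ← Algebra.TensorProduct.one_def, one_mul]
  have hFinj : Function.Injective F := by
    rw [← LinearMap.ker_eq_bot, Submodule.eq_bot_iff]
    intro q hq
    simp only [F, LinearMap.mem_ker, LinearMap.prod_apply, Function.prod_apply, Prod.mk_eq_zero,
      AlgHom.toLinearMap_apply, Ideal.Quotient.mkₐ_eq_mk, Ideal.Quotient.eq_zero_iff_mem] at hq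
    obtain ⟨hq1, hq2⟩ := hq
    obtain ⟨r, rfl⟩ := Ideal.mem_span_singleton'.1 (Ideal.Quotient.eq_zero_iff_mem.1 hq2)
    rw [← hεε, ← mul_assoc, hεq (r * ε) 0 (by rw [hq1, map_zero]), TensorProduct.zero_tmul, zero_mul]
  have hFsurj : Function.Surjective F := by
    rintro ⟨l, k⟩
    obtain ⟨l, rfl⟩ := Ideal.Quotient.mk_surjective l
    obtain ⟨k, rfl⟩ := Ideal.Quotient.mk_surjective k
    refine ⟨(l ⊗ₜ[A] (1 : C ⧸ J)) * ε + (k - k * ε), ?_⟩
    simp only [F, LinearMap.prod_apply, Function.prod_apply, AlgHom.toLinearMap_apply, Prod.mk.injEq,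
      Ideal.Quotient.mkₐ_eq_mk]
    constructor
    · rw [map_add, map_sub, map_mul, map_mul, hμε, mul_one, mul_one, sub_self, add_zero,
        ← map_one π, hμQ, map_one, mul_one]
    · rw [Ideal.Quotient.eq, show (l ⊗ₜ[A] (1 : C ⧸ J)) * ε + (k - k * ε) - k =
        ((l ⊗ₜ[A] (1 : C ⧸ J)) - k) * ε by ring]
      exact Ideal.mul_mem_left _ _ (Ideal.mem_span_singleton_self _)
  haveI : Module.Finite L K := Module.Finite.of_surjective (Ideal.Quotient.mkₐ L (Ideal.span {ε})).toLinearMap
    Ideal.Quotient.mk_surjective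
  refine ⟨Fitt.ideal L K 0, ?_, fun hfp => ?_⟩
  · rw [← ideal_baseChange L 0, ideal_congr (LinearEquiv.ofBijective F ⟨hFinj, hFsurj⟩) 0, ideal_prod,
      ideal_quotient]
  · haveI := hfp
    haveI : Module.FinitePresentation L K := by
      refine Module.finitePresentation_of_surjective (Ideal.Quotient.mkₐ L (Ideal.span {ε})).toLinearMap
        Ideal.Quotient.mk_surjective ?_
      refine ⟨((Module.Finite.fg_top (R := L) (M := L ⊗[A] (C ⧸ J))).choose.image fun x => x * ε), ?_⟩
      have hs := (Module.Finite.fg_top (R := L) (M := L ⊗[A] (C ⧸ J))).choose_spec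
      rw [Finset.coe_image, show (fun x => x * ε) = ⇑(LinearMap.mulRight L ε) from rfl,
        Submodule.span_image, hs, Submodule.map_top]
      ext x
      rw [LinearMap.mem_ker, AlgHom.toLinearMap_apply, Ideal.Quotient.mkₐ_eq_mk, Ideal.Quotient.eq_zero_iff_mem,
        Ideal.mem_span_singleton']
      rfl
    exact ideal_fg 0

theorem finitePresentation_quotient [Module.Projective A C] {J : Ideal C} (hJ : J.FG) :
    Module.FinitePresentation A (C ⧸ J) := by
  haveI := Module.finitePresentation_of_projective A C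
  refine Module.finitePresentation_of_surjective ((Submodule.mkQ J).restrictScalars A)
    (Submodule.mkQ_surjective J) ?_
  rw [LinearMap.ker_restrictScalars, Submodule.ker_mkQ]
  haveI : Module.Finite C J := Module.Finite.iff_fg.2 hJ
  haveI : Module.Finite A J := Module.Finite.trans C J
  exact Module.Finite.iff_fg.1 (Module.Finite.equiv ((Submodule.restrictScalarsEquiv A C C J).restrictScalars A).symm)

end Main

end Groth.Agent.H20.FittingEtale
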