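import Groth.Agent.Lib.Dim.Local
import Mathlib.RingTheory.Valuation.LocalSubring
import Mathlib.RingTheory.ZariskisMainTheorem
import Mathlib.RingTheory.EssentialFiniteness
import Mathlib.RingTheory.TensorProduct.MvPolynomial
import Mathlib.RingTheory.Flat.TorsionFree
import Mathlib.RingTheory.Flat.Stability
import Mathlib.RingTheory.LocalRing.ResidueField.Basic

/-!
# Fibre dimension and transcendence degree for local domains essentially of finite type
-/

set_option autoImplicit false
set_option linter.style.haveILetI false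

universe u

open scoped TensorProduct
open IsLocalRing Groth.Agent.Lib

namespace Groth.Agent.H20.FlatFibreTrdeg

/-- Every element being a fraction makes an algebra algebraic. -/
theorem isAlgebraic_of_frac {R S : Type u} [CommRing R] [CommRing S] [Algebra R S]
    (h : ∀ x : S, ∃ a b : R, b ≠ 0 ∧ x * algebraMap R S b = algebraMap R S a) :
    Algebra.IsAlgebraic R S := by
  refine ⟨fun x => ?_⟩
  obtain ⟨a, b, hb, hx⟩ := h x
  refine ⟨Polynomial.C b * Polynomial.X - Polynomial.C a, fun h0 => hb ?_, ?_⟩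
  · simpa using congrArg (fun p => Polynomial.coeff p 1) h0
  · simp only [map_sub, map_mul, Polynomial.aeval_C, Polynomial.aeval_X]
    rw [mul_comm, hx, sub_self]

theorem one_tmul_independent {k L E : Type u} [Field k] [CommRing L] [Algebra k L] [CommRing E]
    [Algebra k E] {ι : Type u} {s : ι → E} (hs : AlgebraicIndependent k s) :
    AlgebraicIndependent L (fun i => (1 : L) ⊗ₜ[k] s i) := by
  let Φ : L ⊗[k] MvPolynomial ι k →ₐ[L] L ⊗[k] E :=
    Algebra.TensorProduct.map (AlgHom.id L L) (MvPolynomial.aeval s)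
  have hΦ : Function.Injective Φ :=
    Module.Flat.lTensor_preserves_injective_linearMap (MvPolynomial.aeval s).toLinearMap hs
  rw [algebraicIndependent_iff_injective_aeval]
  have heq : (MvPolynomial.aeval fun i => (1 : L) ⊗ₜ[k] s i) =
      Φ.comp (MvPolynomial.algebraTensorAlgEquiv k L).symm.toAlgHom := by
    refine MvPolynomial.algHom_ext fun i => ?_
    simp [Φ]
  rw [heq]
  exact hΦ.comp (MvPolynomial.algebraTensorAlgEquiv k L).symm.injective

theorem exists_valuationSubring_dominating {A K : Type u} [CommRing A] [IsLocalRing A] [Field K]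
    (f : A →+* K) :
    ∃ (V : ValuationSubring K) (ι : A →+* V), (∀ a, (ι a : K) = f a) ∧ IsLocalHom ι := by
  obtain ⟨V, hle, hloc⟩ := LocalSubring.exists_le_valuationSubring (LocalSubring.range f)
  refine ⟨V, f.codRestrict V.toSubring fun a => hle ⟨a, rfl⟩, fun a => rfl, ⟨fun a ha => ?_⟩⟩
  have h1 : IsUnit (⟨f a, a, rfl⟩ : (LocalSubring.range f).toSubring) :=
    hloc.map_nonunit _ ha
  obtain ⟨w, hw⟩ := isUnit_iff_exists_inv.mp h1
  obtain ⟨⟨_, b, rfl⟩, hwb⟩ : ∃ w' : (LocalSubring.range f).toSubring, w' = w := ⟨w, rfl⟩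
  by_contra hna
  rw [← mem_nonunits_iff, ← IsLocalRing.mem_maximalIdeal] at hna
  have hu : IsUnit (1 - a * b) :=
    IsLocalRing.isUnit_one_sub_self_of_mem_nonunits _ (Ideal.mul_mem_right b _ hna)
  have h2 : f a * f b = 1 := by
    have := congrArg Subtype.val hw
    rw [← hwb] at this
    exact this
  have h3 : f (1 - a * b) = 0 := by rw [map_sub, map_mul, map_one, h2, sub_self]
  have h4 := hu.map f
  rw [h3] at h4
  exact not_isUnit_zero h4

/-- Elements of a flat algebra over a local domain whose images in an algebra over the residue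
field are algebraically independent are algebraically independent. -/
theorem independent_of_residue {A B E : Type u} [CommRing A] [IsDomain A] [IsLocalRing A]
    [CommRing B] [Algebra A B] [Module.Flat A B] [CommRing E] [Algebra (ResidueField A) E]
    [Algebra A E] [IsScalarTower A (ResidueField A) E] (χ : B →ₐ[A] E) {ι : Type u} (t : ι → B)
    (h : AlgebraicIndependent (ResidueField A) (fun i => χ (t i))) :
    AlgebraicIndependent A t := by
  classical
  rw [algebraicIndependent_iff]
  intro f hf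
  by_contra hne
  set K := FractionRing A
  obtain ⟨V, j, hj, hjloc⟩ := exists_valuationSubring_dominating (algebraMap A K)
  letI : Algebra A V := j.toAlgebra
  haveI : IsLocalHom (algebraMap A V) := hjloc
  obtain ⟨m0, hm0, hmax⟩ := f.support.exists_max_image
    (fun m => V.valuation (algebraMap A K (f.coeff m))) (MvPolynomial.support_nonempty.mpr hne)
  have hc0 : algebraMap A K (f.coeff m0) ≠ 0 :=
    (map_ne_zero_iff _ (IsFractionRing.injective A K)).mpr (MvPolynomial.mem_support_iff.mp hm0)
  have hmem : ∀ m ∈ f.support,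
      algebraMap A K (f.coeff m) / algebraMap A K (f.coeff m0) ∈ V := fun m hm => by
    rw [← V.valuation_le_one_iff, map_div₀]
    exact div_le_one_of_le₀ (hmax m hm) zero_le'
  let g : MvPolynomial ι V := ∑ m ∈ f.support.attach,
    MvPolynomial.monomial m.1 ⟨_, hmem m.1 m.2⟩
  have hgc : ∀ m (hm : m ∈ f.support), g.coeff m = ⟨_, hmem m hm⟩ := fun m hm => by
    rw [MvPolynomial.coeff_sum, Finset.sum_eq_single ⟨m, hm⟩]
    · rw [MvPolynomial.coeff_monomial, if_pos rfl]
    · intro b _ hb
      rw [MvPolynomial.coeff_monomial, if_neg fun h => hb (Subtype.ext h)]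
    · intro h
      exact absurd (Finset.mem_attach _ _) h
  have hgf : MvPolynomial.map (algebraMap A V) f =
      MvPolynomial.C (algebraMap A V (f.coeff m0)) * g := by
    ext m
    rw [MvPolynomial.coeff_map, MvPolynomial.coeff_C_mul]
    by_cases hm : m ∈ f.support
    · rw [hgc m hm]
      show (j (f.coeff m) : K) = (j (f.coeff m0) : K) *
        (algebraMap A K (f.coeff m) / algebraMap A K (f.coeff m0))
      rw [hj, hj, mul_div_cancel₀ _ hc0]
    · have h1 : f.coeff m = 0 := by simpa using hm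
      have h2 : g.coeff m = 0 := by
        rw [MvPolynomial.coeff_sum]
        refine Finset.sum_eq_zero fun b _ => ?_
        rw [MvPolynomial.coeff_monomial, if_neg fun h => hm (by rw [← h]; exact b.2)]
      rw [h1, h2, map_zero, mul_zero]
  let T : ι → V ⊗[A] B := fun i => 1 ⊗ₜ t i
  have h0 : MvPolynomial.aeval T (MvPolynomial.map (algebraMap A V) f) = 0 := by
    rw [MvPolynomial.aeval_map_algebraMap]
    have hcomp : ((Algebra.TensorProduct.includeRight : B →ₐ[A] V ⊗[A] B)).comp
        (MvPolynomial.aeval t) = MvPolynomial.aeval T :=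
      MvPolynomial.algHom_ext fun i => by simp [T]
    rw [← hcomp, AlgHom.comp_apply, hf, map_zero]
  rw [hgf, map_mul, MvPolynomial.aeval_C, ← Algebra.smul_def] at h0
  have hv0 : algebraMap A V (f.coeff m0) ≠ 0 := fun h => hc0 (by
    rw [← hj]
    exact congrArg Subtype.val h)
  have hg0 : MvPolynomial.aeval T g = 0 := (smul_eq_zero.mp h0).resolve_left hv0
  -- reduce modulo the maximal ideal of `V`
  haveI : IsScalarTower A (ResidueField A) (ResidueField V) :=
    IsScalarTower.of_algebraMap_eq fun a => rfl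
  let θ₂ : B →ₐ[A] (ResidueField V ⊗[ResidueField A] E) :=
    (Algebra.TensorProduct.includeRight.restrictScalars A).comp χ
  let θ₁ : V →ₐ[A] (ResidueField V ⊗[ResidueField A] E) :=
    { toRingHom := (algebraMap (ResidueField V) (ResidueField V ⊗[ResidueField A] E)).comp (residue V)
      commutes' := fun a => (IsScalarTower.algebraMap_apply A (ResidueField V) (ResidueField V ⊗[ResidueField A] E) a).symm }
  let Θ : V ⊗[A] B →ₐ[A] (ResidueField V ⊗[ResidueField A] E) := Algebra.TensorProduct.lift θ₁ θ₂ fun _ _ => .all _ _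
  let S : ι → (ResidueField V ⊗[ResidueField A] E) := fun i => 1 ⊗ₜ χ (t i)
  have heq : Θ.toRingHom.comp (MvPolynomial.aeval T).toRingHom =
      (MvPolynomial.aeval S).toRingHom.comp (MvPolynomial.map (residue V)) := by
    refine MvPolynomial.ringHom_ext (fun v => ?_) (fun i => ?_)
    · simp [Θ, T, S, θ₁, θ₂, Algebra.TensorProduct.algebraMap_apply]
      all_goals exact mul_one _
    · simp [Θ, T, S, θ₁, θ₂]
  have hg1 : MvPolynomial.aeval S (MvPolynomial.map (residue V) g) = 0 := by
    have := RingHom.congr_fun heq g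
    simp only [RingHom.comp_apply, AlgHom.toRingHom_eq_coe, RingHom.coe_coe, hg0, map_zero] at this
    exact this.symm
  have hg2 := (one_tmul_independent (L := ResidueField V) h).eq_zero_of_aeval_eq_zero _ hg1
  have hg3 : residue V (g.coeff m0) = 0 := by
    rw [← MvPolynomial.coeff_map, hg2, MvPolynomial.coeff_zero]
  rw [hgc m0 hm0] at hg3
  have : (⟨_, hmem m0 hm0⟩ : V) = 1 := Subtype.ext (div_self hc0)
  rw [this, map_one] at hg3
  exact one_ne_zero hg3

section Lower

variable {A B0 : Type u} [CommRing A] [IsDomain A] [IsLocalRing A] [CommRing B0] [IsDomain B0]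
  [Algebra A B0] [FaithfulSMul A B0] [Algebra.FiniteType A B0]

/-- A finite type domain over `A` which is quasi-finite over `A[X₁..Xₛ]` at some prime has
transcendence degree at most `s`. -/
theorem trdeg_le_of_quasiFiniteAt {s : ℕ} [Algebra (MvPolynomial (Fin s) A) B0]
    [IsScalarTower A (MvPolynomial (Fin s) A) B0] (q : Ideal B0) [q.IsPrime]
    [Algebra.QuasiFiniteAt (MvPolynomial (Fin s) A) q] :
    Algebra.trdeg A B0 ≤ (s : Cardinal.{u}) := by
  let R := MvPolynomial (Fin s) A
  let F := FractionRing B0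
  haveI hqf0 : Algebra.QuasiFiniteAt R (⊥ : Ideal B0) :=
    Algebra.QuasiFiniteAt.of_le (bot_le (a := q))
  haveI : IsLocalization.AtPrime F (⊥ : Ideal B0) := by
    show IsLocalization (⊥ : Ideal B0).primeCompl F
    rw [Ideal.primeCompl_bot]
    infer_instance
  let e : Localization.AtPrime (⊥ : Ideal B0) ≃ₐ[B0] F :=
    IsLocalization.algEquiv (⊥ : Ideal B0).primeCompl _ _
  haveI : Algebra.QuasiFinite R F :=
    (Algebra.QuasiFinite.iff_of_algEquiv (e.restrictScalars R)).mp hqf0
  let p0 : Ideal R := RingHom.ker (algebraMap R F)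
  haveI : p0.IsPrime := RingHom.ker_isPrime _
  let R'' := R ⧸ p0
  letI : Algebra R'' F := (RingHom.kerLift (algebraMap R F)).toAlgebra
  haveI : IsScalarTower R R'' F :=
    IsScalarTower.of_algebraMap_eq (R := R) (S := R'') (A := F) fun _ => rfl
  have hinj : Function.Injective (algebraMap R'' F) := RingHom.kerLift_injective _
  haveI : FaithfulSMul R'' F := (faithfulSMul_iff_algebraMap_injective _ _).mpr hinj
  let K' := FractionRing R''
  letI : Algebra K' F := (IsFractionRing.lift (A := R'') (K := K') hinj).toAlgebra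
  haveI : IsScalarTower R'' K' F := IsScalarTower.of_algebraMap_eq fun x =>
    (IsFractionRing.lift_algebraMap hinj x).symm
  haveI : IsScalarTower R K' F := IsScalarTower.of_algebraMap_eq fun x => by
    rw [IsScalarTower.algebraMap_apply R R'' F, IsScalarTower.algebraMap_apply R'' K' F]
    rfl
  haveI : Algebra.QuasiFinite K' F := Algebra.QuasiFinite.of_restrictScalars R K' F
  haveI : Module.Finite K' F := Module.Finite.of_quasiFinite
  haveI : Algebra.IsAlgebraic R'' K' := IsLocalization.isAlgebraic K' (nonZeroDivisors R'')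
  haveI : Algebra.IsAlgebraic R'' F := Algebra.IsAlgebraic.trans R'' K' F
  haveI : FaithfulSMul A F := (faithfulSMul_iff_algebraMap_injective _ _).mpr (by
    rw [IsScalarTower.algebraMap_eq A B0 F]
    exact (IsFractionRing.injective B0 F).comp (FaithfulSMul.algebraMap_injective A B0))
  haveI : IsScalarTower A R'' F :=
    IsScalarTower.of_algebraMap_eq (R := A) (S := R'') (A := F) fun a => by
    show algebraMap A F a = algebraMap R F (algebraMap A R a)
    exact IsScalarTower.algebraMap_apply A R F a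
  haveI : FaithfulSMul A R'' := (faithfulSMul_iff_algebraMap_injective _ _).mpr fun a b hab =>
    FaithfulSMul.algebraMap_injective A F (by
      rw [IsScalarTower.algebraMap_apply A R'' F, hab, ← IsScalarTower.algebraMap_apply])
  have h1 := trdeg_add_eq A R'' (A := F)
  rw [trdeg_eq_zero (R := R'') (A := F), add_zero] at h1
  calc Algebra.trdeg A B0 ≤ Algebra.trdeg A F :=
        trdeg_le_of_injective (IsScalarTower.toAlgHom A B0 F) (IsFractionRing.injective B0 F)
    _ = Algebra.trdeg A R'' := h1.symm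
    _ ≤ Algebra.trdeg A R := trdeg_le_of_surjective (Ideal.Quotient.mkₐ A p0)
          Ideal.Quotient.mk_surjective
    _ = (s : Cardinal.{u}) := by simp [R, MvPolynomial.trdeg_of_isDomain]

/-- Local upper semicontinuity: `trdeg_A B₀` is at most the local dimension of the special fibre. -/
theorem trdeg_le_dimAt {D : Type u} [CommRing D] [Algebra A D] [Algebra (ResidueField A) D]
    [IsScalarTower A (ResidueField A) D] [Algebra.FiniteType (ResidueField A) D]
    (π : B0 →ₐ[A] D) (hπ : Function.Surjective π)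
    (hker : RingHom.ker π = (maximalIdeal A).map (algebraMap A B0)) (P : Ideal D) [P.IsPrime] :
    Algebra.trdeg A B0 ≤ (Dim.Local.dimAt (ResidueField A) P : Cardinal.{u}) := by
  classical
  let k := ResidueField A
  haveI : IsNoetherianRing D := Dim.Local.isNoetherianRing_of_field k
  have hfin := minimalPrimes.finite_of_isNoetherianRing D
  set G := hfin.toFinset.filter (fun Q => ¬ Q ≤ P) with hG
  set L := hfin.toFinset.filter (fun Q => Q ≤ P) with hL
  have hg : ∀ Q ∈ G, ∃ x ∈ Q, x ∉ P := fun Q hQ =>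
    Set.not_subset.mp (Finset.mem_filter.mp hQ).2
  choose! xg hxgQ hxgP using hg
  set g0 := ∏ Q ∈ G, xg Q with hg0
  have hg0P : g0 ∉ P := fun h => by
    obtain ⟨Q, hQ, hx⟩ := Ideal.IsPrime.prod_mem_iff.mp h
    exact hxgP Q hQ hx
  set J : Ideal D := L.inf id with hJ
  obtain ⟨Q0, hQ0, hQ0P⟩ := Ideal.exists_minimalPrimes_le (bot_le (a := P))
  have hQ0L : Q0 ∈ L := Finset.mem_filter.mpr ⟨hfin.mem_toFinset.mpr hQ0, hQ0P⟩
  have hJP : J ≤ P := (Finset.inf_le hQ0L (f := id)).trans hQ0P
  set n := Dim.Local.dimAt k P with hn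
  haveI : Nontrivial (D ⧸ J) :=
    Ideal.Quotient.nontrivial_iff.mpr fun h => Ideal.IsPrime.ne_top ‹P.IsPrime› (top_unique (h ▸ hJP))
  obtain ⟨s, φ, hφ, hφfin⟩ := exists_finite_inj_algHom_of_fg k (D ⧸ J)
  letI := φ.toRingHom.toAlgebra
  haveI : FaithfulSMul (MvPolynomial (Fin s) k) (D ⧸ J) :=
    (faithfulSMul_iff_algebraMap_injective _ _).mpr hφ
  haveI : Module.Finite (MvPolynomial (Fin s) k) (D ⧸ J) := hφfin
  have hs : s ≤ n := by
    have h1 : ringKrullDim (D ⧸ J) ≤ (n : WithBot ℕ∞) := by
      rw [Dim.Local.ringKrullDim_le_iff k]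
      intro Q hQ
      haveI : Q.IsPrime := hQ.1.1
      have hle : J ≤ Q.comap (Ideal.Quotient.mk J) := fun x hx => by
        show Ideal.Quotient.mk J x ∈ Q
        rw [Ideal.Quotient.eq_zero_iff_mem.mpr hx]
        exact Q.zero_mem
      obtain ⟨Q1, hQ1, hQ1le⟩ := (Ideal.IsPrime.inf_le' (P := Q.comap (Ideal.Quotient.mk J))
        inferInstance).mp hle
      haveI : Q1.IsPrime := (hfin.mem_toFinset.mp (Finset.mem_filter.mp hQ1).1).1.1
      have h2 : ringKrullDim ((D ⧸ J) ⧸ Q) ≤ ringKrullDim (D ⧸ Q1) := by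
        refine ringKrullDim_le_of_surjective
          (Ideal.Quotient.lift Q1 ((Ideal.Quotient.mk Q).comp (Ideal.Quotient.mk J)) fun x hx => ?_) ?_
        · exact Ideal.Quotient.eq_zero_iff_mem.mpr (hQ1le hx)
        · intro z
          obtain ⟨z, rfl⟩ := Ideal.Quotient.mk_surjective z
          obtain ⟨z, rfl⟩ := Ideal.Quotient.mk_surjective z
          exact ⟨Ideal.Quotient.mk Q1 z, rfl⟩
      rw [Dim.Basic.ringKrullDim_quotient_prime k, Dim.Basic.ringKrullDim_quotient_prime k] at h2
      have h3 : Dim.Basic.dimQ k Q ≤ Dim.Basic.dimQ k Q1 := by exact_mod_cast h2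
      exact h3.trans (Dim.Local.dimQ_le_dimAt_of_le k (Finset.mem_filter.mp hQ1).2)
    rw [Dim.Integral.ringKrullDim_eq_of_isIntegral (R := MvPolynomial (Fin s) k)] at h1
    simp [MvPolynomial.ringKrullDim_of_isNoetherianRing] at h1
    exact h1
  let π' : B0 →+* D ⧸ J := (Ideal.Quotient.mk J).comp π.toRingHom
  have hπ' : Function.Surjective π' := Ideal.Quotient.mk_surjective.comp hπ
  choose x hx using fun i : Fin s => hπ' (φ (MvPolynomial.X i))
  let R' := MvPolynomial (Fin s) A
  letI : Algebra R' B0 := (MvPolynomial.aeval x).toRingHom.toAlgebra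
  haveI : IsScalarTower A R' B0 :=
    IsScalarTower.of_algebraMap_eq fun a => ((MvPolynomial.aeval x).commutes a).symm
  haveI : Algebra.FiniteType R' B0 := Algebra.FiniteType.of_restrictScalars_finiteType A R' B0
  have hcomm : ∀ r : R', π' (algebraMap R' B0 r) = φ (MvPolynomial.map (residue A) r) := by
    intro r
    have : π'.comp (algebraMap R' B0) = φ.toRingHom.comp (MvPolynomial.map (residue A)) := by
      refine MvPolynomial.ringHom_ext (fun a => ?_) (fun i => ?_)
      · show Ideal.Quotient.mk J (π (MvPolynomial.aeval x (MvPolynomial.C a))) =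
          φ (MvPolynomial.map (residue A) (MvPolynomial.C a))
        rw [MvPolynomial.aeval_C, π.commutes, MvPolynomial.map_C, MvPolynomial.C_eq_smul_one,
          map_smul, map_one, Algebra.smul_def, mul_one,
          IsScalarTower.algebraMap_apply A (ResidueField A) D]
        rfl
      · show π' (MvPolynomial.aeval x (MvPolynomial.X i)) = φ _
        rw [MvPolynomial.aeval_X, hx, MvPolynomial.map_X]
    exact RingHom.congr_fun this r
  let q : PrimeSpectrum B0 := ⟨P.comap π.toRingHom, inferInstance⟩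
  let 𝔭 : PrimeSpectrum R' := PrimeSpectrum.comap (algebraMap R' B0) q
  obtain ⟨gt, hgt⟩ := hπ g0
  have hmq : ∀ a ∈ maximalIdeal A, algebraMap A R' a ∈ 𝔭.asIdeal := fun a ha => by
    show π (algebraMap R' B0 (algebraMap A R' a)) ∈ P
    rw [← IsScalarTower.algebraMap_apply]
    have : algebraMap A B0 a ∈ RingHom.ker π := by
      rw [hker]
      exact Ideal.mem_map_of_mem _ ha
    rw [RingHom.mem_ker.mp this]
    exact P.zero_mem
  -- the points of the fibre inside `D(gt)` contain the kernel of `π'`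
  let U : Set (PrimeSpectrum B0) :=
    {y | PrimeSpectrum.comap (algebraMap R' B0) y = 𝔭 ∧ gt ∉ y.asIdeal}
  have hU : ∀ y ∈ U, RingHom.ker π' ≤ y.asIdeal := by
    rintro y ⟨hy1, hy2⟩
    have hmy : RingHom.ker π.toRingHom ≤ y.asIdeal := by
      show RingHom.ker π ≤ _
      rw [hker, Ideal.map_le_iff_le_comap]
      intro a ha
      have := hmq a ha
      rw [← hy1] at this
      show algebraMap A B0 a ∈ y.asIdeal
      rw [IsScalarTower.algebraMap_apply A R' B0]
      exact this
    haveI : (y.asIdeal.map π.toRingHom).IsPrime := Ideal.map_isPrime_of_surjective hπ hmy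
    have hcm : (y.asIdeal.map π.toRingHom).comap π.toRingHom = y.asIdeal :=
      (Ideal.comap_map_of_surjective' π.toRingHom hπ _).trans (sup_eq_left.mpr hmy)
    obtain ⟨Q, hQ, hQy⟩ := Ideal.exists_minimalPrimes_le (bot_le (a := y.asIdeal.map π.toRingHom))
    have hQL : Q ∈ L := by
      refine Finset.mem_filter.mpr ⟨hfin.mem_toFinset.mpr hQ, by_contra fun hQP => hy2 ?_⟩
      have hQG : Q ∈ G := Finset.mem_filter.mpr ⟨hfin.mem_toFinset.mpr hQ, hQP⟩
      have : g0 ∈ y.asIdeal.map π.toRingHom :=
        hQy (Ideal.mem_of_dvd _ (Finset.dvd_prod_of_mem xg hQG) (hxgQ Q hQG))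
      rw [← hcm]
      show π gt ∈ y.asIdeal.map π.toRingHom
      rwa [hgt]
    intro b hb
    rw [← hcm]
    exact (Finset.inf_le hQL (f := id)).trans hQy (Ideal.Quotient.eq_zero_iff_mem.mp hb)
  let bar : U → PrimeSpectrum (D ⧸ J) := fun y =>
    ⟨y.1.asIdeal.map π', Ideal.map_isPrime_of_surjective hπ' (hU y.1 y.2)⟩
  have hbar : ∀ y : U, (bar y).asIdeal.comap π' = y.1.asIdeal := fun y =>
    (Ideal.comap_map_of_surjective' π' hπ' _).trans (sup_eq_left.mpr (hU y.1 y.2))
  have hbarinj : Function.Injective bar := fun y z h => Subtype.ext (PrimeSpectrum.ext (by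
    rw [← hbar y, ← hbar z, h]))
  have hunder : ∀ y : U, (bar y).asIdeal.comap φ.toRingHom =
      𝔭.asIdeal.map (MvPolynomial.map (residue A)) := by
    intro y
    have h1 : ((bar y).asIdeal.comap φ.toRingHom).comap (MvPolynomial.map (residue A)) =
        𝔭.asIdeal := by
      ext r
      show φ (MvPolynomial.map (residue A) r) ∈ (bar y).asIdeal ↔ _
      rw [← hcomm]
      show algebraMap R' B0 r ∈ (bar y).asIdeal.comap π' ↔ _
      rw [hbar y, ← y.2.1]
      rfl
    rw [← h1, Ideal.map_comap_of_surjective _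
      (MvPolynomial.map_surjective _ residue_surjective)]
  haveI : Algebra.QuasiFinite (MvPolynomial (Fin s) k) (D ⧸ J) := inferInstance
  have hUfin : U.Finite := by
    rw [← Set.finite_coe_iff]
    by_cases hne : Nonempty U
    · obtain ⟨y0⟩ := hne
      let p' : PrimeSpectrum (MvPolynomial (Fin s) k) :=
        PrimeSpectrum.comap φ.toRingHom (bar y0)
      haveI := (Algebra.QuasiFinite.finite_comap_preimage_singleton
        (R := MvPolynomial (Fin s) k) (S := D ⧸ J) p').to_subtype
      refine Finite.of_injective (fun y : U => (⟨bar y, ?_⟩ :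
        ↥(PrimeSpectrum.comap (algebraMap (MvPolynomial (Fin s) k) (D ⧸ J)) ⁻¹' {p'}))) ?_
      · exact PrimeSpectrum.ext ((hunder y).trans (hunder y0).symm)
      · exact fun y z h => hbarinj (congrArg Subtype.val h)
    · haveI := not_nonempty_iff.mp hne
      infer_instance
  have hincomp : ∀ y z : U, y.1.asIdeal ≤ z.1.asIdeal → y = z := by
    intro y z hle
    refine hbarinj (PrimeSpectrum.ext ?_)
    haveI := (bar y).isPrime
    haveI := (bar z).isPrime
    exact Algebra.QuasiFinite.eq_of_le_of_under_eq (R := MvPolynomial (Fin s) k) _ _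
      (Ideal.map_mono hle) ((hunder y).trans (hunder z).symm)
  have hqU : q ∈ U := ⟨rfl, fun h => hg0P (by
    have h' : π gt ∈ P := h
    rwa [hgt] at h')⟩
  haveI : Algebra.QuasiFiniteAt R' q.asIdeal := by
    refine Algebra.QuasiFiniteAt.of_isOpen_singleton_fiber q ?_
    let C : Set (PrimeSpectrum B0) :=
      ⋃ y ∈ U \ {q}, PrimeSpectrum.zeroLocus (y.asIdeal : Set B0)
    have hC : IsClosed C :=
      (hUfin.subset Set.diff_subset).isClosed_biUnion fun y _ => PrimeSpectrum.isClosed_zeroLocus _
    refine isOpen_induced_iff.mpr ⟨(PrimeSpectrum.basicOpen gt : Set (PrimeSpectrum B0)) ∩ Cᶜ,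
      (PrimeSpectrum.basicOpen gt).2.inter hC.isOpen_compl, ?_⟩
    ext y
    obtain ⟨y, hy⟩ := y
    simp only [Set.mem_preimage, Set.mem_inter_iff, Set.mem_compl_iff, Set.mem_singleton_iff,
      Subtype.mk.injEq]
    constructor
    · rintro ⟨hy1, hy2⟩
      by_contra hne
      exact hy2 (Set.mem_biUnion (show y ∈ U \ {q} from ⟨⟨hy, hy1⟩, fun h => hne (by first | exact h | exact Subtype.ext h)⟩)
        (fun _ h => h))
    · intro h
      obtain rfl : y = q := by first | exact h | exact congrArg Subtype.val h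
      refine ⟨hqU.2, fun hC' => ?_⟩
      obtain ⟨z, ⟨hz, hzne⟩, hzle⟩ := Set.mem_iUnion₂.mp hC'
      exact hzne (congrArg Subtype.val (hincomp ⟨z, hz⟩ ⟨q, hqU⟩ hzle))
  exact (trdeg_le_of_quasiFiniteAt q.asIdeal).trans (by exact_mod_cast hs)

end Lower

section Main

variable {A B : Type u} [CommRing A] [CommRing B] [IsDomain A] [IsDomain B] [IsLocalRing A]
  [IsLocalRing B] [Algebra A B] [IsLocalHom (algebraMap A B)] [FaithfulSMul A B]
  {B0 : Type u} [CommRing B0] [IsDomain B0] [Algebra A B0] [Algebra B0 B] [IsScalarTower A B0 B]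
  [FaithfulSMul A B0] [FaithfulSMul B0 B]
  {D : Type u} [CommRing D] [Algebra A D] [Algebra (ResidueField A) D]
  [IsScalarTower A (ResidueField A) D] [Algebra.FiniteType (ResidueField A) D]

/-- The map `D → κ(B)` from a surjection `π : B₀ → D` with kernel `m_A B₀`. -/
theorem exists_toResidue (π : B0 →ₐ[A] D) (hπ : Function.Surjective π)
    (hker : RingHom.ker π = (maximalIdeal A).map (algebraMap A B0)) :
    ∃ ρ : D →ₐ[ResidueField A] ResidueField B,
      ∀ b : B0, ρ (π b) = residue B (algebraMap B0 B b) := by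
  have hk : RingHom.ker π.toRingHom ≤ RingHom.ker ((residue B).comp (algebraMap B0 B)) := by
    show RingHom.ker π ≤ _
    rw [hker, Ideal.map_le_iff_le_comap]
    intro a ha
    show residue B (algebraMap B0 B (algebraMap A B0 a)) = 0
    rw [← IsScalarTower.algebraMap_apply, residue_eq_zero_iff]
    exact (mem_maximalIdeal _).mpr (map_nonunit (algebraMap A B) a ((mem_maximalIdeal _).mp ha))
  let ρ₀ : D →+* ResidueField B := π.toRingHom.liftOfSurjective hπ ⟨_, hk⟩
  have hρ₀ : ∀ b, ρ₀ (π b) = residue B (algebraMap B0 B b) := fun b =>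
    RingHom.liftOfRightInverse_comp_apply _ _ _ ⟨_, hk⟩ b
  refine ⟨{ toRingHom := ρ₀, commutes' := fun a => ?_ }, hρ₀⟩
  obtain ⟨a, rfl⟩ := residue_surjective a
  show ρ₀ (algebraMap (ResidueField A) D (algebraMap A (ResidueField A) a)) = _
  rw [← IsScalarTower.algebraMap_apply A (ResidueField A) D, ← π.commutes, hρ₀,
    ← IsScalarTower.algebraMap_apply]
  rfl

variable {q : Ideal B0} [q.IsPrime] [IsLocalization.AtPrime B q]
  (π : B0 →ₐ[A] D) (hπ : Function.Surjective π)
  (hker : RingHom.ker π = (maximalIdeal A).map (algebraMap A B0))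
  (ρ : D →ₐ[ResidueField A] ResidueField B)
  (hρ : ∀ b : B0, ρ (π b) = residue B (algebraMap B0 B b))
  (hq : q = (maximalIdeal B).comap (algebraMap B0 B))

include hρ hq in
theorem mem_q_iff (b : B0) : b ∈ q ↔ π b ∈ RingHom.ker ρ := by
  rw [RingHom.mem_ker, hρ, residue_eq_zero_iff, hq]
  rfl

include hπ hρ hq in
theorem trdeg_residue :
    Algebra.trdeg (ResidueField A) (ResidueField B) =
      (Dim.Basic.dimQ (ResidueField A) (RingHom.ker ρ) : Cardinal.{u}) := by
  haveI : (RingHom.ker ρ).IsPrime := RingHom.ker_isPrime _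
  let ρb : D ⧸ RingHom.ker ρ →ₐ[ResidueField A] ResidueField B := Ideal.kerLiftAlg ρ
  have hρb : Function.Injective ρb := Ideal.kerLiftAlg_injective ρ
  letI : Algebra (D ⧸ RingHom.ker ρ) (ResidueField B) := RingHom.toAlgebra ρb.toRingHom
  haveI : IsScalarTower (ResidueField A) (D ⧸ RingHom.ker ρ) (ResidueField B) :=
    IsScalarTower.of_algebraMap_eq fun x => (ρb.commutes x).symm
  haveI : FaithfulSMul (D ⧸ RingHom.ker ρ) (ResidueField B) :=
    (faithfulSMul_iff_algebraMap_injective _ _).mpr hρb
  haveI : Algebra.IsAlgebraic (D ⧸ RingHom.ker ρ) (ResidueField B) := isAlgebraic_of_frac fun z => by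
    obtain ⟨z, rfl⟩ := residue_surjective z
    obtain ⟨⟨b, s⟩, hbs⟩ := IsLocalization.surj q.primeCompl z
    refine ⟨Ideal.Quotient.mk _ (π b), Ideal.Quotient.mk _ (π s),
      fun h => s.2 ((mem_q_iff π ρ hρ hq _).mpr (Ideal.Quotient.eq_zero_iff_mem.mp h)), ?_⟩
    show residue B z * ρ (π s) = ρ (π b)
    rw [hρ, hρ, ← map_mul, hbs]
  have h := trdeg_add_eq (ResidueField A) (D ⧸ RingHom.ker ρ) (A := ResidueField B)
  rw [trdeg_eq_zero (R := D ⧸ RingHom.ker ρ), add_zero, Dim.Basic.trdeg_quotient] at h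
  exact h.symm

include hπ hker hρ hq in
theorem ringKrullDim_fibre :
    ringKrullDim (B ⧸ (maximalIdeal A).map (algebraMap A B)) =
      ((RingHom.ker ρ).height.toNat : WithBot ℕ∞) := by
  haveI : (RingHom.ker ρ).IsPrime := RingHom.ker_isPrime _
  set mB := (maximalIdeal A).map (algebraMap A B) with hmB
  have hk : RingHom.ker π.toRingHom ≤
      RingHom.ker ((Ideal.Quotient.mk mB).comp (algebraMap B0 B)) := by
    show RingHom.ker π ≤ _
    rw [hker, Ideal.map_le_iff_le_comap]
    intro a ha
    show Ideal.Quotient.mk mB (algebraMap B0 B (algebraMap A B0 a)) = 0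
    rw [← IsScalarTower.algebraMap_apply, Ideal.Quotient.eq_zero_iff_mem]
    exact Ideal.mem_map_of_mem _ ha
  let ψ : D →+* B ⧸ mB := π.toRingHom.liftOfSurjective hπ ⟨_, hk⟩
  have hψ : ∀ b, ψ (π b) = Ideal.Quotient.mk mB (algebraMap B0 B b) := fun b =>
    RingHom.liftOfRightInverse_comp_apply _ _ _ ⟨_, hk⟩ b
  letI : Algebra D (B ⧸ mB) := ψ.toAlgebra
  haveI : IsLocalization.AtPrime (B ⧸ mB) (RingHom.ker ρ) := by
    refine ⟨?_, ?_, ?_⟩
    · rintro ⟨d, hd⟩
      obtain ⟨b, rfl⟩ := hπ d
      show IsUnit (ψ (π b))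
      rw [hψ]
      exact (IsLocalization.map_units B
        (⟨b, fun h => hd ((mem_q_iff π ρ hρ hq b).mp h)⟩ : q.primeCompl)).map (Ideal.Quotient.mk mB)
    · intro z
      obtain ⟨z, rfl⟩ := Ideal.Quotient.mk_surjective z
      obtain ⟨⟨b, s⟩, hbs⟩ := IsLocalization.surj q.primeCompl z
      refine ⟨⟨π b, ⟨π s, fun h => s.2 ((mem_q_iff π ρ hρ hq _).mpr h)⟩⟩, ?_⟩
      show Ideal.Quotient.mk mB z * ψ (π s) = ψ (π b)
      rw [hψ, hψ, ← map_mul, hbs]
    · intro x y hxy
      obtain ⟨x, rfl⟩ := hπ x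
      obtain ⟨y, rfl⟩ := hπ y
      change ψ (π x) = ψ (π y) at hxy
      rw [hψ, hψ, Ideal.Quotient.eq, ← map_sub, hmB, IsScalarTower.algebraMap_eq A B0 B,
        ← Ideal.map_map, IsLocalization.mem_map_algebraMap_iff q.primeCompl] at hxy
      obtain ⟨⟨⟨a, ha⟩, s⟩, hs⟩ := hxy
      rw [← map_mul] at hs
      obtain ⟨c, hc⟩ := IsLocalization.exists_of_eq (M := q.primeCompl) hs
      refine ⟨⟨π ((c : B0) * (s : B0)), fun h => (c * s).2 ((mem_q_iff π ρ hρ hq _).mpr h)⟩, ?_⟩
      show π _ * π x = π _ * π y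
      rw [← map_mul π, ← map_mul π, ← sub_eq_zero, ← map_sub]
      have : (c : B0) * s * x - c * s * y = c * a := by
        show _ = _
        dsimp only at hc
        rw [← hc]; ring
      rw [this, map_mul]
      have ha' : π a = 0 := by
        rw [← RingHom.mem_ker, hker]
        exact ha
      rw [ha', mul_zero]
  rw [IsLocalization.AtPrime.ringKrullDim_eq_height (RingHom.ker ρ) (B ⧸ mB),
    ← Dim.Local.coe_height_toNat (ResidueField A) (RingHom.ker ρ)]
  rfl

include hρ hq in
theorem dimQ_le_trdeg [Module.Flat A B] {Q : Ideal D} [Q.IsPrime] (hQ : Q ≤ RingHom.ker ρ)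
    (hπ' : Function.Surjective π) :
    (Dim.Basic.dimQ (ResidueField A) Q : Cardinal.{u}) ≤ Algebra.trdeg A B := by
  rw [← Dim.Basic.trdeg_quotient (ResidueField A) Q]
  let E := FractionRing (D ⧸ Q)
  let χ0 : B0 →ₐ[A] E :=
    (IsScalarTower.toAlgHom A (D ⧸ Q) E).comp ((Ideal.Quotient.mkₐ A Q).comp π)
  have hunit : ∀ s : q.primeCompl, IsUnit (χ0 s) := fun s => by
    refine isUnit_iff_ne_zero.mpr fun h => s.2 ?_
    have h' : algebraMap (D ⧸ Q) E (Ideal.Quotient.mk Q (π s)) = 0 := h
    rw [map_eq_zero_iff _ (IsFractionRing.injective _ _), Ideal.Quotient.eq_zero_iff_mem] at h'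
    exact (mem_q_iff π ρ hρ hq _).mpr (hQ h')
  let χ : B →ₐ[A] E := IsLocalization.liftAlgHom (M := q.primeCompl) (S := B) hunit
  refine ciSup_le' fun ⟨σ, hσ⟩ => ?_
  have hlift : ∀ i : σ, ∃ b : B0, Ideal.Quotient.mk Q (π b) = (i : D ⧸ Q) :=
    fun i => (Ideal.Quotient.mk_surjective.comp hπ') _
  choose t ht using hlift
  have hind : AlgebraicIndependent (ResidueField A) (fun i => χ (algebraMap B0 B (t i))) := by
    have h1 := hσ.map' (f := IsScalarTower.toAlgHom (ResidueField A) (D ⧸ Q) E)
      (IsFractionRing.injective _ _)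
    have heq : (fun i : σ => χ (algebraMap B0 B (t i))) =
        fun i : σ => algebraMap (D ⧸ Q) E (i : D ⧸ Q) := by
      funext i
      rw [show χ (algebraMap B0 B (t i)) = χ0 (t i) from IsLocalization.lift_eq _ _, ← ht i]
      rfl
    rw [heq]
    exact h1
  exact (independent_of_residue χ (fun i => algebraMap B0 B (t i)) hind).cardinalMk_le_trdeg

include hπ hker hρ hq in
theorem main_aux [Algebra.FiniteType A B0] [Module.Flat A B] :
    ∃ d e : ℕ, ringKrullDim (B ⧸ (maximalIdeal A).map (algebraMap A B)) = d ∧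
      Algebra.trdeg (ResidueField A) (ResidueField B) = e ∧ Algebra.trdeg A B = (d + e : ℕ) := by
  haveI : (RingHom.ker ρ).IsPrime := RingHom.ker_isPrime _
  refine ⟨(RingHom.ker ρ).height.toNat, Dim.Basic.dimQ (ResidueField A) (RingHom.ker ρ),
    ringKrullDim_fibre π hπ hker ρ hρ hq, trdeg_residue π hπ ρ hρ hq, le_antisymm ?_ ?_⟩
  · haveI : Algebra.IsAlgebraic B0 B := isAlgebraic_of_frac fun z => by
      obtain ⟨⟨b, s⟩, hbs⟩ := IsLocalization.surj q.primeCompl z
      exact ⟨b, s, fun h => s.2 (by rw [h]; exact q.zero_mem), hbs⟩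
    have h := trdeg_add_eq A B0 (A := B)
    rw [trdeg_eq_zero (R := B0), add_zero] at h
    rw [← h]
    exact trdeg_le_dimAt π hπ hker (RingHom.ker ρ)
  · obtain ⟨Q, hQmin, hQP, hQdim⟩ :=
      Dim.Local.exists_minimalPrimes_dimAt_eq (ResidueField A) (RingHom.ker ρ)
    haveI : Q.IsPrime := hQmin.1.1
    show ((Dim.Local.dimAt (ResidueField A) (RingHom.ker ρ) : ℕ) : Cardinal.{u}) ≤ _
    rw [← hQdim]
    exact dimQ_le_trdeg π ρ hρ hq hQP hπ

end Main

theorem main {A B : Type u} [CommRing A] [CommRing B] [IsDomain A] [IsDomain B] [IsLocalRing A]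
    [IsLocalRing B] [Algebra A B] [IsLocalHom (algebraMap A B)] [FaithfulSMul A B]
    [Algebra.EssFiniteType A B] [Module.Flat A B] :
    ∃ d e : ℕ, ringKrullDim (B ⧸ Ideal.map (algebraMap A B) (maximalIdeal A)) = d ∧
      Algebra.trdeg (ResidueField A) (ResidueField B) = e ∧ Algebra.trdeg A B = (d + e : ℕ) := by
  let q : Ideal (Algebra.EssFiniteType.subalgebra A B) :=
    (maximalIdeal B).comap (algebraMap (Algebra.EssFiniteType.subalgebra A B) B)
  have hTq : Algebra.EssFiniteType.submonoid A B ≤ q.primeCompl := fun s hs hsq => by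
    have hu : IsUnit (algebraMap (Algebra.EssFiniteType.subalgebra A B) B s) :=
      IsLocalization.map_units B ⟨s, hs⟩
    exact absurd hu ((mem_maximalIdeal _).mp hsq)
  haveI hloc : IsLocalization.AtPrime B q :=
    IsLocalization.of_le (Algebra.EssFiniteType.submonoid A B) q.primeCompl hTq
      fun r hr => not_not.mp fun hnu => hr ((mem_maximalIdeal _).mpr hnu)
  haveI : FaithfulSMul A (Algebra.EssFiniteType.subalgebra A B) :=
    (faithfulSMul_iff_algebraMap_injective _ _).mpr fun a b h =>
      FaithfulSMul.algebraMap_injective A B (congrArg Subtype.val h)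
  haveI : FaithfulSMul (Algebra.EssFiniteType.subalgebra A B) B :=
    (faithfulSMul_iff_algebraMap_injective _ _).mpr Subtype.coe_injective
  letI : Algebra (ResidueField A) (Algebra.EssFiniteType.subalgebra A B ⧸
      (maximalIdeal A).map (algebraMap A (Algebra.EssFiniteType.subalgebra A B))) :=
    (Ideal.Quotient.lift (maximalIdeal A) (algebraMap A (Algebra.EssFiniteType.subalgebra A B ⧸
      (maximalIdeal A).map (algebraMap A (Algebra.EssFiniteType.subalgebra A B)))) fun a ha =>
      Ideal.Quotient.eq_zero_iff_mem.mpr (Ideal.mem_map_of_mem _ ha)).toAlgebra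
  haveI : IsScalarTower A (ResidueField A) (Algebra.EssFiniteType.subalgebra A B ⧸
      (maximalIdeal A).map (algebraMap A (Algebra.EssFiniteType.subalgebra A B))) :=
    IsScalarTower.of_algebraMap_eq fun _ => rfl
  haveI : Algebra.FiniteType A (Algebra.EssFiniteType.subalgebra A B ⧸
      (maximalIdeal A).map (algebraMap A (Algebra.EssFiniteType.subalgebra A B))) :=
    Algebra.FiniteType.of_surjective (Ideal.Quotient.mkₐ A _) Ideal.Quotient.mk_surjective
  haveI : Algebra.FiniteType (ResidueField A) (Algebra.EssFiniteType.subalgebra A B ⧸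
      (maximalIdeal A).map (algebraMap A (Algebra.EssFiniteType.subalgebra A B))) :=
    Algebra.FiniteType.of_restrictScalars_finiteType A (ResidueField A) _
  have hker := Ideal.Quotient.mkₐ_ker A
    ((maximalIdeal A).map (algebraMap A (Algebra.EssFiniteType.subalgebra A B)))
  obtain ⟨ρ, hρ⟩ := exists_toResidue (B := B) (Ideal.Quotient.mkₐ A _)
    Ideal.Quotient.mk_surjective hker
  exact main_aux (Ideal.Quotient.mkₐ A _) Ideal.Quotient.mk_surjective hker ρ hρ (q := q) rfl

end Groth.Agent.H20.FlatFibreTrdeg
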