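import Groth.Agent.H20.ValFP
import Mathlib.RingTheory.Localization.AtPrime.Basic
import Mathlib.RingTheory.Flat.TorsionFree
import Mathlib.LinearAlgebra.TensorProduct.Quotient
import Mathlib.RingTheory.Flat.Equalizer
import Mathlib.RingTheory.TensorProduct.IsBaseChangePi

/-!
Torsion-free finite modules over a localised polynomial ring over a valuation ring are finitely
presented; kernels of surjections onto flat modules are pure.
-/

set_option autoImplicit false

universe u

namespace Groth.Agent.H20.ValLoc

open MvPolynomial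
open scoped TensorProduct

theorem flat_of_torsionFree {A : Type u} [CommRing A] [IsDomain A] [ValuationRing A] {M : Type u} [AddCommGroup M]
    [Module A M] (h : ∀ (a : A) (x : M), a ≠ 0 → a • x = 0 → x = 0) : Module.Flat A M := by
  refine Module.Flat.flat_iff_torsion_eq_bot_of_isBezout.mpr ((Submodule.eq_bot_iff _).mpr fun x hx => ?_)
  obtain ⟨⟨a, ha⟩, hax⟩ := (Submodule.mem_torsion_iff x).mp hx
  exact h a x (nonZeroDivisors.ne_zero ha) hax

theorem torsionFree_of_flat {A : Type u} [CommRing A] [IsDomain A] {M : Type u} [AddCommGroup M]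
    [Module A M] [Module.Flat A M] (a : A) (x : M) (ha : a ≠ 0) (h : a • x = 0) : x = 0 := by
  have : IsSMulRegular M a :=
    Module.Flat.isSMulRegular_of_nonZeroDivisors (mem_nonZeroDivisors_of_ne_zero ha)
  exact this (by simpa using h)

variable {A : Type u} [CommRing A] [IsDomain A] [ValuationRing A]

theorem finitePresentation_loc {N : ℕ} (q : Ideal (MvPolynomial (Fin N) A)) [q.IsPrime] {M : Type u}
    [AddCommGroup M] [Module (Localization.AtPrime q) M] [Module A M] [IsScalarTower A (Localization.AtPrime q) M]
    [Module.Finite (Localization.AtPrime q) M] (h : ∀ (a : A) (x : M), a ≠ 0 → a • x = 0 → x = 0) :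
    Module.FinitePresentation (Localization.AtPrime q) M := by
  classical
  let P := MvPolynomial (Fin N) A
  let T := Localization.AtPrime q
  obtain ⟨n, π, hπ⟩ := Module.Finite.exists_fin' T M
  refine Module.finitePresentation_of_surjective π hπ ?_
  let alg : (Fin n → P) →ₗ[P] (Fin n → T) :=
    LinearMap.pi fun i => (Algebra.linearMap P T).comp (LinearMap.proj i)
  haveI : IsLocalizedModule q.primeCompl alg := inferInstance
  let K₀ : Submodule P (Fin n → P) :=
    { carrier := {v | π (alg v) = 0}
      add_mem' := fun {a b} ha hb => by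
        simp only [Set.mem_setOf_eq, map_add, show π (alg a) = 0 from ha, show π (alg b) = 0 from hb, add_zero]
      zero_mem' := by simp
      smul_mem' := fun c v hv => by
        simp only [Set.mem_setOf_eq, map_smul]
        rw [← algebraMap_smul T c (alg v), map_smul, show π (alg v) = 0 from hv, smul_zero] }
  obtain ⟨S, hS⟩ := Groth.Agent.H20.ValFP.fg_of_saturated K₀ fun a v ha hv => by
    have h1 : π (alg (a • v)) = 0 := hv
    rw [LinearMap.map_smul_of_tower, LinearMap.map_smul_of_tower] at h1
    exact h a _ ha h1
  refine ⟨S.image alg, le_antisymm (Submodule.span_le.2 fun z hz => ?_) fun z hz => ?_⟩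
  · obtain ⟨v, hv, rfl⟩ := Finset.mem_image.1 hz
    have : v ∈ K₀ := hS ▸ Submodule.subset_span hv
    exact this
  · obtain ⟨⟨z₀, t⟩, hzt⟩ := IsLocalizedModule.surj q.primeCompl alg z
    have hz₀ : z₀ ∈ K₀ := by
      show π (alg z₀) = 0
      rw [← hzt, Submonoid.smul_def, ← algebraMap_smul T (t : P) z, map_smul,
        show π z = 0 from hz, smul_zero]
    have hmem : alg z₀ ∈ Submodule.span T ((S.image alg : Finset _) : Set (Fin n → T)) := by
      rw [← hS] at hz₀
      refine Submodule.span_induction (fun v hv => Submodule.subset_span (Finset.mem_coe.2 (Finset.mem_image_of_mem alg hv)))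
        (by simp) (fun x y _ _ hx hy => by rw [map_add]; exact add_mem hx hy)
        (fun c x _ hx => by rw [map_smul, ← algebraMap_smul T c]; exact Submodule.smul_mem _ _ hx) hz₀
    obtain ⟨w, hw⟩ := IsLocalization.map_units T t
    have : z = (↑w⁻¹ : T) • alg z₀ := by
      rw [← hzt, Submonoid.smul_def, ← algebraMap_smul T (t : P) z, smul_smul, ← hw, Units.inv_mul, one_smul]
    rw [this]
    exact Submodule.smul_mem _ _ hmem

theorem mem_smul_ker_of_flat {R : Type u} [CommRing R] {X Y : Type u} [AddCommGroup X] [Module R X]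
    [AddCommGroup Y] [Module R Y] [Module.Flat R Y] (I : Ideal R) (f : X →ₗ[R] Y) (hf : Function.Surjective f)
    {z : X} (hz : f z = 0) (hzI : z ∈ I • (⊤ : Submodule R X)) : z ∈ I • LinearMap.ker f := by
  have hinj := LinearMap.lTensor_injective_of_exact_of_flat f hf _
    (LinearMap.ker f).subtype_injective (LinearMap.exact_subtype_ker_map _) (R ⧸ I)
  have h0 : (Ideal.Quotient.mk I 1) ⊗ₜ[R] (⟨z, hz⟩ : LinearMap.ker f) = 0 := by
    apply hinj
    rw [LinearMap.lTensor_tmul, map_zero, Submodule.subtype_apply]
    apply (TensorProduct.quotTensorEquivQuotSMul X I).injective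
    rw [TensorProduct.quotTensorEquivQuotSMul_mk_tmul, map_zero, one_smul, Submodule.Quotient.mk_eq_zero]
    exact hzI
  have h1 : (⟨z, hz⟩ : LinearMap.ker f) ∈ I • (⊤ : Submodule R (LinearMap.ker f)) := by
    have := congrArg (TensorProduct.quotTensorEquivQuotSMul (LinearMap.ker f) I) h0
    rwa [TensorProduct.quotTensorEquivQuotSMul_mk_tmul, map_zero, one_smul,
      Submodule.Quotient.mk_eq_zero] at this
  have h2 := Submodule.mem_map_of_mem (f := (LinearMap.ker f).subtype) h1
  rwa [Submodule.map_smul'', Submodule.map_subtype_top] at h2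

end Groth.Agent.H20.ValLoc
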