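import Groth.Agent.H20.FlatSyzygy
import Groth.Agent.H20.ValLoc
import Groth.Agent.Lib.FlatCx.Ker
import Mathlib.RingTheory.Nakayama

/-!
A map into a flat finitely presented module which is injective modulo the maximal ideal is injective
with flat cokernel, over an arbitrary local base.
-/

set_option autoImplicit false

universe u

namespace Groth.Agent.H20.FlatInj

open MvPolynomial

variable {R : Type u} [CommRing R] [IsLocalRing R] {d : ℕ} (q : Ideal (MvPolynomial (Fin d) R)) [q.IsPrime]

set_option maxHeartbeats 800000 in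
theorem injective_and_flat_coker (hq : q.comap C = IsLocalRing.maximalIdeal R) {M Y : Type u}
    [AddCommGroup M] [Module (Localization.AtPrime q) M] [Module R M] [IsScalarTower R (Localization.AtPrime q) M]
    [Module.Finite (Localization.AtPrime q) M]
    [AddCommGroup Y] [Module (Localization.AtPrime q) Y] [Module R Y] [IsScalarTower R (Localization.AtPrime q) Y]
    [Module.FinitePresentation (Localization.AtPrime q) Y] [Module.Flat R Y]
    (u : M →ₗ[Localization.AtPrime q] Y)
    (hu : ∀ x : M, u x ∈ IsLocalRing.maximalIdeal R • (⊤ : Submodule R Y) →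
      x ∈ IsLocalRing.maximalIdeal R • (⊤ : Submodule R M)) :
    Function.Injective u ∧ Module.Flat R (Y ⧸ LinearMap.range u) := by
  classical
  let T := Localization.AtPrime q
  have hC : Module.Flat R (Y ⧸ LinearMap.range u) := FlatTor.flat_coker q hq u hu
  refine ⟨?_, hC⟩
  obtain ⟨a, π, hπ⟩ := Module.Finite.exists_fin' T Y
  obtain ⟨b, p, hp⟩ := Module.Finite.exists_fin' T M
  obtain ⟨c, κ, hκ⟩ := Submodule.fg_iff_exists_fin_generating_family.1 (Module.FinitePresentation.fg_ker π hπ)
  choose wcol hwcol using fun v : Fin b => hπ (u (p (Pi.single v 1)))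
  let W : (Fin (b + c) → T) →ₗ[T] (Fin a → T) := Fintype.linearCombination T (Fin.append wcol κ)
  let π' := (LinearMap.range u).mkQ ∘ₗ π
  have hκ0 : ∀ j, π (κ j) = 0 := fun j => by
    have : κ j ∈ LinearMap.ker π := hκ ▸ Submodule.subset_span ⟨j, rfl⟩
    exact this
  have hπW : ∀ y, π (W y) = u (p fun v => y (Fin.castAdd c v)) := by
    intro y
    rw [pi_eq_sum_univ' (fun v => y (Fin.castAdd c v))]
    simp only [W, Fintype.linearCombination_apply, map_add, map_sum, map_smul, Fin.sum_univ_add, Fin.append_left,
      Fin.append_right, hκ0, smul_zero, Finset.sum_const_zero, add_zero, hwcol]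
  have hrange : LinearMap.range W = LinearMap.ker π' := by
    refine le_antisymm ?_ fun z hz => ?_
    · rintro _ ⟨y, rfl⟩
      rw [LinearMap.mem_ker, LinearMap.comp_apply, Submodule.mkQ_apply, Submodule.Quotient.mk_eq_zero, hπW]
      exact LinearMap.mem_range_self _ _
    · obtain ⟨x, hx⟩ : π z ∈ LinearMap.range u := (Submodule.Quotient.mk_eq_zero _).mp hz
      obtain ⟨y, rfl⟩ := hp x
      have h0 : z - W (Fin.append y 0) ∈ LinearMap.ker π := by
        rw [LinearMap.mem_ker, map_sub, hπW]
        simp only [Fin.append_left, hx, sub_self]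
      rw [← hκ, Submodule.mem_span_range_iff_exists_fun] at h0
      obtain ⟨e, he⟩ := h0
      refine ⟨Fin.append y e, ?_⟩
      rw [← sub_add_cancel z (W (Fin.append y 0)), ← he]
      simp only [W, Fintype.linearCombination_apply, Fin.sum_univ_add, Fin.append_left, Fin.append_right,
        Pi.zero_apply, zero_smul, Finset.sum_const_zero, add_zero]
      exact add_comm _ _
  haveI : Module.Flat R ((Fin a → T) ⧸ LinearMap.range W) :=
    Module.Flat.of_linearEquiv ((((Submodule.quotEquivOfEq _ _ hrange).trans
      (π'.quotKerEquivOfSurjective ((Submodule.mkQ_surjective _).comp hπ))).restrictScalars R))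
  have hWfg : (LinearMap.ker W).FG := FlatSyzygy.fg_ker q hq W
  let pr : (Fin (b + c) → T) →ₗ[T] M := p ∘ₗ LinearMap.funLeft T T (Fin.castAdd c)
  have hker : LinearMap.ker u = (LinearMap.ker W).map pr := by
    refine le_antisymm (fun x hx => ?_) ?_
    · obtain ⟨y, rfl⟩ := hp x
      have h0 : W (Fin.append y 0) ∈ LinearMap.ker π := by
        rw [LinearMap.mem_ker, hπW]
        simp only [Fin.append_left]
        exact hx
      rw [← hκ, Submodule.mem_span_range_iff_exists_fun] at h0
      obtain ⟨e, he⟩ := h0
      refine ⟨Fin.append y (-e), LinearMap.mem_ker.mpr ?_, ?_⟩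
      · have : W (Fin.append y (-e)) = W (Fin.append y 0) - ∑ j, e j • κ j := by
          simp [W, Fintype.linearCombination_apply, Fin.sum_univ_add, sub_eq_add_neg]
        rw [this, he, sub_self]
      · show p (fun v => Fin.append y (-e) (Fin.castAdd c v)) = p y
        simp only [Fin.append_left]
    · rintro _ ⟨y, hy, rfl⟩
      rw [LinearMap.mem_ker]
      show u (p fun v => y (Fin.castAdd c v)) = 0
      rw [← hπW, LinearMap.mem_ker.mp hy, map_zero]
  have hK : (LinearMap.ker u).FG := hker ▸ hWfg.map pr
  let uR : M →ₗ[R] Y := u.restrictScalars R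
  haveI : Module.Flat R (Y ⧸ LinearMap.range uR) := by
    have he : LinearMap.range uR = (LinearMap.range u).restrictScalars R := LinearMap.range_restrictScalars u
    exact Module.Flat.of_linearEquiv ((Submodule.quotEquivOfEq _ _ he).trans
      (Submodule.Quotient.restrictScalarsEquiv R (LinearMap.range u)))
  haveI := Groth.Agent.Lib.FlatCx.Ker.flat_range uR
  let I : Ideal T := (IsLocalRing.maximalIdeal R).map (algebraMap R T)
  have hle : LinearMap.ker u ≤ I • LinearMap.ker u := fun x hx => by
    have hx' : u x = 0 := hx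
    have h1 := ValLoc.mem_smul_ker_of_flat (IsLocalRing.maximalIdeal R) uR.rangeRestrict uR.surjective_rangeRestrict
      (z := x) (Subtype.ext hx') (hu x (by rw [hx']; exact zero_mem _))
    refine (Submodule.smul_induction_on h1 (fun r hr y hy => ?_) fun _ _ => add_mem :
      x ∈ I • LinearMap.ker u)
    rw [← algebraMap_smul T r y]
    exact Submodule.smul_mem_smul (Ideal.mem_map_of_mem _ hr) (congrArg Subtype.val (LinearMap.mem_ker.mp hy))
  have hI : I ≤ Ideal.jacobson ⊥ := by
    rw [IsLocalRing.jacobson_eq_maximalIdeal ⊥ bot_ne_top, Ideal.map_le_iff_le_comap]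
    intro r hr
    have h : (MvPolynomial.C r : MvPolynomial (Fin d) R) ∈ q := by
      rw [← hq] at hr; exact hr
    rw [Ideal.mem_comap, IsScalarTower.algebraMap_apply R (MvPolynomial (Fin d) R) T]
    exact (IsLocalization.AtPrime.to_map_mem_maximal_iff T q _).mpr h
  exact LinearMap.ker_eq_bot.mp (Submodule.eq_bot_of_le_smul_of_le_jacobson_bot I _ hK hle hI)

end Groth.Agent.H20.FlatInj
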