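import Groth.Agent.H20.FlatFibreTrdeg
import Groth.Agent.Lib.Flat55.ResTrdegCons
import Groth.Agent.Lib.StalkLoc.Basic
import Groth.Agent.Lib.VarDim.Fibre
import Groth.Agent.Lib.Modules.Support
import Groth.Agent.H47.FlatKernelScheme
import Groth.Agent.Lib.CohBasics.Affine
import Groth.Prelude.Def_Coh
import Groth.Prelude.Def_FlatMod2
import Mathlib.RingTheory.LocalRing.Module

/-!
# The support of a flat module in the fibres
-/

set_option autoImplicit false
set_option linter.style.haveILetI false

universe u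

open scoped TensorProduct

namespace Groth.Agent.H20.FlatSupportTrdeg

/-- If `M` is a finite `B`-module flat over `A`, `q` a prime in its support over `p ⊇ η` and the
`t i` have no relation modulo `q` over `p`, then some prime in the support has no relation among
the `t i` over `η`. -/
theorem exists_prime_noRel {A B : Type u} [CommRing A] [CommRing B] [Algebra A B]
    (M : Type u) [AddCommGroup M] [Module B M] [Module A M] [IsScalarTower A B M]
    [Module.Finite B M] [Module.Flat A M] (η p : Ideal A) [η.IsPrime] [p.IsPrime] (hηp : η ≤ p)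
    (q : Ideal B) [q.IsPrime] [q.LiesOver p] (hq : ⟨q, ‹_›⟩ ∈ Module.support B M)
    {ι : Type u} (t : ι → B)
    (ht : ∀ P : MvPolynomial ι A, (∃ m, P.coeff m ∉ p) → MvPolynomial.aeval t P ∉ q) :
    ∃ Q : PrimeSpectrum B, Q ∈ Module.support B M ∧
      ∀ P : MvPolynomial ι A, (∃ m, P.coeff m ∉ η) → MvPolynomial.aeval t P ∉ Q.asIdeal := by
  classical
  -- no good relation kills `M`
  suffices key : ∀ P : MvPolynomial ι A, (∃ m, P.coeff m ∉ η) →
      MvPolynomial.aeval t P ∉ Module.annihilator B M by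
    let πη : MvPolynomial ι A →+* MvPolynomial ι (A ⧸ η) := MvPolynomial.map (Ideal.Quotient.mk η)
    have hgood : ∀ P : MvPolynomial ι A, (∃ m, P.coeff m ∉ η) ↔ πη P ≠ 0 := fun P => by
      simp only [πη, Ne, MvPolynomial.ext_iff, MvPolynomial.coeff_map, MvPolynomial.coeff_zero,
        Ideal.Quotient.eq_zero_iff_mem, not_forall]
    let S : Submonoid B :=
      { carrier := {b | ∃ P : MvPolynomial ι A, πη P ≠ 0 ∧ MvPolynomial.aeval t P = b}
        one_mem' := ⟨1, by simp, map_one _⟩
        mul_mem' := by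
          rintro _ _ ⟨P, hP, rfl⟩ ⟨P', hP', rfl⟩
          exact ⟨P * P', by rw [map_mul]; exact mul_ne_zero hP hP', map_mul _ _ _⟩ }
    have hdisj : Disjoint (Module.annihilator B M : Set B) S := by
      rw [Set.disjoint_left]
      rintro _ hb ⟨P, hP, rfl⟩
      exact key P ((hgood P).mpr hP) hb
    obtain ⟨Q, hQ, hle, hQS⟩ := Ideal.exists_le_prime_disjoint (Module.annihilator B M) S hdisj
    refine ⟨⟨Q, hQ⟩, ?_, fun P hP hmem =>
      Set.disjoint_left.mp hQS hmem ⟨P, (hgood P).mp hP, rfl⟩⟩
    rw [Module.support_eq_zeroLocus]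
    exact hle
  intro P hP hann
  letI : Algebra p.ResidueField q.ResidueField :=
    (Ideal.ResidueField.map p q (algebraMap A B) (q.over_def p)).toAlgebra
  haveI : IsScalarTower A p.ResidueField q.ResidueField :=
    IsScalarTower.of_algebraMap_eq fun a => by
      rw [IsScalarTower.algebraMap_apply A B q.ResidueField]
      exact (Ideal.ResidueField.map_algebraMap _ _ _ _ _).symm
  -- independence over the residue field of `p`
  have hLI : AlgebraicIndependent p.ResidueField
      (fun i => algebraMap B q.ResidueField (t i)) := by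
    rw [algebraicIndependent_iff]
    intro R hR
    by_contra hne
    obtain ⟨m, hm⟩ := MvPolynomial.exists_coeff_ne_zero hne
    have hfrac : ∀ x : p.ResidueField, ∃ a g, algebraMap A p.ResidueField g ≠ 0 ∧
        x * algebraMap A p.ResidueField g = algebraMap A p.ResidueField a := fun x => by
      obtain ⟨a, b, hb, hx⟩ := IsFractionRing.div_surjective (A := A ⧸ p) (K := p.ResidueField) x
      obtain ⟨a, rfl⟩ := Ideal.Quotient.mk_surjective a
      obtain ⟨b, rfl⟩ := Ideal.Quotient.mk_surjective b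
      have hb0 : algebraMap (A ⧸ p) p.ResidueField (Ideal.Quotient.mk p b) ≠ 0 :=
        IsFractionRing.to_map_ne_zero_of_mem_nonZeroDivisors hb
      refine ⟨a, b, hb0, ?_⟩
      rw [← hx]
      exact div_mul_cancel₀ _ hb0
    obtain ⟨R', g, hg, hR'⟩ := Lib.Flat55.ResTrdegCons.exists_map_eq_C_mul _ hfrac R
    have hm' : R'.coeff m ∉ p := fun h => by
      have := congrArg (MvPolynomial.coeff m) hR'
      rw [MvPolynomial.coeff_map, MvPolynomial.coeff_C_mul,
        Ideal.algebraMap_residueField_eq_zero.mpr h] at this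
      exact mul_ne_zero hg hm this.symm
    refine ht R' ⟨m, hm'⟩ (Ideal.algebraMap_residueField_eq_zero.mp ?_)
    rw [← MvPolynomial.aeval_algebraMap_apply, ← MvPolynomial.aeval_map_algebraMap p.ResidueField,
      hR', map_mul]
    show _ * MvPolynomial.aeval (fun i => algebraMap B q.ResidueField (t i)) R = 0
    rw [hR, mul_zero]
  -- a valuation ring dominating `p` over `η`
  have hunit : ∀ a : p.primeCompl, IsUnit (algebraMap A η.ResidueField a) := fun a =>
    isUnit_iff_ne_zero.mpr fun h => a.2 (hηp (Ideal.algebraMap_residueField_eq_zero.mp h))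
  obtain ⟨V, j, hj, hjloc⟩ := FlatFibreTrdeg.exists_valuationSubring_dominating
    (IsLocalization.lift (M := p.primeCompl) (S := Localization.AtPrime p) hunit)
  letI : Algebra A V := (j.comp (algebraMap A (Localization.AtPrime p))).toAlgebra
  have hjA : ∀ a, ((algebraMap A V a : V) : η.ResidueField) = algebraMap A η.ResidueField a :=
    fun a => (hj _).trans (IsLocalization.lift_eq hunit a)
  letI : Algebra (Localization.AtPrime p) V := j.toAlgebra
  haveI : IsScalarTower A (Localization.AtPrime p) V := IsScalarTower.of_algebraMap_eq fun _ => rfl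
  haveI : IsLocalHom (algebraMap (Localization.AtPrime p) V) := hjloc
  haveI : IsScalarTower A p.ResidueField (IsLocalRing.ResidueField V) :=
    IsScalarTower.of_algebraMap_eq fun _ => rfl
  -- scale the relation
  obtain ⟨m1, hm1⟩ := hP
  have hne : P.support.Nonempty := ⟨m1, MvPolynomial.mem_support_iff.mpr fun h => hm1 (by simp [h])⟩
  obtain ⟨m0, hm0, hmax⟩ := P.support.exists_max_image
    (fun m => V.valuation (algebraMap A η.ResidueField (P.coeff m))) hne
  have hc0 : algebraMap A η.ResidueField (P.coeff m0) ≠ 0 := fun h => by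
    have h1 := hmax m1 (MvPolynomial.mem_support_iff.mpr fun h => hm1 (by simp [h]))
    rw [h, map_zero, le_zero_iff, map_eq_zero] at h1
    exact hm1 (Ideal.algebraMap_residueField_eq_zero.mp h1)
  have hmem : ∀ m ∈ P.support, algebraMap A η.ResidueField (P.coeff m) /
      algebraMap A η.ResidueField (P.coeff m0) ∈ V := fun m hm => by
    rw [← V.valuation_le_one_iff, map_div₀]
    exact div_le_one_of_le₀ (hmax m hm) zero_le
  let g : (ι →₀ ℕ) → V := fun m => if h : m ∈ P.support then ⟨_, hmem m h⟩ else 0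
  have hgm : ∀ m ∈ P.support, algebraMap A V (P.coeff m) = algebraMap A V (P.coeff m0) * g m :=
    fun m hm => Subtype.ext (by
      rw [MulMemClass.coe_mul, hjA, hjA]
      simp only [g, dif_pos hm]
      rw [mul_div_cancel₀ _ hc0])
  -- a functional on `M`
  haveI : Nontrivial (q.ResidueField ⊗[B] M) :=
    (Module.mem_support_iff_nontrivial_residueField_tensorProduct (p := ⟨q, ‹_›⟩)).mp hq
  obtain ⟨v, hv⟩ := exists_ne (0 : q.ResidueField ⊗[B] M)
  obtain ⟨φ, hφ⟩ : ∃ φ : Module.Dual q.ResidueField (q.ResidueField ⊗[B] M), φ v ≠ 0 := by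
    by_contra! h
    exact hv ((Module.forall_dual_apply_eq_zero_iff q.ResidueField v).mp h)
  let lam : M →ₗ[B] q.ResidueField :=
    (φ.restrictScalars B) ∘ₗ (TensorProduct.mk B q.ResidueField M 1)
  obtain ⟨e, he⟩ : ∃ e, lam e ≠ 0 := by
    by_contra! h
    apply hφ
    have : φ.restrictScalars B = 0 := by
      refine TensorProduct.ext' fun c m => ?_
      show φ (c ⊗ₜ m) = 0
      rw [show c ⊗ₜ[B] m = c • ((1 : q.ResidueField) ⊗ₜ m) by
        rw [TensorProduct.smul_tmul', smul_eq_mul, mul_one], map_smul]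
      rw [show φ ((1 : q.ResidueField) ⊗ₜ m) = 0 from h m, smul_zero]
    exact LinearMap.congr_fun this v
  -- move the relation to `V ⊗ M`
  have hrel : ∑ m ∈ P.support, P.coeff m • ((m.prod fun i k => t i ^ k) • e) = 0 := by
    have h0 : MvPolynomial.aeval t P • e = 0 := Module.mem_annihilator.mp hann e
    rw [MvPolynomial.aeval_def, MvPolynomial.eval₂_eq, Finset.sum_smul] at h0
    rw [← h0]
    refine Finset.sum_congr rfl fun m _ => ?_
    rw [mul_smul, algebraMap_smul]
    rfl
  have hV : ∑ m ∈ P.support, g m ⊗ₜ[A] ((m.prod fun i k => t i ^ k) • e) = 0 := by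
    have hz : algebraMap A V (P.coeff m0) •
        (∑ m ∈ P.support, g m ⊗ₜ[A] ((m.prod fun i k => t i ^ k) • e)) = 0 := by
      rw [Finset.smul_sum]
      calc _ = ∑ m ∈ P.support, (1 : V) ⊗ₜ[A] (P.coeff m • ((m.prod fun i k => t i ^ k) • e)) := by
            refine Finset.sum_congr rfl fun m hm => ?_
            rw [TensorProduct.smul_tmul', smul_eq_mul, ← hgm m hm, ← TensorProduct.smul_tmul (P.coeff m) (1 : V),
              Algebra.smul_def, mul_one]
        _ = 0 := by rw [← TensorProduct.tmul_sum, hrel, TensorProduct.tmul_zero]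
    refine (smul_eq_zero.mp hz).resolve_left fun h => hc0 ?_
    rw [← hjA]
    exact congrArg Subtype.val h
  -- reduce
  let θ₁ : V →ₗ[A] IsLocalRing.ResidueField V ⊗[p.ResidueField] q.ResidueField :=
    (({ toRingHom := (algebraMap (IsLocalRing.ResidueField V) _).comp (IsLocalRing.residue V)
        commutes' := fun a => (IsScalarTower.algebraMap_apply A (IsLocalRing.ResidueField V)
          (IsLocalRing.ResidueField V ⊗[p.ResidueField] q.ResidueField) a).symm } :
      V →ₐ[A] IsLocalRing.ResidueField V ⊗[p.ResidueField] q.ResidueField)).toLinearMap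
  let θ₂ : M →ₗ[A] IsLocalRing.ResidueField V ⊗[p.ResidueField] q.ResidueField :=
    ((Algebra.TensorProduct.includeRight (R := p.ResidueField)
      (A := IsLocalRing.ResidueField V) (B := q.ResidueField)).restrictScalars A).toLinearMap ∘ₗ
      (lam.restrictScalars A)
  let Θ := TensorProduct.lift ((LinearMap.mul A
    (IsLocalRing.ResidueField V ⊗[p.ResidueField] q.ResidueField)).compl₁₂ θ₁ θ₂)
  have hΘ := congrArg Θ hV
  rw [map_sum, map_zero] at hΘ
  let gb : MvPolynomial ι (IsLocalRing.ResidueField V) :=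
    ∑ m ∈ P.support, MvPolynomial.monomial m (IsLocalRing.residue V (g m))
  let W := fun i => (1 : IsLocalRing.ResidueField V) ⊗ₜ[p.ResidueField]
    (algebraMap B q.ResidueField (t i))
  have h0 : MvPolynomial.aeval W gb * ((1 : IsLocalRing.ResidueField V) ⊗ₜ[p.ResidueField] lam e) = 0 := by
    rw [map_sum, Finset.sum_mul, ← hΘ]
    refine Finset.sum_congr rfl fun m _ => ?_
    show _ = θ₁ (g m) * θ₂ ((m.prod fun i k => t i ^ k) • e)
    rw [MvPolynomial.aeval_monomial, mul_assoc]
    congr 1
    show _ = (1 : IsLocalRing.ResidueField V) ⊗ₜ[p.ResidueField] lam ((m.prod fun i k => t i ^ k) • e)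
    rw [map_smul, Algebra.smul_def, map_finsuppProd]
    simp only [map_pow, W]
    rw [show (m.prod fun i k => ((1 : IsLocalRing.ResidueField V) ⊗ₜ[p.ResidueField]
        algebraMap B q.ResidueField (t i)) ^ k) = Algebra.TensorProduct.includeRight
          (m.prod fun i k => algebraMap B q.ResidueField (t i) ^ k) by
        rw [map_finsuppProd]; simp only [map_pow]; rfl]
    simp [Algebra.TensorProduct.tmul_mul_tmul]
  have hu : IsUnit ((1 : IsLocalRing.ResidueField V) ⊗ₜ[p.ResidueField] lam e) :=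
    (isUnit_iff_ne_zero.mpr he).map Algebra.TensorProduct.includeRight
  have hgb : gb = 0 :=
    (FlatFibreTrdeg.one_tmul_independent (L := IsLocalRing.ResidueField V)
      hLI).eq_zero_of_aeval_eq_zero _ ((hu.mul_left_eq_zero).mp h0)
  have h1 := congrArg (MvPolynomial.coeff m0) hgb
  rw [MvPolynomial.coeff_sum, Finset.sum_eq_single_of_mem m0 hm0
    (fun m _ hne => by rw [MvPolynomial.coeff_monomial, if_neg hne]), MvPolynomial.coeff_monomial,
    if_pos rfl, MvPolynomial.coeff_zero] at h1
  have hg0 : g m0 = 1 := by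
    simp only [g, dif_pos hm0]
    exact Subtype.ext (div_self hc0)
  rw [hg0, map_one] at h1
  exact one_ne_zero h1

open AlgebraicGeometry CategoryTheory TopologicalSpace Groth.Agent.Lib Groth.Agent.Lib.Cyc
open Groth.Agent.Lib.VarDim.Basic

variable {X S : Scheme.{u}} (f : X ⟶ S)

set_option backward.isDefEq.respectTransparency.types false in
theorem trdegAt_eq_tdAt [LocallyOfFiniteType f] (x : X) :
    Residue.trdegAt f x = (tdAt f x : Cardinal.{u}) := by
  have : LocallyOfFiniteType (X := f.fiber (f x)) (Y := Spec (CommRingCat.of (S.residueField (f x))))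
      (f.fiberToSpecResidueField (f x)) :=
    inferInstanceAs (LocallyOfFiniteType (Limits.pullback.snd f (S.fromSpecResidueField (f x))))
  obtain ⟨z, hz⟩ := FieldDim.exists_fiberι_eq f x (f x) rfl
  have h := trdegAt_eq_pdim (K := S.residueField (f x)) (f.fiberToSpecResidueField (f x)) z
  have h2 : Residue.trdegAt (f.fiberToSpecResidueField (f x)) z = Residue.trdegAt f x :=
    (FieldDim.trdegAt_fiber f (f x) z).trans (by rw [hz])
  rw [tdAt, ← h2, h, Cardinal.toNat_natCast]

set_option backward.isDefEq.respectTransparency.types false in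
theorem topologicalKrullDim_inter_le_iff [LocallyOfFiniteType f] {Z : Set X} (hZ : IsClosed Z)
    (y : S) (d : WithBot ℕ∞) :
    topologicalKrullDim ↥(f ⁻¹' {y} ∩ Z) ≤ d ↔
      ∀ x : X, f x = y → x ∈ Z → (tdAt f x : WithBot ℕ∞) ≤ d := by
  have : LocallyOfFiniteType (X := f.fiber y) (Y := Spec (CommRingCat.of (S.residueField y)))
      (f.fiberToSpecResidueField y) :=
    inferInstanceAs (LocallyOfFiniteType (Limits.pullback.snd f (S.fromSpecResidueField y)))
  have hemb : Topology.IsEmbedding (f.fiberι y) := (f.fiberι y).isEmbedding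
  have himg : (f.fiberι y) '' ((f.fiberι y) ⁻¹' Z) = f ⁻¹' {y} ∩ Z := by
    rw [Set.image_preimage_eq_range_inter, f.range_fiberι]
  rw [← himg, ← (hemb.homeomorphImage _).isHomeomorph.topologicalKrullDim_eq _,
    topologicalKrullDim_le_iff (K := S.residueField y) (f.fiberToSpecResidueField y)
      (hZ.preimage (f.fiberι y).continuous).isLocallyClosed]
  have key : ∀ z : f.fiber y,
      pdim (K := S.residueField y) (f.fiberToSpecResidueField y) z = tdAt f (f.fiberι y z) :=
    fun z => congrArg Cardinal.toNat (FieldDim.trdegAt_fiber f y z)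
  constructor
  · intro hz x hx hxZ
    obtain ⟨z, rfl⟩ := FieldDim.exists_fiberι_eq f x y hx
    rw [← key]
    exact hz z hxZ
  · intro hx z hz
    rw [key]
    exact hx _ (FieldDim.apply_fiberι f y z) hz

theorem notMem_primeIdealOf_iff {U : X.Opens} (hU : IsAffineOpen U) {x : X} (hx : x ∈ U)
    (b : Γ(X, U)) : b ∉ (hU.primeIdealOf ⟨x, hx⟩).asIdeal ↔ x ∈ X.basicOpen b := by
  set q := hU.primeIdealOf ⟨x, hx⟩
  have e : hU.fromSpec q = x := hU.fromSpec_primeIdealOf ⟨x, hx⟩
  have e2 : q ∈ hU.fromSpec ⁻¹ᵁ X.basicOpen b ↔ x ∈ X.basicOpen b := by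
    show hU.fromSpec q ∈ X.basicOpen b ↔ _
    rw [e]
  rw [← e2, hU.fromSpec_preimage_basicOpen]
  exact (PrimeSpectrum.mem_basicOpen _ _).symm

theorem mem_support_iff (F : X.Modules) [F.IsQuasicoherent] {U : X.Opens} (hU : IsAffineOpen U)
    {x : X} (hx : x ∈ U) :
    x ∈ CohB1.support F ↔ hU.primeIdealOf ⟨x, hx⟩ ∈ Module.support Γ(X, U) Γ(F, U) := by
  let _ := StalkLoc.Basic.moduleSections F hx
  haveI := StalkLoc.Basic.isLocalizedModule_germ (M := F) hU hx
  rw [Module.mem_support_iff,
    (IsLocalizedModule.iso (hU.primeIdealOf ⟨x, hx⟩).asIdeal.primeCompl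
      (StalkLoc.Basic.germₗ F hx)).toEquiv.nontrivial_congr]
  exact not_subsingleton_iff_nontrivial

theorem exists_point [LocallyOfFiniteType f] [IrreducibleSpace S] (F : X.Modules)
    [F.IsQuasicoherent] [SheafOfModules.IsFiniteType (R := X.ringCatSheaf) F]
    (hfl : FlatMod.IsFlatOver f F) {x : X} (hx : x ∈ CohB1.support F) :
    ∃ y : X, f y = genericPoint S ∧ y ∈ CohB1.support F ∧ tdAt f x ≤ tdAt f y := by
  classical
  obtain ⟨V, hV, hsV, -⟩ :=
    exists_isAffineOpen_mem_and_subset (U := (⊤ : S.Opens)) (Set.mem_univ (f x))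
  obtain ⟨U, hU, hxU, hUV'⟩ :=
    exists_isAffineOpen_mem_and_subset (U := f ⁻¹ᵁ V) (show x ∈ f ⁻¹ᵁ V from hsV)
  have hUV : U ≤ f ⁻¹ᵁ V := hUV'
  have hηV : genericPoint S ∈ V :=
    ((genericPoint_spec S).mem_open_set_iff V.2).mpr ⟨f x, trivial, hsV⟩
  set p := (hV.primeIdealOf ⟨f x, hsV⟩).asIdeal with hp
  set η := (hV.primeIdealOf ⟨genericPoint S, hηV⟩).asIdeal with hη
  set q := (hU.primeIdealOf ⟨x, hxU⟩).asIdeal with hq
  let _ : Algebra Γ(S, V) Γ(X, U) := (f.appLE V U hUV).hom.toAlgebra
  let _ : Module Γ(S, V) Γ(F, U) := Module.compHom Γ(F, U) (f.appLE V U hUV).hom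
  haveI : IsScalarTower Γ(S, V) Γ(X, U) Γ(F, U) := IsScalarTower.of_algebraMap_smul fun _ _ => rfl
  haveI : Module.Flat Γ(S, V) Γ(F, U) := H47.FlatKernelScheme.flat_sections f F hV hU hUV hfl
  haveI : Module.Finite Γ(X, U) Γ(F, U) := CohBasics.Affine.finite_sections (M := F) hU
  haveI : p.IsPrime := (hV.primeIdealOf ⟨f x, hsV⟩).isPrime
  haveI : η.IsPrime := (hV.primeIdealOf ⟨genericPoint S, hηV⟩).isPrime
  haveI : q.IsPrime := (hU.primeIdealOf ⟨x, hxU⟩).isPrime
  have hbasic : ∀ (z : X) (hz : z ∈ U) (a : Γ(S, V)),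
      z ∈ X.basicOpen (f.appLE V U hUV a) ↔ f z ∈ S.basicOpen a := fun z hz a => by
    rw [Scheme.basicOpen_appLE]
    exact ⟨fun h => h.2, fun h => ⟨hz, h⟩⟩
  haveI : q.LiesOver p := ⟨by
    ext a
    rw [Ideal.under_def, Ideal.mem_comap, ← not_iff_not, notMem_primeIdealOf_iff,
      notMem_primeIdealOf_iff]
    exact (hbasic x hxU a).symm⟩
  have hηp : η ≤ p := fun a ha => by
    by_contra hap
    rw [notMem_primeIdealOf_iff] at hap
    exact (notMem_primeIdealOf_iff hV hηV a).mpr
      (((genericPoint_spec S).mem_open_set_iff (S.basicOpen a).2).mpr ⟨f x, trivial, hap⟩) ha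
  -- elements with independent values at `x`
  letI : Algebra (S.residueField (f x)) (X.residueField x) := (f.residueFieldMap x).hom.toAlgebra
  obtain ⟨σ, hσsub, hσ⟩ : ∃ σ ⊆ Set.range (X.evaluation U x hxU),
      IsTranscendenceBasis (S.residueField (f x)) ((↑) : σ → X.residueField x) := by
    haveI : Algebra.IsAlgebraic (Algebra.adjoin (S.residueField (f x))
        (Set.range (X.evaluation U x hxU))) (X.residueField x) :=
      FlatFibreTrdeg.isAlgebraic_of_frac fun z => by
        obtain ⟨a, g, hg, h⟩ := Lib.Flat55.ResTrdegCons.exists_eq_div hU hxU z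
        exact ⟨⟨_, Algebra.subset_adjoin ⟨a, rfl⟩⟩, ⟨_, Algebra.subset_adjoin ⟨g, rfl⟩⟩,
          fun h0 => hg (congrArg Subtype.val h0), h⟩
    exact exists_isTranscendenceBasis_subset _
  choose t htv using fun i : σ => hσsub i.2
  have ht : ∀ P : MvPolynomial σ Γ(S, V), (∃ m, P.coeff m ∉ p) →
      MvPolynomial.aeval t P ∉ q := by
    rintro P ⟨m, hm⟩ hmem
    rw [notMem_primeIdealOf_iff hV hsV, ← Scheme.evaluation_ne_zero_iff_mem_basicOpen S (f x) hsV] at hm
    refine hm ?_
    have h0 : X.evaluation U x hxU (MvPolynomial.aeval t P) = 0 := by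
      by_contra h
      rw [← Ne, Scheme.evaluation_ne_zero_iff_mem_basicOpen X x hxU,
        ← notMem_primeIdealOf_iff hU hxU] at h
      exact h hmem
    have hmap : MvPolynomial.aeval ((↑) : σ → X.residueField x)
        (MvPolynomial.map (S.evaluation V (f x) hsV).hom P) = 0 := by
      rw [← h0, MvPolynomial.aeval_def, MvPolynomial.aeval_def, MvPolynomial.eval₂_map]
      refine Eq.trans ?_ (MvPolynomial.eval₂_comp_left (X.evaluation U x hxU).hom _ t P).symm
      congr 1
      · exact RingHom.ext fun a => (Lib.Flat55.ResTrdegCons.evaluation_appLE f hUV hxU a).symm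
      · exact funext fun i => (htv i).symm
    have := congrArg (MvPolynomial.coeff m) (hσ.1.eq_zero_of_aeval_eq_zero _ hmap)
    rwa [MvPolynomial.coeff_map, MvPolynomial.coeff_zero] at this
  obtain ⟨Q, hQsupp, hQ⟩ := exists_prime_noRel Γ(F, U) η p hηp q
    ((mem_support_iff F hU hxU).mp hx) t ht
  let y : X := hU.fromSpec Q
  have hyU : y ∈ U := by
    have : y ∈ Set.range hU.fromSpec := ⟨Q, rfl⟩
    rwa [hU.range_fromSpec] at this
  have hyQ : hU.primeIdealOf ⟨y, hyU⟩ = Q :=
    hU.fromSpec.isOpenEmbedding.injective (hU.fromSpec_primeIdealOf ⟨y, hyU⟩)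
  have hfy : f y = genericPoint S := by
    have hgen : genericPoint S ⤳ f y := (genericPoint_spec S).specializes trivial
    refine (specializes_iff_forall_open.mpr fun W hW hηW => ?_).antisymm hgen |>.eq
    obtain ⟨a, hle, hηa⟩ := hV.exists_basicOpen_le (V := ⟨W, hW⟩) ⟨genericPoint S, hηW⟩ hηV
    refine hle ((hbasic y hyU a).mp ?_)
    rw [← notMem_primeIdealOf_iff hU hyU, hyQ]
    have hC := hQ (MvPolynomial.C a) ⟨0, by
      rw [MvPolynomial.coeff_C, if_pos rfl, notMem_primeIdealOf_iff]
      exact hηa⟩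
    rwa [MvPolynomial.aeval_C] at hC
  refine ⟨y, hfy, (mem_support_iff F hU hyU).mpr (hyQ.symm ▸ hQsupp), ?_⟩
  letI : Algebra (S.residueField (f y)) (X.residueField y) := (f.residueFieldMap y).hom.toAlgebra
  have hfyV : f y ∈ V := hUV hyU
  have hind : AlgebraicIndependent (S.residueField (f y))
      (fun i => X.evaluation U y hyU (t i)) := by
    rw [algebraicIndependent_iff]
    intro R hR
    by_contra hne
    obtain ⟨m, hm⟩ := MvPolynomial.exists_coeff_ne_zero hne
    obtain ⟨P, g, hg, hP⟩ := Lib.Flat55.ResTrdegCons.exists_map_eq_C_mul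
      (S.evaluation V (f y) hfyV).hom (Lib.Flat55.ResTrdegCons.exists_eq_div hV hfyV) R
    have hPm : P.coeff m ∉ η := by
      rw [notMem_primeIdealOf_iff]
      have : f y ∈ S.basicOpen (P.coeff m) := by
        rw [← Scheme.evaluation_ne_zero_iff_mem_basicOpen S (f y) hfyV]
        have := congrArg (MvPolynomial.coeff m) hP
        rw [MvPolynomial.coeff_map, MvPolynomial.coeff_C_mul] at this
        rw [this]
        exact mul_ne_zero hg hm
      exact hfy ▸ this
    have h2 := hQ P ⟨m, hPm⟩
    rw [← hyQ, notMem_primeIdealOf_iff, ← Scheme.evaluation_ne_zero_iff_mem_basicOpen X y hyU] at h2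
    refine h2 ?_
    have h3 : MvPolynomial.aeval (fun i => X.evaluation U y hyU (t i))
        (MvPolynomial.map (S.evaluation V (f y) hfyV).hom P) = 0 := by
      rw [hP, map_mul, hR, mul_zero]
    rw [← h3, MvPolynomial.aeval_def, MvPolynomial.aeval_def, MvPolynomial.eval₂_map]
    refine (MvPolynomial.eval₂_comp_left (X.evaluation U y hyU).hom _ t P).trans ?_
    congr 1
    exact RingHom.ext fun a => Lib.Flat55.ResTrdegCons.evaluation_appLE f hUV hyU a
  have h1 : Residue.trdegAt f x = Cardinal.mk σ := hσ.cardinalMk_eq_trdeg.symm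
  have h2 : Cardinal.mk σ ≤ Residue.trdegAt f y := hind.cardinalMk_le_trdeg
  rw [← h1, trdegAt_eq_tdAt, trdegAt_eq_tdAt] at h2
  exact_mod_cast h2

theorem dim_support_fibre_le [LocallyOfFiniteType f] [IrreducibleSpace S] (F : X.Modules)
    [F.IsQuasicoherent] [SheafOfModules.IsFiniteType (R := X.ringCatSheaf) F]
    (hfl : FlatMod.IsFlatOver f F) (r : WithBot ℕ∞)
    (h : topologicalKrullDim ↥(f ⁻¹' {genericPoint ↥S} ∩ CohB1.support F) ≤ r) (s : S) :
    topologicalKrullDim ↥(f ⁻¹' {s} ∩ CohB1.support F) ≤ r := by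
  have hZ := Modules.Support.isClosed_support F
  rw [topologicalKrullDim_inter_le_iff f hZ] at h ⊢
  intro x _ hx
  obtain ⟨y, hy, hyF, hle⟩ := exists_point f F hfl hx
  exact le_trans (by exact_mod_cast hle) (h y hy hyF)

end Groth.Agent.H20.FlatSupportTrdeg
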