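import Groth.Agent.H20.FlatTor
import Mathlib.RingTheory.TensorProduct.Maps
import Mathlib.LinearAlgebra.TensorProduct.Pi
import Mathlib.RingTheory.Flat.Equalizer
import Mathlib.Algebra.Module.LocalizedModule.Submodule

/-!
A map of finite free modules over the local ring of affine space, with cokernel flat over the base, has
finitely generated kernel, the base being an arbitrary local ring.
-/

set_option autoImplicit false

universe u

namespace Groth.Agent.H20.FlatSyzygy

open Groth.Agent.Lib.Flat55 Relations Approx LocalSubring MvPolynomial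
open scoped TensorProduct

theorem mem_span_of_flat_coker {R' R T' : Type u} [CommRing R'] [CommRing R] [CommRing T'] [Algebra R' R]
    [Algebra R' T'] {k n : ℕ} (G : Fin k → Fin n → T')
    [Module.Flat R' ((Fin n → T') ⧸ LinearMap.range (Fintype.linearCombination T' G))]
    (z : Fin k → R ⊗[R'] T') (hz : ∀ i, ∑ v, z v * ((1 : R) ⊗ₜ[R'] G v i) = 0) :
    z ∈ Submodule.span (R ⊗[R'] T') ((fun (y : Fin k → T') v => (1 : R) ⊗ₜ[R'] y v) ''
      (LinearMap.ker (Fintype.linearCombination T' G) : Set (Fin k → T'))) := by
  classical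
  let L := Fintype.linearCombination T' G
  let W : (Fin k → T') →ₗ[R'] (Fin n → T') := L.restrictScalars R'
  let ek := TensorProduct.piRight R' R' R (fun _ : Fin k => T')
  let en := TensorProduct.piRight R' R' R (fun _ : Fin n => T')
  have hcomm : ∀ ξ i, en (W.lTensor R ξ) i = ∑ v, ek ξ v * ((1 : R) ⊗ₜ[R'] G v i) := by
    intro ξ i
    induction ξ using TensorProduct.induction_on with
    | zero => simp
    | tmul r y =>
      simp [ek, en, W, L, Fintype.linearCombination_apply, TensorProduct.tmul_sum, Algebra.TensorProduct.tmul_mul_tmul]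
    | add a b ha hb => simp [ha, hb, add_mul, Finset.sum_add_distrib]
  obtain ⟨ξ, rfl⟩ := ek.surjective z
  have h0 : W.lTensor R ξ = 0 := by
    apply en.injective
    funext i
    rw [hcomm, hz i, map_zero, Pi.zero_apply]
  let Wr := W.rangeRestrict
  have hinj : Function.Injective ((LinearMap.range W).subtype.lTensor R) := by
    haveI : Module.Flat R' ((Fin n → T') ⧸ LinearMap.range W) := by
      have he : LinearMap.range W = (LinearMap.range L).restrictScalars R' := LinearMap.range_restrictScalars L
      exact Module.Flat.of_linearEquiv ((Submodule.quotEquivOfEq _ _ he).trans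
        (Submodule.Quotient.restrictScalarsEquiv R' (LinearMap.range L)))
    exact LinearMap.lTensor_injective_of_exact_of_flat (LinearMap.range W).mkQ (Submodule.mkQ_surjective _) _
      (LinearMap.range W).subtype_injective (LinearMap.exact_subtype_mkQ _) R
  have h1 : Wr.lTensor R ξ = 0 := hinj (by
    rw [map_zero, ← LinearMap.comp_apply, ← LinearMap.lTensor_comp, LinearMap.subtype_comp_codRestrict]
    exact h0)
  have hexact : Function.Exact ((LinearMap.ker Wr).subtype.lTensor R) (Wr.lTensor R) :=
    lTensor_exact R (LinearMap.exact_subtype_ker_map Wr) W.surjective_rangeRestrict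
  obtain ⟨η, rfl⟩ := (hexact ξ).mp h1
  clear h0 h1 hz
  induction η using TensorProduct.induction_on with
  | zero => simp
  | tmul r y =>
    have : ek ((LinearMap.ker Wr).subtype.lTensor R (r ⊗ₜ y)) =
        (r ⊗ₜ[R'] (1 : T')) • fun v => (1 : R) ⊗ₜ[R'] (y : Fin k → T') v := by
      funext v
      simp [ek, Algebra.TensorProduct.tmul_mul_tmul]
    rw [this]
    refine Submodule.smul_mem _ _ (Submodule.subset_span ⟨(y : Fin k → T'), ?_, rfl⟩)
    exact congrArg Subtype.val (LinearMap.mem_ker.mp y.2)
  | add a b ha hb => rw [map_add, map_add]; exact add_mem ha hb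

variable {R : Type u} [CommRing R] {N : ℕ}

/-- The map on free modules over the local ring given by polynomial columns. -/
noncomputable def locMap {k n : ℕ} (g : Fin k → Fin n → MvPolynomial (Fin N) R)
    (q : Ideal (MvPolynomial (Fin N) R)) [q.IsPrime] :
    (Fin k → Localization.AtPrime q) →ₗ[Localization.AtPrime q] (Fin n → Localization.AtPrime q) :=
  Fintype.linearCombination (Localization.AtPrime q) fun v i => algebraMap _ _ (g v i)

theorem flat_quotAt_iff {k n : ℕ} (g : Fin k → Fin n → MvPolynomial (Fin N) R)
    (q : Ideal (MvPolynomial (Fin N) R)) [q.IsPrime] :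
    Module.Flat R (QuotAt g q) ↔
      Module.Flat R ((Fin n → Localization.AtPrime q) ⧸ LinearMap.range (locMap g q)) := by
  classical
  let P := MvPolynomial (Fin N) R
  let T := Localization.AtPrime q
  let alg : (Fin n → P) →ₗ[P] (Fin n → T) :=
    LinearMap.pi fun i => (Algebra.linearMap P T).comp (LinearMap.proj i)
  haveI : IsLocalizedModule q.primeCompl alg := inferInstance
  have he : (rel g).localized' T q.primeCompl alg = LinearMap.range (locMap g q) := by
    rw [rel, Submodule.localized'_span, locMap, Fintype.range_linearCombination, ← Set.range_comp]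
    rfl
  let e : QuotAt g q ≃ₗ[R] (Fin n → T) ⧸ LinearMap.range (locMap g q) :=
    ((IsLocalizedModule.iso q.primeCompl ((rel g).toLocalizedQuotient' T q.primeCompl alg)).restrictScalars R).trans
      ((Submodule.quotEquivOfEq _ _ he).restrictScalars R)
  exact ⟨fun _ => Module.Flat.of_linearEquiv e.symm, fun _ => Module.Flat.of_linearEquiv e⟩

set_option maxHeartbeats 800000 in
theorem mem_span_loc {R' : Type u} [CommRing R'] [Algebra R' R] {k n : ℕ} (g' : Fin k → Fin n → MvPolynomial (Fin N) R')
    (q₀ : Ideal (MvPolynomial (Fin N) R')) [q₀.IsPrime]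
    [Module.Flat R' ((Fin n → Localization.AtPrime q₀) ⧸ LinearMap.range (locMap g' q₀))]
    (z : Fin k → R ⊗[R'] Localization.AtPrime q₀)
    (hz : ∀ i, ∑ v, z v * ((1 : R) ⊗ₜ[R'] algebraMap _ (Localization.AtPrime q₀) (g' v i)) = 0) :
    z ∈ Submodule.span (R ⊗[R'] Localization.AtPrime q₀)
      ((fun (y : Fin k → Localization.AtPrime q₀) v => (1 : R) ⊗ₜ[R'] y v) ''
        (LinearMap.ker (locMap g' q₀) : Set (Fin k → Localization.AtPrime q₀))) := by
  unfold locMap at *
  exact mem_span_of_flat_coker _ z hz

variable [IsLocalRing R]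

set_option maxHeartbeats 1000000 in
theorem fg_ker_locMap {k n : ℕ} (g : Fin k → Fin n → MvPolynomial (Fin N) R)
    (q : Ideal (MvPolynomial (Fin N) R)) [q.IsPrime] (hq : q.comap C = IsLocalRing.maximalIdeal R)
    [Module.Flat R ((Fin n → Localization.AtPrime q) ⧸ LinearMap.range (locMap g q))] :
    (LinearMap.ker (locMap g q)).FG := by
  classical
  haveI : Module.Flat R (QuotAt g q) := (flat_quotAt_iff g q).2 inferInstance
  obtain ⟨S, hS⟩ := exists_finset_forall_witness g q (witness_of_flat g q)
  let S' : Finset R := S ∪ Finset.univ.biUnion fun v => Finset.univ.biUnion fun i => (g v i).coeffs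
  let R' := localSubring (S' : Set R)
  haveI : IsNoetherianRing R' := isNoetherianRing_localSubring S'.finite_toSet
  choose g' hg' using fun v => exists_mapVec_eq (R' := R') (f := g v) fun i =>
    le_trans (fun x hx => Finset.mem_coe.2 (Finset.mem_union_right _ (Finset.mem_biUnion.2 ⟨v, Finset.mem_univ _,
      Finset.mem_biUnion.2 ⟨i, Finset.mem_univ _, hx⟩⟩))) (subset_localSubring (S' : Set R))
  have hsub : (S : Set R) ⊆ R' := fun x hx => subset_localSubring (S' : Set R)
    (Finset.mem_coe.2 (Finset.mem_union_left _ (Finset.mem_coe.1 hx)))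
  let q₀ := q.comap (incl R')
  haveI : q₀.IsPrime := Ideal.IsPrime.comap _
  have hq₀ : q₀.comap C = IsLocalRing.maximalIdeal R' := by
    ext x
    simp only [q₀, Ideal.mem_comap, MvPolynomial.map_C, IsLocalRing.mem_maximalIdeal, mem_nonunits_iff]
    rw [← Ideal.mem_comap (f := (C : R →+* MvPolynomial (Fin N) R)), hq, IsLocalRing.mem_maximalIdeal, mem_nonunits_iff]
    exact not_congr ⟨fun hx => isUnit_of_map_unit R'.subtype x hx, fun hx => hx.map R'.subtype⟩
  let T := Localization.AtPrime q
  let P := MvPolynomial (Fin N) R
  let P' := MvPolynomial (Fin N) R'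
  let T' := Localization.AtPrime q₀
  haveI : Module.Flat R' (QuotAt g' q₀) := flat_of_witness g' q₀ hq₀ (hS R' hsub g' hg')
  haveI hfl : Module.Flat R' ((Fin n → T') ⧸
      LinearMap.range (locMap g' q₀)) :=
    (flat_quotAt_iff g' q₀).1 inferInstance
  haveI : IsNoetherianRing T' := IsLocalization.isNoetherianRing q₀.primeCompl _ inferInstance
  let Φ₀ : T' →+* T := Localization.localRingHom q₀ q (incl R') rfl
  let ΦA : T' →ₐ[R'] T :=
    { Φ₀ with
      commutes' := fun r => by
        show Φ₀ _ = _
        rw [IsScalarTower.algebraMap_apply R' P' T', Localization.localRingHom_to_map,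
          IsScalarTower.algebraMap_apply R' R T, IsScalarTower.algebraMap_apply R P T]
        show algebraMap P T (MvPolynomial.map R'.subtype (C r)) = _
        rw [MvPolynomial.map_C]
        rfl }
  let Φ : R ⊗[R'] T' →ₐ[R] T := Algebra.TensorProduct.lift (Algebra.ofId R T) ΦA fun x y => Commute.all _ _
  let E : P →ₐ[R] R ⊗[R'] T' := aeval fun i => (1 : R) ⊗ₜ[R'] algebraMap P' T' (X i)
  have hE : ∀ p, Φ (E p) = algebraMap P T p := by
    intro p
    have : Φ.comp E = IsScalarTower.toAlgHom R P T := by
      refine MvPolynomial.algHom_ext fun i => ?_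
      simp [Φ, E, ΦA, Φ₀]
      refine (Localization.localRingHom_to_map q₀ q (incl R') rfl (X i : P')).trans ?_
      show algebraMap P T (MvPolynomial.map R'.subtype (X i)) = algebraMap P T (X i)
      rw [MvPolynomial.map_X]
    exact AlgHom.congr_fun this p
  have hEi : ∀ p : P', E (incl R' p) = (1 : R) ⊗ₜ[R'] algebraMap P' T' p := by
    intro p
    induction p using MvPolynomial.induction_on with
    | C a =>
      rw [incl, MvPolynomial.map_C, aeval_C, Algebra.TensorProduct.algebraMap_apply,
        show algebraMap R R (R'.subtype a) = a • (1 : R) by simp [Algebra.smul_def]; rfl,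
        show algebraMap P' T' (C a) = a • (1 : T') by
          rw [← algebraMap_smul P' a (1 : T'), Algebra.smul_def, mul_one]; rfl,
        TensorProduct.smul_tmul]
    | add a b ha hb => simp only [map_add, ha, hb, TensorProduct.tmul_add]
    | mul_X a i ha =>
      simp only [incl] at ha
      simp only [incl, map_mul, MvPolynomial.map_X, ha]
      show (1 : R) ⊗ₜ[R'] algebraMap P' T' a * aeval (fun i => (1 : R) ⊗ₜ[R'] algebraMap P' T' (X i)) (X i : P) = _
      rw [MvPolynomial.aeval_X, Algebra.TensorProduct.tmul_mul_tmul, one_mul]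
  let L' := locMap g' q₀
  obtain ⟨U, hU⟩ := IsNoetherian.noetherian (LinearMap.ker L')
  let F : (Fin k → T') → (Fin k → T) := fun y v => Φ₀ (y v)
  refine ⟨U.image F, le_antisymm (Submodule.span_le.2 ?_) ?_⟩
  · intro w hw
    obtain ⟨y, hy, rfl⟩ := Finset.mem_image.1 hw
    have hy' : L' y = 0 := LinearMap.mem_ker.1 (hU ▸ Submodule.subset_span hy)
    refine LinearMap.mem_ker.2 (funext fun i => ?_)
    have := congrArg Φ₀ (congrFun hy' i)
    simp only [L', locMap, Fintype.linearCombination_apply, Finset.sum_apply, Pi.smul_apply, smul_eq_mul, map_sum,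
      map_mul, Pi.zero_apply, map_zero] at this
    rw [locMap, Fintype.linearCombination_apply, Finset.sum_apply, Pi.zero_apply, ← this]
    refine Finset.sum_congr rfl fun v _ => ?_
    rw [Pi.smul_apply, smul_eq_mul, Localization.localRingHom_to_map, ← congrFun (hg' v) i]
    rfl
  · intro z hz
    let alg : (Fin k → P) →ₗ[P] (Fin k → T) :=
      LinearMap.pi fun i => (Algebra.linearMap P T).comp (LinearMap.proj i)
    haveI : IsLocalizedModule q.primeCompl alg := inferInstance
    obtain ⟨⟨z₀, t⟩, hzt⟩ := IsLocalizedModule.surj q.primeCompl alg z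
    have hz₀ : ∀ i, algebraMap P T (∑ v, z₀ v * g v i) = 0 := fun i => by
      have h := congrFun (LinearMap.mem_ker.1 hz) i
      rw [locMap, Fintype.linearCombination_apply, Finset.sum_apply, Pi.zero_apply] at h
      rw [map_sum, ← mul_zero (algebraMap P T (t : P)), ← h, Finset.mul_sum]
      refine Finset.sum_congr rfl fun v _ => ?_
      have := congrFun hzt v
      rw [Pi.smul_apply, Submonoid.smul_def, Algebra.smul_def] at this
      rw [map_mul, Pi.smul_apply, smul_eq_mul, ← mul_assoc, this]
      rfl
    choose s hs using fun i => (IsLocalization.map_eq_zero_iff q.primeCompl T _).1 (hz₀ i)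
    let σ : q.primeCompl := ∏ i, s i
    have hσ : ∀ i, ∑ v, (σ : P) * z₀ v * g v i = 0 := fun i => by
      simp only [mul_assoc, ← Finset.mul_sum]
      rw [Submonoid.coe_finsetProd, ← Finset.prod_erase_mul _ _ (Finset.mem_univ i), mul_assoc, hs i, mul_zero]
    have hEz : (fun v => E ((σ : P) * z₀ v)) ∈ Submodule.span (R ⊗[R'] T')
        ((fun (y : Fin k → T') v => (1 : R) ⊗ₜ[R'] y v) '' (LinearMap.ker L' : Set (Fin k → T'))) := by
      refine mem_span_loc g' q₀ _ fun i => ?_
      rw [← map_zero E, ← hσ i, map_sum]
      refine Finset.sum_congr rfl fun v _ => ?_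
      rw [map_mul, ← hEi, ← congrFun (hg' v) i, mapVec_apply]
      simp only [map_mul]
    have hspan : (fun v => algebraMap P T ((σ : P) * z₀ v)) ∈ Submodule.span T ((U.image F : Finset _) : Set _) := by
      have key : ∀ x ∈ Submodule.span (R ⊗[R'] T')
          ((fun (y : Fin k → T') v => (1 : R) ⊗ₜ[R'] y v) '' (LinearMap.ker L' : Set (Fin k → T'))),
          (fun v => Φ (x v)) ∈ Submodule.span T ((U.image F : Finset _) : Set _) := by
        intro x hx
        induction hx using Submodule.span_induction with
        | mem x hx =>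
          obtain ⟨y, hy, rfl⟩ := hx
          have hyF : (fun v => Φ ((1 : R) ⊗ₜ[R'] y v)) = F y := funext fun v => by simp [Φ, ΦA, F]
          rw [hyF]
          clear hyF
          rw [SetLike.mem_coe, ← hU] at hy
          induction hy using Submodule.span_induction with
          | mem y hy => exact Submodule.subset_span (Finset.mem_coe.2 (Finset.mem_image_of_mem F hy))
          | zero => rw [show F 0 = 0 from funext fun v => map_zero Φ₀]; exact zero_mem _
          | add a b _ _ ha hb => rw [show F (a + b) = F a + F b from funext fun v => map_add Φ₀ _ _]; exact add_mem ha hb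
          | smul c a _ ha => rw [show F (c • a) = Φ₀ c • F a from funext fun v => map_mul Φ₀ _ _]; exact Submodule.smul_mem _ _ ha
        | zero => simp only [Pi.zero_apply, map_zero]; exact zero_mem _
        | add a b _ _ ha hb => simp only [Pi.add_apply, map_add]; exact add_mem ha hb
        | smul c a _ ha => simp only [Pi.smul_apply, smul_eq_mul, map_mul]; exact Submodule.smul_mem _ (Φ c) ha
      have := key _ hEz
      simpa only [hE] using this
    obtain ⟨w, hw⟩ := IsLocalization.map_units T (σ * t)
    have hzw : z = (↑w⁻¹ : T) • fun v => algebraMap P T ((σ : P) * z₀ v) := by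
      funext v
      have := congrFun hzt v
      rw [Pi.smul_apply, Submonoid.smul_def, Algebra.smul_def] at this
      rw [Pi.smul_apply, smul_eq_mul, map_mul,
        show algebraMap P T (z₀ v) = algebraMap P T (t : P) * z v from this.symm,
        ← mul_assoc (algebraMap P T (σ : P)), ← map_mul, ← Submonoid.coe_mul, ← hw, Units.inv_mul_cancel_left]
    rw [hzw]
    exact Submodule.smul_mem _ _ hspan

/-- The kernel of a map of finite free modules with flat cokernel is finitely generated. -/
theorem fg_ker (q : Ideal (MvPolynomial (Fin N) R)) [q.IsPrime] (hq : q.comap C = IsLocalRing.maximalIdeal R)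
    {k n : ℕ} (W : (Fin k → Localization.AtPrime q) →ₗ[Localization.AtPrime q] (Fin n → Localization.AtPrime q))
    [Module.Flat R ((Fin n → Localization.AtPrime q) ⧸ LinearMap.range W)] :
    (LinearMap.ker W).FG := by
  classical
  let P := MvPolynomial (Fin N) R
  let T := Localization.AtPrime q
  let alg : (Fin n → P) →ₗ[P] (Fin n → T) :=
    LinearMap.pi fun i => (Algebra.linearMap P T).comp (LinearMap.proj i)
  haveI : IsLocalizedModule q.primeCompl alg := inferInstance
  choose rs hrs using fun v => IsLocalizedModule.surj q.primeCompl alg (W (Pi.single v 1))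
  let g : Fin k → Fin n → P := fun v => (rs v).1
  choose d hd using fun v => IsLocalization.map_units T (rs v).2
  let D : (Fin k → T) ≃ₗ[T] (Fin k → T) := LinearEquiv.piCongrRight fun v => LinearEquiv.smulOfUnit (d v)
  have hWD : locMap g q = W ∘ₗ D.toLinearMap := by
    refine (Pi.basisFun T (Fin k)).ext fun v => ?_
    have hD : D (Pi.single v 1) = (d v : T) • Pi.single v 1 := by
      funext j
      by_cases h : j = v
      · subst h; simp [D, LinearEquiv.smulOfUnit, Units.smul_def]
      · simp [D, LinearEquiv.smulOfUnit, Pi.single_eq_of_ne h]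
    rw [Pi.basisFun_apply, locMap, Fintype.linearCombination_apply_single, one_smul, LinearMap.comp_apply,
      LinearEquiv.coe_coe, hD, map_smul, hd, algebraMap_smul]
    exact (hrs v).symm
  haveI : Module.Flat R ((Fin n → T) ⧸ LinearMap.range (locMap g q)) :=
    Module.Flat.of_linearEquiv ((Submodule.quotEquivOfEq _ _ (by
      rw [hWD, LinearMap.range_comp_of_range_eq_top _ D.range])).restrictScalars R)
  have h := fg_ker_locMap g q hq
  rw [hWD, LinearMap.ker_comp] at h
  have := h.map D.toLinearMap
  rwa [Submodule.map_comap_eq_of_surjective D.surjective] at this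

end Groth.Agent.H20.FlatSyzygy
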