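import Groth.Agent.Lib.Flat55.Approx
import Groth.Agent.H19.FlatLocus.Basic
import Mathlib.RingTheory.Flat.Equalizer
import Mathlib.LinearAlgebra.TensorProduct.Quotient
import Mathlib.RingTheory.TensorProduct.IsBaseChangePi

/-!
The local criterion of flatness for finitely presented modules over a localised polynomial ring over
an arbitrary local ring, and cokernels of maps which are injective modulo the maximal ideal.
-/

set_option autoImplicit false

universe u

namespace Groth.Agent.H20.FlatTor

open Groth.Agent.Lib.Flat55 Relations Approx LocalSubring MvPolynomial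
open scoped TensorProduct

variable {R : Type u} [CommRing R] [IsLocalRing R]

theorem flat_of_witness_any {σ ι κ : Type} [Finite σ] [Finite ι] [Fintype κ]
    (g : κ → ι → MvPolynomial σ R) (q : Ideal (MvPolynomial σ R)) [q.IsPrime]
    (hq : q.comap C = IsLocalRing.maximalIdeal R) (h : Witness g q) :
    Module.Flat R (QuotAt g q) := by
  classical
  cases nonempty_fintype ι
  obtain ⟨S, hS⟩ := exists_finset_forall_witness g q h
  let S' : Finset R := S ∪ Finset.univ.biUnion fun v => Finset.univ.biUnion fun i => (g v i).coeffs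
  let R' := localSubring (S' : Set R)
  have : IsNoetherianRing R' := isNoetherianRing_localSubring S'.finite_toSet
  choose g' hg' using fun v => exists_mapVec_eq (R' := R') (f := g v) fun i =>
    le_trans (fun x hx => Finset.mem_coe.2 (Finset.mem_union_right _ (Finset.mem_biUnion.2 ⟨v, Finset.mem_univ _,
      Finset.mem_biUnion.2 ⟨i, Finset.mem_univ _, hx⟩⟩))) (subset_localSubring (S' : Set R))
  have hsub : (S : Set R) ⊆ R' := fun x hx => subset_localSubring (S' : Set R)
    (Finset.mem_coe.2 (Finset.mem_union_left _ (Finset.mem_coe.1 hx)))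
  let q₀ := q.comap (incl R')
  haveI : q₀.IsPrime := Ideal.IsPrime.comap _
  have hq₀ : q₀.comap C = IsLocalRing.maximalIdeal R' := by
    ext x
    simp only [q₀, Ideal.mem_comap, MvPolynomial.map_C, IsLocalRing.mem_maximalIdeal, mem_nonunits_iff]
    rw [← Ideal.mem_comap (f := (C : R →+* MvPolynomial σ R)), hq, IsLocalRing.mem_maximalIdeal, mem_nonunits_iff]
    exact not_congr ⟨fun hx => isUnit_of_map_unit R'.subtype x hx, fun hx => hx.map R'.subtype⟩
  have : Module.Flat R' (QuotAt g' q₀) := flat_of_witness g' q₀ hq₀ (hS R' hsub g' hg')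
  exact Groth.Agent.H19.FlatLocus.flat_of_map R'.subtype g' g hg' q q₀ rfl

variable {N : ℕ} (q : Ideal (MvPolynomial (Fin N) R)) [q.IsPrime]

/-- A module presented over the local ring of affine space is flat over the base as soon as its first
`Tor` with the residue field vanishes. -/
theorem flat_of_tor (hq : q.comap C = IsLocalRing.maximalIdeal R) {n : ℕ} {X : Type u} [AddCommGroup X]
    [Module (Localization.AtPrime q) X] [Module R X] [IsScalarTower R (Localization.AtPrime q) X]
    (π : (Fin n → Localization.AtPrime q) →ₗ[Localization.AtPrime q] X) (hπ : Function.Surjective π)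
    (hfg : (LinearMap.ker π).FG)
    (htor : ∀ z ∈ LinearMap.ker π, z ∈ IsLocalRing.maximalIdeal R • (⊤ : Submodule R (Fin n → Localization.AtPrime q)) →
      z ∈ IsLocalRing.maximalIdeal R • (LinearMap.ker π).restrictScalars R) :
    Module.Flat R X := by
  classical
  let P := MvPolynomial (Fin N) R
  let T := Localization.AtPrime q
  let m := IsLocalRing.maximalIdeal R
  letI : Module P X := Module.compHom X (algebraMap P T)
  haveI : IsScalarTower P T X := IsScalarTower.of_algebraMap_smul fun _ _ => rfl
  haveI : IsScalarTower R P X := IsScalarTower.of_algebraMap_smul fun r x => by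
    show algebraMap P T (algebraMap R P r) • x = r • x
    rw [← IsScalarTower.algebraMap_apply, algebraMap_smul]
  let alg : (Fin n → P) →ₗ[P] (Fin n → T) :=
    LinearMap.pi fun i => (Algebra.linearMap P T).comp (LinearMap.proj i)
  haveI : IsLocalizedModule q.primeCompl alg := inferInstance
  obtain ⟨k, r, hr⟩ := Submodule.fg_iff_exists_fin_generating_family.1 hfg
  choose rs hrs using fun v => IsLocalizedModule.surj q.primeCompl alg (r v)
  let g : Fin k → Fin n → P := fun v => (rs v).1
  have hunit : ∀ s : q.primeCompl, IsUnit (algebraMap P T (s : P)) := IsLocalization.map_units T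
  have hgker : ∀ v, π (alg (g v)) = 0 := fun v => by
    have h0 : π (r v) = 0 := by
      have : r v ∈ LinearMap.ker π := hr ▸ Submodule.subset_span ⟨v, rfl⟩
      exact this
    rw [← hrs v, Submonoid.smul_def, LinearMap.map_smul_of_tower, h0, smul_zero]
  -- membership in the localised relations
  have hmem : ∀ y : Fin n → P, π (alg y) = 0 → ∃ s, s ∉ q ∧ s • y ∈ rel g := by
    intro y hy
    have h1 : alg y ∈ (rel g).localized' T q.primeCompl alg := by
      refine (?_ : LinearMap.ker π ≤ _) (LinearMap.mem_ker.mpr hy)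
      rw [← hr, Submodule.span_le]
      rintro _ ⟨v, rfl⟩
      refine (Submodule.mem_localized' ..).mpr ⟨g v, Submodule.subset_span ⟨v, rfl⟩, (rs v).2, ?_⟩
      rw [IsLocalizedModule.mk'_eq_iff]
      exact (hrs v).symm
    obtain ⟨z, hz, u, hzu⟩ := (Submodule.mem_localized' ..).mp h1
    rw [IsLocalizedModule.mk'_eq_iff, Submonoid.smul_def, ← map_smul] at hzu
    obtain ⟨c, hc⟩ := IsLocalizedModule.exists_of_eq (S := q.primeCompl) hzu
    rw [Submonoid.smul_def, Submonoid.smul_def, smul_smul] at hc
    exact ⟨(c : P) * u, (c * u).2, hc ▸ Submodule.smul_mem _ _ hz⟩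
  have hrel : rel g ≤ LinearMap.ker ((π.restrictScalars P).comp alg) := by
    rw [Submodule.span_le]
    rintro _ ⟨v, rfl⟩
    exact hgker v
  have hflat : Module.Flat R (QuotAt g q) := by
    refine flat_of_witness_any g q hq fun c hc => ?_
    set z := ∑ v, c v • g v with hz
    have hzrel : z ∈ rel g := (Submodule.mem_span_range_iff_exists_fun _).2 ⟨c, rfl⟩
    obtain ⟨l, a, f, ha, haf⟩ := exists_eq_sum_of_mapVec_eq_zero hc
    have hzm : alg z ∈ m • (⊤ : Submodule R (Fin n → T)) := by
      rw [← haf, map_sum]
      refine Submodule.sum_mem _ fun i _ => ?_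
      rw [LinearMap.map_smul_of_tower]
      exact Submodule.smul_mem_smul (ha i) Submodule.mem_top
    have hzk := htor (alg z) (hrel hzrel) hzm
    have key : ∀ w ∈ m • (LinearMap.ker π).restrictScalars R, ∃ s, s ∉ q ∧ ∃ d : Fin k → P,
        (∀ v, MvPolynomial.map (IsLocalRing.residue R) (d v) = 0) ∧ algebraMap P T s • w = alg (∑ v, d v • g v) := by
      intro w hw
      refine Submodule.smul_induction_on hw (fun b hb y hy => ?_) fun x y hx hy => ?_
      · obtain ⟨⟨y₀, t⟩, hyt⟩ := IsLocalizedModule.surj q.primeCompl alg y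
        have hy₀ : π (alg y₀) = 0 := by
          rw [← hyt, Submonoid.smul_def, LinearMap.map_smul_of_tower,
            show π y = 0 from hy, smul_zero]
        obtain ⟨s, hs, hsy⟩ := hmem y₀ hy₀
        obtain ⟨e, he⟩ := (Submodule.mem_span_range_iff_exists_fun _).1 hsy
        refine ⟨s * (t : P), fun h => (Ideal.IsPrime.mem_or_mem ‹_› h).elim hs t.2,
          fun v => C b * e v, fun v => ?_, ?_⟩
        · rw [map_mul, map_C, (IsLocalRing.residue_eq_zero_iff _).2 hb, map_zero, zero_mul]
        · have h1 : ∑ v, (C b * e v) • g v = b • (s • y₀) := by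
            rw [← he, Finset.smul_sum]
            refine Finset.sum_congr rfl fun v _ => ?_
            rw [mul_smul, ← MvPolynomial.algebraMap_eq, algebraMap_smul]
          rw [h1, LinearMap.map_smul_of_tower, map_smul, ← hyt, Submonoid.smul_def, map_mul, mul_smul,
            smul_comm (algebraMap P T (t : P)) b, smul_comm (algebraMap P T s) b, algebraMap_smul, algebraMap_smul]
      · obtain ⟨s, hs, d, hd, hd'⟩ := hx
        obtain ⟨s', hs', d', hd₂, hd₂'⟩ := hy
        refine ⟨s * s', fun h => (Ideal.IsPrime.mem_or_mem ‹_› h).elim hs hs',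
          fun v => s' * d v + s * d' v, fun v => by simp [hd v, hd₂ v], ?_⟩
        have : ∑ v, (s' * d v + s * d' v) • g v = s' • ∑ v, d v • g v + s • ∑ v, d' v • g v := by
          simp only [add_smul, mul_smul, Finset.sum_add_distrib, Finset.smul_sum]
        rw [this, map_add, map_smul, map_smul, ← hd', ← hd₂', smul_add, map_mul, mul_smul, mul_smul,
          ← algebraMap_smul T s' (algebraMap P T s • x), ← algebraMap_smul T s (algebraMap P T s' • y),
          smul_comm (algebraMap P T s) (algebraMap P T s') x]
    obtain ⟨s, hs, d, hd, hd'⟩ := key _ hzk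
    rw [algebraMap_smul, ← map_smul] at hd'
    obtain ⟨u, hu⟩ := IsLocalizedModule.exists_of_eq (S := q.primeCompl) hd'
    rw [Submonoid.smul_def, Submonoid.smul_def, smul_smul] at hu
    refine ⟨(u : P) * s, fun h => (Ideal.IsPrime.mem_or_mem ‹_› h).elim u.2 hs,
      fun v => (u : P) * d v, fun v => by rw [map_mul, hd v, mul_zero], ?_⟩
    rw [hu, Finset.smul_sum]
    exact Finset.sum_congr rfl fun v _ => (mul_smul _ _ _).symm
  -- identify the localised module
  let η : Quot g →ₗ[P] X := (rel g).liftQ ((π.restrictScalars P).comp alg) hrel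
  haveI : IsLocalizedModule q.primeCompl η := by
    refine { map_units := fun s => ?_, surj := fun x => ?_, exists_of_eq := fun {x y} h => ?_ }
    · rw [Module.End.isUnit_iff]
      obtain ⟨w, hw⟩ := hunit s
      refine ⟨fun a b h => ?_, fun x => ⟨(↑w⁻¹ : T) • x, ?_⟩⟩
      · have h' : algebraMap P T (s : P) • a = algebraMap P T (s : P) • b := h
        rw [← hw] at h'
        have h'' := congrArg (fun y => (↑w⁻¹ : T) • y) h'
        simpa only [smul_smul, Units.inv_mul, one_smul] using h''
      · show algebraMap P T (s : P) • ((↑w⁻¹ : T) • x) = x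
        rw [smul_smul, ← hw, Units.mul_inv, one_smul]
    · obtain ⟨z, rfl⟩ := hπ x
      obtain ⟨⟨z₀, t⟩, hzt⟩ := IsLocalizedModule.surj q.primeCompl alg z
      refine ⟨(Submodule.Quotient.mk z₀, t), ?_⟩
      show (t : P) • π z = π (alg z₀)
      rw [← hzt, Submonoid.smul_def, LinearMap.map_smul_of_tower]
    · obtain ⟨x, rfl⟩ := Submodule.Quotient.mk_surjective _ x
      obtain ⟨y, rfl⟩ := Submodule.Quotient.mk_surjective _ y
      have h0 : π (alg (x - y)) = 0 := by
        rw [map_sub, map_sub, sub_eq_zero]
        exact h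
      obtain ⟨s, hs, hsxy⟩ := hmem _ h0
      refine ⟨⟨s, hs⟩, ?_⟩
      rw [smul_sub] at hsxy
      exact (Submodule.Quotient.eq (rel g)).mpr hsxy
  exact Module.Flat.of_linearEquiv ((IsLocalizedModule.iso q.primeCompl η).symm.restrictScalars R)

theorem mem_smul_of_flat {T : Type u} [CommRing T] [Algebra R T] {n : ℕ} {Y : Type u} [AddCommGroup Y]
    [Module T Y] [Module R Y] [IsScalarTower R T Y] [Module.Flat R Y]
    (π : (Fin n → T) →ₗ[T] Y) (hπ : Function.Surjective π) {z : Fin n → T} (hz : π z = 0)
    (hzm : z ∈ IsLocalRing.maximalIdeal R • (⊤ : Submodule R (Fin n → T))) :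
    z ∈ IsLocalRing.maximalIdeal R • (LinearMap.ker π).restrictScalars R := by
  classical
  let I := IsLocalRing.maximalIdeal R
  let πR : (Fin n → T) →ₗ[R] Y := π.restrictScalars R
  have hinj := LinearMap.lTensor_injective_of_exact_of_flat πR hπ _
    (LinearMap.ker πR).subtype_injective (LinearMap.exact_subtype_ker_map _) (R ⧸ I)
  have h0 : (Ideal.Quotient.mk I 1) ⊗ₜ[R] (⟨z, hz⟩ : LinearMap.ker πR) = 0 := by
    apply hinj
    rw [LinearMap.lTensor_tmul, map_zero, Submodule.subtype_apply]
    apply (TensorProduct.quotTensorEquivQuotSMul (Fin n → T) I).injective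
    rw [TensorProduct.quotTensorEquivQuotSMul_mk_tmul, map_zero, one_smul, Submodule.Quotient.mk_eq_zero]
    exact hzm
  have h1 : (⟨z, hz⟩ : LinearMap.ker πR) ∈ I • (⊤ : Submodule R (LinearMap.ker πR)) := by
    have := congrArg (TensorProduct.quotTensorEquivQuotSMul (LinearMap.ker πR) I) h0
    rwa [TensorProduct.quotTensorEquivQuotSMul_mk_tmul, map_zero, one_smul,
      Submodule.Quotient.mk_eq_zero] at this
  have h2 := Submodule.mem_map_of_mem (f := (LinearMap.ker πR).subtype) h1
  rwa [Submodule.map_smul'', Submodule.map_subtype_top] at h2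

/-- The cokernel of a map which is injective modulo the maximal ideal into a flat module is flat. -/
theorem flat_coker (hq : q.comap C = IsLocalRing.maximalIdeal R) {M Y : Type u}
    [AddCommGroup M] [Module (Localization.AtPrime q) M] [Module R M] [IsScalarTower R (Localization.AtPrime q) M]
    [Module.Finite (Localization.AtPrime q) M]
    [AddCommGroup Y] [Module (Localization.AtPrime q) Y] [Module R Y] [IsScalarTower R (Localization.AtPrime q) Y]
    [Module.FinitePresentation (Localization.AtPrime q) Y] [Module.Flat R Y]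
    (u : M →ₗ[Localization.AtPrime q] Y)
    (hu : ∀ x : M, u x ∈ IsLocalRing.maximalIdeal R • (⊤ : Submodule R Y) →
      x ∈ IsLocalRing.maximalIdeal R • (⊤ : Submodule R M)) :
    Module.Flat R (Y ⧸ LinearMap.range u) := by
  classical
  let T := Localization.AtPrime q
  let m := IsLocalRing.maximalIdeal R
  obtain ⟨n, π, hπ⟩ := Module.Finite.exists_fin' T Y
  let π' := (LinearMap.range u).mkQ.comp π
  have hπ' : Function.Surjective π' := (Submodule.mkQ_surjective _).comp hπ
  haveI : Module.FinitePresentation T (Y ⧸ LinearMap.range u) :=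
    Module.finitePresentation_of_surjective (LinearMap.range u).mkQ (Submodule.mkQ_surjective _)
      (by rw [Submodule.ker_mkQ]; exact Module.Finite.iff_fg.mp (Module.Finite.range u))
  refine flat_of_tor q hq π' hπ' (Module.FinitePresentation.fg_ker π' hπ') fun z hz hzm => ?_
  have hzu : π z ∈ LinearMap.range u := (Submodule.Quotient.mk_eq_zero _).mp hz
  obtain ⟨x, hx⟩ := hzu
  have hxm : x ∈ m • (⊤ : Submodule R M) := by
    refine hu x ?_
    have h := Submodule.mem_map_of_mem (f := π.restrictScalars R) hzm
    rw [Submodule.map_smul''] at h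
    rw [hx]
    exact Submodule.smul_mono le_rfl le_top h
  obtain ⟨w, hw, hwx⟩ : ∃ w ∈ m • (LinearMap.ker π').restrictScalars R, π w = u x := by
    clear hx
    refine Submodule.smul_induction_on hxm (fun b hb y _ => ?_) fun a b ha hb => ?_
    · obtain ⟨l, hl⟩ := hπ (u y)
      refine ⟨b • l, Submodule.smul_mem_smul hb ?_, by rw [LinearMap.map_smul_of_tower, LinearMap.map_smul_of_tower, hl]⟩
      show π' l = 0
      exact (Submodule.Quotient.mk_eq_zero _).mpr ⟨y, hl.symm⟩
    · obtain ⟨w, hw, hwa⟩ := ha
      obtain ⟨w', hw', hwb⟩ := hb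
      exact ⟨w + w', add_mem hw hw', by rw [map_add, map_add, hwa, hwb]⟩
  have hle : m • (LinearMap.ker π').restrictScalars R ≤ m • (⊤ : Submodule R (Fin n → T)) :=
    Submodule.smul_mono le_rfl le_top
  have h0 : π (z - w) = 0 := by rw [map_sub, hwx, hx, sub_self]
  have h1 := mem_smul_of_flat π hπ h0 (sub_mem hzm (hle hw))
  have hkk : (LinearMap.ker π).restrictScalars R ≤ (LinearMap.ker π').restrictScalars R := fun y hy => by
    show π' y = 0
    rw [LinearMap.comp_apply, show π y = 0 from hy, map_zero]
  rw [← sub_add_cancel z w]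
  exact add_mem (Submodule.smul_mono le_rfl hkk h1) hw

end Groth.Agent.H20.FlatTor
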