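import Mathlib.RingTheory.MvPolynomial.Homogeneous
import Mathlib.RingTheory.MvPolynomial.Basic
import Mathlib.RingTheory.Polynomial.Basic
import Mathlib.RingTheory.Valuation.ValuationRing
import Mathlib.RingTheory.Flat.TorsionFree
import Mathlib.RingTheory.LocalRing.Module
import Mathlib.Algebra.Module.FinitePresentation
import Mathlib.Algebra.Algebra.Tower
import Mathlib.Tactic

/-!
Saturated submodules of free modules over polynomial rings over a valuation ring are finitely generated:
the graded pieces for the degree filtration are direct summands of finite free modules and the leading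
fibre is controlled by Hilbert's basis theorem for the homogenised submodule.
-/

set_option autoImplicit false

universe u

open MvPolynomial
open scoped Pointwise

namespace Groth.Agent.H20.ValFP

variable {σ : Type*} {ι : Type*}

section field

variable {k : Type u} [CommRing k]

/-- Dehomogenisation. -/
noncomputable def deh : MvPolynomial (Option σ) k →ₐ[k] MvPolynomial σ k :=
  MvPolynomial.aeval fun o => o.elim 1 MvPolynomial.X

theorem totalDegree_deh_monomial (β : Option σ →₀ ℕ) (a : k) :
    (deh (MvPolynomial.monomial β a)).totalDegree ≤ β.degree := by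
  rw [deh, aeval_monomial]
  refine (totalDegree_mul _ _).trans ?_
  rw [MvPolynomial.algebraMap_eq, totalDegree_C, zero_add, Finsupp.prod]
  refine (totalDegree_finsetProd _ _).trans ?_
  rw [Finsupp.degree_apply]
  refine Finset.sum_le_sum fun o _ => (totalDegree_pow _ _).trans ?_
  refine mul_le_of_le_one_right (Nat.zero_le _) ?_
  rcases o with _ | i
  · simp
  · rcases subsingleton_or_nontrivial k with h | h
    · simp [Subsingleton.elim (MvPolynomial.X i : MvPolynomial σ k) 0]
    · simp

theorem exists_homogenization (d : ℕ) (p : MvPolynomial σ k) (hp : p.totalDegree ≤ d) :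
    ∃ q : MvPolynomial (Option σ) k, q.IsHomogeneous d ∧ deh q = p := by
  classical
  refine ⟨∑ α ∈ p.support, rename some (monomial α (coeff α p)) * X none ^ (d - α.degree),
    IsHomogeneous.sum _ _ _ fun α hα => ?_, ?_⟩
  · have hle : α.degree ≤ d := by
      refine le_trans ?_ hp
      rw [Finsupp.degree_apply]
      exact le_totalDegree hα
    have h1 : (rename (Option.some : σ → Option σ) (monomial α (coeff α p))).IsHomogeneous α.degree :=
      (isHomogeneous_monomial _ rfl).rename_isHomogeneous
    have h2 := h1.mul ((isHomogeneous_X k (none : Option σ)).pow (d - α.degree))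
    rwa [one_mul, Nat.add_sub_cancel' hle] at h2
  · rw [map_sum]
    conv_rhs => rw [p.as_sum]
    refine Finset.sum_congr rfl fun α _ => ?_
    rw [map_mul, map_pow, deh, aeval_rename, aeval_X, Option.elim_none, one_pow, mul_one]
    exact congrArg (fun f => f (monomial α (coeff α p))) (MvPolynomial.aeval_X_left (σ := σ) (R := k))

/-- A family of sets of bounded degree is generated, compatibly with degrees, by finitely many members. -/
theorem exists_gens [Finite σ] [Finite ι] [IsNoetherianRing k]
    (W : ℕ → Set (ι → MvPolynomial σ k)) (hW : ∀ d, ∀ v ∈ W d, ∀ j, (v j).totalDegree ≤ d) :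
    ∃ T : Finset (ℕ × (ι → MvPolynomial σ k)), (∀ t ∈ T, t.2 ∈ W t.1) ∧
      ∀ d, ∀ v ∈ W d, v ∈ Submodule.span k {w | ∃ t ∈ T, ∃ q : MvPolynomial σ k,
        q.totalDegree + t.1 ≤ d ∧ w = q • t.2} := by
  classical
  let Q := MvPolynomial (Option σ) k
  let dehV : (ι → Q) →ₗ[k] (ι → MvPolynomial σ k) := (deh (σ := σ) (k := k)).toLinearMap.compLeft ι
  let H : Set (ι → Q) := {v | ∃ d, (∀ j, (v j).IsHomogeneous d) ∧ dehV v ∈ W d}
  obtain ⟨G, hGH, hG⟩ := (Submodule.fg_span_iff_fg_span_finset_subset H).mp
    (IsNoetherian.noetherian (Submodule.span Q H))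
  choose! dg hdg using fun v (hv : v ∈ G) => hGH hv
  refine ⟨G.image fun v => (dg v, dehV v), ?_, ?_⟩
  · intro t ht
    obtain ⟨v, hv, rfl⟩ := Finset.mem_image.mp ht
    exact (hdg v hv).2
  intro d w hw
  choose q hq hqw using fun j => exists_homogenization d (w j) (hW d w hw j)
  have hqH : q ∈ Submodule.span k ((Set.range fun β : Option σ →₀ ℕ => monomial β (1 : k)) • (G : Set (ι → Q))) := by
    rw [Submodule.span_smul_of_span_eq_top, Submodule.restrictScalars_mem, ← hG]
    · exact Submodule.subset_span ⟨d, hq, by rwa [show dehV q = w from funext hqw]⟩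
    · rw [← MvPolynomial.coe_basisMonomials]
      exact (MvPolynomial.basisMonomials (Option σ) k).span_eq
  let Φ : (ι → Q) →ₗ[k] (ι → MvPolynomial σ k) :=
    dehV.comp ((homogeneousComponent (σ := Option σ) (R := k) d).compLeft ι)
  have hΦ : Φ q = w := by
    funext j
    show deh (homogeneousComponent d (q j)) = w j
    rw [homogeneousComponent_of_mem (hq j), if_pos rfl, hqw]
  rw [← hΦ]
  refine (?_ : Submodule.span k _ ≤ (Submodule.span k _).comap Φ) hqH
  rw [Submodule.span_le]
  rintro _ ⟨_, ⟨β, rfl⟩, v, hv, rfl⟩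
  rw [SetLike.mem_coe, Submodule.mem_comap]
  have hcomp : ∀ j, (monomial β (1 : k) * v j).IsHomogeneous (β.degree + dg v) := fun j =>
    (isHomogeneous_monomial _ rfl).mul ((hdg v hv).1 j)
  by_cases hd : β.degree + dg v = d
  · refine Submodule.subset_span ⟨(dg v, dehV v), Finset.mem_image_of_mem _ hv, deh (monomial β (1 : k)), ?_, ?_⟩
    · exact hd ▸ Nat.add_le_add_right (totalDegree_deh_monomial β 1) _
    · funext j
      show deh (homogeneousComponent d (monomial β (1 : k) * v j)) = deh (monomial β (1 : k)) * deh (v j)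
      rw [homogeneousComponent_of_mem (hcomp j), if_pos hd.symm, map_mul]
  · have : Φ ((monomial β (1 : k)) • v) = 0 := by
      funext j
      show deh (homogeneousComponent d (monomial β (1 : k) * v j)) = 0
      rw [homogeneousComponent_of_mem (hcomp j), if_neg (Ne.symm hd), map_zero]
    rw [this]
    exact zero_mem _

end field

variable {A : Type u} [CommRing A] [IsDomain A] [ValuationRing A]

theorem finite_torsionFree_free {M : Type*} [AddCommGroup M] [Module A M] [Module.Finite A M]
    (h : ∀ (a : A) (x : M), a ≠ 0 → a • x = 0 → x = 0) : Module.Free A M := by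
  have : Module.Flat A M := by
    rw [Module.Flat.flat_iff_torsion_eq_bot_of_isBezout, eq_bot_iff]
    rintro x ⟨a, ha⟩
    exact h a x (nonZeroDivisors.ne_zero a.2) ha
  exact Module.free_of_flat_of_isLocalRing

theorem exists_eq_smul (s : Finset A) : ∃ a : A, (a = 0 ∨ a ∈ s) ∧ ∀ x ∈ s, a ∣ x := by
  classical
  induction s using Finset.induction_on with
  | empty => exact ⟨0, Or.inl rfl, by simp⟩
  | insert x s _ ih =>
    obtain ⟨a, ha, hdvd⟩ := ih
    rcases ValuationRing.dvd_total (R := A) a x with h | h
    · exact ⟨a, ha.imp_right (Finset.mem_insert_of_mem), fun y hy =>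
        (Finset.mem_insert.mp hy).elim (fun e => e ▸ h) (hdvd y)⟩
    · exact ⟨x, Or.inr (Finset.mem_insert_self x s), fun y hy =>
        (Finset.mem_insert.mp hy).elim (fun e => e ▸ dvd_rfl) (fun hys => h.trans (hdvd y hys))⟩

/-- A saturated submodule of a finite free module over a polynomial ring over a valuation ring is
finitely generated. -/
theorem fg_of_saturated [Finite σ] [Finite ι] (N : Submodule (MvPolynomial σ A) (ι → MvPolynomial σ A))
    (hN : ∀ (a : A) (v : ι → MvPolynomial σ A), a ≠ 0 → a • v ∈ N → v ∈ N) : N.FG := by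
  classical
  haveI := Fintype.ofFinite ι
  let P := MvPolynomial σ A
  let k := IsLocalRing.ResidueField A
  let res := IsLocalRing.residue A
  let red : (ι → P) → (ι → MvPolynomial σ k) := fun v j => MvPolynomial.map res (v j)
  let Wd : ℕ → Submodule A (ι → P) := fun d =>
    N.restrictScalars A ⊓ Submodule.pi Set.univ fun _ => restrictTotalDegree σ A d
  have hWmem : ∀ {d v}, v ∈ Wd d ↔ v ∈ N ∧ ∀ j, (v j).totalDegree ≤ d := fun {d v} => by
    simp [Wd, mem_restrictTotalDegree, P]
  have hfgW : ∀ d, (Wd d).FG := fun d => by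
    let V := ι → restrictTotalDegree σ A d
    let incl : V →ₗ[A] (ι → P) := LinearMap.pi fun j => (Submodule.subtype _).comp (LinearMap.proj j)
    let f : V →ₗ[A] (ι → P) ⧸ N.restrictScalars A := (N.restrictScalars A).mkQ.comp incl
    haveI : Module.Free A (LinearMap.range f) := finite_torsionFree_free fun a x ha hax => by
      apply Subtype.ext
      have hax' : a • (x : (ι → P) ⧸ N.restrictScalars A) = 0 := congrArg Subtype.val hax
      obtain ⟨y, hy⟩ := Submodule.Quotient.mk_surjective _ (x : (ι → P) ⧸ N.restrictScalars A)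
      rw [← hy, ← Submodule.Quotient.mk_smul, Submodule.Quotient.mk_eq_zero] at hax'
      rw [← hy]
      exact (Submodule.Quotient.mk_eq_zero _).mpr (hN a y ha hax')
    haveI : Module.FinitePresentation A (LinearMap.range f) := Module.finitePresentation_of_projective A _
    have hk : (LinearMap.ker f.rangeRestrict).FG :=
      Module.FinitePresentation.fg_ker f.rangeRestrict f.surjective_rangeRestrict
    rw [LinearMap.ker_rangeRestrict] at hk
    have : (LinearMap.ker f).map incl = Wd d := by
      ext v
      simp only [Submodule.mem_map, LinearMap.mem_ker, f, LinearMap.comp_apply, Submodule.mkQ_apply,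
        Submodule.Quotient.mk_eq_zero, Submodule.restrictScalars_mem]
      rw [hWmem]
      constructor
      · rintro ⟨y, hy, rfl⟩
        exact ⟨hy, fun j => (mem_restrictTotalDegree _ _ _).mp (y j).2⟩
      · rintro ⟨hv, hdeg⟩
        exact ⟨fun j => ⟨v j, (mem_restrictTotalDegree _ _ _).mpr (hdeg j)⟩, hv, rfl⟩
    exact this ▸ hk.map incl
  obtain ⟨T, hT, hspan⟩ := exists_gens (fun d => red '' (Wd d : Set (ι → P))) (fun d v hv j => by
    obtain ⟨v, hv, rfl⟩ := hv
    exact (Finset.sup_mono (MvPolynomial.support_map_subset res (v j))).trans ((hWmem.mp hv).2 j))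
  choose! lift hlift hlift' using hT
  let gens : Finset (ι → P) := T.image lift
  refine ⟨gens, le_antisymm ?_ fun v hv => ?_⟩
  · rw [Submodule.span_le]
    intro v hv
    obtain ⟨t, ht, rfl⟩ := Finset.mem_image.mp hv
    exact (hWmem.mp (hlift t ht)).1
  let d := Finset.univ.sup fun j => (v j).totalDegree
  have hvd : v ∈ Wd d := hWmem.mpr ⟨hv, fun j => Finset.le_sup (f := fun j => (v j).totalDegree) (Finset.mem_univ j)⟩
  let W' : Submodule A (ι → P) := Submodule.span A
    {w | ∃ t ∈ T, ∃ q : P, q.totalDegree + t.1 ≤ d ∧ w = q • lift t}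
  have hW'le : W' ≤ (Submodule.span P (gens : Set (ι → P))).restrictScalars A := by
    rw [Submodule.span_le]
    rintro _ ⟨t, ht, q, -, rfl⟩
    exact Submodule.smul_mem _ q (Submodule.subset_span (Finset.mem_image_of_mem lift ht))
  refine hW'le ((?_ : Wd d ≤ W') hvd)
  have hW'W : W' ≤ Wd d := by
    rw [Submodule.span_le]
    rintro _ ⟨t, ht, q, hq, rfl⟩
    refine hWmem.mpr ⟨N.smul_mem q (hWmem.mp (hlift t ht)).1, fun j => ?_⟩
    rw [Pi.smul_apply, smul_eq_mul]
    exact (totalDegree_mul _ _).trans ((Nat.add_le_add_left ((hWmem.mp (hlift t ht)).2 j) _).trans hq)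
  refine Submodule.le_of_le_smul_of_le_jacobson_bot (hfgW d) (IsLocalRing.maximalIdeal_le_jacobson _) ?_
  intro f hf
  obtain ⟨g₀, hg₀, hg₀f⟩ : ∃ g₀ ∈ W', red g₀ = red f := by
    have hf' := hspan d (red f) ⟨f, hf, rfl⟩
    generalize red f = w at hf' ⊢
    induction hf' using Submodule.span_induction with
    | mem w hw =>
      obtain ⟨t, ht, q, hq, rfl⟩ := hw
      let q' : P := ∑ α ∈ q.support, monomial α (Classical.choose (IsLocalRing.residue_surjective (coeff α q)))
      have hq' : MvPolynomial.map res q' = q := by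
        conv_rhs => rw [q.as_sum]
        simp only [q', map_sum, map_monomial]
        exact Finset.sum_congr rfl fun α _ => congrArg _ (Classical.choose_spec (IsLocalRing.residue_surjective (coeff α q)))
      refine ⟨q' • lift t, Submodule.subset_span ⟨t, ht, q', le_trans (Nat.add_le_add_right ?_ _) hq, rfl⟩, ?_⟩
      · refine (totalDegree_finset_sum _ _).trans (Finset.sup_le fun α hα => ?_)
        exact (totalDegree_monomial_le _ _).trans (le_totalDegree hα)
      · funext j
        show MvPolynomial.map res (q' * lift t j) = q * (t.2 j)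
        rw [map_mul, hq', ← hlift' t ht]
    | zero => exact ⟨0, zero_mem _, funext fun j => map_zero _⟩
    | add x y _ _ hx hy =>
      obtain ⟨a, ha, rfl⟩ := hx
      obtain ⟨b, hb, rfl⟩ := hy
      exact ⟨a + b, add_mem ha hb, funext fun j => map_add _ _ _⟩
    | smul c x _ hx =>
      obtain ⟨a, ha, rfl⟩ := hx
      obtain ⟨c, rfl⟩ := IsLocalRing.residue_surjective c
      refine ⟨c • a, Submodule.smul_mem _ c ha, funext fun j => ?_⟩
      show MvPolynomial.map res (c • a j) = res c • MvPolynomial.map res (a j)
      rw [MvPolynomial.smul_eq_C_mul, map_mul, map_C, MvPolynomial.smul_eq_C_mul]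
  refine Submodule.mem_sup.mpr ⟨g₀, hg₀, f - g₀, ?_, add_sub_cancel _ _⟩
  set g := f - g₀ with hg
  have hgW : g ∈ Wd d := sub_mem hf (hW'W hg₀)
  have hgm : ∀ j α, coeff α (g j) ∈ IsLocalRing.maximalIdeal A := fun j α => by
    rw [← IsLocalRing.residue_eq_zero_iff]
    have : MvPolynomial.map res (g j) = 0 := by
      rw [hg, Pi.sub_apply, map_sub, sub_eq_zero]
      exact (congrFun hg₀f j).symm
    have h := congrArg (coeff α) this
    rwa [coeff_map, coeff_zero] at h
  obtain ⟨a, ha, hdvd⟩ := exists_eq_smul (Finset.univ.biUnion fun j => (g j).support.image fun α => coeff α (g j))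
  have hsm : ∀ j α, a ∣ coeff α (g j) := fun j α => by
    by_cases h : α ∈ (g j).support
    · exact hdvd _ (Finset.mem_biUnion.mpr ⟨j, Finset.mem_univ j, Finset.mem_image_of_mem _ h⟩)
    · rw [notMem_support_iff.mp h]; exact dvd_zero a
  choose c hc using hsm
  let g' : ι → P := fun j => ∑ α ∈ (g j).support, monomial α (c j α)
  have hgg' : g = a • g' := funext fun j => by
    conv_lhs => rw [(g j).as_sum]
    simp only [g', Pi.smul_apply, Finset.smul_sum]
    refine Finset.sum_congr rfl fun α _ => ?_
    rw [MvPolynomial.smul_eq_C_mul, C_mul_monomial, ← hc]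
  rcases eq_or_ne a 0 with rfl | ha0
  · rw [hgg', zero_smul]; exact zero_mem _
  have hg'W : g' ∈ Wd d := hWmem.mpr ⟨hN a g' ha0 (hgg' ▸ (hWmem.mp hgW).1), fun j => by
    refine (totalDegree_finset_sum _ _).trans (Finset.sup_le fun α hα => ?_)
    exact (totalDegree_monomial_le _ _).trans ((le_totalDegree hα).trans ((hWmem.mp hgW).2 j))⟩
  rw [hgg']
  refine Submodule.smul_mem_smul ?_ hg'W
  rcases ha with rfl | ha
  · exact absurd rfl ha0
  · obtain ⟨j, -, hj⟩ := Finset.mem_biUnion.mp ha
    obtain ⟨α, -, rfl⟩ := Finset.mem_image.mp hj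
    exact hgm j α

/-- A finite module over a polynomial ring over a valuation ring without `A`-torsion is finitely
presented. -/
theorem finitePresentation_of_torsionFree [Finite σ] {M : Type*} [AddCommGroup M]
    [Module (MvPolynomial σ A) M] [Module.Finite (MvPolynomial σ A) M]
    (h : ∀ (a : A) (x : M), a ≠ 0 → (C a : MvPolynomial σ A) • x = 0 → x = 0) :
    Module.FinitePresentation (MvPolynomial σ A) M := by
  obtain ⟨n, f, hf⟩ := Module.Finite.exists_fin' (MvPolynomial σ A) M
  refine Module.finitePresentation_of_surjective f hf (fg_of_saturated _ fun a v ha hav => ?_)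
  rw [LinearMap.mem_ker] at hav ⊢
  refine h a _ ha ?_
  rw [← map_smul]
  refine (congrArg f (funext fun j => ?_)).trans hav
  rw [Pi.smul_apply, Pi.smul_apply, smul_eq_mul, MvPolynomial.smul_eq_C_mul]

end Groth.Agent.H20.ValFP
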