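import Groth.Agent.H48.EtaleValApp
import Groth.Agent.H20.ValFP
import Mathlib.RingTheory.RingHom.StandardSmooth
import Mathlib.RingTheory.Smooth.StandardSmoothOfFree
import Mathlib.RingTheory.RingHom.Etale
import Mathlib.RingTheory.RingHom.Flat
import Mathlib.RingTheory.Smooth.Flat
import Mathlib.RingTheory.Ideal.GoingDown

/-!
Localisations of smooth algebras over valuation rings at generic points of the special fibre.
-/

set_option autoImplicit false

universe u

namespace Groth.Agent.H20.GaussVal

open IsLocalRing MvPolynomial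
open scoped TensorProduct

variable {V : Type u} [CommRing V] [IsDomain V] [ValuationRing V]

/-- Gauss extension. -/
theorem exists_content {d : ℕ} (P₀ : Ideal (MvPolynomial (Fin d) V)) [P₀.IsPrime]
    (hP₀ : P₀ = (maximalIdeal V).map C) (x : Localization.AtPrime P₀) :
    x = 0 ∨ ∃ (c : V) (u : (Localization.AtPrime P₀)ˣ), c ≠ 0 ∧ x = u * algebraMap V _ c := by
  classical
  let W := Localization.AtPrime P₀
  obtain ⟨⟨f, s⟩, hfs⟩ := IsLocalization.surj P₀.primeCompl x
  obtain ⟨w, hw⟩ := IsLocalization.map_units W s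
  by_cases hf : f = 0
  · left
    subst hf
    rw [map_zero] at hfs
    exact (IsLocalization.map_units W s).mul_left_eq_zero.1 hfs
  right
  obtain ⟨a, ha, hdvd⟩ := ValFP.exists_eq_smul (A := V) (f.support.image fun e => f.coeff e)
  obtain ⟨e, he⟩ := MvPolynomial.support_nonempty.2 hf
  have ha0 : a ≠ 0 := by
    rintro rfl
    exact mem_support_iff.1 he (zero_dvd_iff.1 (hdvd _ (Finset.mem_image_of_mem _ he)))
  obtain ⟨e', he', hea⟩ := Finset.mem_image.1 (ha.resolve_left ha0)
  have hall : ∀ e, a ∣ f.coeff e := fun e => by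
    by_cases h : e ∈ f.support
    · exact hdvd _ (Finset.mem_image_of_mem _ h)
    · rw [notMem_support_iff.1 h]; exact dvd_zero a
  obtain ⟨g, hg⟩ := (C_dvd_iff_dvd_coeff a f).2 hall
  have hgP : g ∉ P₀ := fun h => by
    rw [hP₀, MvPolynomial.mem_map_C_iff] at h
    have hc : a * g.coeff e' = a * 1 := by rw [mul_one, ← MvPolynomial.coeff_C_mul, ← hg, hea]
    have := h e'
    rw [mul_left_cancel₀ ha0 hc] at this
    exact (maximalIdeal.isMaximal V).ne_top ((Ideal.eq_top_iff_one _).2 this)
  obtain ⟨v, hv⟩ := IsLocalization.map_units W (⟨g, hgP⟩ : P₀.primeCompl)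
  refine ⟨a, v * w⁻¹, ha0, ?_⟩
  rw [← hw, hg, map_mul] at hfs
  have hx := (Units.eq_mul_inv_iff_mul_eq w).2 hfs
  rw [Units.val_mul, hv, IsScalarTower.algebraMap_apply V (MvPolynomial (Fin d) V) W, MvPolynomial.algebraMap_eq, hx]
  ring

theorem valuationRing_gauss {d : ℕ} (P₀ : Ideal (MvPolynomial (Fin d) V)) [P₀.IsPrime]
    (hP₀ : P₀ = (maximalIdeal V).map C) [IsDomain (Localization.AtPrime P₀)] :
    ValuationRing (Localization.AtPrime P₀) := by
  refine ValuationRing.iff_dvd_total.2 ⟨fun x y => ?_⟩
  rcases exists_content P₀ hP₀ x with rfl | ⟨a, u, -, rfl⟩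
  · exact Or.inr (dvd_zero y)
  rcases exists_content P₀ hP₀ y with rfl | ⟨b, v, -, rfl⟩
  · exact Or.inl (dvd_zero _)
  rcases ValuationRing.dvd_total a b with h | h
  · exact Or.inl (by simpa using map_dvd (algebraMap V (Localization.AtPrime P₀)) h)
  · exact Or.inr (by simpa using map_dvd (algebraMap V (Localization.AtPrime P₀)) h)

theorem exists_eq_mul {A : Type u} [CommRing A] [Algebra V A] [Algebra.Smooth V A] (p : Ideal A) [p.IsPrime]
    (hp : p ∈ ((maximalIdeal V).map (algebraMap V A)).minimalPrimes) (x : Localization.AtPrime p) :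
    x = 0 ∨ ∃ (c : V) (u : (Localization.AtPrime p)ˣ), c ≠ 0 ∧ x = u * algebraMap V _ c := by
  classical
  obtain ⟨f, hf, hstd⟩ := Algebra.IsSmoothAt.exists_notMem_isStandardSmooth V p
  let T := Localization.Away f
  obtain ⟨d, g, hgC, hget⟩ := (RingHom.isStandardSmooth_algebraMap.mpr hstd :
    (algebraMap V T).IsStandardSmooth).exists_etale_mvPolynomial
  let P := MvPolynomial (Fin d) V
  letI algPT : Algebra P T := g.toAlgebra
  haveI : IsScalarTower V P T := IsScalarTower.of_algebraMap_eq' hgC.symm
  haveI : Algebra.Etale P T := RingHom.etale_algebraMap.mp hget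
  let p' := p.map (algebraMap A T)
  have hdisj : Disjoint (Submonoid.powers f : Set A) (p : Set A) :=
    (Ideal.disjoint_powers_iff_notMem_of_isPrime _).mpr hf
  haveI : p'.IsPrime := IsLocalization.isPrime_of_isPrime_disjoint (Submonoid.powers f) T p ‹_› hdisj
  have hu : p'.comap (algebraMap A T) = p := IsLocalization.under_map_of_isPrime_disjoint (Submonoid.powers f) T ‹_› hdisj
  let P₀ := p'.comap (algebraMap P T)
  haveI : P₀.IsPrime := Ideal.IsPrime.comap _
  have hmP : ((maximalIdeal V).map (C : V →+* P)).IsPrime := by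
    have h : RingHom.ker (MvPolynomial.map (σ := Fin d) (residue V)) = (maximalIdeal V).map C := by
      rw [MvPolynomial.ker_map, ker_residue]
    exact h ▸ RingHom.ker_isPrime _
  have hP₀ : P₀ = (maximalIdeal V).map C := by
    have hle : (maximalIdeal V).map C ≤ P₀ := Ideal.map_le_iff_le_comap.2 fun c hc => by
      show algebraMap P T (C c) ∈ p'
      rw [← MvPolynomial.algebraMap_eq, ← IsScalarTower.algebraMap_apply, IsScalarTower.algebraMap_apply V A T]
      exact Ideal.mem_map_of_mem _ (hp.1.2 (Ideal.mem_map_of_mem _ hc))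
    refine le_antisymm ?_ hle
    haveI := hmP
    haveI : p'.LiesOver P₀ := ⟨rfl⟩
    haveI : Algebra.HasGoingDown P T := inferInstance
    obtain ⟨Q, hQle, _, hQ⟩ := Ideal.exists_ideal_le_liesOver_of_le (S := T) (p := (maximalIdeal V).map C) (q := P₀) p' hle
    have hQA : (maximalIdeal V).map (algebraMap V A) ≤ Q.comap (algebraMap A T) :=
      Ideal.map_le_iff_le_comap.2 fun c hc => by
        show algebraMap A T (algebraMap V A c) ∈ Q
        rw [← IsScalarTower.algebraMap_apply, IsScalarTower.algebraMap_apply V P T]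
        have : (C c : P) ∈ Q.under P := hQ.over ▸ Ideal.mem_map_of_mem _ hc
        exact this
    have heq : p ≤ Q.comap (algebraMap A T) :=
      hp.2 ⟨Ideal.IsPrime.comap _, hQA⟩ (hu ▸ Ideal.comap_mono hQle)
    have hpQ : p' ≤ Q := Ideal.map_le_iff_le_comap.2 heq
    show p'.comap (algebraMap P T) ≤ _
    rw [le_antisymm hpQ hQle]
    exact hQ.over.ge
  -- base change to the Gauss ring
  let W := Localization.AtPrime P₀
  haveI : IsDomain W := IsLocalization.isDomain_localization P₀.primeCompl_le_nonZeroDivisors
  haveI : ValuationRing W := valuationRing_gauss P₀ hP₀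
  let S := Algebra.algebraMapSubmonoid T P₀.primeCompl
  let B := Localization S
  letI : Algebra W B := localizationAlgebra P₀.primeCompl T
  haveI : IsScalarTower P W B := IsScalarTower.of_algebraMap_eq' (by rw [RingHom.algebraMap_toAlgebra, IsLocalization.map_comp, IsScalarTower.algebraMap_eq P T B])
  haveI : Algebra.IsPushout P W T B := (Algebra.isPushout_of_isLocalization P₀.primeCompl W T B).symm
  haveI : Algebra.Etale W B := Algebra.Etale.of_equiv (A := W ⊗[P] T) (Algebra.IsPushout.equiv P W T B)
  let m := p'.map (algebraMap T B)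
  have hdisj' : Disjoint (S : Set T) (p' : Set T) := by
    rw [Set.disjoint_left]
    rintro _ ⟨y, hy, rfl⟩ h
    exact hy h
  haveI : m.IsPrime := IsLocalization.isPrime_of_isPrime_disjoint S B p' ‹_› hdisj'
  have hum : m.comap (algebraMap T B) = p' := IsLocalization.under_map_of_isPrime_disjoint S B ‹_› hdisj'
  have hmW : m.comap (algebraMap W B) = maximalIdeal W := by
    haveI : (m.comap (algebraMap W B)).IsPrime := Ideal.IsPrime.comap _
    refine le_antisymm (le_maximalIdeal (Ideal.IsPrime.ne_top ‹_›)) ?_
    rw [← IsLocalization.AtPrime.map_eq_maximalIdeal P₀ W, Ideal.map_le_iff_le_comap]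
    intro y hy
    show algebraMap W B (algebraMap P W y) ∈ m
    rw [← IsScalarTower.algebraMap_apply, IsScalarTower.algebraMap_apply P T B]
    exact Ideal.mem_map_of_mem _ hy
  let L := Localization.AtPrime m
  haveI : IsLocalization.AtPrime L (m.comap (algebraMap T B)) :=
    IsLocalization.isLocalization_isLocalization_atPrime_isLocalization S L m
  haveI : IsLocalization.AtPrime L p' := by
    have h : IsLocalization.AtPrime L (m.comap (algebraMap T B)) := inferInstance
    convert h using 2
    exact hum.symm
  have hLA : IsLocalization.AtPrime L (p'.comap (algebraMap A T)) :=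
    IsLocalization.isLocalization_isLocalization_atPrime_isLocalization (Submonoid.powers f) L p'
  haveI : IsLocalization p.primeCompl L := by
    convert hLA using 2
    exact hu.symm
  let e : Localization.AtPrime p ≃ₐ[A] L := IsLocalization.algEquiv p.primeCompl _ _
  have he : ∀ c : V, e (algebraMap V (Localization.AtPrime p) c) = algebraMap W L (algebraMap V W c) := by
    intro c
    rw [IsScalarTower.algebraMap_apply V A (Localization.AtPrime p), e.commutes,
      IsScalarTower.algebraMap_apply A T L, ← IsScalarTower.algebraMap_apply V A T,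
      IsScalarTower.algebraMap_apply V P T, IsScalarTower.algebraMap_apply V P W,
      IsScalarTower.algebraMap_apply W B L, ← IsScalarTower.algebraMap_apply P W B,
      IsScalarTower.algebraMap_apply P T B, ← IsScalarTower.algebraMap_apply T B L]
  rcases Groth.Agent.H48.EtaleValApp.eq_zero_or_eq_mul m hmW (e x) with h | ⟨c, u, hc, h⟩
  · exact Or.inl (e.injective (h.trans (map_zero e).symm))
  rcases exists_content P₀ hP₀ c with rfl | ⟨a, w, ha, rfl⟩
  · exact absurd rfl hc
  refine Or.inr ⟨a, Units.map e.symm.toAlgHom.toRingHom.toMonoidHom (u * Units.map (algebraMap W L).toMonoidHom w), ha, ?_⟩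
  apply e.injective
  simp only [h, map_mul, he]
  simp [mul_assoc]
  rfl

end Groth.Agent.H20.GaussVal
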