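import Groth.Agent.Lib.GeomConn.SepClosed
import Mathlib.RingTheory.Spectrum.Prime.Chevalley
import Mathlib.RingTheory.LocalRing.ResidueField.Ideal
import Mathlib.RingTheory.Localization.FractionRing
import Mathlib.LinearAlgebra.TensorProduct.RightExactness
import Mathlib.RingTheory.Idempotents
import Mathlib.FieldTheory.IntermediateField.Adjoin.Basic

/-!
Irreducibility and connectedness of tensor products over a field.
-/

universe u

open TensorProduct PrimeSpectrum

namespace Groth.Agent.H20.GeomIrred

theorem irreducible_of_ker_le {A B : Type u} [CommRing A] [CommRing B] (f : A →+* B)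
    (hf : RingHom.ker f ≤ nilradical A) [IrreducibleSpace (PrimeSpectrum B)] :
    IrreducibleSpace (PrimeSpectrum A) := by
  rw [irreducibleSpace_iff_isPrime_nilradical] at *
  have h : nilradical A = (nilradical B).comap f := by
    ext x
    rw [Ideal.mem_comap, mem_nilradical, mem_nilradical]
    refine ⟨fun h => h.map f, fun ⟨n, hn⟩ => ?_⟩
    rw [← map_pow, ← RingHom.mem_ker] at hn
    exact IsNilpotent.of_pow (mem_nilradical.mp (hf hn))
  rw [h]
  exact Ideal.IsPrime.comap f

theorem irreducible_of_injective {A B : Type u} [CommRing A] [CommRing B] (f : A →+* B)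
    (hf : Function.Injective f) [IrreducibleSpace (PrimeSpectrum B)] :
    IrreducibleSpace (PrimeSpectrum A) :=
  irreducible_of_ker_le f (by rw [(RingHom.injective_iff_ker_eq_bot f).mp hf]; exact bot_le)

theorem ker_map_mk_le {k R S : Type u} [CommRing k] [CommRing R] [CommRing S] [Algebra k R]
    [Algebra k S] (I : Ideal R) (hI : I ≤ nilradical R) (J : Ideal S) (hJ : J ≤ nilradical S) :
    RingHom.ker (Algebra.TensorProduct.map (Ideal.Quotient.mkₐ k I) (Ideal.Quotient.mkₐ k J)) ≤
      nilradical (R ⊗[k] S) := by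
  rw [Algebra.TensorProduct.map_ker _ _ (Ideal.Quotient.mkₐ_surjective k I)
    (Ideal.Quotient.mkₐ_surjective k J), sup_le_iff, Ideal.map_le_iff_le_comap,
    Ideal.map_le_iff_le_comap]
  constructor <;> intro x hx <;>
    rw [RingHom.mem_ker, Ideal.Quotient.mkₐ_eq_mk, Ideal.Quotient.eq_zero_iff_mem] at hx
  · exact mem_nilradical.mpr ((mem_nilradical.mp (hI hx)).map _)
  · exact mem_nilradical.mpr ((mem_nilradical.mp (hJ hx)).map _)

theorem tensor_map_injective {k R R' S S' : Type u} [Field k] [CommRing R] [CommRing R'] [CommRing S]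
    [CommRing S'] [Algebra k R] [Algebra k R'] [Algebra k S] [Algebra k S'] (f : R →ₐ[k] R')
    (hf : Function.Injective f) (g : S →ₐ[k] S') (hg : Function.Injective g) :
    Function.Injective (Algebra.TensorProduct.map f g) := by
  have h : Algebra.TensorProduct.map f g = (Algebra.TensorProduct.map f (AlgHom.id k S')).comp
      (Algebra.TensorProduct.map (AlgHom.id k R) g) :=
    Algebra.TensorProduct.ext' fun a b => rfl
  rw [h]
  exact (Module.Flat.rTensor_preserves_injective_linearMap (M := S') f.toLinearMap hf).comp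
    (Module.Flat.lTensor_preserves_injective_linearMap (M := R) g.toLinearMap hg)

theorem sepClosed_tensor (k R S : Type u) [Field k] [IsSepClosed k] [CommRing R] [CommRing S]
    [Algebra k R] [Algebra k S] [IrreducibleSpace (PrimeSpectrum R)]
    [IrreducibleSpace (PrimeSpectrum S)] : IrreducibleSpace (PrimeSpectrum (R ⊗[k] S)) := by
  haveI := irreducibleSpace_iff_isPrime_nilradical.mp ‹IrreducibleSpace (PrimeSpectrum R)›
  haveI := irreducibleSpace_iff_isPrime_nilradical.mp ‹IrreducibleSpace (PrimeSpectrum S)›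
  let K := FractionRing (R ⧸ nilradical R)
  let L := FractionRing (S ⧸ nilradical S)
  haveI := Groth.Agent.Lib.GeomConn.SepClosed.irreducibleSpace_spec_tensor k K L
  haveI : IrreducibleSpace (PrimeSpectrum ((R ⧸ nilradical R) ⊗[k] (S ⧸ nilradical S))) :=
    irreducible_of_injective (Algebra.TensorProduct.map
      (IsScalarTower.toAlgHom k (R ⧸ nilradical R) K)
      (IsScalarTower.toAlgHom k (S ⧸ nilradical S) L)).toRingHom
      (tensor_map_injective _ (IsFractionRing.injective _ K) _ (IsFractionRing.injective _ L))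
  exact irreducible_of_ker_le (Algebra.TensorProduct.map (Ideal.Quotient.mkₐ k (nilradical R))
    (Ideal.Quotient.mkₐ k (nilradical S))).toRingHom (ker_map_mk_le _ le_rfl _ le_rfl)

/-- A geometrically irreducible algebra stays irreducible over any irreducible algebra. -/
theorem tensor_irreducible {k R S : Type u} [Field k] [CommRing R] [CommRing S]
    [Algebra k R] [Algebra k S] [IrreducibleSpace (PrimeSpectrum R)]
    (hS : ∀ (k' : Type u) [Field k'] [Algebra k k'], IrreducibleSpace (PrimeSpectrum (k' ⊗[k] S))) :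
    IrreducibleSpace (PrimeSpectrum (R ⊗[k] S)) := by
  haveI := irreducibleSpace_iff_isPrime_nilradical.mp ‹IrreducibleSpace (PrimeSpectrum R)›
  let K := FractionRing (R ⧸ nilradical R)
  haveI := hS K
  haveI : IrreducibleSpace (PrimeSpectrum ((R ⧸ nilradical R) ⊗[k] (S ⧸ (⊥ : Ideal S)))) :=
    irreducible_of_injective (Algebra.TensorProduct.map
      (IsScalarTower.toAlgHom k (R ⧸ nilradical R) K)
      (AlgEquiv.quotientBot k S).toAlgHom).toRingHom
      (tensor_map_injective _ (IsFractionRing.injective _ K) _ (AlgEquiv.injective _))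
  exact irreducible_of_ker_le (Algebra.TensorProduct.map (Ideal.Quotient.mkₐ k (nilradical R))
    (Ideal.Quotient.mkₐ k (⊥ : Ideal S))).toRingHom (ker_map_mk_le _ le_rfl _ bot_le)

theorem idempotent_eq_zero_or_one {A : Type u} [CommRing A] [ConnectedSpace (PrimeSpectrum A)]
    {e : A} (he : IsIdempotentElem e) : e = 0 ∨ e = 1 := by
  rcases _root_.isClopen_iff.mp (isClopen_iff_zeroLocus.mpr ⟨1 - e, he.one_sub, rfl⟩) with h | h
  · exact Or.inl (basicOpen_injOn_isIdempotentElem he IsIdempotentElem.zero (SetLike.ext' (by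
      rw [basicOpen_eq_zeroLocus_of_isIdempotentElem _ he, basicOpen_zero]; exact h)))
  · exact Or.inr (basicOpen_injOn_isIdempotentElem he IsIdempotentElem.one (SetLike.ext' (by
      rw [basicOpen_eq_zeroLocus_of_isIdempotentElem _ he, basicOpen_one]; exact h)))

theorem connectedSpace_of_idempotent {A : Type u} [CommRing A] [Nontrivial A]
    (h : ∀ e : A, IsIdempotentElem e → e = 0 ∨ e = 1) : ConnectedSpace (PrimeSpectrum A) := by
  haveI : PreconnectedSpace (PrimeSpectrum A) := by
    rw [preconnectedSpace_iff_clopen]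
    intro s hs
    obtain ⟨e, he, rfl⟩ := exists_idempotent_basicOpen_eq_of_isClopen hs
    rcases h e he with rfl | rfl
    · exact Or.inl (by rw [basicOpen_zero]; rfl)
    · exact Or.inr (by rw [basicOpen_one]; rfl)
  exact { toNonempty := inferInstance }

/-- Every prime over `p` factors through the fibre. -/
theorem exists_factor {k R T : Type u} [Field k] [CommRing R] [Algebra k R] [CommRing T]
    [Algebra k T] (q : Ideal (R ⊗[k] T)) [q.IsPrime] (p : Ideal R) [p.IsPrime]
    (hq : q.comap (algebraMap R (R ⊗[k] T)) = p) :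
    ∃ ψ : p.ResidueField ⊗[k] T →ₐ[k] q.ResidueField, ∀ z,
      ψ (Algebra.TensorProduct.map (IsScalarTower.toAlgHom k R p.ResidueField) (AlgHom.id k T) z) =
        algebraMap (R ⊗[k] T) q.ResidueField z := by
  let g : p.ResidueField →ₐ[k] q.ResidueField :=
    Ideal.ResidueField.mapₐ p q (IsScalarTower.toAlgHom k R (R ⊗[k] T)) hq.symm
  let ι : T →ₐ[k] q.ResidueField :=
    (IsScalarTower.toAlgHom k (R ⊗[k] T) q.ResidueField).comp Algebra.TensorProduct.includeRight
  refine ⟨Algebra.TensorProduct.productMap g ι, fun z => ?_⟩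
  induction z using TensorProduct.induction_on with
  | zero => simp
  | add x y hx hy => rw [map_add, map_add, hx, hy, map_add]
  | tmul r t =>
    simp only [Algebra.TensorProduct.map_tmul, AlgHom.coe_id, id_eq,
      Algebra.TensorProduct.productMap_apply_tmul, IsScalarTower.toAlgHom_apply, g,
      Ideal.ResidueField.mapₐ_apply]
    erw [Ideal.ResidueField.map_algebraMap]
    simp only [ι, AlgHom.comp_apply, Algebra.TensorProduct.includeRight_apply,
      IsScalarTower.toAlgHom_apply]
    rw [← map_mul]
    congr 1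
    change (r ⊗ₜ[k] (1 : T)) * ((1 : R) ⊗ₜ[k] t) = _
    rw [Algebra.TensorProduct.tmul_mul_tmul, mul_one, one_mul]

/-- Idempotents descend when all fibres are connected. -/
theorem existsUnique_idempotent {k R T : Type u} [Field k] [CommRing R] [CommRing T]
    [Algebra k R] [Algebra k T] [Nontrivial T]
    (hfib : ∀ (p : Ideal R) [p.IsPrime], ConnectedSpace (PrimeSpectrum (p.ResidueField ⊗[k] T)))
    (x : R ⊗[k] T) (hx : IsIdempotentElem x) :
    ∃! e : R, IsIdempotentElem e ∧ algebraMap R (R ⊗[k] T) e = x := by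
  have hinj : Function.Injective (algebraMap R (R ⊗[k] T)) :=
    Algebra.TensorProduct.includeLeft_injective (R := k) (S := R) (A := R) (B := T)
      (algebraMap k T).injective
  let φ : ∀ p : PrimeSpectrum R, R ⊗[k] T →ₐ[k] p.asIdeal.ResidueField ⊗[k] T := fun p =>
    Algebra.TensorProduct.map (IsScalarTower.toAlgHom k R p.asIdeal.ResidueField) (AlgHom.id k T)
  have h01 : ∀ p, φ p x = 0 ∨ φ p x = 1 := fun p =>
    haveI := hfib p.asIdeal
    idempotent_eq_zero_or_one (hx.map (φ p))
  let f := comap (algebraMap R (R ⊗[k] T))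
  have key : ∀ q : PrimeSpectrum (R ⊗[k] T),
      (φ (f q) x = 1 → x ∉ q.asIdeal) ∧ (φ (f q) x = 0 → x ∈ q.asIdeal) := by
    intro q
    obtain ⟨ψ, hψ⟩ := exists_factor q.asIdeal (f q).asIdeal rfl
    constructor
    · intro h hxq
      have h' := hψ x
      rw [show (Algebra.TensorProduct.map _ _) x = φ (f q) x from rfl, h, map_one,
        Ideal.algebraMap_residueField_eq_zero.mpr hxq] at h'
      exact one_ne_zero h'
    · intro h
      have h' := hψ x
      rw [show (Algebra.TensorProduct.map _ _) x = φ (f q) x from rfl, h, map_zero] at h'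
      exact Ideal.algebraMap_residueField_eq_zero.mp h'.symm
  have hne : ∀ p : PrimeSpectrum R, ∀ y : R ⊗[k] T, φ p y = 1 → ∃ q, y ∉ q.asIdeal ∧ f q = p := by
    intro p y hy
    haveI := hfib p.asIdeal
    obtain ⟨P⟩ := (inferInstance : Nonempty (PrimeSpectrum (p.asIdeal.ResidueField ⊗[k] T)))
    refine ⟨comap (φ p).toRingHom P, ?_, ?_⟩
    · change φ p y ∉ P.asIdeal
      rw [hy]
      exact P.asIdeal.ne_top_iff_one.mp P.2.ne_top
    · refine PrimeSpectrum.ext ((Ideal.ext fun r => ?_))
      change φ p (algebraMap R (R ⊗[k] T) r) ∈ P.asIdeal ↔ r ∈ p.asIdeal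
      rw [show φ p (algebraMap R (R ⊗[k] T) r) =
        algebraMap R p.asIdeal.ResidueField r ⊗ₜ[k] (1 : T) from rfl,
        ← Ideal.algebraMap_residueField_eq_zero (I := p.asIdeal)]
      refine ⟨fun h => by_contra fun h0 => P.2.ne_top (P.asIdeal.eq_top_of_isUnit_mem h
        ((Ne.isUnit h0).map (Algebra.TensorProduct.includeLeft :
          p.asIdeal.ResidueField →ₐ[k] p.asIdeal.ResidueField ⊗[k] T))), fun h => ?_⟩
      rw [h, TensorProduct.zero_tmul]
      exact P.asIdeal.zero_mem
  have hU : f '' basicOpen x = (f '' basicOpen (1 - x))ᶜ := by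
    ext p
    constructor
    · rintro ⟨q, hq, rfl⟩ ⟨q', hq', heq⟩
      have h := (h01 (f q)).resolve_left fun h => hq ((key q).2 h)
      have h' : φ (f q') x = 0 := (h01 (f q')).resolve_right fun h => by
        have hn := (key q').1 h
        refine hq' ?_
        have : x * (1 - x) ∈ q'.asIdeal := by rw [hx.mul_one_sub_self]; exact q'.asIdeal.zero_mem
        exact (q'.2.mem_or_mem this).resolve_left hn
      rw [heq, h] at h'
      haveI := hfib (f q).asIdeal
      haveI := (PrimeSpectrum.nonempty_iff_nontrivial (R := (f q).asIdeal.ResidueField ⊗[k] T)).mp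
        inferInstance
      exact one_ne_zero h'
    · intro hp
      rcases h01 p with h | h
      · refine absurd ?_ hp
        obtain ⟨q, hq, hqp⟩ := hne p (1 - x) (by rw [map_sub, map_one, h, sub_zero])
        exact ⟨q, hq, hqp⟩
      · obtain ⟨q, hq, hqp⟩ := hne p x h
        exact ⟨q, hq, hqp⟩
  have hopen := PrimeSpectrum.isOpenMap_comap_algebraMap_tensorProduct_of_field
    (K := k) (A := R) (B := T)
  obtain ⟨e, he, heq⟩ := exists_idempotent_basicOpen_eq_of_isClopen (s := f '' basicOpen x)
    ⟨by rw [hU]; exact (hopen _ (basicOpen _).isOpen).isClosed_compl, hopen _ (basicOpen _).isOpen⟩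
  refine ⟨e, ⟨he, ?_⟩, fun e' ⟨_, h'⟩ => hinj ?_⟩
  · refine basicOpen_injOn_isIdempotentElem (he.map _) hx (SetLike.ext fun q => ?_)
    constructor
    · intro h
      have hmem : f q ∈ (basicOpen e : Set (PrimeSpectrum R)) := h
      rw [← heq] at hmem
      refine fun hxq => ?_
      rw [hU] at hmem
      exact hmem ⟨q, fun h1 => q.2.ne_top ((Ideal.eq_top_iff_one _).mpr (by
        simpa using add_mem hxq h1)), rfl⟩
    · intro h
      show f q ∈ (basicOpen e : Set (PrimeSpectrum R))
      rw [← heq]
      exact ⟨q, h, rfl⟩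
  · rw [h']
    symm
    refine basicOpen_injOn_isIdempotentElem (he.map _) hx (SetLike.ext fun q => ?_)
    constructor
    · intro h
      have hmem : f q ∈ (basicOpen e : Set (PrimeSpectrum R)) := h
      rw [← heq, hU] at hmem
      exact fun hxq => hmem ⟨q, fun h1 => q.2.ne_top ((Ideal.eq_top_iff_one _).mpr (by
        simpa using add_mem hxq h1)), rfl⟩
    · intro h
      show f q ∈ (basicOpen e : Set (PrimeSpectrum R))
      rw [← heq]
      exact ⟨q, h, rfl⟩

/-- A base change is connected when all fibres are. -/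
theorem connectedSpace_tensor {k R T : Type u} [Field k] [CommRing R] [CommRing T]
    [Algebra k R] [Algebra k T] [Nontrivial T] [ConnectedSpace (PrimeSpectrum R)]
    (hfib : ∀ (p : Ideal R) [p.IsPrime], ConnectedSpace (PrimeSpectrum (p.ResidueField ⊗[k] T))) :
    ConnectedSpace (PrimeSpectrum (R ⊗[k] T)) := by
  haveI : Nontrivial R :=
    PrimeSpectrum.nonempty_iff_nontrivial.mp (inferInstance : Nonempty (PrimeSpectrum R))
  haveI : Nontrivial (R ⊗[k] T) :=
    (Algebra.TensorProduct.includeLeft_injective (R := k) (S := R) (A := R) (B := T)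
      (algebraMap k T).injective).nontrivial
  refine connectedSpace_of_idempotent fun x hx => ?_
  obtain ⟨e, ⟨he, rfl⟩, -⟩ := existsUnique_idempotent hfib x hx
  rcases idempotent_eq_zero_or_one he with rfl | rfl
  · exact Or.inl (map_zero _)
  · exact Or.inr (map_one _)

theorem connectedSpace_of_ringEquiv {A B : Type u} [CommRing A] [CommRing B] (e : A ≃+* B)
    [ConnectedSpace (PrimeSpectrum A)] : ConnectedSpace (PrimeSpectrum B) :=
  (PrimeSpectrum.homeomorphOfRingEquiv e).surjective.connectedSpace
    (PrimeSpectrum.homeomorphOfRingEquiv e).continuous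

theorem irreducible_of_ringEquiv {A B : Type u} [CommRing A] [CommRing B] (e : A ≃+* B)
    [IrreducibleSpace (PrimeSpectrum A)] : IrreducibleSpace (PrimeSpectrum B) :=
  irreducible_of_injective e.symm.toRingHom e.symm.injective

theorem exists_finite_subextension {k Ω R : Type u} [Field k] [Field Ω] [Algebra k Ω]
    [Algebra.IsAlgebraic k Ω] [CommRing R] [Algebra k R] (z w : Ω ⊗[k] R) :
    ∃ E : IntermediateField k Ω, FiniteDimensional k E ∧
      z ∈ (Algebra.TensorProduct.map E.val (AlgHom.id k R)).range ∧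
      w ∈ (Algebra.TensorProduct.map E.val (AlgHom.id k R)).range := by
  classical
  obtain ⟨s, hs⟩ := TensorProduct.exists_finset z
  obtain ⟨t, ht⟩ := TensorProduct.exists_finset w
  let E := IntermediateField.adjoin k ((s.image Prod.fst ∪ t.image Prod.fst : Finset Ω) : Set Ω)
  refine ⟨E, IntermediateField.finiteDimensional_adjoin
    (fun x _ => Algebra.IsIntegral.isIntegral x), ?_, ?_⟩
  · rw [hs]
    exact sum_mem fun p hp => ⟨(⟨p.1, IntermediateField.subset_adjoin k _
      (by simpa using Or.inl ⟨p.2, hp⟩)⟩ : E) ⊗ₜ p.2, rfl⟩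
  · rw [ht]
    exact sum_mem fun p hp => ⟨(⟨p.1, IntermediateField.subset_adjoin k _
      (by simpa using Or.inr ⟨p.2, hp⟩)⟩ : E) ⊗ₜ p.2, rfl⟩

theorem nontrivial_tensor (k Ω R : Type u) [Field k] [Field Ω] [Algebra k Ω] [CommRing R]
    [Algebra k R] [Nontrivial R] : Nontrivial (Ω ⊗[k] R) :=
  (Algebra.TensorProduct.includeRight_injective (R := k) (A := Ω) (B := R)
    (algebraMap k Ω).injective).nontrivial

/-- Irreducibility passes to algebraic extensions from their finite subextensions. -/
theorem irreducible_of_algebraic {k Ω R : Type u} [Field k] [Field Ω] [Algebra k Ω]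
    [Algebra.IsAlgebraic k Ω] [CommRing R] [Algebra k R]
    (h : ∀ E : IntermediateField k Ω, FiniteDimensional k E →
      IrreducibleSpace (PrimeSpectrum (E ⊗[k] R))) :
    IrreducibleSpace (PrimeSpectrum (Ω ⊗[k] R)) := by
  rw [irreducibleSpace_iff_isPrime_nilradical]
  refine ⟨?_, fun {a b} hab => ?_⟩
  · obtain ⟨E, hE, -, -⟩ := exists_finite_subextension (0 : Ω ⊗[k] R) 0
    haveI := h E hE
    haveI : Nontrivial (E ⊗[k] R) := PrimeSpectrum.nonempty_iff_nontrivial.mp
      (inferInstance : Nonempty (PrimeSpectrum (E ⊗[k] R)))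
    haveI : Nontrivial (Ω ⊗[k] R) := (tensor_map_injective E.val E.val.toRingHom.injective
      (AlgHom.id k R) Function.injective_id).nontrivial
    rw [Ne, Ideal.eq_top_iff_one, mem_nilradical]
    exact fun h1 => not_isNilpotent_one h1
  · obtain ⟨E, hE, ⟨a, rfl⟩, ⟨b, rfl⟩⟩ := exists_finite_subextension a b
    have hP := irreducibleSpace_iff_isPrime_nilradical.mp (h E hE)
    rw [AlgHom.toRingHom_eq_coe, RingHom.coe_coe, ← map_mul, mem_nilradical,
      IsNilpotent.map_iff (tensor_map_injective E.val E.val.toRingHom.injective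
        (AlgHom.id k R) Function.injective_id), ← mem_nilradical] at hab
    exact (hP.mem_or_mem hab).imp (fun h => (mem_nilradical.mp h).map _)
      fun h => (mem_nilradical.mp h).map _

/-- Integrality passes to algebraic extensions from their finite subextensions. -/
theorem isDomain_of_algebraic {k Ω R : Type u} [Field k] [Field Ω] [Algebra k Ω]
    [Algebra.IsAlgebraic k Ω] [CommRing R] [Algebra k R]
    (h : ∀ E : IntermediateField k Ω, FiniteDimensional k E → IsDomain (E ⊗[k] R)) :
    IsDomain (Ω ⊗[k] R) := by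
  have hinj := fun E : IntermediateField k Ω =>
    tensor_map_injective E.val E.val.toRingHom.injective (AlgHom.id k R) Function.injective_id
  haveI : Nontrivial (Ω ⊗[k] R) := by
    obtain ⟨E, hE, -, -⟩ := exists_finite_subextension (0 : Ω ⊗[k] R) 0
    haveI := h E hE
    exact (hinj E).nontrivial
  haveI : NoZeroDivisors (Ω ⊗[k] R) := by
    constructor
    intro a b hab
    obtain ⟨E, hE, ⟨a, rfl⟩, ⟨b, rfl⟩⟩ := exists_finite_subextension a b
    haveI := h E hE
    rw [AlgHom.toRingHom_eq_coe, RingHom.coe_coe, ← map_mul] at hab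
    rcases mul_eq_zero.mp ((map_eq_zero_iff _ (hinj E)).mp hab) with h0 | h0
    · exact Or.inl (by rw [h0]; exact map_zero _)
    · exact Or.inr (by rw [h0]; exact map_zero _)
  exact NoZeroDivisors.to_isDomain _

/-- Over a separably closed field, irreducibility is stable under base field extension. -/
theorem irreducible_bc (k K L R : Type u) [Field k] [Field K] [IsSepClosed K] [Field L]
    [Algebra k K] [Algebra k L] [Algebra K L] [IsScalarTower k K L] [CommRing R] [Algebra k R]
    [IrreducibleSpace (PrimeSpectrum (K ⊗[k] R))] :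
    IrreducibleSpace (PrimeSpectrum (L ⊗[k] R)) := by
  haveI := sepClosed_tensor K L (K ⊗[k] R)
  exact irreducible_of_ringEquiv
    (Algebra.TensorProduct.cancelBaseChange k K L L R).toRingEquiv

end Groth.Agent.H20.GeomIrred
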