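import Groth.Agent.Lib.Goren.Basic
import Groth.Agent.Lib.Depth.Local
import Groth.Agent.Lib.Excellent.Transport
import Mathlib

/-!
# Linkage in codimension zero over a Gorenstein local ring
-/

universe u

open IsLocalRing

namespace Groth.Agent.H20.GorLinkage

variable {A : Type u} [CommRing A]

/-- Maximal Cohen–Macaulay cyclic quotient. -/
structure IsMCM [IsLocalRing A] (I : Ideal A) : Prop where
  dim : ringKrullDim (A ⧸ I) = ringKrullDim A
  cm : LocCoh.IsCohenMacaulayLocalRing (A ⧸ I)

variable [LocCoh.IsGorensteinLocalRing A] {I : Ideal A}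

theorem exists_dim (A : Type u) [CommRing A] [LocCoh.IsGorensteinLocalRing A] :
    ∃ d : ℕ, ringKrullDim A = d ∧ LocCoh.IsCohenMacaulayLocalRing A ∧
      LocCoh.depth A A = d ∧ (d = 0 → Module.Injective A A) := by
  obtain ⟨n, hn⟩ := Lib.Goren.Basic.isGorensteinLocalRing_iff.1 ‹_›
  obtain ⟨d, hd, -, hcm, hid⟩ := Lib.Goren.Basic.exists_dim hn
  refine ⟨d, hd, hcm, ?_, fun h0 => ?_⟩
  · have := Lib.Depth.CM.ringKrullDim_eq_depth (R := A)
    rw [hd] at this
    exact_mod_cast this.symm
  · subst h0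
    have : CategoryTheory.HasInjectiveDimensionLT (ModuleCat.of A A) 1 := hid
    exact (Module.injective_iff_injective_object A A).mpr inferInstance

omit [LocCoh.IsGorensteinLocalRing A] in
theorem withBot_cancel {a b : WithBot ℕ∞} (h : a + 1 = b + 1) : a = b := by
  cases a using WithBot.recBotCoe with
  | bot =>
    cases b using WithBot.recBotCoe with
    | bot => rfl
    | coe b => rw [WithBot.bot_add] at h; exact absurd h.symm (by exact WithBot.coe_ne_bot)
  | coe a =>
    cases b using WithBot.recBotCoe with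
    | bot => rw [WithBot.bot_add] at h; exact absurd h (by exact WithBot.coe_ne_bot)
    | coe b =>
      have h' : a + 1 = b + 1 := by exact_mod_cast h
      rw [WithBot.coe_inj]
      exact WithTop.add_right_inj (by exact ENat.one_ne_top) |>.1 h'

theorem isUnit_of_mk {B : Type u} [CommRing B] [IsLocalRing B] {K : Ideal B} (hK : K ≠ ⊤) {r : B}
    (h : IsUnit (Ideal.Quotient.mk K r)) : IsUnit r := by
  obtain ⟨s, hs⟩ := h.exists_right_inv
  obtain ⟨s, rfl⟩ := Ideal.Quotient.mk_surjective s
  by_contra hr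
  rw [← map_mul, ← map_one (Ideal.Quotient.mk K), Ideal.Quotient.eq] at hs
  have h1 : r * s - 1 ∈ maximalIdeal B := IsLocalRing.le_maximalIdeal hK hs
  have h2 : r * s ∈ maximalIdeal B := Ideal.mul_mem_right _ _ hr
  exact (maximalIdeal B).ne_top_iff_one.1 (maximalIdeal.isMaximal B).ne_top
    (by simpa using sub_mem h2 h1)

theorem ne_top (hI : IsMCM I) : I ≠ ⊤ := by
  have := hI.cm
  exact fun h => not_subsingleton (A ⧸ I) (Ideal.Quotient.subsingleton_iff.2 h)

/-- An `A`-regular element of `𝔪` is regular on a maximal Cohen–Macaulay quotient. -/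
theorem regular_of_regular (hI : IsMCM I) {x : A} (hx : x ∈ maximalIdeal A) (hreg : IsSMulRegular A x) :
    IsSMulRegular (A ⧸ I) x := by
  have := hI.cm
  by_contra hnreg
  have hmem : x ∈ {r : A | IsSMulRegular (A ⧸ I) r}ᶜ := hnreg
  rw [← biUnion_associatedPrimes_eq_compl_regular A (A ⧸ I)] at hmem
  obtain ⟨p, hp, hxp⟩ := Set.mem_iUnion₂.1 hmem
  have hCM : LocCoh.IsCohenMacaulayModule A (A ⧸ I) :=
    (Lib.Depth.CM.isCohenMacaulayLocalRing_quotient_iff_module I).1 hI.cm
  have h1 := Lib.Depth.CM.ringKrullDim_quotient_eq hCM hp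
  rw [Module.supportDim_quotient_eq_ringKrullDim, hI.dim] at h1
  have h2 := ringKrullDim_quotient_span_singleton_succ_eq_ringKrullDim hreg hx
  have h3 : ringKrullDim (A ⧸ p) ≤ ringKrullDim (A ⧸ Ideal.span {x}) :=
    ringKrullDim_le_of_surjective (Ideal.Quotient.factor (Ideal.span_le.2 (by simpa using hxp)))
      (Ideal.Quotient.factor_surjective _)
  obtain ⟨d, hd, -⟩ := exists_dim A
  rw [h1, ← h2] at h3
  cases hb : ringKrullDim (A ⧸ Ideal.span {x}) using WithBot.recBotCoe with
  | bot => rw [hb, WithBot.bot_add, hd] at h2; exact WithBot.natCast_ne_bot d h2.symm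
  | coe a =>
    rw [hb] at h2 h3
    have ha : a ≠ ⊤ := fun h => by
      subst h
      rw [hd] at h2
      norm_cast at h2
    obtain ⟨a, rfl⟩ := ENat.ne_top_iff_exists.1 ha
    norm_cast at h3
    omega

theorem isMCM_quotient (hI : IsMCM I) {x : A} (hx : x ∈ maximalIdeal A) (hreg : IsSMulRegular A x) :
    haveI := Lib.Goren.Basic.isLocalRing_quotient_span hx
    IsMCM (I.map (Ideal.Quotient.mk (Ideal.span {x}))) := by
  haveI := Lib.Goren.Basic.isLocalRing_quotient_span hx
  have := hI.cm
  have hreg' : IsSMulRegular (A ⧸ I) (Ideal.Quotient.mk I x) := fun a b h =>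
    regular_of_regular hI hx hreg (by
      simpa only [← Ideal.Quotient.algebraMap_eq, ← Algebra.smul_def, smul_eq_mul] using h)
  have hx' : Ideal.Quotient.mk I x ∈ maximalIdeal (A ⧸ I) := fun hu =>
    hx (isUnit_of_mk (ne_top hI) hu)
  haveI := Lib.Goren.Basic.isLocalRing_quotient_span hx'
  let e : ((A ⧸ Ideal.span {x}) ⧸ I.map (Ideal.Quotient.mk (Ideal.span {x}))) ≃+*
      ((A ⧸ I) ⧸ Ideal.span {Ideal.Quotient.mk I x}) :=
    (DoubleQuot.quotQuotEquivQuotSup _ _).trans <| (Ideal.quotEquivOfEq (sup_comm _ _)).trans <|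
      (DoubleQuot.quotQuotEquivQuotSup _ _).symm.trans
        (Ideal.quotEquivOfEq (by rw [Ideal.map_span, Set.image_singleton]))
  haveI := (Lib.Depth.CM.isCohenMacaulayLocalRing_quotient_span_singleton_iff hx' hreg').2 hI.cm
  refine ⟨?_, Lib.Excellent.Transport.isCohenMacaulayLocalRing_of_ringEquiv e.symm⟩
  have h1 := ringKrullDim_quotient_span_singleton_succ_eq_ringKrullDim hreg' hx'
  rw [hI.dim, ← ringKrullDim_quotient_span_singleton_succ_eq_ringKrullDim hreg hx] at h1
  rw [ringKrullDim_eq_of_ringEquiv e]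
  exact withBot_cancel h1

/-- Maps from a maximal Cohen–Macaulay linked ideal to the ring are multiplications. -/
theorem extend : ∀ (d : ℕ) (A : Type u) [CommRing A] [LocCoh.IsGorensteinLocalRing A] (I : Ideal A),
    ringKrullDim A = d → IsMCM I → ∀ φ : I →ₗ[A] A, ∃ b : A, ∀ i : I, φ i = (i : A) * b := by
  intro d
  induction d with
  | zero =>
    intro A _ _ I hd _ φ
    obtain ⟨d', hd', -, -, hinj⟩ := exists_dim A
    obtain rfl : d' = 0 := by rw [hd] at hd'; exact_mod_cast hd'.symm
    have := hinj rfl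
    obtain ⟨ψ, hψ⟩ := Module.Injective.out (Q := A) I.subtype I.injective_subtype φ
    refine ⟨ψ 1, fun i => ?_⟩
    rw [← hψ i, ← smul_eq_mul, ← map_smul, smul_eq_mul, mul_one]
    rfl
  | succ d ih =>
    intro A _ _ I hd hI φ
    obtain ⟨d', hd', hcm, hdep, -⟩ := exists_dim A
    obtain rfl : d' = d + 1 := by rw [hd] at hd'; exact_mod_cast hd'.symm
    obtain ⟨x, hx, hreg, -, -⟩ := Lib.Depth.Local.exists_regular_of_idealDepth_eq_succ (n := d)
      (by exact_mod_cast hdep)
    haveI := Lib.Goren.Basic.isLocalRing_quotient_span hx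
    haveI := (Lib.Goren.Basic.isGorensteinLocalRing_quotient_iff hx hreg).1 ‹_›
    set q := Ideal.Quotient.mk (Ideal.span {x})
    have hd1 : ringKrullDim (A ⧸ Ideal.span {x}) = d := by
      have h1 := ringKrullDim_quotient_span_singleton_succ_eq_ringKrullDim hreg hx
      rw [hd] at h1
      exact withBot_cancel (by rw [h1]; norm_cast)
    have hIA := regular_of_regular hI hx hreg
    let mulMap : A →ₗ[A] (I →ₗ[A] A) := (LinearMap.lcomp A A I.subtype).comp (LinearMap.lsmul A A)
    suffices htop : (LinearMap.range mulMap) = ⊤ by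
      obtain ⟨b, hb⟩ := LinearMap.range_eq_top.1 htop φ
      exact ⟨b, fun i => by rw [← hb]; simp [mulMap, mul_comm]⟩
    refine top_le_iff.1 (Submodule.le_of_le_smul_of_le_jacobson_bot (I := Ideal.span {x})
      Module.Finite.fg_top (by rw [IsLocalRing.jacobson_eq_maximalIdeal ⊥ bot_ne_top,
        Ideal.span_singleton_le_iff_mem]; exact hx) ?_)
    intro ψ _
    -- the reduction of `ψ`
    have hker : ∀ i : I, q (i : A) = 0 → q (ψ i) = 0 := fun i hi => by
      obtain ⟨a, ha⟩ := Ideal.mem_span_singleton'.1 (Ideal.Quotient.eq_zero_iff_mem.1 hi)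
      have haI : a ∈ I := by
        rw [← Ideal.Quotient.eq_zero_iff_mem]
        apply hIA
        simp only [smul_zero]
        rw [Algebra.smul_def, Ideal.Quotient.algebraMap_eq, ← map_mul, mul_comm, ha]
        exact Ideal.Quotient.eq_zero_iff_mem.2 i.2
      have : i = x • (⟨a, haI⟩ : I) := Subtype.ext (by simp [← ha, mul_comm])
      rw [this, map_smul, smul_eq_mul, map_mul, show q x = 0 from
        Ideal.Quotient.eq_zero_iff_mem.2 (Ideal.mem_span_singleton_self x), zero_mul]
    set I' := I.map q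
    have hlift : ∀ y : I', ∃ i : I, q (i : A) = y := fun y => by
      obtain ⟨i, hi, h⟩ := (Ideal.mem_map_iff_of_surjective q Ideal.Quotient.mk_surjective).1 y.2
      exact ⟨⟨i, hi⟩, h⟩
    choose L hL using hlift
    have hwd : ∀ (y : I') (i : I), q (i : A) = y → q (ψ i) = q (ψ (L y)) := fun y i hi => by
      rw [← sub_eq_zero, ← map_sub, ← map_sub]
      exact hker _ (by rw [Submodule.coe_sub, map_sub, hi, hL, sub_self])
    let φ' : I' →ₗ[A ⧸ Ideal.span {x}] (A ⧸ Ideal.span {x}) :=
      { toFun := fun y => q (ψ (L y))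
        map_add' := fun y z => by
          rw [← hwd (y + z) (L y + L z) (by rw [Submodule.coe_add, map_add, hL, hL]; rfl), map_add, map_add]
        map_smul' := fun c y => by
          obtain ⟨c, rfl⟩ := Ideal.Quotient.mk_surjective c
          rw [← hwd (Ideal.Quotient.mk _ c • y) (c • L y) (by simp [q, hL]), map_smul,
            smul_eq_mul, map_mul]
          rfl }
    obtain ⟨b, hb⟩ := ih (A ⧸ Ideal.span {x}) I' hd1 (isMCM_quotient hI hx hreg) φ'
    obtain ⟨b, rfl⟩ := Ideal.Quotient.mk_surjective b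
    have hdiv : ∀ i : I, ∃ c : A, x * c = ψ i - (i : A) * b := fun i => by
      have h1 := hb ⟨q i, Ideal.mem_map_of_mem q i.2⟩
      simp only [φ', LinearMap.coe_mk, AddHom.coe_mk] at h1
      rw [← hwd _ i rfl] at h1
      have h2 : q (ψ i - (i : A) * b) = 0 := by rw [map_sub, map_mul, h1, sub_self]
      obtain ⟨c, hc⟩ := Ideal.mem_span_singleton'.1 (Ideal.Quotient.eq_zero_iff_mem.1 h2)
      exact ⟨c, by rw [mul_comm, hc]⟩
    choose c hc using hdiv
    let ψ1 : I →ₗ[A] A :=
      { toFun := c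
        map_add' := fun i j => hreg (by
          simp only [smul_eq_mul, mul_add, hc, map_add, Submodule.coe_add]; ring)
        map_smul' := fun a i => hreg (by
          simp only [smul_eq_mul, RingHom.id_apply, hc, map_smul, Submodule.coe_smul_of_tower]
          rw [mul_left_comm, hc]; ring) }
    refine Submodule.mem_sup.2 ⟨mulMap b, ⟨b, rfl⟩, x • ψ1,
      Submodule.smul_mem_smul (Ideal.mem_span_singleton_self x) Submodule.mem_top,
      LinearMap.ext fun i => ?_⟩
    simp [mulMap, ψ1, hc]
    ring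

/-- One regular element. -/
theorem colon_single (hI : IsMCM I) {x : A} (hx : x ∈ maximalIdeal A) (hreg : IsSMulRegular A x)
    {a : A} (ha : ∀ i ∈ I, a * i ∈ Ideal.span {x}) :
    a ∈ Submodule.annihilator I ⊔ Ideal.span {x} := by
  choose c hc using fun i : I => Ideal.mem_span_singleton'.1 (ha i i.2)
  let φ : I →ₗ[A] A :=
    { toFun := c
      map_add' := fun i j => hreg (by
        simp only [smul_eq_mul]
        rw [mul_add, mul_comm x, mul_comm x, mul_comm x, hc, hc, hc, Submodule.coe_add, mul_add])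
      map_smul' := fun r i => hreg (by
        simp only [smul_eq_mul, RingHom.id_apply]
        rw [mul_comm x, hc, mul_comm x, mul_assoc, hc]
        simp only [Submodule.coe_smul_of_tower, smul_eq_mul]
        ring) }
  obtain ⟨d, hd, -⟩ := exists_dim A
  obtain ⟨b, hb⟩ := extend d A I hd hI φ
  rw [← sub_add_cancel a (b * x)]
  refine Submodule.add_mem_sup ?_ (Ideal.mem_span_singleton'.2 ⟨b, rfl⟩)
  rw [Submodule.mem_annihilator]
  intro i hi
  have h1 : c ⟨i, hi⟩ = i * b := hb ⟨i, hi⟩
  rw [smul_eq_mul, sub_mul, sub_eq_zero, ← hc ⟨i, hi⟩, h1]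
  ring

theorem mem_annihilator_of_mul (hI : IsMCM I) {x : A} (hreg : IsSMulRegular A x) {a : A}
    (ha : x * a ∈ Submodule.annihilator I) : a ∈ Submodule.annihilator I := by
  rw [Submodule.mem_annihilator] at ha ⊢
  exact fun i hi => hreg (by simpa [mul_assoc] using ha i hi)

theorem annihilator_map (hI : IsMCM I) {x : A} (hx : x ∈ maximalIdeal A) (hreg : IsSMulRegular A x) :
    Submodule.annihilator (I.map (Ideal.Quotient.mk (Ideal.span {x}))) =
      (Submodule.annihilator I).map (Ideal.Quotient.mk (Ideal.span {x})) := by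
  set q := Ideal.Quotient.mk (Ideal.span {x})
  refine le_antisymm (fun y hy => ?_) (Ideal.map_le_iff_le_comap.2 fun a ha => ?_)
  · obtain ⟨a, rfl⟩ := Ideal.Quotient.mk_surjective y
    rw [Submodule.mem_annihilator] at hy
    have := colon_single hI hx hreg (a := a) fun i hi => by
      rw [← Ideal.Quotient.eq_zero_iff_mem, map_mul]
      exact hy _ (Ideal.mem_map_of_mem q hi)
    obtain ⟨j, hj, z, hz, rfl⟩ := Submodule.mem_sup.1 this
    rw [map_add, Ideal.Quotient.eq_zero_iff_mem.2 hz, add_zero]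
    exact Ideal.mem_map_of_mem q hj
  · rw [Ideal.mem_comap, Submodule.mem_annihilator]
    intro y hy
    obtain ⟨i, hi, rfl⟩ := (Ideal.mem_map_iff_of_surjective q Ideal.Quotient.mk_surjective).1 hy
    rw [smul_eq_mul, ← map_mul, show a * i = 0 from Submodule.mem_annihilator.1 ha i hi, map_zero]

set_option maxHeartbeats 1000000 in
/-- The statement for regular sequences. -/
theorem sequence : ∀ (rs : List A) (I : Ideal A), IsMCM I → (∀ r ∈ rs, r ∈ maximalIdeal A) →
    RingTheory.Sequence.IsWeaklyRegular A rs →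
    ((∀ a : A, (∀ i ∈ I, a * i ∈ Ideal.ofList rs) → a ∈ Submodule.annihilator I ⊔ Ideal.ofList rs) ∧
      Submodule.annihilator I ⊓ Ideal.ofList rs ≤ Ideal.ofList rs * Submodule.annihilator I) ∧
    RingTheory.Sequence.IsWeaklyRegular (A ⧸ Submodule.annihilator I) rs ∧
    RingTheory.Sequence.IsWeaklyRegular (A ⧸ I) rs := by
  intro rs
  induction hn : rs.length generalizing A rs with
  | zero =>
    intro I _ _ _
    obtain rfl := List.eq_nil_of_length_eq_zero hn
    refine ⟨⟨fun a ha => ?_, by simp⟩, by simp, by simp⟩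
    simp only [Ideal.ofList_nil, Ideal.mem_bot, sup_bot_eq, Submodule.mem_annihilator, smul_eq_mul] at ha ⊢
    exact ha
  | succ n ih =>
    intro I hI hmem hweak
    obtain ⟨x, rs, rfl⟩ := List.exists_cons_of_length_eq_add_one hn
    rw [RingTheory.Sequence.isWeaklyRegular_cons_iff] at hweak
    obtain ⟨hreg, hrest⟩ := hweak
    have hx := hmem x List.mem_cons_self
    haveI := Lib.Goren.Basic.isLocalRing_quotient_span hx
    haveI := (Lib.Goren.Basic.isGorensteinLocalRing_quotient_iff hx hreg).1 ‹_›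
    set q := Ideal.Quotient.mk (Ideal.span {x})
    have hquot : ∀ (K : Ideal A), Ideal.span {x} ≤ K → ∀ a, q a ∈ K.map q ↔ a ∈ K := fun K hK a => by
      rw [← Ideal.mem_comap, Ideal.comap_map_of_surjective q Ideal.Quotient.mk_surjective,
        ← RingHom.ker_eq_comap_bot, Ideal.mk_ker, sup_eq_left.2 hK]
    have hmap : (rs.map q).length = n := by simpa using hn
    have hrest' : RingTheory.Sequence.IsWeaklyRegular (A ⧸ Ideal.span {x}) (rs.map q) :=
      (RingTheory.Sequence.isWeaklyRegular_map_algebraMap_iff (A ⧸ Ideal.span {x}) _ rs).2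
        (((Submodule.quotEquivOfEq _ _ (by
          rw [← Submodule.ideal_span_singleton_smul, smul_eq_mul, Ideal.mul_top])) :
            QuotSMulTop x A ≃ₗ[A] A ⧸ Ideal.span {x}).isWeaklyRegular_congr rs |>.1 hrest)
    obtain ⟨⟨hc, hint⟩, hJ, hI'⟩ := ih (A := A ⧸ Ideal.span {x}) (rs.map q) hmap (I.map q)
      (isMCM_quotient hI hx hreg) (fun r hr => by
        obtain ⟨r, hr', rfl⟩ := List.mem_map.1 hr
        exact fun hu => hmem r (List.mem_cons_of_mem _ hr') (isUnit_of_mk
          (fun h => hx (Ideal.span_singleton_eq_top.1 h)) hu)) hrest'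
    rw [annihilator_map hI hx hreg] at hc hint hJ
    set J := Submodule.annihilator I
    have hof : Ideal.ofList (x :: rs) = Ideal.span {x} ⊔ Ideal.ofList rs := Ideal.ofList_cons x rs
    have hmapof : (Ideal.ofList (x :: rs)).map q = Ideal.ofList (rs.map q) := by
      rw [hof, Ideal.map_sup, Ideal.map_quotient_self, bot_sup_eq, Ideal.map_ofList]
    have hle : Ideal.span {x} ≤ Ideal.ofList (x :: rs) := hof ▸ le_sup_left
    refine ⟨⟨fun a ha => ?_, fun a ha => ?_⟩, ?_, ?_⟩
    · have h1 : q a ∈ J.map q ⊔ Ideal.ofList (rs.map q) := hc (q a) fun y hy => by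
        obtain ⟨i, hi, rfl⟩ := (Ideal.mem_map_iff_of_surjective q Ideal.Quotient.mk_surjective).1 hy
        rw [← map_mul, ← hmapof]
        exact Ideal.mem_map_of_mem q (ha i hi)
      rw [← hmapof, ← Ideal.map_sup] at h1
      exact (hquot _ (hle.trans le_sup_right) a).1 h1
    · obtain ⟨haJ, hao⟩ := ha
      have h1 : q a ∈ Ideal.ofList (rs.map q) * J.map q :=
        hint ⟨Ideal.mem_map_of_mem q haJ, hmapof ▸ Ideal.mem_map_of_mem q hao⟩
      rw [← Ideal.map_ofList, ← Ideal.map_mul, Ideal.mem_map_iff_of_surjective q Ideal.Quotient.mk_surjective] at h1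
      obtain ⟨j, hj, hja⟩ := h1
      obtain ⟨b, hb⟩ := Ideal.mem_span_singleton'.1 ((Ideal.Quotient.eq).1 hja.symm)
      have hjJ : j ∈ J := Ideal.mul_le_right (I := Ideal.ofList rs) (J := J) hj
      have hbJ : b ∈ J := mem_annihilator_of_mul hI hreg (by rw [mul_comm, hb]; exact sub_mem haJ hjJ)
      rw [← sub_add_cancel a j, ← hb, hof, Ideal.sup_mul]
      exact Submodule.add_mem_sup (by
        rw [mul_comm b x]; exact Ideal.mul_mem_mul (Ideal.mem_span_singleton_self x) hbJ) hj
    all_goals rw [RingTheory.Sequence.isWeaklyRegular_cons_iff]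
    · refine ⟨fun a b h => ?_, ?_⟩
      · obtain ⟨a, rfl⟩ := Ideal.Quotient.mk_surjective a
        obtain ⟨b, rfl⟩ := Ideal.Quotient.mk_surjective b
        simp only [Algebra.smul_def, Ideal.Quotient.algebraMap_eq, ← map_mul] at h
        rw [Ideal.Quotient.eq, ← mul_sub] at h
        exact Ideal.Quotient.eq.2 (mem_annihilator_of_mul hI hreg h)
      · exact ((quotEquiv x J).isWeaklyRegular_congr rs).2
          ((RingTheory.Sequence.isWeaklyRegular_map_algebraMap_iff (A ⧸ Ideal.span {x}) _ rs).1 hJ)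
    · refine ⟨regular_of_regular hI hx hreg, ?_⟩
      exact ((quotEquiv x I).isWeaklyRegular_congr rs).2
        ((RingTheory.Sequence.isWeaklyRegular_map_algebraMap_iff (A ⧸ Ideal.span {x}) _ rs).1 hI')
where
  /-- `(A/K)/x = (A/x)/K`. -/
  quotEquiv {A : Type u} [CommRing A] (x : A) (K : Ideal A) :
      QuotSMulTop x (A ⧸ K) ≃ₗ[A] (A ⧸ Ideal.span {x}) ⧸ K.map (Ideal.Quotient.mk (Ideal.span {x})) :=
    (Submodule.quotEquivOfEq _ ((Ideal.span {x}).map (Ideal.Quotient.mk K) |>.restrictScalars A) (by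
      ext y
      obtain ⟨y, rfl⟩ := Ideal.Quotient.mk_surjective y
      rw [Submodule.restrictScalars_mem, Submodule.mem_smul_pointwise_iff_exists,
        Ideal.map_span, Set.image_singleton, Ideal.mem_span_singleton']
      constructor
      · rintro ⟨b, -, hb⟩
        exact ⟨b, by rw [← hb, Algebra.smul_def, mul_comm]; rfl⟩
      · rintro ⟨b, hb⟩
        exact ⟨b, trivial, by rw [← hb, Algebra.smul_def, mul_comm]; rfl⟩)).trans <|
    ((Submodule.Quotient.restrictScalarsEquiv A _).trans
      ((DoubleQuot.quotQuotEquivCommₐ A K (Ideal.span {x})).toLinearEquiv))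

end Groth.Agent.H20.GorLinkage
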