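import Groth.Agent.H20.Descent
import Mathlib.Algebra.Category.Ring.Under.Basic
import Mathlib.CategoryTheory.Filtered.Basic
import Mathlib.CategoryTheory.Limits.IsLimit

/-!
Algebras as filtered colimits in `Under R`.
-/

universe u

open CategoryTheory CategoryTheory.Limits

namespace Groth.Agent.H20.IndPresentation

variable {R A : Type u} [CommRing R] [CommRing A] [Algebra R A] {ι : Type u} [Preorder ι]
  (P : ι → Type u) [∀ i, CommRing (P i)] [∀ i, Algebra R (P i)]
  (f : ∀ i j, i ≤ j → (P i →ₐ[R] P j)) (hf₁ : ∀ i x, f i i le_rfl x = x)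
  (hf₂ : ∀ i j k (h : i ≤ j) (h' : j ≤ k) x, f j k h' (f i j h x) = f i k (h.trans h') x)
  (g : ∀ i, P i →ₐ[R] A) (hg : ∀ i j (h : i ≤ j) x, g j (f i j h x) = g i x)

/-- The diagram. -/
noncomputable def diagram : ι ⥤ Under (CommRingCat.of R) where
  obj i := Under.mk (CommRingCat.ofHom (algebraMap R (P i)))
  map {i j} h := Under.homMk (CommRingCat.ofHom (f i j (leOfHom h)).toRingHom)
    (CommRingCat.hom_ext (RingHom.ext fun r => (f i j (leOfHom h)).commutes r))
  map_id i := by
    ext x
    exact hf₁ i x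
  map_comp {i j k} h h' := by
    ext x
    exact (hf₂ i j k (leOfHom h) (leOfHom h') x).symm

/-- The cocone. -/
noncomputable def cocone : Cocone (diagram P f hf₁ hf₂) where
  pt := Under.mk (CommRingCat.ofHom (algebraMap R A))
  ι :=
    { app := fun i => Under.homMk (CommRingCat.ofHom (g i).toRingHom)
        (CommRingCat.hom_ext (RingHom.ext fun r => (g i).commutes r))
      naturality := fun i j h => by
        ext x
        exact hg i j (leOfHom h) x }

theorem exists_common [IsDirectedOrder ι] (s : Cocone (diagram P f hf₁ hf₂)) {i j : ι} (x : P i)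
    (y : P j) (hker : ∀ i x, g i x = 0 → ∃ j, ∃ h : i ≤ j, f i j h x = 0)
    (hg : ∀ i j (h : i ≤ j) x, g j (f i j h x) = g i x) (hxy : g i x = g j y) :
    (s.ι.app i).right.hom x = (s.ι.app j).right.hom y := by
  obtain ⟨k, hi, hj⟩ := exists_ge_ge i j
  obtain ⟨l, hl, h0⟩ := hker k (f i k hi x - f j k hj y)
    (by rw [map_sub, hg, hg, hxy, sub_self])
  rw [map_sub, sub_eq_zero, hf₂, hf₂] at h0
  have hx : (s.ι.app l).right.hom (f i l (hi.trans hl) x) = (s.ι.app i).right.hom x :=
    congrArg (fun m : (diagram P f hf₁ hf₂).obj i ⟶ s.pt => m.right.hom x)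
      (s.w (homOfLE (hi.trans hl)))
  have hy : (s.ι.app l).right.hom (f j l (hj.trans hl) y) = (s.ι.app j).right.hom y :=
    congrArg (fun m : (diagram P f hf₁ hf₂).obj j ⟶ s.pt => m.right.hom y)
      (s.w (homOfLE (hj.trans hl)))
  rw [← hx, ← hy, h0]

/-- A leg of a cocone, as a ring map. -/
noncomputable def leg (s : Cocone (diagram P f hf₁ hf₂)) (i : ι) : P i →+* s.pt.right :=
  (s.ι.app i).right.hom

theorem exists_isColimit [IsDirectedOrder ι] [Nonempty ι]
    (hsurj : ∀ a : A, ∃ i, ∃ x : P i, g i x = a)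
    (hker : ∀ i x, g i x = 0 → ∃ j, ∃ h : i ≤ j, f i j h x = 0) :
    Nonempty (IsColimit (cocone P f hf₁ hf₂ g hg)) := by
  choose idx rep hrep using hsurj
  have key : ∀ (s : Cocone (diagram P f hf₁ hf₂)) (i : ι) (x : P i),
      leg P f hf₁ hf₂ s (idx (g i x)) (rep (g i x)) = leg P f hf₁ hf₂ s i x :=
    fun s i x => exists_common P f hf₁ hf₂ g s _ _ hker hg (hrep _)
  have key' : ∀ (s : Cocone (diagram P f hf₁ hf₂)) (i : ι) (x : P i) (a : A), g i x = a →
      leg P f hf₁ hf₂ s (idx a) (rep a) = leg P f hf₁ hf₂ s i x := by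
    rintro s i x a rfl
    exact key s i x
  let d : ∀ s : Cocone (diagram P f hf₁ hf₂), A →+* s.pt.right := fun s =>
    { toFun := fun a => leg P f hf₁ hf₂ s (idx a) (rep a)
      map_one' := by
        obtain ⟨i⟩ := ‹Nonempty ι›
        have := key s i 1
        rw [map_one] at this
        exact this.trans (map_one _)
      map_zero' := by
        obtain ⟨i⟩ := ‹Nonempty ι›
        have := key s i 0
        rw [map_zero] at this
        exact this.trans (map_zero _)
      map_mul' := fun a b => by
        obtain ⟨k, ha, hb⟩ := exists_ge_ge (idx a) (idx b)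
        rw [key' s k (f _ k ha (rep a) * f _ k hb (rep b)) _ (by rw [map_mul, hg, hg, hrep, hrep]),
          key' s k (f _ k ha (rep a)) a (by rw [hg, hrep]),
          key' s k (f _ k hb (rep b)) b (by rw [hg, hrep]), map_mul]
      map_add' := fun a b => by
        obtain ⟨k, ha, hb⟩ := exists_ge_ge (idx a) (idx b)
        rw [key' s k (f _ k ha (rep a) + f _ k hb (rep b)) _ (by rw [map_add, hg, hg, hrep, hrep]),
          key' s k (f _ k ha (rep a)) a (by rw [hg, hrep]),
          key' s k (f _ k hb (rep b)) b (by rw [hg, hrep]), map_add] }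
  refine ⟨{ desc := fun s => Under.homMk (CommRingCat.ofHom (d s)) ?_, fac := fun s i => ?_,
            uniq := fun s m hm => ?_ }⟩
  · refine CommRingCat.hom_ext (RingHom.ext fun r => ?_)
    obtain ⟨i⟩ := ‹Nonempty ι›
    have h1 := key s i (algebraMap R (P i) r)
    rw [AlgHom.commutes] at h1
    exact h1.trans (congrArg (fun m : CommRingCat.of R ⟶ s.pt.right => m.hom r)
      (Under.w (s.ι.app i)))
  · ext x
    exact key s i x
  · ext a
    have := congrArg (fun m : (diagram P f hf₁ hf₂).obj (idx a) ⟶ s.pt => m.right.hom (rep a))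
      (hm (idx a))
    refine Eq.trans ?_ this
    exact congrArg m.right.hom (hrep a).symm

end Groth.Agent.H20.IndPresentation
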