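import Mathlib.RingTheory.Spectrum.Prime.ConstructibleSet
import Mathlib.RingTheory.Spectrum.Prime.Jacobson
import Mathlib.RingTheory.Jacobson.Ring
import Mathlib.RingTheory.FiniteType

/-!
Images of constructible sets and closed points.
-/

universe u v

namespace Groth.Agent.H20.JacobsonImage

open PrimeSpectrum Topology

variable {R : Type u} {S : Type v} [CommRing R] [CommRing S]

theorem isLocallyClosed_toSet (C : BasicConstructibleSetData R) : IsLocallyClosed C.toSet := by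
  rw [BasicConstructibleSetData.toSet, sdiff_eq]
  exact (isClosed_zeroLocus _).isLocallyClosed.inter
    (isClosed_zeroLocus _).isOpen_compl.isLocallyClosed

theorem isClosed_of_closed_in [IsJacobsonRing R] {E : Set (PrimeSpectrum R)}
    (hE : IsConstructible E) {y : PrimeSpectrum R} (hy : y ∈ E) (h : closure {y} ∩ E = {y}) :
    IsClosed ({y} : Set (PrimeSpectrum R)) := by
  obtain ⟨D, rfl⟩ := exists_constructibleSetData_iff.mpr hE
  obtain ⟨C, hC, hyC⟩ := Set.mem_iUnion₂.mp hy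
  refine isClosed_singleton_of_isLocallyClosed_singleton ?_
  have : closure {y} ∩ C.toSet = {y} := by
    refine subset_antisymm ?_ (Set.singleton_subset_iff.mpr ⟨subset_closure rfl, hyC⟩)
    exact fun z ⟨hz, hzC⟩ => h.subset ⟨hz, Set.mem_iUnion₂.mpr ⟨C, hC, hzC⟩⟩
  rw [← this]
  exact isClosed_closure.isLocallyClosed.inter (isLocallyClosed_toSet C)

theorem closed_in_iff [IsJacobsonRing R] {E : Set (PrimeSpectrum R)} (hE : IsConstructible E)
    (y : PrimeSpectrum R) :
    (y ∈ E ∧ closure {y} ∩ E = {y}) ↔ IsClosed ({y} : Set (PrimeSpectrum R)) ∧ y ∈ E := by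
  refine ⟨fun h => ⟨isClosed_of_closed_in hE h.1 h.2, h.1⟩, fun h => ⟨h.2, ?_⟩⟩
  rw [h.1.closure_eq, Set.singleton_inter_of_mem h.2]

variable [Algebra R S]

theorem isClosed_comap [IsJacobsonRing R] [Algebra.FiniteType R S] {y : PrimeSpectrum S}
    (hy : IsClosed ({y} : Set (PrimeSpectrum S))) :
    IsClosed ({comap (algebraMap R S) y} : Set (PrimeSpectrum R)) := by
  rw [isClosed_singleton_iff_isMaximal] at hy ⊢
  have : Module.Finite R (S ⧸ y.asIdeal) := by
    let := Ideal.Quotient.field y.asIdeal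
    exact finite_of_finite_type_of_isJacobsonRing R (S ⧸ y.asIdeal)
  have hbot : (⊥ : Ideal (S ⧸ y.asIdeal)).IsMaximal := by
    let := Ideal.Quotient.field y.asIdeal
    exact Ideal.bot_isMaximal
  have := Ideal.isMaximal_comap_of_isIntegral_of_isMaximal (R := R)
    (⊥ : Ideal (S ⧸ y.asIdeal)) (hI := hbot)
  change (((⊥ : Ideal (S ⧸ y.asIdeal)).comap (Ideal.Quotient.mk y.asIdeal)).comap
    (algebraMap R S)).IsMaximal at this
  rw [← RingHom.ker_eq_comap_bot, Ideal.mk_ker] at this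
  exact this

theorem exists_closed_lift [IsJacobsonRing S] {E : Set (PrimeSpectrum S)} (hE : IsConstructible E)
    {x : PrimeSpectrum R} (hx : IsClosed ({x} : Set (PrimeSpectrum R)))
    (hxE : x ∈ comap (algebraMap R S) '' E) :
    ∃ y ∈ E, IsClosed ({y} : Set (PrimeSpectrum S)) ∧ comap (algebraMap R S) y = x := by
  obtain ⟨y₀, hy₀, rfl⟩ := hxE
  obtain ⟨D, rfl⟩ := exists_constructibleSetData_iff.mpr hE
  obtain ⟨C, hC, hyC⟩ := Set.mem_iUnion₂.mp hy₀
  obtain ⟨y, ⟨hy, hyx⟩, hyc⟩ := nonempty_inter_closedPoints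
    (Z := C.toSet ∩ comap (algebraMap R S) ⁻¹' {comap (algebraMap R S) y₀})
    ⟨y₀, hyC, rfl⟩ ((isLocallyClosed_toSet C).inter
      (hx.preimage (continuous_comap _)).isLocallyClosed)
  exact ⟨y, Set.mem_iUnion₂.mpr ⟨C, hC, hy⟩, hyc, hyx⟩

theorem notMem_closure {E : Set (PrimeSpectrum S)} (hE : IsConstructible E) {ξ : PrimeSpectrum R}
    (hξ : ξ ∉ comap (algebraMap R S) '' E) :
    ξ ∉ closure (closure {ξ} ∩ comap (algebraMap R S) '' E) := by
  obtain ⟨D, rfl⟩ := exists_constructibleSetData_iff.mpr hE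
  rw [ConstructibleSetData.toSet, Set.image_iUnion₂, Set.inter_iUnion₂,
    Finset.closure_biUnion]
  simp only [Set.mem_iUnion, not_exists]
  intro C hC
  let f := C.f
  let I : Ideal S := Ideal.span (Set.range C.g) ⊔ ξ.asIdeal.map (algebraMap R S)
  let M : Submonoid S := ξ.asIdeal.primeCompl.map (algebraMap R S : R →* S) ⊔ Submonoid.powers f
  obtain ⟨x, hxI, hxM⟩ : ∃ x, x ∈ I ∧ x ∈ M := by
    by_contra! hno
    obtain ⟨q, hq, hIq, hqd⟩ := Ideal.exists_le_prime_disjoint I M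
      (Set.disjoint_left.mpr fun x hx hx' => hno x hx hx')
    refine hξ ⟨⟨q, hq⟩, Set.mem_iUnion₂.mpr ⟨C, hC, ?_, ?_⟩, PrimeSpectrum.ext ?_⟩
    · exact fun z hz => hIq (Ideal.mem_sup_left (Ideal.subset_span hz))
    · rw [mem_zeroLocus, Set.singleton_subset_iff]
      exact fun h => Set.disjoint_left.mp hqd h ((le_sup_right : _ ≤ M) (Submonoid.mem_powers f))
    · refine le_antisymm (fun r hr => by_contra fun hrξ => ?_) fun r hr =>
        hIq (Ideal.mem_sup_right (Ideal.mem_map_of_mem _ hr))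
      exact Set.disjoint_left.mp hqd hr ((le_sup_left : _ ≤ M) ⟨r, hrξ, rfl⟩)
  obtain ⟨_, ⟨a, ha, rfl⟩, _, ⟨N, rfl⟩, rfl⟩ := Submonoid.mem_sup.mp hxM
  have hsub : closure {ξ} ∩ comap (algebraMap R S) '' C.toSet ⊆ zeroLocus {a} := by
    rintro _ ⟨hp, q, ⟨hqg, hqf⟩, rfl⟩
    rw [← specializes_iff_mem_closure, ← le_iff_specializes] at hp
    have hIq : I ≤ q.asIdeal :=
      sup_le (Ideal.span_le.mpr hqg) (Ideal.map_le_iff_le_comap.mpr hp)
    rw [mem_zeroLocus, Set.singleton_subset_iff] at hqf ⊢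
    exact (q.2.mem_or_mem (hIq hxI)).resolve_right fun h => hqf (q.2.mem_of_pow_mem N h)
  intro h
  have := closure_minimal hsub (isClosed_zeroLocus _) h
  rw [mem_zeroLocus, Set.singleton_subset_iff] at this
  exact ha this

end Groth.Agent.H20.JacobsonImage
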