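import Mathlib.RingTheory.Localization.AtPrime.Basic
import Mathlib.RingTheory.Ideal.Quotient.Operations

/-!
Localisations of quotients map onto quotients of localisations.
-/

universe u

namespace Groth.Agent.H20.LocQuot

theorem exists_surjective_localization {S : Type u} [CommRing S] (I q : Ideal S) [q.IsPrime]
    [(q.map (Ideal.Quotient.mk I)).IsPrime] (hIq : I ≤ q) :
    ∃ φ : Localization.AtPrime (q.map (Ideal.Quotient.mk I)) →+*
      Localization.AtPrime q ⧸ I.map (algebraMap S (Localization.AtPrime q)),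
      Function.Surjective φ := by
  let A := Localization.AtPrime q
  let J := I.map (algebraMap S A)
  let ψ : S ⧸ I →+* A ⧸ J := Ideal.quotientMap J (algebraMap S A) Ideal.le_comap_map
  have hq : ∀ s, Ideal.Quotient.mk I s ∈ q.map (Ideal.Quotient.mk I) ↔ s ∈ q := fun s =>
    ⟨fun h => by
      obtain ⟨t, ht, he⟩ := (Ideal.mem_map_iff_of_surjective _ Ideal.Quotient.mk_surjective).mp h
      simpa using sub_mem ht (hIq (Ideal.Quotient.eq.mp he)),
    Ideal.mem_map_of_mem _⟩
  have hu : ∀ y : (q.map (Ideal.Quotient.mk I)).primeCompl, IsUnit (ψ y) := by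
    rintro ⟨y, hy⟩
    obtain ⟨s, rfl⟩ := Ideal.Quotient.mk_surjective y
    rw [show ψ (Ideal.Quotient.mk I s) = Ideal.Quotient.mk J (algebraMap S A s) from
      Ideal.quotientMap_mk]
    exact (IsLocalization.map_units A (⟨s, fun h => hy ((hq s).mpr h)⟩ : q.primeCompl)).map _
  refine ⟨IsLocalization.lift hu, fun z => ?_⟩
  obtain ⟨z, rfl⟩ := Ideal.Quotient.mk_surjective z
  obtain ⟨a, s, rfl⟩ := IsLocalization.exists_mk'_eq q.primeCompl z
  refine ⟨IsLocalization.mk' _ (Ideal.Quotient.mk I a)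
    (⟨Ideal.Quotient.mk I s, fun h => s.2 ((hq _).mp h)⟩ :
      (q.map (Ideal.Quotient.mk I)).primeCompl), ?_⟩
  rw [IsLocalization.lift_mk'_spec]
  show Ideal.Quotient.mk J (algebraMap S A a) = Ideal.Quotient.mk J (algebraMap S A s) * _
  rw [← map_mul, IsLocalization.mk'_spec']

end Groth.Agent.H20.LocQuot
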