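import Mathlib.RingTheory.LocalRing.Module
import Mathlib.RingTheory.Support
import Mathlib.RingTheory.Spectrum.Prime.Topology
import Mathlib.RingTheory.Finiteness.Basic
import Mathlib.Algebra.Module.LocalizedModule.Exact
import Mathlib.LinearAlgebra.TensorProduct.RightExactness
import Mathlib.RingTheory.LocalRing.ResidueField.Ideal

/-!
# Surjectivity loci of linear maps
-/

set_option autoImplicit false

universe u v w

open scoped TensorProduct

namespace Groth.Agent.H20.LocalSurj

variable {R : Type u} [CommRing R] {M : Type v} {N : Type w} [AddCommGroup M] [Module R M]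
  [AddCommGroup N] [Module R N]

theorem surjective_localized_iff (φ : M →ₗ[R] N) (S : Submonoid R) :
    Function.Surjective (LocalizedModule.map S φ) ↔
      Subsingleton (LocalizedModule S (N ⧸ LinearMap.range φ)) := by
  have hex : Function.Exact (LocalizedModule.map S φ) (LocalizedModule.map S (LinearMap.range φ).mkQ) :=
    LocalizedModule.map_exact S φ (LinearMap.range φ).mkQ (LinearMap.exact_map_mkQ_range φ)
  have hs := LocalizedModule.map_surjective S (LinearMap.range φ).mkQ (Submodule.mkQ_surjective _)
  refine ⟨fun h => ⟨fun a b => ?_⟩, fun h x => (hex x).mp (Subsingleton.elim _ _)⟩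
  obtain ⟨x, rfl⟩ := hs a
  obtain ⟨y, rfl⟩ := hs b
  rw [(hex x).mpr (h x), (hex y).mpr (h y)]

theorem surjective_localized_atPrime_iff (φ : M →ₗ[R] N) (p : PrimeSpectrum R) :
    Function.Surjective (LocalizedModule.map p.asIdeal.primeCompl φ) ↔
      p ∉ Module.support R (N ⧸ LinearMap.range φ) := by
  rw [surjective_localized_iff, Module.notMem_support_iff]

theorem surjective_lTensor_residueField_iff [Module.Finite R N] (φ : M →ₗ[R] N) (p : PrimeSpectrum R) :
    Function.Surjective (φ.lTensor p.asIdeal.ResidueField) ↔
      p ∉ Module.support R (N ⧸ LinearMap.range φ) := by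
  rw [Module.mem_support_iff_nontrivial_residueField_tensorProduct, not_nontrivial_iff_subsingleton]
  have hex := lTensor_exact p.asIdeal.ResidueField (LinearMap.exact_map_mkQ_range φ)
    (Submodule.mkQ_surjective _)
  have hs := LinearMap.lTensor_surjective p.asIdeal.ResidueField
    (g := (LinearMap.range φ).mkQ) (Submodule.mkQ_surjective _)
  refine ⟨fun h => ⟨fun a b => ?_⟩, fun h x => (hex x).mp (Subsingleton.elim _ _)⟩
  obtain ⟨x, rfl⟩ := hs a
  obtain ⟨y, rfl⟩ := hs b
  rw [(hex x).mpr (h x), (hex y).mpr (h y)]

theorem isOpen_surjectiveLocus [Module.Finite R N] (φ : M →ₗ[R] N) :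
    IsOpen {p : PrimeSpectrum R | Function.Surjective (LocalizedModule.map p.asIdeal.primeCompl φ)} := by
  simp_rw [surjective_localized_atPrime_iff]
  rw [Module.support_eq_zeroLocus]
  exact (PrimeSpectrum.isClosed_zeroLocus _).isOpen_compl

theorem surjective_away_of_subset (φ : M →ₗ[R] N) (f : R)
    (hf : (↑(PrimeSpectrum.basicOpen f) : Set (PrimeSpectrum R)) ⊆
      {p : PrimeSpectrum R | Function.Surjective (LocalizedModule.map p.asIdeal.primeCompl φ)}) :
    Function.Surjective (LocalizedModule.map (Submonoid.powers f) φ) := by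
  rw [surjective_localized_iff, LocalizedModule.subsingleton_iff_support_subset]
  intro p hp
  by_contra hpf
  exact (surjective_localized_atPrime_iff φ p).mp (hf (by simpa using hpf)) hp

end Groth.Agent.H20.LocalSurj
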