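import Groth.Agent.H25.TorLES
import Mathlib.CategoryTheory.Abelian.Projective.Dimension
import Mathlib.RingTheory.Length
import Mathlib.LinearAlgebra.TensorProduct.Quotient
import Mathlib.RingTheory.Ideal.Quotient.Operations

/-!
`Tor` of the residue field at a node.
-/

set_option autoImplicit false
set_option linter.style.haveILetI false

universe u

namespace Groth.Agent.H20.NodeTor

open CategoryTheory CategoryTheory.Limits Groth.Agent.H25.TorLES Groth.Agent.Lib.Tor

variable {A : Type u} [CommRing A]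

theorem isZero_of_projDim (M : ModuleCat.{u} A) :
    ∀ (n : ℕ) (N : ModuleCat.{u} A), HasProjectiveDimensionLT N n → ∀ m, n ≤ m → IsZero ((T M m).obj N)
  | 0, N, hN, m, _ => by
    have : IsZero N := (hasProjectiveDimensionLT_zero_iff_isZero N).mp hN
    exact (T M m).map_isZero this
  | 1, N, hN, m, hm => by
    haveI : Projective N := projective_iff_hasProjectiveDimensionLT_one.mpr hN
    haveI := Balance.flat_of_projective N
    obtain ⟨m, rfl⟩ := Nat.exists_eq_add_of_le' hm
    exact Balance.isZero_tor_succ_of_flat_right M N m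
  | n + 2, N, hN, m, hm => by
    let f : (N →₀ A) →ₗ[A] N := Finsupp.linearCombination A id
    let S := f.shortComplexKer
    have hS : S.ShortExact := LinearMap.shortExact_shortComplexKer (Finsupp.linearCombination_id_surjective A N)
    haveI : Projective S.X₂ := (IsProjective.iff_projective (R := A) (N →₀ A)).mp inferInstance
    haveI : Module.Flat A S.X₂ := inferInstanceAs (Module.Flat A (N →₀ A))
    haveI h2 : HasProjectiveDimensionLT S.X₂ (n + 1) := hasProjectiveDimensionLT_of_ge S.X₂ 1 (n + 1) (by omega)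
    haveI h3 : HasProjectiveDimensionLT S.X₃ (n + 2) := hN
    have h1 : HasProjectiveDimensionLT S.X₁ (n + 1) := hS.hasProjectiveDimensionLT_X₁ (n + 1) h2 h3
    obtain ⟨m, rfl⟩ := Nat.exists_eq_add_of_le' (show 1 ≤ m by omega)
    exact isZero_right hS m (Balance.isZero_tor_succ_of_flat_right M S.X₂ m)
      (isZero_of_projDim M (n + 1) S.X₁ h1 m (by omega))

variable (x y : A)

/-- The residue module at the origin. -/
abbrev κ : ModuleCat.{u} A := ModuleCat.of A (A ⧸ Ideal.span {x, y})

/-- A shift isomorphism for a short exact sequence `X₁ → A → X₃` with image in the ideal. -/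
theorem shift {X X' : Type u} [AddCommGroup X] [Module A X] [AddCommGroup X'] [Module A X']
    (f : X →ₗ[A] A) (g : A →ₗ[A] X') (hf : Function.Injective f) (hg : Function.Surjective g)
    (hex : Function.Exact f g) (him : ∀ v, f v ∈ Ideal.span {x, y}) (n : ℕ) :
    Module.length A ((T (κ x y) (n + 1)).obj (ModuleCat.of A X')) = Module.length A ((T (κ x y) n).obj (ModuleCat.of A X)) := by
  let S : ShortComplex (ModuleCat.{u} A) := ShortComplex.mk (ModuleCat.ofHom f) (ModuleCat.ofHom g)
    (by ext v; exact hex.apply_apply_eq_zero v)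
  have hS : S.ShortExact := ModuleCat.shortComplex_shortExact S hex hf hg
  haveI : Module.Flat A S.X₂ := inferInstanceAs (Module.Flat A A)
  haveI := mono_δ (M := κ x y) hS n (Balance.isZero_tor_succ_of_flat_right (κ x y) S.X₂ n)
  have hzero : (T (κ x y) n).map S.f = 0 := by
    cases n with
    | succ n => exact (Balance.isZero_tor_succ_of_flat_right (κ x y) S.X₂ n).eq_of_tgt _ _
    | zero =>
      have h0 : (MonoidalCategory.tensorLeft (κ x y)).map S.f = 0 := by
        refine ModuleCat.hom_ext (TensorProduct.ext' fun c v => ?_)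
        show c ⊗ₜ[A] f v = 0
        rw [show f v = f v • (1 : A) by simp, ← TensorProduct.smul_tmul]
        obtain ⟨a, rfl⟩ := Submodule.Quotient.mk_surjective _ c
        rw [← Submodule.Quotient.mk_smul, smul_eq_mul, (Submodule.Quotient.mk_eq_zero _).2 (Ideal.mul_mem_right a _ (him v)),
          TensorProduct.zero_tmul]
      have hn : (T (κ x y) 0).map S.f ≫ (zeroIso (κ x y)).hom.app _ =
          (zeroIso (κ x y)).hom.app _ ≫ (MonoidalCategory.tensorLeft (κ x y)).map S.f := (zeroIso (κ x y)).hom.naturality S.f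
      rw [← cancel_mono ((zeroIso (κ x y)).hom.app S.X₂), zero_comp, hn, h0, comp_zero]
  haveI := (exact₁ (M := κ x y) hS n).epi_f hzero
  haveI := isIso_of_mono_of_epi (δ (M := κ x y) hS n)
  exact ((asIso (δ (M := κ x y) hS n)).toLinearEquiv).length_eq

variable (hx : ∀ a, a * x = 0 ↔ y ∣ a) (hy : ∀ a, a * y = 0 ↔ x ∣ a) (hxy : ∀ a b, a * y = b * x → a * y = 0)
variable (hmax : (Ideal.span {x, y}).IsMaximal)

/-- Multiplication as a map out of the quotient. -/
noncomputable def mulMap (u v : A) (h : u * v = 0) : (A ⧸ Ideal.span {v}) →ₗ[A] A :=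
  Submodule.liftQ _ (LinearMap.toSpanSingleton A A u) (by
    rw [Ideal.span, Submodule.span_le, Set.singleton_subset_iff]
    simp [mul_comm v, h])

theorem mulMap_mk (u v : A) (h : u * v = 0) (a : A) : mulMap u v h (Submodule.Quotient.mk a) = a * u := rfl

include hmax in
theorem length_zero (v : A) (hv : v ∈ Ideal.span {x, y}) :
    Module.length A ((T (κ x y) 0).obj (ModuleCat.of A (A ⧸ Ideal.span {v}))) = 1 := by
  haveI := hmax
  rw [((zeroIso (κ x y)).app (ModuleCat.of A (A ⧸ Ideal.span {v}))).toLinearEquiv.length_eq]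
  show Module.length A (TensorProduct A (A ⧸ Ideal.span {x, y}) (A ⧸ Ideal.span {v})) = 1
  refine (LinearEquiv.length_eq (TensorProduct.tensorQuotEquivQuotSMul (M := A ⧸ Ideal.span {x, y}) (R := A) (Ideal.span {v}))).trans ?_
  have hbot : Ideal.span {v} • (⊤ : Submodule A (A ⧸ Ideal.span {x, y})) = ⊥ := by
    rw [eq_bot_iff, Submodule.smul_le]
    intro a ha c _
    obtain ⟨b, rfl⟩ := Submodule.Quotient.mk_surjective _ c
    rw [Submodule.mem_bot, ← Submodule.Quotient.mk_smul, Submodule.Quotient.mk_eq_zero, smul_eq_mul]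
    exact Ideal.mul_mem_right _ _ ((Ideal.span_singleton_le_iff_mem _).2 hv ha)
  rw [(Submodule.quotEquivOfEqBot _ hbot).length_eq]
  haveI : IsSimpleModule A (A ⧸ Ideal.span {x, y}) := isSimpleModule_iff_isCoatom.2 hmax.out
  exact Module.length_eq_one A _

include hx hy hmax in
theorem length_branch : ∀ n : ℕ, Module.length A ((T (κ x y) n).obj (ModuleCat.of A (A ⧸ Ideal.span {x}))) = 1 ∧
    Module.length A ((T (κ x y) n).obj (ModuleCat.of A (A ⧸ Ideal.span {y}))) = 1
  | 0 => ⟨length_zero x y hmax x (Ideal.subset_span (by simp)), length_zero x y hmax y (Ideal.subset_span (by simp))⟩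
  | n + 1 => by
    obtain ⟨h1, h2⟩ := length_branch n
    have hxy0 : x * y = 0 := (hy x).2 dvd_rfl
    constructor
    · rw [shift x y (mulMap x y hxy0) (Ideal.span {x}).mkQ (LinearMap.ker_eq_bot.1 ?_) (Submodule.mkQ_surjective _) ?_ ?_ n]
      · exact h2
      · rw [Submodule.eq_bot_iff]
        intro z hz
        obtain ⟨a, rfl⟩ := Submodule.Quotient.mk_surjective _ z
        rw [Submodule.Quotient.mk_eq_zero, Ideal.mem_span_singleton]
        exact (hx a).1 hz
      · intro z
        rw [Submodule.mkQ_apply, Submodule.Quotient.mk_eq_zero, Ideal.mem_span_singleton']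
        exact ⟨fun ⟨a, ha⟩ => ⟨Submodule.Quotient.mk a, ha⟩, fun ⟨w, hw⟩ => by
          obtain ⟨a, rfl⟩ := Submodule.Quotient.mk_surjective _ w
          exact ⟨a, hw⟩⟩
      · intro w
        obtain ⟨a, rfl⟩ := Submodule.Quotient.mk_surjective _ w
        exact Ideal.mul_mem_left _ a (Ideal.subset_span (by simp))
    · rw [shift x y (mulMap y x (by rw [mul_comm, hxy0])) (Ideal.span {y}).mkQ (LinearMap.ker_eq_bot.1 ?_) (Submodule.mkQ_surjective _) ?_ ?_ n]
      · exact h1
      · rw [Submodule.eq_bot_iff]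
        intro z hz
        obtain ⟨a, rfl⟩ := Submodule.Quotient.mk_surjective _ z
        rw [Submodule.Quotient.mk_eq_zero, Ideal.mem_span_singleton]
        exact (hy a).1 hz
      · intro z
        rw [Submodule.mkQ_apply, Submodule.Quotient.mk_eq_zero, Ideal.mem_span_singleton']
        exact ⟨fun ⟨a, ha⟩ => ⟨Submodule.Quotient.mk a, ha⟩, fun ⟨w, hw⟩ => by
          obtain ⟨a, rfl⟩ := Submodule.Quotient.mk_surjective _ w
          exact ⟨a, hw⟩⟩
      · intro w
        obtain ⟨a, rfl⟩ := Submodule.Quotient.mk_surjective _ w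
        exact Ideal.mul_mem_left _ a (Ideal.subset_span (by simp))

include hx hy hxy hmax in
theorem length_tor (n : ℕ) : Module.length A ((T (κ x y) (n + 1)).obj (κ x y)) = 2 := by
  have hxy0 : x * y = 0 := (hy x).2 dvd_rfl
  let fx := mulMap y x (by rw [mul_comm, hxy0])
  let fy := mulMap x y hxy0
  let f : ((A ⧸ Ideal.span {x}) × (A ⧸ Ideal.span {y})) →ₗ[A] A := fx.coprod fy
  have hinj : Function.Injective f := by
    rw [← LinearMap.ker_eq_bot, Submodule.eq_bot_iff]
    rintro ⟨a, b⟩ h
    obtain ⟨a, rfl⟩ := Submodule.Quotient.mk_surjective _ a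
    obtain ⟨b, rfl⟩ := Submodule.Quotient.mk_surjective _ b
    change a * y + b * x = 0 at h
    have ha : a * y = 0 := hxy a (-b) (by rw [neg_mul]; exact eq_neg_of_add_eq_zero_left h)
    rw [ha, zero_add] at h
    exact Prod.ext ((Submodule.Quotient.mk_eq_zero _).2 (Ideal.mem_span_singleton.2 ((hy a).1 ha)))
      ((Submodule.Quotient.mk_eq_zero _).2 (Ideal.mem_span_singleton.2 ((hx b).1 h)))
  have him : ∀ v, f v ∈ Ideal.span {x, y} := by
    rintro ⟨a, b⟩
    obtain ⟨a, rfl⟩ := Submodule.Quotient.mk_surjective _ a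
    obtain ⟨b, rfl⟩ := Submodule.Quotient.mk_surjective _ b
    exact add_mem (Ideal.mul_mem_left _ a (Ideal.subset_span (by simp))) (Ideal.mul_mem_left _ b (Ideal.subset_span (by simp)))
  have hex : Function.Exact f (Ideal.span {x, y}).mkQ := by
    intro z
    rw [Submodule.mkQ_apply, Submodule.Quotient.mk_eq_zero]
    refine ⟨fun hz => ?_, fun ⟨w, hw⟩ => hw ▸ him w⟩
    obtain ⟨a, b, rfl⟩ := Ideal.mem_span_pair.1 hz
    exact ⟨(Submodule.Quotient.mk b, Submodule.Quotient.mk a), add_comm _ _⟩
  rw [shift x y f _ hinj (Submodule.mkQ_surjective _) hex him n]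
  let F := T (κ x y) n
  let P := ModuleCat.of A ((A ⧸ Ideal.span {x}) × (A ⧸ Ideal.span {y}))
  let p1 : P ⟶ ModuleCat.of A (A ⧸ Ideal.span {x}) := ModuleCat.ofHom (LinearMap.fst A _ _)
  let p2 : P ⟶ ModuleCat.of A (A ⧸ Ideal.span {y}) := ModuleCat.ofHom (LinearMap.snd A _ _)
  let i1 : ModuleCat.of A (A ⧸ Ideal.span {x}) ⟶ P := ModuleCat.ofHom (LinearMap.inl A _ _)
  let i2 : ModuleCat.of A (A ⧸ Ideal.span {y}) ⟶ P := ModuleCat.ofHom (LinearMap.inr A _ _)
  have h11 : F.map i1 ≫ F.map p1 = 𝟙 _ := by rw [← F.map_comp, ← F.map_id]; rfl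
  have h22 : F.map i2 ≫ F.map p2 = 𝟙 _ := by rw [← F.map_comp, ← F.map_id]; rfl
  have h12 : F.map i1 ≫ F.map p2 = 0 := by rw [← F.map_comp, show i1 ≫ p2 = 0 from rfl, F.map_zero]
  have h21 : F.map i2 ≫ F.map p1 = 0 := by rw [← F.map_comp, show i2 ≫ p1 = 0 from rfl, F.map_zero]
  have hsum : F.map p1 ≫ F.map i1 + F.map p2 ≫ F.map i2 = 𝟙 _ := by
    rw [← F.map_comp, ← F.map_comp, ← F.map_add, ← F.map_id]
    congr 1
    ext v <;> simp [p1, p2, i1, i2]
  let e : F.obj P ≃ₗ[A] F.obj (ModuleCat.of A (A ⧸ Ideal.span {x})) × F.obj (ModuleCat.of A (A ⧸ Ideal.span {y})) :=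
    { (F.map p1).hom.prod (F.map p2).hom with
      invFun := (F.map i1).hom.coprod (F.map i2).hom
      left_inv := ?_
      right_inv := ?_ }
  · rw [e.length_eq, Module.length_prod, (length_branch x y hx hy hmax n).1, (length_branch x y hx hy hmax n).2]
    rfl
  · rintro z
    exact congrArg (fun t => t.hom z) hsum
  · rintro ⟨a, b⟩
    refine Prod.ext ?_ ?_
    · show (F.map p1).hom ((F.map i1).hom a + (F.map i2).hom b) = a
      rw [map_add, show (F.map p1).hom ((F.map i1).hom a) = a from congrArg (fun t => t.hom a) h11,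
        show (F.map p1).hom ((F.map i2).hom b) = 0 from congrArg (fun t => t.hom b) h21, add_zero]
    · show (F.map p2).hom ((F.map i1).hom a + (F.map i2).hom b) = b
      rw [map_add, show (F.map p2).hom ((F.map i1).hom a) = 0 from congrArg (fun t => t.hom a) h12,
        show (F.map p2).hom ((F.map i2).hom b) = b from congrArg (fun t => t.hom b) h22, zero_add]

include hx hy hxy hmax in
theorem not_projDim (n : ℕ) : ¬ HasProjectiveDimensionLT (κ x y) n := by
  intro h
  have h1 := isZero_of_projDim (κ x y) n (κ x y) h (n + 1) (Nat.le_succ n)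
  haveI : Subsingleton ((T (κ x y) (n + 1)).obj (κ x y)) := ModuleCat.subsingleton_of_isZero h1
  have h2 := length_tor x y hx hy hxy hmax n
  rw [Module.length_eq_zero] at h2
  exact two_ne_zero h2.symm

end Groth.Agent.H20.NodeTor
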