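import Mathlib.RingTheory.KrullDimension.Basic
import Mathlib.RingTheory.Valuation.ValuationRing
import Mathlib.RingTheory.AlgebraicIndependent.Defs
import Mathlib.RingTheory.AlgebraicIndependent.Basic
import Mathlib.RingTheory.Localization.AtPrime.Basic
import Mathlib.RingTheory.Multiplicity
import Mathlib.RingTheory.Int.Basic
import Mathlib.RingTheory.PrincipalIdealDomain
import Mathlib.Algebra.Ring.Subring.Basic

/-!
Prime chains in a ring whose local rings are valuation rings are bounded by transcendence degree.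
-/

universe u

namespace Groth.Agent.H20.PrimeChainBound

variable {A : Type u} [CommRing A] [IsDomain A]

theorem total (m : Ideal A) [m.IsPrime] [ValuationRing (Localization.AtPrime m)] (x y : A) :
    (∃ w c : A, w ∉ m ∧ w * y = x * c) ∨ ∃ w c : A, w ∉ m ∧ w * x = y * c := by
  have key : ∀ a b : A, algebraMap A (Localization.AtPrime m) b ∣ algebraMap A _ a →
      ∃ w c : A, w ∉ m ∧ w * a = b * c := by
    rintro a b ⟨d, hd⟩
    obtain ⟨c, s, rfl⟩ := IsLocalization.exists_mk'_eq m.primeCompl d
    refine ⟨s, c, s.2, IsLocalization.injective (Localization.AtPrime m) m.primeCompl_le_nonZeroDivisors ?_⟩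
    rw [map_mul, map_mul, hd, mul_comm (algebraMap A _ (s : A)), mul_assoc, IsLocalization.mk'_spec]
  exact (ValuationRing.dvd_total (algebraMap A (Localization.AtPrime m) x) (algebraMap A _ y)).imp
    (key y x) (key x y)

/-- A sum of pairwise inequivalent elements does not vanish. -/
theorem sum_ne_zero (m : Ideal A) [m.IsPrime] [ValuationRing (Localization.AtPrime m)] {σ : Type*}
    (s : Finset σ) (hs : s.Nonempty) (x : σ → A) (hx : ∀ e ∈ s, x e ≠ 0)
    (hne : ∀ e ∈ s, ∀ e' ∈ s, ∀ w r : A, w ∉ m → r ∉ m → w * x e = r * x e' → e = e') :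
    ∑ e ∈ s, x e ≠ 0 := by
  classical
  have hdiv : ∀ t : Finset σ, t.Nonempty → ∃ e₀ ∈ t, ∀ e ∈ t, ∃ w c : A, w ∉ m ∧ w * x e = x e₀ * c := by
    intro t ht
    induction ht using Finset.Nonempty.cons_induction with
    | singleton a =>
      exact ⟨a, Finset.mem_singleton_self a, fun e he => by
        rw [Finset.mem_singleton.mp he]
        exact ⟨1, 1, m.ne_top_iff_one.mp (Ideal.IsPrime.ne_top ‹_›), by rw [one_mul, mul_one]⟩⟩
    | cons a t ha _ ih =>
      obtain ⟨e₀, he₀, h₀⟩ := ih
      rcases total m (x a) (x e₀) with ⟨w, c, hw, h⟩ | ⟨w, c, hw, h⟩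
      · refine ⟨a, Finset.mem_cons_self a t, fun e he => ?_⟩
        rcases Finset.mem_cons.mp he with rfl | he
        · exact ⟨1, 1, m.ne_top_iff_one.mp (Ideal.IsPrime.ne_top ‹_›), by rw [one_mul, mul_one]⟩
        · obtain ⟨w', c', hw', h'⟩ := h₀ e he
          refine ⟨w * w', c * c', fun hh => (Ideal.IsPrime.mem_or_mem ‹_› hh).elim hw hw', ?_⟩
          rw [mul_assoc, h', ← mul_assoc, h, mul_assoc]
      · refine ⟨e₀, Finset.mem_cons.mpr (Or.inr he₀), fun e he => ?_⟩
        rcases Finset.mem_cons.mp he with rfl | he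
        · exact ⟨w, c, hw, h⟩
        · exact h₀ e he
  obtain ⟨e₀, he₀, h₀⟩ := hdiv s hs
  have hrest : ∀ t : Finset σ, t ⊆ s → e₀ ∉ t → ∃ w a : A, w ∉ m ∧ a ∈ m ∧
      w * ∑ e ∈ t, x e = x e₀ * a := by
    intro t
    induction t using Finset.induction_on with
    | empty => exact fun _ _ => ⟨1, 0, m.ne_top_iff_one.mp (Ideal.IsPrime.ne_top ‹_›), m.zero_mem, by simp⟩
    | insert b t hb ih =>
      intro hts he
      obtain ⟨w, a, hw, ha, h⟩ := ih (fun e he => hts (Finset.mem_insert_of_mem he))
        fun h => he (Finset.mem_insert_of_mem h)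
      obtain ⟨v, c, hv, hc⟩ := h₀ b (hts (Finset.mem_insert_self b t))
      have hcm : c ∈ m := by
        by_contra hcm
        exact he (hne b (hts (Finset.mem_insert_self b t)) e₀ he₀ v c hv hcm
          (hc.trans (mul_comm _ _)) ▸ Finset.mem_insert_self b t)
      refine ⟨w * v, w * c + v * a, fun hh => (Ideal.IsPrime.mem_or_mem ‹_› hh).elim hw hv,
        m.add_mem (m.mul_mem_left _ hcm) (m.mul_mem_left _ ha), ?_⟩
      rw [Finset.sum_insert hb]
      linear_combination w * hc + v * h
  obtain ⟨w, a, hw, ha, h⟩ := hrest (s.erase e₀) (Finset.erase_subset _ _) (Finset.notMem_erase _ _)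
  intro h0
  rw [← Finset.add_sum_erase _ _ he₀] at h0
  have : x e₀ * (w + a) = 0 := by linear_combination w * h0 - h
  rcases mul_eq_zero.mp this with h1 | h1
  · exact hx e₀ he₀ h1
  · refine hw ?_
    rw [eq_neg_of_add_eq_zero_left h1]
    exact m.neg_mem ha

/-- Integers cannot move a monomial between two levels with the same contraction to `ℤ`. -/
theorem int_level {P P' : Ideal A} [P.IsPrime] [P'.IsPrime] (hle : P ≤ P')
    (hI : P.comap (Int.castRingHom A) = P'.comap (Int.castRingHom A))
    {c c' : ℤ} (hc : (c : A) ≠ 0) (hc' : (c' : A) ≠ 0) {L M w r : A}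
    (hL : L ∈ P') (hL' : L ∉ P) (hM : M ∉ P') (hw : w ∉ P') (hr : r ∉ P')
    (h : w * (c : A) * L = r * (c' : A) * M) : False := by
  have hM' : M ∉ P := fun h => hM (hle h)
  have hw' : w ∉ P := fun h => hw (hle h)
  have hr' : r ∉ P := fun h => hr (hle h)
  have hP : ∀ z : ℤ, (z : A) ∈ P ↔ (z : A) ∈ P' := fun z => by
    rw [← eq_intCast (Int.castRingHom A) z, ← Ideal.mem_comap, ← Ideal.mem_comap, hI]
  by_cases hcp : (c' : A) ∈ P'
  swap
  · refine hM ?_
    have : r * (c' : A) * M ∈ P' := h ▸ P'.mul_mem_left _ hL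
    exact ((Ideal.IsPrime.mem_or_mem ‹P'.IsPrime› this)).resolve_left fun h' =>
      (Ideal.IsPrime.mem_or_mem ‹P'.IsPrime› h').elim hr hcp
  obtain ⟨q, hq⟩ := (IsPrincipalIdealRing.principal (P'.comap (Int.castRingHom A))).principal
  have hmemq : ∀ z : ℤ, (z : A) ∈ P' ↔ q ∣ z := fun z => by
    rw [← eq_intCast (Int.castRingHom A) z, ← Ideal.mem_comap, hq]
    exact Ideal.mem_span_singleton
  have hqA : (q : A) ≠ 0 := fun h0 => by
    obtain ⟨t, ht⟩ := (hmemq c').mp hcp
    exact hc' (by rw [ht, Int.cast_mul, h0, zero_mul])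
  have hqu : q.natAbs ≠ 1 := fun h1 => Ideal.IsPrime.ne_top ‹P'.IsPrime› ((Ideal.eq_top_iff_one _).mpr
    (by simpa using (hmemq 1).mpr (Int.isUnit_iff_natAbs_eq.mpr h1).dvd))
  have hsplit : ∀ z : ℤ, (z : A) ≠ 0 → ∃ (k : ℕ) (γ : ℤ), z = q ^ k * γ ∧ (γ : A) ∉ P' := by
    intro z hz
    obtain ⟨γ, h1, h2⟩ := (Int.finiteMultiplicity_iff.mpr
      ⟨hqu, fun h : z = 0 => hz (by rw [h, Int.cast_zero])⟩).exists_eq_pow_mul_and_not_dvd
    exact ⟨_, γ, h1, fun h => h2 ((hmemq γ).mp h)⟩
  obtain ⟨k, γ, rfl, hγ⟩ := hsplit c hc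
  obtain ⟨l, γ', rfl, hγ'⟩ := hsplit c' hc'
  have hγP : (γ : A) ∉ P := fun h => hγ (hle h)
  rcases le_or_gt l k with hkl | hkl
  · obtain ⟨d, rfl⟩ := Nat.exists_eq_add_of_le hkl
    have h1 : w * ((q : A) ^ d * γ) * L = r * γ' * M := by
      refine mul_left_cancel₀ (pow_ne_zero l hqA) ?_
      push_cast at h
      rw [pow_add] at h
      linear_combination h
    have : r * (γ' : A) * M ∈ P' := h1 ▸ P'.mul_mem_left _ hL
    rcases Ideal.IsPrime.mem_or_mem ‹P'.IsPrime› this with h2 | h2
    · exact (Ideal.IsPrime.mem_or_mem ‹P'.IsPrime› h2).elim hr hγ'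
    · exact hM h2
  · obtain ⟨d, rfl⟩ := Nat.exists_eq_add_of_le hkl.le
    have h1 : w * γ * L = r * ((q : A) ^ d * γ') * M := by
      refine mul_left_cancel₀ (pow_ne_zero k hqA) ?_
      push_cast at h
      rw [pow_add] at h
      linear_combination h
    have hqP : (q : A) ∈ P := (hP q).mpr ((hmemq q).mpr dvd_rfl)
    have : w * (γ : A) * L ∈ P := by
      rw [h1]
      refine P.mul_mem_right _ (P.mul_mem_left _ (P.mul_mem_right _ ?_))
      exact Ideal.pow_mem_of_mem P hqP d (by omega)
    rcases Ideal.IsPrime.mem_or_mem ‹P.IsPrime› this with h2 | h2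
    · exact (Ideal.IsPrime.mem_or_mem ‹P.IsPrime› h2).elim hw' hγP
    · exact hL' h2

theorem ringKrullDim_le {K : Type u} [Field K] (f : A →+* K) (hf : Function.Injective f)
    (hA : ∀ (p : Ideal A) [p.IsPrime], ValuationRing (Localization.AtPrime p)) (N : ℕ)
    (hN : ∀ (ι : Type) [Fintype ι] (x : ι → K), AlgebraicIndependent (⊥ : Subring K) x → Fintype.card ι ≤ N) :
    ringKrullDim A ≤ (N + 1 : ℕ) := by
  classical
  refine iSup_le fun l => ?_
  suffices h : l.length ≤ N + 1 by exact_mod_cast h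
  let P : Fin (l.length + 1) → Ideal A := fun j => (l j).asIdeal
  have hmono : ∀ {i j}, i ≤ j → P i ≤ P j := fun h => (l.monotone h : (l _) ≤ (l _))
  have hstep : ∀ i : Fin l.length, ∃ t, t ∈ P i.succ ∧ t ∉ P i.castSucc := fun i =>
    SetLike.exists_of_lt (show P i.castSucc < P i.succ from l.strictMono (Fin.castSucc_lt_succ ..))
  choose t ht ht' using hstep
  let I : Fin (l.length + 1) → Ideal ℤ := fun j => (P j).comap (Int.castRingHom A)
  let J := {i : Fin l.length // I i.castSucc = I i.succ}
  have hjump : Fintype.card {i : Fin l.length // ¬ I i.castSucc = I i.succ} ≤ 1 := by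
    rw [Fintype.card_le_one_iff]
    rintro ⟨a, ha⟩ ⟨b, hb⟩
    by_contra hab
    have key : ∀ a b : Fin l.length, a < b → ¬ I a.castSucc = I a.succ → ¬ I b.castSucc = I b.succ → False := by
      intro a b hlt ha hb
      have hI : ∀ {i j}, i ≤ j → I i ≤ I j := fun h => Ideal.comap_mono (hmono h)
      haveI : ∀ j, (I j).IsPrime := fun j => Ideal.IsPrime.comap _
      have h1 : I a.succ ≠ ⊥ := fun h => ha (le_antisymm (hI (Fin.castSucc_le_succ a)) (h ▸ bot_le))
      have h2 : (I a.succ).IsMaximal := IsPrime.to_maximal_ideal h1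
      have h3 : I a.succ ≤ I b.castSucc := hI (Fin.succ_le_castSucc_iff.mpr hlt)
      refine hb (le_antisymm (hI (Fin.castSucc_le_succ b)) ?_)
      rw [← h2.eq_of_le (Ideal.IsPrime.ne_top inferInstance) (h3.trans (hI (Fin.castSucc_le_succ b)))]
      exact h3
    rcases lt_or_gt_of_ne (fun h : a = b => hab (Subtype.ext h)) with h | h
    · exact key a b h ha hb
    · exact key b a h hb ha
  have hind : AlgebraicIndependent (⊥ : Subring K) fun i : J => f (t i.1) := by
    rw [algebraicIndependent_iff]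
    intro Q hQ
    by_contra hQ0
    choose z hz using fun e => Subring.mem_bot.mp (Q.coeff e).2
    haveI := hA (P (Fin.last _))
    have hz' : ∀ e, f (z e : A) = ((Q.coeff e : (⊥ : Subring K)) : K) := fun e => by rw [map_intCast, hz]
    refine sum_ne_zero (P (Fin.last _)) Q.support (MvPolynomial.support_nonempty.mpr hQ0)
      (fun e => (z e : A) * ∏ i : J, t i.1 ^ e i) ?_ ?_ ?_
    · intro e he
      refine mul_ne_zero (fun h => ?_) (Finset.prod_ne_zero_iff.mpr fun i _ =>
        pow_ne_zero _ fun h => ht' i.1 (h ▸ (P _).zero_mem))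
      have := hz' e
      rw [h, map_zero] at this
      exact MvPolynomial.mem_support_iff.mp he (Subtype.ext this.symm)
    · intro e he e' he' w r hw hr h
      by_contra hne
      have hzne : ∀ d ∈ Q.support, (z d : A) ≠ 0 := fun d hd hh => by
        have := hz' d
        rw [hh, map_zero] at this
        exact MvPolynomial.mem_support_iff.mp hd (Subtype.ext this.symm)
      obtain ⟨i, hi, hmin⟩ : ∃ i : J, e i ≠ e' i ∧ ∀ j : J, j.1 < i.1 → e j = e' j := by
        obtain ⟨i₀, hi₀⟩ : ∃ i, e i ≠ e' i := by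
          by_contra! hc
          exact hne (Finsupp.ext hc)
        obtain ⟨i, hi, hmin⟩ := Finset.exists_min_image
          (Finset.univ.filter fun i : J => e i ≠ e' i) (fun i => i.1) ⟨i₀, by simp [hi₀]⟩
        simp only [Finset.mem_filter, Finset.mem_univ, true_and] at hi hmin
        exact ⟨i, hi, fun j hj => by
          by_contra hjne
          exact absurd (hmin j hjne) (not_le.mpr hj)⟩
      have key : ∀ a b : J →₀ ℕ, (z a : A) ≠ 0 → (z b : A) ≠ 0 → ∀ u v : A,
          u ∉ P (Fin.last _) → v ∉ P (Fin.last _) → b i < a i → (∀ j : J, j.1 < i.1 → a j = b j) →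
          u * ((z a : A) * ∏ j : J, t j.1 ^ a j) = v * ((z b : A) * ∏ j : J, t j.1 ^ b j) → False := by
        intro a b ha hb u v hu hv hlt heq h
        have hsplit : ∀ c : J →₀ ℕ, ∏ j : J, t j.1 ^ c j =
            (∏ j ∈ Finset.univ.filter (fun j : J => j.1 < i.1), t j.1 ^ c j) *
              (t i.1 ^ c i * ∏ j ∈ Finset.univ.filter (fun j : J => i.1 < j.1), t j.1 ^ c j) := by
          intro c
          rw [← Finset.prod_filter_mul_prod_filter_not Finset.univ (fun j : J => j.1 < i.1)]
          congr 1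
          rw [show Finset.univ.filter (fun j : J => ¬ j.1 < i.1) =
            insert i (Finset.univ.filter fun j : J => i.1 < j.1) by
              ext j
              simp only [Finset.mem_filter, Finset.mem_univ, true_and, Finset.mem_insert, not_lt]
              exact ⟨fun h => (lt_or_eq_of_le h).symm.imp (fun h => (Subtype.ext h).symm) id,
                fun h => h.elim (fun h => h ▸ le_rfl) le_of_lt⟩]
          rw [Finset.prod_insert (by simp)]
        rw [hsplit, hsplit, Finset.prod_congr rfl (g := fun j : J => t j.1 ^ b j)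
          fun j hj => by rw [heq j (Finset.mem_filter.mp hj).2]] at h
        set C := ∏ j ∈ Finset.univ.filter (fun j : J => j.1 < i.1), t j.1 ^ b j with hC
        have hC0 : C ≠ 0 := Finset.prod_ne_zero_iff.mpr fun j _ =>
          pow_ne_zero _ fun h => ht' j.1 (h ▸ (P _).zero_mem)
        set U := ∏ j ∈ Finset.univ.filter (fun j : J => i.1 < j.1), t j.1 ^ a j
        set U' := ∏ j ∈ Finset.univ.filter (fun j : J => i.1 < j.1), t j.1 ^ b j
        have hnot : ∀ c : J →₀ ℕ, (∏ j ∈ Finset.univ.filter (fun j : J => i.1 < j.1), t j.1 ^ c j)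
            ∉ P i.1.succ := by
          intro c hh
          obtain ⟨j, hj, hjm⟩ := Ideal.IsPrime.prod_mem_iff.mp hh
          exact ht' j.1 (hmono (Fin.succ_le_castSucc_iff.mpr (Finset.mem_filter.mp hj).2)
            (Ideal.IsPrime.mem_of_pow_mem inferInstance _ hjm))
        obtain ⟨d, hd⟩ := Nat.exists_eq_add_of_lt hlt
        have h1 : u * (z a : A) * (t i.1 ^ (d + 1) * U) = v * (z b : A) * U' := by
          refine mul_left_cancel₀ (mul_ne_zero hC0 (pow_ne_zero (b i)
            fun h : t i.1 = 0 => ht' i.1 (h ▸ (P _).zero_mem))) ?_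
          rw [show a i = b i + (d + 1) by omega, pow_add] at h
          linear_combination h
        refine int_level (hmono (Fin.castSucc_le_succ i.1)) i.2 ha hb
          (L := t i.1 ^ (d + 1) * U) (M := U')
          ((P _).mul_mem_right _ (Ideal.pow_mem_of_mem _ (ht i.1) _ (Nat.succ_pos d)))
          (fun hh => ?_) (hnot b) (fun hh => hu (hmono (Fin.le_last _) hh))
          (fun hh => hv (hmono (Fin.le_last _) hh)) h1
        rcases Ideal.IsPrime.mem_or_mem inferInstance hh with h2 | h2
        · exact ht' i.1 (Ideal.IsPrime.mem_of_pow_mem inferInstance _ h2)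
        · exact hnot a (hmono (Fin.castSucc_le_succ i.1) h2)
      rcases lt_or_gt_of_ne hi with hlt | hlt
      · exact key e' e (hzne e' he') (hzne e he) r w hr hw hlt (fun j hj => (hmin j hj).symm) h.symm
      · exact key e e' (hzne e he) (hzne e' he') w r hw hr hlt hmin h
    · refine hf ?_
      rw [map_sum, map_zero]
      refine Eq.trans ?_ hQ
      rw [MvPolynomial.aeval_def, MvPolynomial.eval₂_eq']
      refine Finset.sum_congr rfl fun e _ => ?_
      rw [map_mul, map_prod, hz']
      simp [map_pow]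
      exact Or.inl rfl
  have h1 := hN J _ hind
  have h2 := Fintype.card_subtype_compl (fun i : Fin l.length => ¬ I i.castSucc = I i.succ)
  simp only [not_not, Fintype.card_fin] at h2
  change Fintype.card J = _ at h2
  omega

end Groth.Agent.H20.PrimeChainBound
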