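import Groth.Agent.H20.FlatFibreTrdeg
import Groth.Agent.Lib.Excellent.GenericNormal
import Mathlib.RingTheory.IntegralClosure.GoingDown
import Mathlib.RingTheory.AlgebraicIndependent.TranscendenceBasis

/-!
# A principal closed subset missing the generic fibre is vertical
-/

set_option autoImplicit false
set_option linter.style.haveILetI false

universe u

open scoped TensorProduct
open IsLocalRing Groth.Agent.Lib

namespace Groth.Agent.H20.PrincipalVertical

theorem quasiFinite_fractionRing {R B0 : Type u} [CommRing R] [CommRing B0] [IsDomain B0]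
    [Algebra R B0] (q : Ideal B0) [q.IsPrime] [Algebra.QuasiFiniteAt R q] :
    Algebra.QuasiFinite R (FractionRing B0) := by
  haveI hqf0 : Algebra.QuasiFiniteAt R (⊥ : Ideal B0) :=
    Algebra.QuasiFiniteAt.of_le (bot_le (a := q))
  haveI : IsLocalization.AtPrime (FractionRing B0) (⊥ : Ideal B0) := by
    show IsLocalization (⊥ : Ideal B0).primeCompl (FractionRing B0)
    rw [Ideal.primeCompl_bot]
    infer_instance
  let e : Localization.AtPrime (⊥ : Ideal B0) ≃ₐ[B0] FractionRing B0 :=
    IsLocalization.algEquiv (⊥ : Ideal B0).primeCompl _ _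
  exact (Algebra.QuasiFinite.iff_of_algEquiv (e.restrictScalars R)).mp hqf0

/-- If a field is quasi-finite over `A[X₁..Xₙ]` and has transcendence degree at least `n`, the
images of the variables are algebraically independent. -/
theorem algebraicIndependent_of_quasiFinite {A F : Type u} [CommRing A] [IsDomain A] [Field F]
    [Algebra A F] [FaithfulSMul A F] {n : ℕ} [Algebra (MvPolynomial (Fin n) A) F]
    [IsScalarTower A (MvPolynomial (Fin n) A) F] [Algebra.QuasiFinite (MvPolynomial (Fin n) A) F]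
    (hn : (n : Cardinal.{u}) ≤ Algebra.trdeg A F) :
    AlgebraicIndependent A
      (fun i => algebraMap (MvPolynomial (Fin n) A) F (MvPolynomial.X i)) := by
  let x : Fin n → F := fun i => algebraMap (MvPolynomial (Fin n) A) F (MvPolynomial.X i)
  let R'' := Algebra.adjoin A (Set.range x)
  have hmem : ∀ p, algebraMap (MvPolynomial (Fin n) A) F p ∈ R'' := fun p => by
    have : algebraMap (MvPolynomial (Fin n) A) F p = MvPolynomial.aeval x p := by
      have hh : IsScalarTower.toAlgHom A (MvPolynomial (Fin n) A) F = MvPolynomial.aeval x :=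
        MvPolynomial.algHom_ext fun i => by simp [x]
      exact DFunLike.congr_fun hh p
    rw [this]
    show _ ∈ Algebra.adjoin A (Set.range x)
    rw [Algebra.adjoin_range_eq_range_aeval]
    exact ⟨p, rfl⟩
  letI : Algebra (MvPolynomial (Fin n) A) R'' :=
    ((algebraMap (MvPolynomial (Fin n) A) F).codRestrict R''.toSubring hmem).toAlgebra
  haveI : IsScalarTower (MvPolynomial (Fin n) A) R'' F :=
    IsScalarTower.of_algebraMap_eq fun _ => rfl
  have hinj : Function.Injective (algebraMap R'' F) := Subtype.val_injective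
  let K' := FractionRing R''
  letI : Algebra K' F := (IsFractionRing.lift (A := R'') (K := K') hinj).toAlgebra
  haveI : IsScalarTower R'' K' F := IsScalarTower.of_algebraMap_eq fun y =>
    (IsFractionRing.lift_algebraMap hinj y).symm
  haveI : IsScalarTower (MvPolynomial (Fin n) A) K' F := IsScalarTower.of_algebraMap_eq fun y => by
    rw [IsScalarTower.algebraMap_apply (MvPolynomial (Fin n) A) R'' F,
      IsScalarTower.algebraMap_apply R'' K' F]
    rfl
  haveI : Algebra.QuasiFinite K' F :=
    Algebra.QuasiFinite.of_restrictScalars (MvPolynomial (Fin n) A) K' F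
  haveI : Module.Finite K' F := Module.Finite.of_quasiFinite
  haveI : Algebra.IsAlgebraic R'' K' := IsLocalization.isAlgebraic K' (nonZeroDivisors R'')
  haveI : Algebra.IsAlgebraic R'' F := Algebra.IsAlgebraic.trans R'' K' F
  haveI : Algebra.IsAlgebraic (Algebra.adjoin A (Set.range x)) F := ‹Algebra.IsAlgebraic R'' F›
  exact (Algebra.IsAlgebraic.isTranscendenceBasis_of_lift_le_trdeg_of_finite A x
    (by simpa using hn)).1

variable {A B0 : Type u} [CommRing A] [IsDomain A] [IsLocalRing A] [CommRing B0] [IsDomain B0]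
  [Algebra A B0] [FaithfulSMul A B0] [Algebra.FiniteType A B0]

/-- Quasi-finite slicing of `V(g)` near a point of the closed fibre. -/
theorem exists_quasiFiniteAt {D : Type u} [CommRing D] [Algebra A D] [Algebra (ResidueField A) D]
    [IsScalarTower A (ResidueField A) D] [Algebra.FiniteType (ResidueField A) D]
    (g : B0) (π : B0 →ₐ[A] D) (hπ : Function.Surjective π)
    (hker : RingHom.ker π = (maximalIdeal A).map (algebraMap A B0) ⊔ Ideal.span {g})
    (P : Ideal D) [P.IsPrime] :
    ∃ (n : ℕ) (x : Fin (n + 1) → B0), n ≤ Dim.Local.dimAt (ResidueField A) P ∧ x 0 = g ∧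
      (letI := (MvPolynomial.aeval x : MvPolynomial (Fin (n + 1)) A →ₐ[A] B0).toRingHom.toAlgebra
       Algebra.QuasiFiniteAt (MvPolynomial (Fin (n + 1)) A) (P.comap π.toRingHom)) := by
  classical
  let k := ResidueField A
  haveI : IsNoetherianRing D := Dim.Local.isNoetherianRing_of_field k
  have hfin := minimalPrimes.finite_of_isNoetherianRing D
  set G := hfin.toFinset.filter (fun Q => ¬ Q ≤ P) with hG
  set L := hfin.toFinset.filter (fun Q => Q ≤ P) with hL
  have hg : ∀ Q ∈ G, ∃ x ∈ Q, x ∉ P := fun Q hQ =>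
    Set.not_subset.mp (Finset.mem_filter.mp hQ).2
  choose! xg hxgQ hxgP using hg
  set g0 := ∏ Q ∈ G, xg Q with hg0
  have hg0P : g0 ∉ P := fun h => by
    obtain ⟨Q, hQ, hx⟩ := Ideal.IsPrime.prod_mem_iff.mp h
    exact hxgP Q hQ hx
  set J : Ideal D := L.inf id with hJ
  obtain ⟨Q0, hQ0, hQ0P⟩ := Ideal.exists_minimalPrimes_le (bot_le (a := P))
  have hQ0L : Q0 ∈ L := Finset.mem_filter.mpr ⟨hfin.mem_toFinset.mpr hQ0, hQ0P⟩
  have hJP : J ≤ P := (Finset.inf_le hQ0L (f := id)).trans hQ0P
  set n := Dim.Local.dimAt k P with hn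
  haveI : Nontrivial (D ⧸ J) :=
    Ideal.Quotient.nontrivial_iff.mpr fun h =>
      Ideal.IsPrime.ne_top ‹P.IsPrime› (top_unique (h ▸ hJP))
  obtain ⟨s, φ, hφ, hφfin⟩ := exists_finite_inj_algHom_of_fg k (D ⧸ J)
  letI := φ.toRingHom.toAlgebra
  haveI : FaithfulSMul (MvPolynomial (Fin s) k) (D ⧸ J) :=
    (faithfulSMul_iff_algebraMap_injective _ _).mpr hφ
  haveI : Module.Finite (MvPolynomial (Fin s) k) (D ⧸ J) := hφfin
  have hs : s ≤ n := by
    have h1 : ringKrullDim (D ⧸ J) ≤ (n : WithBot ℕ∞) := by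
      rw [Dim.Local.ringKrullDim_le_iff k]
      intro Q hQ
      haveI : Q.IsPrime := hQ.1.1
      have hle : J ≤ Q.comap (Ideal.Quotient.mk J) := fun x hx => by
        show Ideal.Quotient.mk J x ∈ Q
        rw [Ideal.Quotient.eq_zero_iff_mem.mpr hx]
        exact Q.zero_mem
      obtain ⟨Q1, hQ1, hQ1le⟩ := (Ideal.IsPrime.inf_le' (P := Q.comap (Ideal.Quotient.mk J))
        inferInstance).mp hle
      haveI : Q1.IsPrime := (hfin.mem_toFinset.mp (Finset.mem_filter.mp hQ1).1).1.1
      have h2 : ringKrullDim ((D ⧸ J) ⧸ Q) ≤ ringKrullDim (D ⧸ Q1) := by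
        refine ringKrullDim_le_of_surjective
          (Ideal.Quotient.lift Q1 ((Ideal.Quotient.mk Q).comp (Ideal.Quotient.mk J)) fun x hx => ?_) ?_
        · exact Ideal.Quotient.eq_zero_iff_mem.mpr (hQ1le hx)
        · intro z
          obtain ⟨z, rfl⟩ := Ideal.Quotient.mk_surjective z
          obtain ⟨z, rfl⟩ := Ideal.Quotient.mk_surjective z
          exact ⟨Ideal.Quotient.mk Q1 z, rfl⟩
      rw [Dim.Basic.ringKrullDim_quotient_prime k, Dim.Basic.ringKrullDim_quotient_prime k] at h2
      have h3 : Dim.Basic.dimQ k Q ≤ Dim.Basic.dimQ k Q1 := by exact_mod_cast h2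
      exact h3.trans (Dim.Local.dimQ_le_dimAt_of_le k (Finset.mem_filter.mp hQ1).2)
    rw [Dim.Integral.ringKrullDim_eq_of_isIntegral (R := MvPolynomial (Fin s) k)] at h1
    simp [MvPolynomial.ringKrullDim_of_isNoetherianRing] at h1
    exact h1
  let π' : B0 →+* D ⧸ J := (Ideal.Quotient.mk J).comp π.toRingHom
  have hπ' : Function.Surjective π' := Ideal.Quotient.mk_surjective.comp hπ
  choose x hx using fun i : Fin s => hπ' (φ (MvPolynomial.X i))
  refine ⟨s, Fin.cons g x, hs, rfl, ?_⟩
  let R' := MvPolynomial (Fin (s + 1)) A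
  letI : Algebra R' B0 := (MvPolynomial.aeval (Fin.cons g x : Fin (s + 1) → B0)).toRingHom.toAlgebra
  haveI : IsScalarTower A R' B0 := IsScalarTower.of_algebraMap_eq fun a =>
    ((MvPolynomial.aeval (Fin.cons g x : Fin (s + 1) → B0)).commutes a).symm
  haveI : Algebra.FiniteType R' B0 := Algebra.FiniteType.of_restrictScalars_finiteType A R' B0
  have hgker : π g = 0 := by
    rw [← RingHom.mem_ker, hker]
    exact Ideal.mem_sup_right (Ideal.subset_span rfl)
  let ν : R' →+* MvPolynomial (Fin s) k :=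
    MvPolynomial.eval₂Hom (MvPolynomial.C.comp (residue A)) (Fin.cons 0 MvPolynomial.X)
  have hνsurj : Function.Surjective ν := by
    intro r
    induction r using MvPolynomial.induction_on with
    | C c =>
      obtain ⟨a, rfl⟩ := residue_surjective c
      exact ⟨MvPolynomial.C a, MvPolynomial.eval₂Hom_C _ _ _⟩
    | add p q hp hq =>
      obtain ⟨p', rfl⟩ := hp
      obtain ⟨q', rfl⟩ := hq
      exact ⟨p' + q', map_add _ _ _⟩
    | mul_X p i hp =>
      obtain ⟨p', rfl⟩ := hp
      exact ⟨p' * MvPolynomial.X i.succ, (map_mul ν _ _).trans (congrArg₂ (· * ·) rfl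
        ((MvPolynomial.eval₂Hom_X' _ _ _).trans (Fin.cons_succ _ _ _)))⟩
  have hcomm : ∀ r : R', π' (algebraMap R' B0 r) = φ (ν r) := by
    intro r
    have : π'.comp (algebraMap R' B0) = φ.toRingHom.comp ν := by
      refine MvPolynomial.ringHom_ext (fun a => ?_) (fun i => ?_)
      · show Ideal.Quotient.mk J (π (MvPolynomial.aeval _ (MvPolynomial.C a))) =
          φ (MvPolynomial.eval₂Hom _ _ (MvPolynomial.C a))
        rw [MvPolynomial.aeval_C, π.commutes, MvPolynomial.eval₂Hom_C, RingHom.comp_apply,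
          MvPolynomial.C_eq_smul_one, map_smul, map_one, Algebra.smul_def, mul_one,
          IsScalarTower.algebraMap_apply A (ResidueField A) D]
        rfl
      · refine Fin.cases ?_ (fun j => ?_) i
        · show Ideal.Quotient.mk J (π (MvPolynomial.aeval _ (MvPolynomial.X 0))) =
            φ (MvPolynomial.eval₂Hom _ _ (MvPolynomial.X 0))
          rw [MvPolynomial.aeval_X, MvPolynomial.eval₂Hom_X', Fin.cons_zero, Fin.cons_zero, hgker,
            map_zero, map_zero]
        · show π' (MvPolynomial.aeval _ (MvPolynomial.X j.succ)) =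
            φ (MvPolynomial.eval₂Hom _ _ (MvPolynomial.X j.succ))
          rw [MvPolynomial.aeval_X, MvPolynomial.eval₂Hom_X', Fin.cons_succ, Fin.cons_succ, hx]
    exact RingHom.congr_fun this r
  let q : PrimeSpectrum B0 := ⟨P.comap π.toRingHom, inferInstance⟩
  let 𝔭 : PrimeSpectrum R' := PrimeSpectrum.comap (algebraMap R' B0) q
  obtain ⟨gt, hgt⟩ := hπ g0
  have hkq : RingHom.ker π ≤ q.asIdeal := fun b hb => by
    show π b ∈ P
    rw [RingHom.mem_ker.mp hb]
    exact P.zero_mem
  let U : Set (PrimeSpectrum B0) :=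
    {y | PrimeSpectrum.comap (algebraMap R' B0) y = 𝔭 ∧ gt ∉ y.asIdeal}
  have hU : ∀ y ∈ U, RingHom.ker π' ≤ y.asIdeal := by
    rintro y ⟨hy1, hy2⟩
    have hiff : ∀ r : R', algebraMap R' B0 r ∈ y.asIdeal ↔ algebraMap R' B0 r ∈ q.asIdeal :=
      fun r => by
        have := congrArg (fun w : PrimeSpectrum R' => r ∈ w.asIdeal) hy1
        exact this.to_iff
    have hmy : RingHom.ker π.toRingHom ≤ y.asIdeal := by
      show RingHom.ker π ≤ _
      rw [hker, sup_le_iff, Ideal.map_le_iff_le_comap, Ideal.span_singleton_le_iff_mem]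
      refine ⟨fun a ha => ?_, ?_⟩
      · show algebraMap A B0 a ∈ y.asIdeal
        rw [IsScalarTower.algebraMap_apply A R' B0, hiff, ← IsScalarTower.algebraMap_apply]
        exact hkq (hker ▸ Ideal.mem_sup_left (Ideal.mem_map_of_mem _ ha))
      · have hT : algebraMap R' B0 (MvPolynomial.X 0) = g := by
          show MvPolynomial.aeval _ (MvPolynomial.X 0) = g
          rw [MvPolynomial.aeval_X, Fin.cons_zero]
        rw [← hT, hiff, hT]
        exact hkq (hker ▸ Ideal.mem_sup_right (Ideal.subset_span rfl))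
    haveI : (y.asIdeal.map π.toRingHom).IsPrime := Ideal.map_isPrime_of_surjective hπ hmy
    have hcm : (y.asIdeal.map π.toRingHom).comap π.toRingHom = y.asIdeal :=
      (Ideal.comap_map_of_surjective' π.toRingHom hπ _).trans (sup_eq_left.mpr hmy)
    obtain ⟨Q, hQ, hQy⟩ := Ideal.exists_minimalPrimes_le (bot_le (a := y.asIdeal.map π.toRingHom))
    have hQL : Q ∈ L := by
      refine Finset.mem_filter.mpr ⟨hfin.mem_toFinset.mpr hQ, by_contra fun hQP => hy2 ?_⟩
      have hQG : Q ∈ G := Finset.mem_filter.mpr ⟨hfin.mem_toFinset.mpr hQ, hQP⟩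
      have : g0 ∈ y.asIdeal.map π.toRingHom :=
        hQy (Ideal.mem_of_dvd _ (Finset.dvd_prod_of_mem xg hQG) (hxgQ Q hQG))
      rw [← hcm]
      show π gt ∈ y.asIdeal.map π.toRingHom
      rwa [hgt]
    intro b hb
    rw [← hcm]
    exact (Finset.inf_le hQL (f := id)).trans hQy (Ideal.Quotient.eq_zero_iff_mem.mp hb)
  let bar : U → PrimeSpectrum (D ⧸ J) := fun y =>
    ⟨y.1.asIdeal.map π', Ideal.map_isPrime_of_surjective hπ' (hU y.1 y.2)⟩
  have hbar : ∀ y : U, (bar y).asIdeal.comap π' = y.1.asIdeal := fun y =>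
    (Ideal.comap_map_of_surjective' π' hπ' _).trans (sup_eq_left.mpr (hU y.1 y.2))
  have hbarinj : Function.Injective bar := fun y z h => Subtype.ext (PrimeSpectrum.ext (by
    rw [← hbar y, ← hbar z, h]))
  have hunder : ∀ y : U, (bar y).asIdeal.comap φ.toRingHom = 𝔭.asIdeal.map ν := by
    intro y
    have h1 : ((bar y).asIdeal.comap φ.toRingHom).comap ν = 𝔭.asIdeal := by
      ext r
      show φ (ν r) ∈ (bar y).asIdeal ↔ _
      rw [← hcomm]
      show algebraMap R' B0 r ∈ (bar y).asIdeal.comap π' ↔ _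
      rw [hbar y, ← y.2.1]
      rfl
    rw [← h1, Ideal.map_comap_of_surjective _ hνsurj]
  have hUfin : U.Finite := by
    rw [← Set.finite_coe_iff]
    by_cases hne : Nonempty U
    · obtain ⟨y0⟩ := hne
      let p' : PrimeSpectrum (MvPolynomial (Fin s) k) :=
        PrimeSpectrum.comap φ.toRingHom (bar y0)
      haveI := (Algebra.QuasiFinite.finite_comap_preimage_singleton
        (R := MvPolynomial (Fin s) k) (S := D ⧸ J) p').to_subtype
      refine Finite.of_injective (fun y : U => (⟨bar y, ?_⟩ :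
        ↥(PrimeSpectrum.comap (algebraMap (MvPolynomial (Fin s) k) (D ⧸ J)) ⁻¹' {p'}))) ?_
      · exact PrimeSpectrum.ext ((hunder y).trans (hunder y0).symm)
      · exact fun y z h => hbarinj (congrArg Subtype.val h)
    · haveI := not_nonempty_iff.mp hne
      infer_instance
  have hincomp : ∀ y z : U, y.1.asIdeal ≤ z.1.asIdeal → y = z := by
    intro y z hle
    refine hbarinj (PrimeSpectrum.ext ?_)
    haveI := (bar y).isPrime
    haveI := (bar z).isPrime
    exact Algebra.QuasiFinite.eq_of_le_of_under_eq (R := MvPolynomial (Fin s) k) _ _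
      (Ideal.map_mono hle) ((hunder y).trans (hunder z).symm)
  have hqU : q ∈ U := ⟨rfl, fun h => hg0P (by
    have h' : π gt ∈ P := h
    rwa [hgt] at h')⟩
  refine Algebra.QuasiFiniteAt.of_isOpen_singleton_fiber (R := R') q ?_
  let C : Set (PrimeSpectrum B0) := ⋃ y ∈ U \ {q}, PrimeSpectrum.zeroLocus (y.asIdeal : Set B0)
  have hC : IsClosed C :=
    (hUfin.subset Set.sdiff_subset).isClosed_biUnion fun y _ => PrimeSpectrum.isClosed_zeroLocus _
  refine isOpen_induced_iff.mpr ⟨(PrimeSpectrum.basicOpen gt : Set (PrimeSpectrum B0)) ∩ Cᶜ,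
    (PrimeSpectrum.basicOpen gt).2.inter hC.isOpen_compl, ?_⟩
  ext y
  obtain ⟨y, hy⟩ := y
  simp only [Set.mem_preimage, Set.mem_inter_iff, Set.mem_compl_iff, Set.mem_singleton_iff]
  constructor
  · rintro ⟨hy1, hy2⟩
    by_contra hne
    exact hy2 (Set.mem_biUnion (show y ∈ U \ {q} from
      ⟨⟨hy, hy1⟩, fun h => hne (by first | exact h | exact Subtype.ext h)⟩) (fun _ h => h))
  · intro h
    obtain rfl : y = q := by first | exact h | exact congrArg Subtype.val h
    refine ⟨hqU.2, fun hC' => ?_⟩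
    obtain ⟨z, ⟨hz, hzne⟩, hzle⟩ := Set.mem_iUnion₂.mp hC'
    exact hzne (congrArg Subtype.val (hincomp ⟨z, hz⟩ ⟨q, hqU⟩ hzle))

/-- Quasi-finiteness passes to an algebra over a larger base generated by the image. -/
theorem quasiFiniteAt_of_generated {R R' B B' : Type u} [CommRing R] [CommRing R'] [CommRing B]
    [CommRing B'] [Algebra R R'] [Algebra R B] [Algebra R B'] [Algebra R' B']
    [IsScalarTower R R' B'] (f : B →ₐ[R] B') (hgen : Algebra.adjoin R' (Set.range f) = ⊤)
    (q : Ideal B) [q.IsPrime] [Algebra.QuasiFiniteAt R q] (q' : Ideal B') [q'.IsPrime]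
    (hq : q = q'.comap f.toRingHom) :
    Algebra.QuasiFiniteAt R' q' ∧ (Algebra.FiniteType R B → Algebra.FiniteType R' B') := by
  let Ψ : R' ⊗[R] B →ₐ[R'] B' :=
    Algebra.TensorProduct.lift (Algebra.ofId R' B') f fun _ _ => .all _ _
  have hΨ1 : ∀ b, Ψ (1 ⊗ₜ b) = f b := fun b => by simp [Ψ]
  have hΨ : Function.Surjective Ψ := by
    rw [← AlgHom.range_eq_top, ← top_le_iff, ← hgen, Algebra.adjoin_le_iff]
    rintro _ ⟨b, rfl⟩
    exact ⟨1 ⊗ₜ b, hΨ1 b⟩
  refine ⟨?_, fun _ => Algebra.FiniteType.of_surjective Ψ hΨ⟩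
  haveI : Algebra.QuasiFiniteAt R' (q'.comap Ψ.toRingHom) := by
    refine Algebra.QuasiFiniteAt.baseChange q _ ?_
    subst hq
    ext b
    show f b ∈ q' ↔ Ψ (1 ⊗ₜ b) ∈ q'
    rw [hΨ1]
  exact Algebra.QuasiFiniteAt.of_surjectiveOnStalks (q'.comap Ψ.toRingHom) Ψ
    (RingHom.surjectiveOnStalks_of_surjective hΨ) q' rfl

/-- Over a normal base, a quasi-finite point of an injective `V[T₀..Tₙ] → B` over `T₀ = 0` lies on
a prime containing `T₀` over the generic point. -/
theorem exists_prime_generic {V B : Type u} [CommRing V] [IsDomain V] [IsIntegrallyClosed V]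
    [CommRing B] [IsDomain B] {n : ℕ} [Algebra (MvPolynomial (Fin (n + 1)) V) B]
    [FaithfulSMul (MvPolynomial (Fin (n + 1)) V) B]
    [Algebra.FiniteType (MvPolynomial (Fin (n + 1)) V) B] (q : Ideal B) [q.IsPrime]
    [Algebra.QuasiFiniteAt (MvPolynomial (Fin (n + 1)) V) q]
    (hX : algebraMap _ B (MvPolynomial.X 0 : MvPolynomial (Fin (n + 1)) V) ∈ q) :
    ∃ Q : Ideal B, Q.IsPrime ∧
      algebraMap _ B (MvPolynomial.X 0 : MvPolynomial (Fin (n + 1)) V) ∈ Q ∧
      ∀ v : V, algebraMap _ B (MvPolynomial.C v : MvPolynomial (Fin (n + 1)) V) ∈ Q → v = 0 := by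
  obtain ⟨C, hCfg, h, hhq, hbij⟩ :=
    Algebra.QuasiFiniteAt.exists_fg_and_exists_notMem_and_awayMap_bijective
      (R := MvPolynomial (Fin (n + 1)) V) q
  haveI : FaithfulSMul (MvPolynomial (Fin (n + 1)) V) C :=
    (faithfulSMul_iff_algebraMap_injective _ _).mpr fun a b hab =>
      FaithfulSMul.algebraMap_injective _ B (congrArg Subtype.val hab)
  haveI : Module.Finite (MvPolynomial (Fin (n + 1)) V) C := Module.Finite.iff_fg.mpr hCfg
  haveI : Algebra.IsIntegral (MvPolynomial (Fin (n + 1)) V) C := Algebra.IsIntegral.of_finite _ C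
  haveI : IsIntegrallyClosed (MvPolynomial (Fin (n + 1)) V) :=
    Groth.Agent.Lib.Excellent.GenericNormal.isIntegrallyClosed_mvPolynomial_fin (R := V) (n + 1)
  let p1 : Ideal (MvPolynomial (Fin (n + 1)) V) := Ideal.span {MvPolynomial.X 0}
  haveI : p1.IsPrime :=
    (Ideal.span_singleton_prime (MvPolynomial.X_ne_zero 0)).mpr MvPolynomial.X_prime
  let qC : Ideal C := q.comap C.val.toRingHom
  haveI : qC.LiesOver (qC.under (MvPolynomial (Fin (n + 1)) V)) := ⟨rfl⟩
  have hp1le : p1 ≤ qC.under (MvPolynomial (Fin (n + 1)) V) := by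
    rw [Ideal.span_singleton_le_iff_mem]
    exact hX
  obtain ⟨c1, hc1le, hc1p, hc1lo⟩ := Ideal.exists_ideal_le_liesOver_of_le qC hp1le
  haveI := hc1p
  have hhc1 : h ∉ c1 := fun hh => hhq (hc1le hh)
  let Ch := Localization.Away h
  let Bh := Localization.Away (C.val.toRingHom h)
  have hdisj : Disjoint (Submonoid.powers h : Set C) (c1 : Set C) := by
    rw [Set.disjoint_left]
    rintro _ ⟨m, rfl⟩ hm
    exact hhc1 (hc1p.mem_of_pow_mem m hm)
  haveI : (c1.map (algebraMap C Ch)).IsPrime :=
    IsLocalization.isPrime_of_isPrime_disjoint _ Ch c1 hc1p hdisj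
  let e : Ch ≃+* Bh := RingEquiv.ofBijective (Localization.awayMap C.val.toRingHom h) hbij
  let Q : Ideal B := (c1.map (algebraMap C Ch)).comap (e.symm.toRingHom.comp (algebraMap B Bh))
  have hQC : ∀ c : C, (c : B) ∈ Q ↔ c ∈ c1 := fun c => by
    have he : algebraMap B Bh (c : B) = e (algebraMap C Ch c) := by
      show _ = Localization.awayMap C.val.toRingHom h (algebraMap C (Localization.Away h) c)
      simp only [Localization.awayMap, IsLocalization.Away.map, IsLocalization.map_eq]
      rfl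
    show e.symm (algebraMap B Bh (c : B)) ∈ c1.map (algebraMap C Ch) ↔ c ∈ c1
    rw [he, RingEquiv.symm_apply_apply]
    conv_rhs => rw [← IsLocalization.under_map_of_isPrime_disjoint _ Ch hc1p hdisj]
    rfl
  refine ⟨Q, inferInstance, ?_, fun v hv => ?_⟩
  · refine (hQC (algebraMap (MvPolynomial (Fin (n + 1)) V) C (MvPolynomial.X 0))).mpr ?_
    rw [← Ideal.mem_of_liesOver c1 p1]
    exact Ideal.subset_span rfl
  · have h1 : MvPolynomial.C v ∈ p1 := (Ideal.mem_of_liesOver c1 p1 _).mpr
      ((hQC (algebraMap (MvPolynomial (Fin (n + 1)) V) C (MvPolynomial.C v))).mp hv)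
    obtain ⟨r, hr⟩ := Ideal.mem_span_singleton'.mp h1
    have h2 := congrArg (MvPolynomial.eval (fun _ => (0 : V))) hr
    simpa using h2.symm

/-- The valuation ring step: a quasi-finite slicing by `x` with `x 0 = g` gives a prime over the
generic point containing `g`. -/
theorem exists_generic_prime_of_quasiFiniteAt {A B0 : Type u} [CommRing A] [IsDomain A]
    [CommRing B0] [IsDomain B0] [Algebra A B0] [FaithfulSMul A B0] [Algebra.FiniteType A B0]
    {n : ℕ} [Algebra (MvPolynomial (Fin (n + 1)) A) B0]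
    [IsScalarTower A (MvPolynomial (Fin (n + 1)) A) B0]
    (hn : ((n + 1 : ℕ) : Cardinal.{u}) ≤ Algebra.trdeg A B0) (q : Ideal B0) [q.IsPrime]
    [Algebra.QuasiFiniteAt (MvPolynomial (Fin (n + 1)) A) q]
    (hX : algebraMap _ B0 (MvPolynomial.X 0 : MvPolynomial (Fin (n + 1)) A) ∈ q) :
    ∃ Q : Ideal B0, Q.IsPrime ∧ Q.comap (algebraMap A B0) = ⊥ ∧
      algebraMap _ B0 (MvPolynomial.X 0 : MvPolynomial (Fin (n + 1)) A) ∈ Q := by
  haveI : Algebra.QuasiFinite (MvPolynomial (Fin (n + 1)) A) (FractionRing B0) :=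
    quasiFinite_fractionRing q
  have hAF : Function.Injective (algebraMap A (FractionRing B0)) := by
    rw [IsScalarTower.algebraMap_eq A B0 (FractionRing B0)]
    exact (IsFractionRing.injective B0 _).comp (FaithfulSMul.algebraMap_injective A B0)
  haveI : FaithfulSMul A (FractionRing B0) := (faithfulSMul_iff_algebraMap_injective _ _).mpr hAF
  have hleF : ((n + 1 : ℕ) : Cardinal.{u}) ≤ Algebra.trdeg A (FractionRing B0) :=
    hn.trans (trdeg_le_of_injective (IsScalarTower.toAlgHom A B0 (FractionRing B0))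
      (IsFractionRing.injective B0 _))
  have hindep := algebraicIndependent_of_quasiFinite (n := n + 1) hleF
  have hunit : ∀ b : q.primeCompl, IsUnit (algebraMap B0 (FractionRing B0) b) := fun b =>
    isUnit_iff_ne_zero.mpr ((map_ne_zero_iff _ (IsFractionRing.injective B0 _)).mpr
      fun h => b.2 (by rw [h]; exact q.zero_mem))
  obtain ⟨W, j, hj, hjloc⟩ := FlatFibreTrdeg.exists_valuationSubring_dominating
    (IsLocalization.lift (M := q.primeCompl) (S := Localization.AtPrime q) hunit)
  have hjB : ∀ b : B0, ((j (algebraMap B0 _ b) : W) : FractionRing B0) =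
      algebraMap B0 (FractionRing B0) b :=
    fun b => (hj _).trans (IsLocalization.lift_eq hunit b)
  have hBW : ∀ b : B0, algebraMap B0 (FractionRing B0) b ∈ W := fun b => hjB b ▸ (j _).2
  obtain ⟨ι, hι⟩ : ∃ ι : FractionRing A →+* FractionRing B0,
      ∀ a, ι (algebraMap A _ a) = algebraMap A _ a :=
    ⟨IsFractionRing.lift hAF, IsFractionRing.lift_algebraMap hAF⟩
  let V : ValuationSubring (FractionRing A) := W.comap ι
  have hAV : ∀ a : A, algebraMap A (FractionRing A) a ∈ V := fun a => by
    show ι (algebraMap A (FractionRing A) a) ∈ W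
    rw [hι, IsScalarTower.algebraMap_apply A B0 (FractionRing B0)]
    exact hBW _
  letI : Algebra A V := ((algebraMap A (FractionRing A)).codRestrict V.toSubring hAV).toAlgebra
  letI : Algebra V (FractionRing B0) := (ι.comp V.subtype).toAlgebra
  haveI : IsScalarTower A V (FractionRing B0) := IsScalarTower.of_algebraMap_eq fun a => (hι a).symm
  haveI : Algebra.IsAlgebraic A V := FlatFibreTrdeg.isAlgebraic_of_frac fun v => by
    obtain ⟨a, b, hb, hv⟩ :=
      IsFractionRing.div_surjective (A := A) (K := FractionRing A) (v : FractionRing A)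
    refine ⟨a, b, nonZeroDivisors.ne_zero hb, Subtype.ext ?_⟩
    show (v : FractionRing A) * algebraMap A _ b = algebraMap A _ a
    rw [← hv, div_mul_cancel₀ _ (IsFractionRing.to_map_ne_zero_of_mem_nonZeroDivisors hb)]
  let B'' : Subalgebra V (FractionRing B0) :=
    Algebra.adjoin V (Set.range (algebraMap B0 (FractionRing B0)))
  have hB''W : ∀ z : B'', (z : FractionRing B0) ∈ W := by
    rintro ⟨z, hz⟩
    induction hz using Algebra.adjoin_induction with
    | mem w hw => obtain ⟨b, rfl⟩ := hw; exact hBW b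
    | algebraMap v => exact v.2
    | add _ _ _ _ h1 h2 => exact add_mem h1 h2
    | mul _ _ _ _ h1 h2 => exact mul_mem h1 h2
  let cW : B'' →+* W := (B''.val.toRingHom).codRestrict W.toSubring hB''W
  let q'' : Ideal B'' := (maximalIdeal W).comap cW
  let ib : B0 →+* B'' :=
    (algebraMap B0 (FractionRing B0)).codRestrict B''.toSubring
      fun b => Algebra.subset_adjoin ⟨b, rfl⟩
  have hibq : q = q''.comap ib := by
    ext b
    have he : cW (ib b) = j (algebraMap B0 _ b) := Subtype.ext (hjB b).symm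
    show _ ↔ cW (ib b) ∈ maximalIdeal W
    rw [he, ← IsLocalization.AtPrime.to_map_mem_maximal_iff (Localization.AtPrime q) q b,
      mem_maximalIdeal, mem_maximalIdeal]
    exact (map_mem_nonunits_iff j _).symm
  let T : Fin (n + 1) → B'' := fun i => ib (algebraMap (MvPolynomial (Fin (n + 1)) A) B0 (MvPolynomial.X i))
  letI : Algebra (MvPolynomial (Fin (n + 1)) V) B'' := (MvPolynomial.aeval T).toRingHom.toAlgebra
  letI : Algebra (MvPolynomial (Fin (n + 1)) A) (MvPolynomial (Fin (n + 1)) V) :=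
    (MvPolynomial.map (algebraMap A V)).toAlgebra
  letI : Algebra (MvPolynomial (Fin (n + 1)) A) B'' :=
    (ib.comp (algebraMap (MvPolynomial (Fin (n + 1)) A) B0)).toAlgebra
  have hT : ∀ i, algebraMap (MvPolynomial (Fin (n + 1)) V) B'' (MvPolynomial.X i) = T i :=
    fun i => MvPolynomial.aeval_X _ _
  have hC : ∀ v : V, algebraMap (MvPolynomial (Fin (n + 1)) V) B'' (MvPolynomial.C v) =
      algebraMap V B'' v := fun v => MvPolynomial.aeval_C _ _
  haveI : IsScalarTower (MvPolynomial (Fin (n + 1)) A) (MvPolynomial (Fin (n + 1)) V) B'' :=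
    IsScalarTower.of_algebraMap_eq' (by
      refine MvPolynomial.ringHom_ext (fun a => ?_) (fun i => ?_)
      · refine Subtype.ext ?_
        show algebraMap B0 (FractionRing B0) (algebraMap _ B0 (MvPolynomial.C a)) =
          ((algebraMap (MvPolynomial (Fin (n + 1)) V) B''
            (MvPolynomial.map (algebraMap A V) (MvPolynomial.C a)) : B'') : FractionRing B0)
        rw [MvPolynomial.map_C, hC, ← MvPolynomial.algebraMap_eq,
          ← IsScalarTower.algebraMap_apply, ← IsScalarTower.algebraMap_apply]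
        exact IsScalarTower.algebraMap_apply A V (FractionRing B0) a
      · refine Subtype.ext ?_
        show _ = ((algebraMap (MvPolynomial (Fin (n + 1)) V) B''
            (MvPolynomial.map (algebraMap A V) (MvPolynomial.X i)) : B'') : FractionRing B0)
        rw [MvPolynomial.map_X, hT]
        rfl)
  let ibR : B0 →ₐ[MvPolynomial (Fin (n + 1)) A] B'' := { toRingHom := ib, commutes' := fun r => rfl }
  have hgen : Algebra.adjoin (MvPolynomial (Fin (n + 1)) V) (Set.range ibR) = ⊤ := by
    rw [eq_top_iff]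
    rintro ⟨z, hz⟩ -
    induction hz using Algebra.adjoin_induction with
    | mem w hw =>
      obtain ⟨b, rfl⟩ := hw
      exact Algebra.subset_adjoin ⟨b, rfl⟩
    | algebraMap v =>
      have := Subalgebra.algebraMap_mem
        (Algebra.adjoin (MvPolynomial (Fin (n + 1)) V) (Set.range ibR)) (MvPolynomial.C v)
      rwa [hC] at this
    | add _ _ _ _ h1 h2 => exact add_mem h1 h2
    | mul _ _ _ _ h1 h2 => exact mul_mem h1 h2
  obtain ⟨hqf, hft⟩ := quasiFiniteAt_of_generated (R' := MvPolynomial (Fin (n + 1)) V) ibR hgen q q''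
    hibq
  haveI := hqf
  haveI : Algebra.FiniteType (MvPolynomial (Fin (n + 1)) V) B'' :=
    hft (Algebra.FiniteType.of_restrictScalars_finiteType A (MvPolynomial (Fin (n + 1)) A) B0)
  haveI : FaithfulSMul (MvPolynomial (Fin (n + 1)) V) B'' := by
    refine (faithfulSMul_iff_algebraMap_injective _ _).mpr fun a b hab => ?_
    have hV : AlgebraicIndependent V
        (fun i => algebraMap (MvPolynomial (Fin (n + 1)) A) (FractionRing B0) (MvPolynomial.X i)) :=
      hindep.extendScalars (S := V)
    apply hV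
    have hval : B''.val.comp (MvPolynomial.aeval T) = MvPolynomial.aeval
        (fun i => algebraMap (MvPolynomial (Fin (n + 1)) A) (FractionRing B0) (MvPolynomial.X i)) :=
      MvPolynomial.algHom_ext fun i => by
        rw [AlgHom.comp_apply, MvPolynomial.aeval_X, MvPolynomial.aeval_X,
          IsScalarTower.algebraMap_apply (MvPolynomial (Fin (n + 1)) A) B0 (FractionRing B0)]
        rfl
    rw [← hval]
    exact congrArg B''.val hab
  have hX'' : algebraMap (MvPolynomial (Fin (n + 1)) V) B'' (MvPolynomial.X 0) ∈ q'' := by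
    rw [hT]
    exact (Ideal.mem_comap (f := ib)).mp (hibq ▸ hX)
  obtain ⟨Q, hQ, hXQ, hQV⟩ := exists_prime_generic q'' hX''
  haveI := hQ
  rw [hT] at hXQ
  refine ⟨Q.comap ib, inferInstance, ?_, hXQ⟩
  refine le_antisymm (fun a ha => ?_) bot_le
  have hib : ib (algebraMap A B0 a) = algebraMap V B'' (algebraMap A V a) := Subtype.ext
    ((IsScalarTower.algebraMap_apply A B0 (FractionRing B0) a).symm.trans
      (IsScalarTower.algebraMap_apply A V (FractionRing B0) a))
  have hv : algebraMap A V a = 0 := hQV _ (by rw [hC, ← hib]; exact ha)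
  rw [Ideal.mem_bot]
  exact (map_eq_zero_iff _ (IsFractionRing.injective A (FractionRing A))).mp
    (congrArg Subtype.val hv)

/-- A principal closed subset missing the generic fibre has full dimension at each of its points
of the closed fibre. -/
theorem trdeg_le_dimAt_of_vertical {D : Type u} [CommRing D] [Algebra A D]
    [Algebra (ResidueField A) D] [IsScalarTower A (ResidueField A) D]
    [Algebra.FiniteType (ResidueField A) D] (g : B0)
    (hgen : ∀ Q : Ideal B0, Q.IsPrime → Q.comap (algebraMap A B0) = ⊥ → g ∉ Q)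
    (π : B0 →ₐ[A] D) (hπ : Function.Surjective π)
    (hker : RingHom.ker π = (maximalIdeal A).map (algebraMap A B0) ⊔ Ideal.span {g})
    (P : Ideal D) [P.IsPrime] :
    Algebra.trdeg A B0 ≤ (Dim.Local.dimAt (ResidueField A) P : Cardinal.{u}) := by
  classical
  obtain ⟨n, x, hn, hx0, hqf⟩ := exists_quasiFiniteAt g π hπ hker P
  by_contra hcon
  rw [not_le] at hcon
  have hlt : (n : Cardinal.{u}) < Algebra.trdeg A B0 := lt_of_le_of_lt (by exact_mod_cast hn) hcon
  have hle : ((n + 1 : ℕ) : Cardinal.{u}) ≤ Algebra.trdeg A B0 :=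
    (Cardinal.nat_succ n).trans_le (Order.succ_le_of_lt hlt)
  letI : Algebra (MvPolynomial (Fin (n + 1)) A) B0 := (MvPolynomial.aeval x).toRingHom.toAlgebra
  haveI : IsScalarTower A (MvPolynomial (Fin (n + 1)) A) B0 :=
    IsScalarTower.of_algebraMap_eq fun a => ((MvPolynomial.aeval x).commutes a).symm
  haveI : Algebra.QuasiFiniteAt (MvPolynomial (Fin (n + 1)) A) (P.comap π.toRingHom) := hqf
  have hX : algebraMap (MvPolynomial (Fin (n + 1)) A) B0 (MvPolynomial.X 0) = g :=
    (MvPolynomial.aeval_X x 0).trans hx0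
  have hgq : g ∈ P.comap π.toRingHom := by
    show π g ∈ P
    rw [RingHom.mem_ker.mp (hker ▸ Ideal.mem_sup_right (Ideal.subset_span rfl))]
    exact P.zero_mem
  obtain ⟨Q, hQ, hQA, hXQ⟩ :=
    exists_generic_prime_of_quasiFiniteAt hle (P.comap π.toRingHom) (hX.symm ▸ hgq)
  exact hgen Q hQ hQA (hX ▸ hXQ)

end Groth.Agent.H20.PrincipalVertical
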