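import Groth.Agent.H20.PrincipalVertical
import Groth.Agent.H20.FlatSupportTrdeg
import Mathlib.RingTheory.AlgebraicIndependent.AlgebraicClosure
import Mathlib.AlgebraicGeometry.IdealSheaf.Basic

/-!
# Locally principal closed subschemes with empty generic fibre are vertical
-/

set_option autoImplicit false
set_option linter.style.haveILetI false

universe u

open scoped TensorProduct
open IsLocalRing Groth.Agent.Lib

namespace Groth.Agent.H20.PrincipalVertical

/-- Domain version, localised at `p`: some prime `Q ⊆ q` over `p` containing `g` has at least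
`trdeg_A B` many elements independent modulo `Q` over `p`. -/
theorem exists_prime_vertical_of_isDomain {A B : Type u} [CommRing A] [IsDomain A] [CommRing B]
    [IsDomain B] [Algebra A B] [FaithfulSMul A B] [Algebra.FiniteType A B] (p : Ideal A) [p.IsPrime]
    (q : Ideal B) [q.IsPrime] [q.LiesOver p] (g : B) (hg : g ∈ q)
    (hgen : ∀ Q : Ideal B, Q.IsPrime → Q.comap (algebraMap A B) = ⊥ → g ∉ Q) :
    ∃ Q : Ideal B, Q.IsPrime ∧ Q ≤ q ∧ Q.comap (algebraMap A B) = p ∧ g ∈ Q ∧
      ∃ (σ : Type u) (t : σ → B), Algebra.trdeg A B ≤ Cardinal.mk σ ∧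
        ∀ P : MvPolynomial σ A, (∃ m, P.coeff m ∉ p) → MvPolynomial.aeval t P ∉ Q := by
  classical
  set Mp := Algebra.algebraMapSubmonoid B p.primeCompl with hMp
  let A1 := Localization.AtPrime p
  let B1 := Localization Mp
  have hMne : Mp ≤ nonZeroDivisors B := by
    rintro _ ⟨a, ha, rfl⟩
    exact mem_nonZeroDivisors_of_ne_zero
      ((map_ne_zero_iff _ (FaithfulSMul.algebraMap_injective A B)).mpr
        fun h => ha (h ▸ p.zero_mem))
  haveI : IsDomain B1 := IsLocalization.isDomain_localization hMne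
  haveI : IsDomain A1 := IsLocalization.isDomain_localization p.primeCompl_le_nonZeroDivisors
  letI : Algebra A1 B1 := localizationAlgebra p.primeCompl B
  haveI : IsScalarTower A A1 B1 := IsScalarTower.of_algebraMap_eq' (by
    rw [IsScalarTower.algebraMap_eq A B B1]
    exact (IsLocalization.map_comp _).symm)
  have hdisjq : Disjoint (Mp : Set B) (q : Set B) := by
    rw [Set.disjoint_left]
    rintro _ ⟨a, ha, rfl⟩ haq
    exact ha ((Ideal.mem_of_liesOver q p a).mpr haq)
  have hBinj : Function.Injective (algebraMap B B1) := IsLocalization.injective B1 hMne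
  haveI : FaithfulSMul A1 B1 := (faithfulSMul_iff_algebraMap_injective _ _).mpr (by
    refine (injective_iff_map_eq_zero _).mpr fun z hz => ?_
    obtain ⟨a, s, rfl⟩ := IsLocalization.exists_mk'_eq p.primeCompl z
    have h2 : algebraMap A B1 a = 0 := by
      have : algebraMap A1 B1 (IsLocalization.mk' A1 a s * algebraMap A A1 s) = 0 := by
        rw [map_mul, hz, zero_mul]
      rwa [IsLocalization.mk'_spec, ← IsScalarTower.algebraMap_apply] at this
    rw [IsScalarTower.algebraMap_apply A B B1, map_eq_zero_iff _ hBinj,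
      map_eq_zero_iff _ (FaithfulSMul.algebraMap_injective A B)] at h2
    rw [h2, IsLocalization.mk'_zero])
  haveI : Algebra.FiniteType A1 B1 := by
    let Ψ : A1 ⊗[A] B →ₐ[A1] B1 :=
      Algebra.TensorProduct.lift (Algebra.ofId A1 B1) (IsScalarTower.toAlgHom A B B1)
        fun _ _ => .all _ _
    refine Algebra.FiniteType.of_surjective Ψ fun z => ?_
    obtain ⟨b, ⟨_, a, ha, rfl⟩, rfl⟩ := IsLocalization.exists_mk'_eq Mp z
    refine ⟨IsLocalization.mk' A1 1 (⟨a, ha⟩ : p.primeCompl) ⊗ₜ b, ?_⟩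
    rw [IsLocalization.eq_mk'_iff_mul_eq]
    have h1 : algebraMap A1 B1 (IsLocalization.mk' A1 1 (⟨a, ha⟩ : p.primeCompl)) *
        algebraMap B B1 (algebraMap A B a) = 1 := by
      rw [← IsScalarTower.algebraMap_apply A B B1, IsScalarTower.algebraMap_apply A A1 B1,
        ← map_mul, IsLocalization.mk'_spec_mk, map_one, map_one]
    simp only [Ψ, Algebra.TensorProduct.lift_tmul, Algebra.ofId_apply,
      IsScalarTower.coe_toAlgHom']
    calc _ = (algebraMap A1 B1 (IsLocalization.mk' A1 1 (⟨a, ha⟩ : p.primeCompl)) *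
          algebraMap B B1 (algebraMap A B a)) * algebraMap B B1 b := by ring
      _ = _ := by rw [h1, one_mul]
  let q1 : Ideal B1 := q.map (algebraMap B B1)
  haveI : q1.IsPrime := IsLocalization.isPrime_of_isPrime_disjoint Mp B1 q inferInstance hdisjq
  have hq1 : q1.comap (algebraMap B B1) = q :=
    IsLocalization.under_map_of_isPrime_disjoint Mp B1 inferInstance hdisjq
  -- the special fibre of `V(g)`
  let K0 : Ideal B1 := (maximalIdeal A1).map (algebraMap A1 B1) ⊔ Ideal.span {algebraMap B B1 g}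
  have hK0 : K0 ≤ q1 := by
    refine sup_le ?_ ?_
    · rw [← Localization.AtPrime.map_eq_maximalIdeal, Ideal.map_map,
        ← IsScalarTower.algebraMap_eq, IsScalarTower.algebraMap_eq A B B1, ← Ideal.map_map]
      refine Ideal.map_mono (Ideal.map_le_iff_le_comap.mpr fun a ha => ?_)
      exact (Ideal.mem_of_liesOver q p a).mp ha
    · rw [Ideal.span_singleton_le_iff_mem]
      exact Ideal.mem_map_of_mem _ hg
  letI : Algebra (ResidueField A1) (B1 ⧸ K0) :=
    (Ideal.Quotient.lift (maximalIdeal A1) (algebraMap A1 (B1 ⧸ K0)) fun a ha =>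
      Ideal.Quotient.eq_zero_iff_mem.mpr (Ideal.mem_sup_left (Ideal.mem_map_of_mem _ ha))).toAlgebra
  haveI : IsScalarTower A1 (ResidueField A1) (B1 ⧸ K0) := IsScalarTower.of_algebraMap_eq fun _ => rfl
  haveI : Algebra.FiniteType A1 (B1 ⧸ K0) :=
    Algebra.FiniteType.of_surjective (Ideal.Quotient.mkₐ A1 K0) Ideal.Quotient.mk_surjective
  haveI : Algebra.FiniteType (ResidueField A1) (B1 ⧸ K0) :=
    Algebra.FiniteType.of_restrictScalars_finiteType A1 (ResidueField A1) (B1 ⧸ K0)
  let P : Ideal (B1 ⧸ K0) := q1.map (Ideal.Quotient.mk K0)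
  haveI : P.IsPrime := Ideal.map_isPrime_of_surjective Ideal.Quotient.mk_surjective
    ((Ideal.mk_ker).le.trans hK0)
  have hgen1 : ∀ Q : Ideal B1, Q.IsPrime → Q.comap (algebraMap A1 B1) = ⊥ →
      algebraMap B B1 g ∉ Q := by
    intro Q hQ hQA hgQ
    refine hgen (Q.comap (algebraMap B B1)) inferInstance ?_ hgQ
    refine le_antisymm (fun a ha => ?_) bot_le
    have : algebraMap A A1 a ∈ Q.comap (algebraMap A1 B1) := by
      rw [Ideal.mem_comap, ← IsScalarTower.algebraMap_apply, IsScalarTower.algebraMap_apply A B B1]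
      exact ha
    rw [hQA, Ideal.mem_bot] at this
    rw [Ideal.mem_bot]
    exact IsLocalization.injective A1 p.primeCompl_le_nonZeroDivisors (this.trans (map_zero _).symm)
  have hdim := trdeg_le_dimAt_of_vertical (algebraMap B B1 g) hgen1 (Ideal.Quotient.mkₐ A1 K0)
    Ideal.Quotient.mk_surjective (Ideal.Quotient.mkₐ_ker A1 K0) P
  haveI : FaithfulSMul A B1 := (faithfulSMul_iff_algebraMap_injective _ _).mpr (by
    rw [IsScalarTower.algebraMap_eq A B B1]
    exact hBinj.comp (FaithfulSMul.algebraMap_injective A B))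
  haveI : Algebra.IsAlgebraic A A1 := IsLocalization.isAlgebraic A1 p.primeCompl
  have htr : Algebra.trdeg A B ≤ Algebra.trdeg A1 B1 := by
    haveI : FaithfulSMul A A1 := (faithfulSMul_iff_algebraMap_injective _ _).mpr
      (IsLocalization.injective A1 p.primeCompl_le_nonZeroDivisors)
    have h := trdeg_add_eq A A1 (A := B1)
    rw [trdeg_eq_zero (R := A) (A := A1), zero_add] at h
    rw [h]
    exact trdeg_le_of_injective (IsScalarTower.toAlgHom A B B1) hBinj
  obtain ⟨Q, hQmin, hQP, hQdim⟩ := Dim.Local.exists_minimalPrimes_dimAt_eq (ResidueField A1) P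
  haveI : Q.IsPrime := hQmin.1.1
  let ρ : B →+* (B1 ⧸ K0) ⧸ Q :=
    (Ideal.Quotient.mk Q).comp ((Ideal.Quotient.mk K0).comp (algebraMap B B1))
  haveI : Algebra.IsAlgebraic (Algebra.adjoin (ResidueField A1) (Set.range ρ))
      ((B1 ⧸ K0) ⧸ Q) := by
    refine ⟨fun z => ?_⟩
    obtain ⟨z, rfl⟩ := Ideal.Quotient.mk_surjective z
    obtain ⟨z, rfl⟩ := Ideal.Quotient.mk_surjective z
    obtain ⟨b, ⟨_, a, ha, rfl⟩, rfl⟩ := IsLocalization.exists_mk'_eq Mp z
    have hz : Ideal.Quotient.mk Q (Ideal.Quotient.mk K0 (IsLocalization.mk' B1 b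
        (⟨algebraMap A B a, a, ha, rfl⟩ : Mp))) ∈
        Algebra.adjoin (ResidueField A1) (Set.range ρ) := by
      have h1 : algebraMap A1 B1 (IsLocalization.mk' A1 1 (⟨a, ha⟩ : p.primeCompl)) *
          algebraMap B B1 b = IsLocalization.mk' B1 b (⟨algebraMap A B a, a, ha, rfl⟩ : Mp) := by
        rw [IsLocalization.eq_mk'_iff_mul_eq]
        calc _ = (algebraMap A1 B1 (IsLocalization.mk' A1 1 (⟨a, ha⟩ : p.primeCompl)) *
              algebraMap B B1 (algebraMap A B a)) * algebraMap B B1 b := by ring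
          _ = _ := by
            rw [← IsScalarTower.algebraMap_apply A B B1, IsScalarTower.algebraMap_apply A A1 B1,
              ← map_mul, IsLocalization.mk'_spec_mk, map_one, map_one, one_mul]
      rw [← h1, map_mul, map_mul]
      refine mul_mem ?_ (Algebra.subset_adjoin ⟨b, rfl⟩)
      exact Subalgebra.algebraMap_mem _ (residue A1 (IsLocalization.mk' A1 1 (⟨a, ha⟩ : p.primeCompl)))
    exact isAlgebraic_algebraMap (R := Algebra.adjoin (ResidueField A1) (Set.range ρ)) ⟨_, hz⟩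
  obtain ⟨σ, hσsub, hσ⟩ := exists_isTranscendenceBasis_subset (R := ResidueField A1) (Set.range ρ)
  choose t ht using fun i : σ => hσsub i.2
  refine ⟨(Q.comap (Ideal.Quotient.mk K0)).comap (algebraMap B B1), inferInstance, ?_, ?_, ?_, σ, t,
    ?_, ?_⟩
  · refine le_of_le_of_eq (Ideal.comap_mono ((Ideal.comap_mono hQP).trans ?_)) hq1
    rw [Ideal.comap_map_of_surjective' _ Ideal.Quotient.mk_surjective]
    exact sup_le le_rfl ((Ideal.mk_ker).le.trans hK0)
  · refine le_antisymm (fun a ha => ?_) (fun a ha => ?_)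
    · refine (Ideal.mem_of_liesOver q p a).mpr ?_
      rw [← hq1]
      have h2 : (Q.comap (Ideal.Quotient.mk K0)) ≤ q1 := by
        refine (Ideal.comap_mono hQP).trans ?_
        rw [Ideal.comap_map_of_surjective' _ Ideal.Quotient.mk_surjective]
        exact sup_le le_rfl ((Ideal.mk_ker).le.trans hK0)
      exact h2 ha
    · have : algebraMap B B1 (algebraMap A B a) ∈ K0 := by
        refine Ideal.mem_sup_left ?_
        rw [← IsScalarTower.algebraMap_apply, IsScalarTower.algebraMap_apply A A1 B1]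
        refine Ideal.mem_map_of_mem _ ?_
        rw [← Localization.AtPrime.map_eq_maximalIdeal]
        exact Ideal.mem_map_of_mem _ ha
      show Ideal.Quotient.mk K0 _ ∈ Q
      rw [Ideal.Quotient.eq_zero_iff_mem.mpr this]
      exact Q.zero_mem
  · show Ideal.Quotient.mk K0 (algebraMap B B1 g) ∈ Q
    have hgK : algebraMap B B1 g ∈ K0 := Ideal.mem_sup_right (Ideal.subset_span rfl)
    rw [Ideal.Quotient.eq_zero_iff_mem.mpr hgK]
    exact Q.zero_mem
  · rw [hσ.cardinalMk_eq_trdeg, Dim.Basic.trdeg_quotient (ResidueField A1) Q, hQdim]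
    exact htr.trans hdim
  · rintro R ⟨m, hm⟩ hmem
    have h0 : MvPolynomial.aeval ((↑) : σ → (B1 ⧸ K0) ⧸ Q)
        (MvPolynomial.map ((residue A1).comp (algebraMap A A1)) R) = 0 := by
      have h1 : ρ (MvPolynomial.aeval t R) = 0 :=
        Ideal.Quotient.eq_zero_iff_mem.mpr hmem
      rw [← h1, MvPolynomial.aeval_def, MvPolynomial.aeval_def, MvPolynomial.eval₂_map]
      refine Eq.trans ?_ (MvPolynomial.eval₂_comp_left ρ _ t R).symm
      congr 1
      · refine RingHom.ext fun a => ?_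
        show algebraMap (ResidueField A1) _ (residue A1 (algebraMap A A1 a)) =
          ρ (algebraMap A B a)
        show Ideal.Quotient.mk Q (Ideal.Quotient.mk K0 (algebraMap A1 B1 (algebraMap A A1 a))) = _
        rw [← IsScalarTower.algebraMap_apply A A1 B1, IsScalarTower.algebraMap_apply A B B1]
        rfl
      · exact funext fun i => (ht i).symm
    have h2 := congrArg (MvPolynomial.coeff m) (hσ.1.eq_zero_of_aeval_eq_zero _ h0)
    rw [MvPolynomial.coeff_map, MvPolynomial.coeff_zero, RingHom.comp_apply,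
      residue_eq_zero_iff] at h2
    exact hm ((IsLocalization.AtPrime.to_map_mem_maximal_iff A1 p _).mp h2)

/-- General version: `η`, `𝔫` generic primes, `t` independent at `𝔫` over `η`. -/
theorem exists_prime_vertical {A B : Type u} [CommRing A] [CommRing B] [Algebra A B]
    [Algebra.FiniteType A B] (η : Ideal A) [η.IsPrime] (p : Ideal A) [p.IsPrime] (hηp : η ≤ p)
    (𝔫 : Ideal B) [𝔫.IsPrime] [𝔫.LiesOver η] (h𝔫 : ∀ Q : Ideal B, Q.IsPrime → 𝔫 ≤ Q)
    (q : Ideal B) [q.IsPrime] [q.LiesOver p] (g : B) (hg : g ∈ q)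
    (hgen : ∀ Q : Ideal B, Q.IsPrime → Q.comap (algebraMap A B) = η → g ∉ Q)
    {σ : Type u} (t : σ → B)
    (ht : ∀ P : MvPolynomial σ A, (∃ m, P.coeff m ∉ η) → MvPolynomial.aeval t P ∉ 𝔫) :
    ∃ Q : Ideal B, Q.IsPrime ∧ Q ≤ q ∧ Q.comap (algebraMap A B) = p ∧ g ∈ Q ∧
      ∃ (τ : Type u) (s : τ → B), Cardinal.mk σ ≤ Cardinal.mk τ ∧
        ∀ P : MvPolynomial τ A, (∃ m, P.coeff m ∉ p) → MvPolynomial.aeval s P ∉ Q := by
  classical
  haveI : FaithfulSMul (A ⧸ η) (B ⧸ 𝔫) := (faithfulSMul_iff_algebraMap_injective _ _).mpr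
    ((injective_iff_map_eq_zero _).mpr fun x hx => by
      obtain ⟨r, rfl⟩ := Ideal.Quotient.mk_surjective x
      rw [Ideal.Quotient.eq_zero_iff_mem, Ideal.mem_of_liesOver 𝔫 η]
      exact Ideal.Quotient.eq_zero_iff_mem.mp hx)
  haveI : Algebra.FiniteType A (B ⧸ 𝔫) :=
    Algebra.FiniteType.of_surjective (Ideal.Quotient.mkₐ A 𝔫) Ideal.Quotient.mk_surjective
  haveI : Algebra.FiniteType (A ⧸ η) (B ⧸ 𝔫) :=
    Algebra.FiniteType.of_restrictScalars_finiteType A (A ⧸ η) (B ⧸ 𝔫)
  set p0 := p.map (Ideal.Quotient.mk η) with hp0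
  haveI : p0.IsPrime := Ideal.map_isPrime_of_surjective Ideal.Quotient.mk_surjective
    ((Ideal.mk_ker).le.trans hηp)
  have hp0c : p0.comap (Ideal.Quotient.mk η) = p :=
    (Ideal.comap_map_of_surjective' _ Ideal.Quotient.mk_surjective _).trans
      (sup_eq_left.mpr ((Ideal.mk_ker).le.trans hηp))
  set q0 := q.map (Ideal.Quotient.mk 𝔫) with hq0
  haveI : q0.IsPrime := Ideal.map_isPrime_of_surjective Ideal.Quotient.mk_surjective
    ((Ideal.mk_ker).le.trans (h𝔫 q inferInstance))
  have hq0c : q0.comap (Ideal.Quotient.mk 𝔫) = q :=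
    (Ideal.comap_map_of_surjective' _ Ideal.Quotient.mk_surjective _).trans
      (sup_eq_left.mpr ((Ideal.mk_ker).le.trans (h𝔫 q inferInstance)))
  haveI : q0.LiesOver p0 := ⟨by
    refine Ideal.comap_injective_of_surjective (Ideal.Quotient.mk η) Ideal.Quotient.mk_surjective ?_
    rw [hp0c]
    ext a
    show a ∈ p ↔ Ideal.Quotient.mk 𝔫 (algebraMap A B a) ∈ q0
    rw [← Ideal.mem_comap, hq0c]
    exact Ideal.mem_of_liesOver q p a⟩
  obtain ⟨Q, hQ, hQq, hQp, hgQ, τ, s, hcard, hs⟩ := exists_prime_vertical_of_isDomain p0 q0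
    (Ideal.Quotient.mk 𝔫 g) (Ideal.mem_map_of_mem _ hg) (fun Q hQ hQA hgQ => by
      refine hgen (Q.comap (Ideal.Quotient.mk 𝔫)) inferInstance ?_ hgQ
      ext a
      show algebraMap (A ⧸ η) (B ⧸ 𝔫) (Ideal.Quotient.mk η a) ∈ Q ↔ _
      rw [← Ideal.mem_comap, hQA, Ideal.mem_bot, Ideal.Quotient.eq_zero_iff_mem])
  choose s' hs' using fun i => Ideal.Quotient.mk_surjective (s i)
  refine ⟨Q.comap (Ideal.Quotient.mk 𝔫), inferInstance, le_of_le_of_eq (Ideal.comap_mono hQq) hq0c,
    ?_, hgQ, τ, s', le_trans ?_ hcard, ?_⟩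
  · rw [← hp0c, ← hQp, Ideal.comap_comap, Ideal.comap_comap]
    rfl
  · have hind : AlgebraicIndependent (A ⧸ η) (fun i => Ideal.Quotient.mk 𝔫 (t i)) := by
      rw [algebraicIndependent_iff]
      intro R hR
      obtain ⟨R', rfl⟩ := MvPolynomial.map_surjective (Ideal.Quotient.mk η)
        Ideal.Quotient.mk_surjective R
      by_contra hne
      obtain ⟨m, hm⟩ := MvPolynomial.exists_coeff_ne_zero hne
      rw [MvPolynomial.coeff_map, Ne, Ideal.Quotient.eq_zero_iff_mem] at hm
      refine ht R' ⟨m, hm⟩ (Ideal.Quotient.eq_zero_iff_mem.mp ?_)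
      rw [← hR, MvPolynomial.aeval_def, MvPolynomial.aeval_def, MvPolynomial.eval₂_map]
      exact MvPolynomial.eval₂_comp_left (Ideal.Quotient.mk 𝔫) _ t R'
    exact hind.cardinalMk_le_trdeg
  · rintro R ⟨m, hm⟩ hmem
    refine hs (MvPolynomial.map (Ideal.Quotient.mk η) R) ⟨m, fun h => hm ?_⟩ ?_
    · rw [MvPolynomial.coeff_map, ← Ideal.mem_comap, hp0c] at h
      exact h
    · have : MvPolynomial.aeval s (MvPolynomial.map (Ideal.Quotient.mk η) R) =
          Ideal.Quotient.mk 𝔫 (MvPolynomial.aeval s' R) := by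
        rw [MvPolynomial.aeval_def, MvPolynomial.aeval_def, MvPolynomial.eval₂_map]
        refine Eq.trans ?_ (MvPolynomial.eval₂_comp_left (Ideal.Quotient.mk 𝔫) _ s' R).symm
        congr 1
        exact funext fun i => (hs' i).symm
      rw [this]
      exact hmem

open AlgebraicGeometry CategoryTheory TopologicalSpace Groth.Agent.Lib.Cyc
open Groth.Agent.Lib.VarDim.Basic Groth.Agent.H20.FlatSupportTrdeg

variable {X S : Scheme.{u}} (f : X ⟶ S) {U : X.Opens} {V : S.Opens}

theorem exists_sections_noRel (hU : IsAffineOpen U) (hV : IsAffineOpen V) (e : U ≤ f ⁻¹ᵁ V) {x : X}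
    (hx : x ∈ U) :
    letI := (f.appLE V U e).hom.toAlgebra
    ∃ (σ : Type u) (t : σ → Γ(X, U)), Residue.trdegAt f x = Cardinal.mk σ ∧
      ∀ P : MvPolynomial σ Γ(S, V), (∃ m, P.coeff m ∉ (hV.primeIdealOf ⟨f x, e hx⟩).asIdeal) →
        MvPolynomial.aeval t P ∉ (hU.primeIdealOf ⟨x, hx⟩).asIdeal := by
  classical
  letI := (f.appLE V U e).hom.toAlgebra
  letI : Algebra (S.residueField (f x)) (X.residueField x) := (f.residueFieldMap x).hom.toAlgebra
  haveI : Algebra.IsAlgebraic (Algebra.adjoin (S.residueField (f x))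
      (Set.range (X.evaluation U x hx))) (X.residueField x) :=
    FlatFibreTrdeg.isAlgebraic_of_frac fun z => by
      obtain ⟨a, g, hg, h⟩ := Lib.Flat55.ResTrdegCons.exists_eq_div hU hx z
      exact ⟨⟨_, Algebra.subset_adjoin ⟨a, rfl⟩⟩, ⟨_, Algebra.subset_adjoin ⟨g, rfl⟩⟩,
        fun h0 => hg (congrArg Subtype.val h0), h⟩
  obtain ⟨σ, hσsub, hσ⟩ :=
    exists_isTranscendenceBasis_subset (R := S.residueField (f x)) (Set.range (X.evaluation U x hx))
  choose t htv using fun i : σ => hσsub i.2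
  refine ⟨σ, t, hσ.cardinalMk_eq_trdeg.symm, ?_⟩
  rintro P ⟨m, hm⟩ hmem
  rw [notMem_primeIdealOf_iff hV (e hx),
    ← Scheme.evaluation_ne_zero_iff_mem_basicOpen S (f x) (e hx)] at hm
  refine hm ?_
  have h0 : X.evaluation U x hx (MvPolynomial.aeval t P) = 0 := by
    by_contra h
    rw [← Ne, Scheme.evaluation_ne_zero_iff_mem_basicOpen X x hx,
      ← notMem_primeIdealOf_iff hU hx] at h
    exact h hmem
  have hmap : MvPolynomial.aeval ((↑) : σ → X.residueField x)
      (MvPolynomial.map (S.evaluation V (f x) (e hx)).hom P) = 0 := by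
    rw [← h0, MvPolynomial.aeval_def, MvPolynomial.aeval_def, MvPolynomial.eval₂_map]
    refine Eq.trans ?_ (MvPolynomial.eval₂_comp_left (X.evaluation U x hx).hom _ t P).symm
    congr 1
    · exact RingHom.ext fun a => (Lib.Flat55.ResTrdegCons.evaluation_appLE f e hx a).symm
    · exact funext fun i => (htv i).symm
  have := congrArg (MvPolynomial.coeff m) (hσ.1.eq_zero_of_aeval_eq_zero _ hmap)
  rwa [MvPolynomial.coeff_map, MvPolynomial.coeff_zero] at this

theorem le_trdegAt_of_noRel (hU : IsAffineOpen U) (hV : IsAffineOpen V) (e : U ≤ f ⁻¹ᵁ V) {y : X}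
    (hy : y ∈ U) {σ : Type u} (t : σ → Γ(X, U))
    (ht : letI := (f.appLE V U e).hom.toAlgebra
      ∀ P : MvPolynomial σ Γ(S, V), (∃ m, P.coeff m ∉ (hV.primeIdealOf ⟨f y, e hy⟩).asIdeal) →
        MvPolynomial.aeval t P ∉ (hU.primeIdealOf ⟨y, hy⟩).asIdeal) :
    Cardinal.mk σ ≤ Residue.trdegAt f y := by
  classical
  letI := (f.appLE V U e).hom.toAlgebra
  letI : Algebra (S.residueField (f y)) (X.residueField y) := (f.residueFieldMap y).hom.toAlgebra
  refine AlgebraicIndependent.cardinalMk_le_trdeg (R := S.residueField (f y))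
    (x := fun i => X.evaluation U y hy (t i)) ?_
  rw [algebraicIndependent_iff]
  intro R hR
  by_contra hne
  obtain ⟨m, hm⟩ := MvPolynomial.exists_coeff_ne_zero hne
  obtain ⟨P, g, hg, hP⟩ := Lib.Flat55.ResTrdegCons.exists_map_eq_C_mul
    (S.evaluation V (f y) (e hy)).hom (Lib.Flat55.ResTrdegCons.exists_eq_div hV (e hy)) R
  have hPm : P.coeff m ∉ (hV.primeIdealOf ⟨f y, e hy⟩).asIdeal := by
    rw [notMem_primeIdealOf_iff hV (e hy), ← Scheme.evaluation_ne_zero_iff_mem_basicOpen S (f y) (e hy)]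
    have := congrArg (MvPolynomial.coeff m) hP
    rw [MvPolynomial.coeff_map, MvPolynomial.coeff_C_mul] at this
    rw [this]
    exact mul_ne_zero hg hm
  have h2 := ht P ⟨m, hPm⟩
  rw [notMem_primeIdealOf_iff hU hy, ← Scheme.evaluation_ne_zero_iff_mem_basicOpen X y hy] at h2
  refine h2 ?_
  have h3 : MvPolynomial.aeval (fun i => X.evaluation U y hy (t i))
      (MvPolynomial.map (S.evaluation V (f y) (e hy)).hom P) = 0 := by
    rw [hP, map_mul, hR, mul_zero]
  rw [← h3, MvPolynomial.aeval_def, MvPolynomial.aeval_def, MvPolynomial.eval₂_map]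
  refine (MvPolynomial.eval₂_comp_left (X.evaluation U y hy).hom _ t P).trans ?_
  congr 1
  exact RingHom.ext fun a => Lib.Flat55.ResTrdegCons.evaluation_appLE f e hy a

omit U V in
theorem comap_primeIdealOf {U : X.Opens} {V : S.Opens} (hU : IsAffineOpen U) (hV : IsAffineOpen V)
    (e : U ≤ f ⁻¹ᵁ V) {z : X} (hz : z ∈ U) :
    (hU.primeIdealOf ⟨z, hz⟩).asIdeal.comap (f.appLE V U e).hom =
      (hV.primeIdealOf ⟨f z, e hz⟩).asIdeal := by
  ext a
  rw [Ideal.mem_comap, ← not_iff_not, notMem_primeIdealOf_iff hU hz,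
    notMem_primeIdealOf_iff hV (e hz)]
  show z ∈ X.basicOpen (f.appLE V U e a) ↔ _
  rw [Scheme.basicOpen_appLE]
  exact ⟨fun h => h.2, fun h => ⟨hz, h⟩⟩

set_option backward.isDefEq.respectTransparency.types false in
theorem exists_component_subset [IrreducibleSpace ↥S] [IrreducibleSpace ↥X] [IsDominant f]
    [LocallyOfFiniteType f] (s : S)
    (hdim : topologicalKrullDim ↑(f.fiber s) ≤ topologicalKrullDim ↑(f.fiber (genericPoint ↥S)))
    (Z : X.IdealSheafData) (hZ : ∀ x : X, ∃ (U : X.Opens) (hU : IsAffineOpen U) (g : Γ(X, U)),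
      x ∈ U ∧ Z.ideal ⟨U, hU⟩ = Ideal.span {g})
    (hη : ∀ x ∈ (Z.support : Set ↥X), f x ≠ genericPoint ↥S) (x : ↑(f ⁻¹' {s}))
    (hx : (x : X) ∈ (Z.support : Set ↥X)) :
    ∃ C ∈ irreducibleComponents ↑(f ⁻¹' {s}), x ∈ C ∧ Subtype.val '' C ⊆ (Z.support : Set ↥X) := by
  classical
  obtain ⟨x, hxs⟩ := x
  obtain rfl : f x = s := hxs
  obtain ⟨U0, hU0, g0, hxU0, hZg⟩ := hZ x
  have hzero : ∀ z ∈ U0, (z ∈ (Z.support : Set X) ↔ z ∉ X.basicOpen g0) := fun z hz => by
    have h1 : z ∈ (Z.support : Set X) ↔ z ∈ (Z.support : Set X) ∩ U0 := ⟨fun h => ⟨h, hz⟩, fun h => h.1⟩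
    rw [h1, Z.coe_support_inter ⟨U0, hU0⟩, hZg, Scheme.zeroLocus_span, Scheme.zeroLocus_singleton]
    exact ⟨fun h => h.1, fun h => ⟨h, hz⟩⟩
  obtain ⟨V, hV, hsV, -⟩ :=
    exists_isAffineOpen_mem_and_subset (U := (⊤ : S.Opens)) (Set.mem_univ (f x))
  obtain ⟨W, hW, hxW, hWU⟩ := exists_isAffineOpen_mem_and_subset
    (U := U0 ⊓ f ⁻¹ᵁ V) (show x ∈ U0 ⊓ f ⁻¹ᵁ V from ⟨hxU0, hsV⟩)
  have hW0 : W ≤ U0 := fun z hz => (hWU hz).1
  have hWV : W ≤ f ⁻¹ᵁ V := fun z hz => (hWU hz).2
  have hηV : genericPoint S ∈ V :=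
    ((genericPoint_spec S).mem_open_set_iff V.2).mpr ⟨f x, trivial, hsV⟩
  have hξW : genericPoint X ∈ W :=
    ((genericPoint_spec X).mem_open_set_iff W.2).mpr ⟨x, trivial, hxW⟩
  have hfξ : f (genericPoint X) = genericPoint S := by
    refine ((genericPoint_spec X).image f.continuous).eq ?_
    rw [Set.image_univ, f.denseRange.closure_range]
    exact genericPoint_spec S
  set g := X.presheaf.map (homOfLE hW0).op g0 with hgdef
  have hzeroW : ∀ z (hz : z ∈ W), (z ∈ (Z.support : Set X) ↔ g ∈ (hW.primeIdealOf ⟨z, hz⟩).asIdeal) :=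
    fun z hz => by
      rw [hzero z (hW0 hz), ← not_iff_not, not_not, notMem_primeIdealOf_iff hW hz, hgdef,
        Scheme.basicOpen_res]
      exact ⟨fun h => ⟨hz, h⟩, fun h => h.2⟩
  letI := (f.appLE V W hWV).hom.toAlgebra
  haveI : Algebra.FiniteType Γ(S, V) Γ(X, W) := f.finiteType_appLE hV hW hWV
  set η := (hV.primeIdealOf ⟨genericPoint S, hηV⟩).asIdeal with hη'
  set p := (hV.primeIdealOf ⟨f x, hsV⟩).asIdeal with hp
  set 𝔫 := (hW.primeIdealOf ⟨genericPoint X, hξW⟩).asIdeal with h𝔫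
  set q := (hW.primeIdealOf ⟨x, hxW⟩).asIdeal with hq
  haveI : η.IsPrime := (hV.primeIdealOf ⟨genericPoint S, hηV⟩).isPrime
  haveI : p.IsPrime := (hV.primeIdealOf ⟨f x, hsV⟩).isPrime
  haveI : 𝔫.IsPrime := (hW.primeIdealOf ⟨genericPoint X, hξW⟩).isPrime
  haveI : q.IsPrime := (hW.primeIdealOf ⟨x, hxW⟩).isPrime
  have hηp : η ≤ p := fun a ha => by
    by_contra hap
    rw [hp, notMem_primeIdealOf_iff] at hap
    exact (notMem_primeIdealOf_iff hV hηV a).mpr
      (((genericPoint_spec S).mem_open_set_iff (S.basicOpen a).2).mpr ⟨f x, trivial, hap⟩) ha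
  haveI : 𝔫.LiesOver η := ⟨by
    have : (hV.primeIdealOf ⟨f (genericPoint X), hWV hξW⟩).asIdeal = η := by
      rw [hη']; congr 2; exact Subtype.ext hfξ
    rw [← this, ← comap_primeIdealOf f hW hV hWV hξW]
    rfl⟩
  haveI : q.LiesOver p := ⟨(comap_primeIdealOf f hW hV hWV hxW).symm⟩
  have hpt : ∀ Q : Ideal Γ(X, W), ∀ hQ : Q.IsPrime, ∃ (z : X) (hz : z ∈ W),
      hW.primeIdealOf ⟨z, hz⟩ = ⟨Q, hQ⟩ := fun Q hQ => by
    refine ⟨hW.fromSpec ⟨Q, hQ⟩, ?_, ?_⟩
    · have : hW.fromSpec ⟨Q, hQ⟩ ∈ Set.range hW.fromSpec := ⟨_, rfl⟩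
      rwa [hW.range_fromSpec] at this
    · exact hW.fromSpec.isOpenEmbedding.injective (hW.fromSpec_primeIdealOf _)
  have h𝔫le : ∀ Q : Ideal Γ(X, W), Q.IsPrime → 𝔫 ≤ Q := fun Q hQ a ha => by
    obtain ⟨z, hz, hzQ⟩ := hpt Q hQ
    by_contra haQ
    have : z ∈ X.basicOpen a := (notMem_primeIdealOf_iff hW hz a).mp (by rw [hzQ]; exact haQ)
    exact (notMem_primeIdealOf_iff hW hξW a).mpr
      (((genericPoint_spec X).mem_open_set_iff (X.basicOpen a).2).mpr ⟨z, trivial, this⟩) ha
  have hprimeInj : ∀ {a b : S} (ha : a ∈ V) (hb : b ∈ V),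
      (hV.primeIdealOf ⟨a, ha⟩).asIdeal = (hV.primeIdealOf ⟨b, hb⟩).asIdeal → a = b := by
    intro a b ha hb h
    have := congrArg hV.fromSpec (PrimeSpectrum.ext h)
    rwa [hV.fromSpec_primeIdealOf, hV.fromSpec_primeIdealOf] at this
  have hgen : ∀ Q : Ideal Γ(X, W), Q.IsPrime → Q.comap (algebraMap Γ(S, V) Γ(X, W)) = η → g ∉ Q := by
    intro Q hQ hQη hgQ
    obtain ⟨z, hz, hzQ⟩ := hpt Q hQ
    refine hη z ((hzeroW z hz).mpr (by rw [hzQ]; exact hgQ)) (hprimeInj (hWV hz) hηV ?_)
    rw [← comap_primeIdealOf f hW hV hWV hz, hzQ]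
    exact hQη
  obtain ⟨σ, t, hσ, ht⟩ := exists_sections_noRel f hW hV hWV hξW
  have ht' : ∀ P : MvPolynomial σ Γ(S, V), (∃ m, P.coeff m ∉ η) → MvPolynomial.aeval t P ∉ 𝔫 := by
    have h : (hV.primeIdealOf ⟨f (genericPoint X), hWV hξW⟩).asIdeal = η := by
      rw [hη']; congr 2; exact Subtype.ext hfξ
    rw [h] at ht
    exact ht
  obtain ⟨Q, hQ, hQq, hQp, hgQ, τ, u, hcard, hu⟩ := exists_prime_vertical η p hηp 𝔫 h𝔫le q g
    ((hzeroW x hxW).mp hx) hgen t ht'
  obtain ⟨y, hy, hyQ⟩ := hpt Q hQ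
  have hys : f y = f x := hprimeInj (hWV hy) hsV (by
    rw [← comap_primeIdealOf f hW hV hWV hy, hyQ]
    exact hQp)
  have hle : tdAt f (genericPoint X) ≤ tdAt f y := by
    have h1 : Cardinal.mk τ ≤ Residue.trdegAt f y := by
      refine le_trdegAt_of_noRel f hW hV hWV hy u fun P hP => ?_
      rw [← comap_primeIdealOf f hW hV hWV hy, hyQ] at hP
      rw [hyQ]
      refine hu P ?_
      obtain ⟨m, hm⟩ := hP
      exact ⟨m, fun h => hm (by rw [← hQp] at h; exact h)⟩
    have h2 := (hσ.le.trans hcard).trans h1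
    rw [trdegAt_eq_tdAt, trdegAt_eq_tdAt] at h2
    exact_mod_cast h2
  have hyx : y ⤳ x := by
    refine specializes_iff_forall_open.mpr fun O hO hxO => ?_
    obtain ⟨a, hle, hxa⟩ := hW.exists_basicOpen_le (V := ⟨O, hO⟩) ⟨x, hxO⟩ hxW
    refine hle ((notMem_primeIdealOf_iff hW hy a).mp ?_)
    rw [hyQ]
    exact fun h => (notMem_primeIdealOf_iff hW hxW a).mpr hxa (hQq h)
  -- `y` is a maximal point of the fibre
  have hmax : ∀ z : X, f z = f y → z ⤳ y → z = y := by
    intro z hz hzy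
    haveI : LocallyOfFiniteType (X := f.fiber (f y)) (Y := Spec (CommRingCat.of (S.residueField (f y))))
        (f.fiberToSpecResidueField (f y)) :=
      inferInstanceAs (LocallyOfFiniteType (Limits.pullback.snd f (S.fromSpecResidueField (f y))))
    obtain ⟨z', hz'⟩ := FieldDim.exists_fiberι_eq f z (f y) hz
    obtain ⟨y', hy'⟩ := FieldDim.exists_fiberι_eq f y (f y) rfl
    have hspec : z' ⤳ y' := by
      rw [← (f.fiberι (f y)).isEmbedding.toIsInducing.specializes_iff, hz', hy']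
      exact hzy
    have key : ∀ w : f.fiber (f y),
        pdim (K := S.residueField (f y)) (f.fiberToSpecResidueField (f y)) w =
          tdAt f (f.fiberι (f y) w) :=
      fun w => congrArg Cardinal.toNat (FieldDim.trdegAt_fiber f (f y) w)
    -- bound by the generic fibre
    have hgenle : topologicalKrullDim ↑(f.fiber (genericPoint ↥S)) ≤
        (tdAt f (genericPoint X) : WithBot ℕ∞) := by
      rw [(f.fiberHomeo (genericPoint ↥S)).isHomeomorph.topologicalKrullDim_eq]
      refine (Lib.VarDim.Fibre.topologicalKrullDim_fibre_le_iff f _ _).mpr fun w hw => ?_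
      haveI : LocallyOfFiniteType (X := f.fiber (genericPoint ↥S))
          (Y := Spec (CommRingCat.of (S.residueField (genericPoint ↥S))))
          (f.fiberToSpecResidueField (genericPoint ↥S)) :=
        inferInstanceAs (LocallyOfFiniteType
          (Limits.pullback.snd f (S.fromSpecResidueField (genericPoint ↥S))))
      obtain ⟨w', hw'⟩ := FieldDim.exists_fiberι_eq f w (genericPoint ↥S) hw
      obtain ⟨ξ', hξ'⟩ := FieldDim.exists_fiberι_eq f (genericPoint X) (genericPoint ↥S) hfξ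
      have hs' : ξ' ⤳ w' := by
        rw [← (f.fiberι (genericPoint ↥S)).isEmbedding.toIsInducing.specializes_iff, hw', hξ']
        exact (genericPoint_spec X).specializes trivial
      have h := pdim_le (K := S.residueField (genericPoint ↥S))
        (f.fiberToSpecResidueField (genericPoint ↥S)) hs'
      have k1 : ∀ v : f.fiber (genericPoint ↥S),
          pdim (K := S.residueField (genericPoint ↥S)) (f.fiberToSpecResidueField (genericPoint ↥S)) v =
            tdAt f (f.fiberι (genericPoint ↥S) v) :=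
        fun v => congrArg Cardinal.toNat (FieldDim.trdegAt_fiber f (genericPoint ↥S) v)
      rw [k1, k1, hw', hξ'] at h
      exact_mod_cast h
    have hzle : (tdAt f z : WithBot ℕ∞) ≤ (tdAt f (genericPoint X) : WithBot ℕ∞) := by
      refine le_trans ?_ (hdim.trans hgenle)
      rw [(f.fiberHomeo (f x)).isHomeomorph.topologicalKrullDim_eq]
      exact (Lib.VarDim.Fibre.topologicalKrullDim_fibre_le_iff f _ _).mp le_rfl z (hz.trans hys)
    have hzy' : pdim (K := S.residueField (f y)) (f.fiberToSpecResidueField (f y)) z' ≤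
        pdim (K := S.residueField (f y)) (f.fiberToSpecResidueField (f y)) y' := by
      rw [key, key, hz', hy']
      exact le_trans (by exact_mod_cast hzle) hle
    exact hz'.symm.trans ((congrArg (f.fiberι (f y))
      (eq_of_pdim_le (K := S.residueField (f y)) (f.fiberToSpecResidueField (f y)) hspec hzy')).trans hy')
  refine ⟨closure {⟨y, hys⟩}, ⟨isIrreducible_singleton.closure, fun C hC hle' => ?_⟩, ?_, ?_⟩
  · intro w hw
    have hCc : IsPreirreducible (closure C) := hC.closure.2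
    obtain ⟨hne, hCirr⟩ := hC
    -- generic point of the closure of the image in `X`
    obtain ⟨ζ, hζ⟩ : ∃ ζ : X, IsGenericPoint ζ (closure (Subtype.val '' C)) :=
      QuasiSober.sober ((IsIrreducible.image ⟨hne, hCirr⟩ _ continuous_subtype_val.continuousOn).closure)
        isClosed_closure
    have hζy : ζ ⤳ y := hζ.specializes (subset_closure ⟨⟨y, hys⟩, hle' (subset_closure rfl), rfl⟩)
    have hζs : f ζ = f x := by
      have h1 : f ζ ⤳ f y := hζy.map f.continuous
      have h2 : f ζ ∈ closure {f x} := by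
        have : closure (Subtype.val '' C) ⊆ f ⁻¹' closure {f x} :=
          closure_minimal (fun z ⟨⟨z', hz'⟩, _, hzz⟩ => by
            subst hzz
            exact subset_closure (by simpa using hz')) (isClosed_closure.preimage f.continuous)
        exact this hζ.mem
      rw [hys] at h1
      exact (h1.antisymm (specializes_iff_mem_closure.mpr h2)).eq
    have hζeq : ζ = y := hmax ζ (hζs.trans hys.symm) hζy
    have : (w : X) ∈ closure {y} := by
      rw [← hζeq, hζ.def]
      exact subset_closure ⟨w, hw, rfl⟩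
    exact specializes_iff_mem_closure.mp
      ((subtype_specializes_iff _ _).mpr (specializes_iff_mem_closure.mpr this))
  · exact specializes_iff_mem_closure.mp ((subtype_specializes_iff _ _).mpr hyx)
  · rintro _ ⟨w, hw, rfl⟩
    have h1 : (y : X) ⤳ (w : X) := (subtype_specializes_iff _ _).mp (specializes_iff_mem_closure.mpr hw)
    exact h1.mem_closed Z.support.isClosed ((hzeroW y hy).mpr (by rw [hyQ]; exact hgQ))

end Groth.Agent.H20.PrincipalVertical
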