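import Groth.Agent.Lib.ProjDim.Avoid
import Groth.Agent.Lib.ProjMor.Poly
import Groth.Agent.Lib.ProjMor.Embed
import Groth.Agent.Lib.ProjSpace.Basic
import Groth.Agent.Lib.ProjSpace.Dim
import Groth.Agent.Lib.VarDim.Fibre
import Groth.Agent.Lib.SchTopo.Basic
import Mathlib.AlgebraicGeometry.Morphisms.Proper
import Mathlib.GroupTheory.CosetCover
import Mathlib.AlgebraicGeometry.Morphisms.ClosedImmersion
import Mathlib.AlgebraicGeometry.Morphisms.QuasiFinite

/-!
# Projective Noether normalisation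

Over an infinite field, a closed subscheme of `P^n` of dimension `d` maps finitely and surjectively onto `P^d`
by `d + 1` linear forms, and `O(1)` pulls back to `O(1)`.
-/

set_option autoImplicit false
set_option linter.style.haveILetI false

universe u

namespace Groth.Agent.H20.ProjNoether

open CategoryTheory AlgebraicGeometry MvPolynomial TopologicalSpace
open Groth.Agent.Lib Groth.Agent.Lib.ProjDim.Topology Groth.Agent.Lib.ProjDim.Avoid

variable {k : Type u} [Field k] {n : ℕ}

/-- A linear form avoiding finitely many points, over an infinite field. -/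
theorem exists_linear_avoid [Infinite k] (A : Finset (ProjectiveSpectrum (CohB1.polyGrading n k))) :
    ∃ c : ULift.{u} (Fin (n + 1)) → k, ∀ a ∈ A, ProjMor.Poly.lin n k c ∉ idl a := by
  classical
  let p : A → Submodule k (ULift.{u} (Fin (n + 1)) → k) :=
    fun a => ((idl a.1).restrictScalars k).comap (ProjMor.Poly.lin n k)
  by_contra! hc
  obtain ⟨a, ha⟩ := Subspace.exists_eq_top_of_iUnion_eq_univ (p := p) (Set.eq_univ_of_forall fun c => by
    obtain ⟨a, ha, hmem⟩ := hc c
    exact Set.mem_iUnion.2 ⟨⟨a, ha⟩, hmem⟩)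
  obtain ⟨i, hi⟩ := exists_X_not_mem a.1
  have h : Pi.single (⟨i⟩ : ULift.{u} (Fin (n + 1))) (1 : k) ∈ p a := ha ▸ Submodule.mem_top
  exact hi (ProjMor.Poly.lin_single n k i ▸ h)

/-- `d + 1` linear forms without common zero on a closed subset of dimension `≤ d`. -/
theorem exists_forms [Infinite k] {T : Set (ProjectiveSpectrum (CohB1.polyGrading n k))} (hT : IsClosed T)
    (d : ℕ) (hdim : ∀ x ∈ T, dp x ≤ d) :
    ∃ c : Fin (d + 1) → ULift.{u} (Fin (n + 1)) → k,
      ∀ x ∈ T, ∃ j, ProjMor.Poly.lin n k (c j) ∉ idl x := by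
  classical
  have key : ∀ m : ℕ, ∃ c : Fin m → ULift.{u} (Fin (n + 1)) → k,
      ∀ x ∈ T, (∀ j, ProjMor.Poly.lin n k (c j) ∈ idl x) → dp x + m ≤ d := by
    intro m
    induction m with
    | zero => exact ⟨Fin.elim0, fun x hx _ => hdim x hx⟩
    | succ m ih =>
      obtain ⟨c, hc⟩ := ih
      let T' := T ∩ ProjectiveSpectrum.zeroLocus (CohB1.polyGrading n k) (Set.range fun j => ProjMor.Poly.lin n k (c j))
      have hT' : IsClosed T' := hT.inter (ProjectiveSpectrum.isClosed_zeroLocus _ _)
      obtain ⟨f, hf⟩ := exists_linear_avoid (k := k) (finite_minimal hT').toFinset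
      refine ⟨Fin.snoc c f, fun x hx hxh => ?_⟩
      have hxc : ∀ j, ProjMor.Poly.lin n k (c j) ∈ idl x := fun j => by
        have := hxh j.castSucc
        rwa [Fin.snoc_castSucc] at this
      have hxT : x ∈ T' := ⟨hx, by rintro _ ⟨j, rfl⟩; exact hxc j⟩
      obtain ⟨y, hyT, hyx, hymin⟩ := exists_minimal hxT
      have hfy : ProjMor.Poly.lin n k f ∉ idl y := hf y ((finite_minimal hT').mem_toFinset.2 ⟨hyT, hymin⟩)
      have hfx : ProjMor.Poly.lin n k f ∈ idl x := by
        have := hxh (Fin.last m)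
        rwa [Fin.snoc_last] at this
      have hlt : dp x < dp y := dp_lt hyx fun e => hfy (e ▸ hfx)
      have := hc y hyT.1 fun j => hyT.2 ⟨j, rfl⟩
      omega
  obtain ⟨c, hc⟩ := key (d + 1)
  exact ⟨c, fun x hx => by
    by_contra! h
    have := hc x hx h
    omega⟩

/-- Linear projection: finite and surjective onto `P^d`, preserving `O(1)`. -/
theorem exists_finite_surjective [Infinite k] {X : Scheme.{u}} (ι : X ⟶ CohB1.ProjSpace n k)
    [IsClosedImmersion ι] (d : ℕ) (hd : topologicalKrullDim ↥X = (d : WithBot ℕ∞)) :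
    ∃ π : X ⟶ CohB1.ProjSpace d k, π ≫ CohB1.ProjSpace.toSpec d k = ι ≫ CohB1.ProjSpace.toSpec n k ∧
      IsFinite π ∧ Function.Surjective π.base ∧
      Nonempty ((Scheme.Modules.pullback π).obj (Twist.twistProjSpace d k 1) ≅
        (Scheme.Modules.pullback ι).obj (Twist.twistProjSpace n k 1)) := by
  classical
  let T : Set (ProjectiveSpectrum (CohB1.polyGrading n k)) := Set.range ι
  have hT : IsClosed T := ι.isClosedEmbedding.isClosed_range
  have hTd : topologicalKrullDim ↥T = (d : WithBot ℕ∞) := by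
    rw [← hd]
    exact (IsHomeomorph.topologicalKrullDim_eq _ ι.isClosedEmbedding.isEmbedding.toHomeomorph.isHomeomorph).symm
  obtain ⟨c, hc⟩ := exists_forms (k := k) hT d fun x hx => by
    have := le_dim hT hx
    rw [hTd] at this
    exact_mod_cast this
  have hcov : ∀ m : ℕ, ∀ x : ProjectiveSpectrum (CohB1.polyGrading m k),
      ∃ a : CohB1.polyGrading m k 1, (a : MvPolynomial (Fin (m + 1)) k) ∉ x.asHomogeneousIdeal :=
    fun m => ProjMor.Main.cover (ProjMor.Poly.lin_mem m k) (ProjMor.Poly.adjoin_lin m k)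
  have hinv : ∀ m : ℕ, PicF.IsInvertible (Twist.twistProjSpace m k 1) := fun m =>
    Groth.Agent.Lib.ProjTilde.Invertible.twist_isInvertible_of_cover (fun x => by
      obtain ⟨a, ha⟩ := hcov m x
      exact ⟨a, a.2, ha⟩) 1
  let L := (Scheme.Modules.pullback ι).obj (Twist.twistProjSpace n k 1)
  have hL : PicF.IsInvertible L := PicLoc.isInvertible_pullback ι (hinv n)
  let a : Fin (d + 1) → CohB1.polyGrading n k 1 := fun j =>
    ⟨ProjMor.Poly.lin n k (c j), ProjMor.Poly.lin_mem n k _⟩
  let s : Fin (d + 1) → ProjUP.Γm L := fun j =>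
    ProjUP.pullSec ι (Twist.twistProjSpace n k 1) (ProjMor.Frame.g (CohB1.polyGrading n k) (a j))
  have hloc : ∀ j, ProjMor.Sec.locus (s j) =
      ι ⁻¹ᵁ Proj.basicOpen (CohB1.polyGrading n k) (a j : MvPolynomial (Fin (n + 1)) k) := fun j =>
    (ProjMor.Sec.locus_pullback (hinv n) ι _).trans (congrArg (fun U => ι ⁻¹ᵁ U) (ProjMor.Frame.locus_g (hcov n) (a j)))
  have hgen : ProjUP.GeneratedBy L s := ProjMor.Embed.generatedBy_of_locus s fun x => by
    obtain ⟨j, hj⟩ := hc (ι x) ⟨x, rfl⟩
    exact ⟨j, by rw [hloc]; exact hj⟩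
  obtain ⟨π, hπ, τ, hτ⟩ := ProjMor.Poly.exists_map d k (ι ≫ CohB1.ProjSpace.toSpec n k) L hL s hgen
  let b : Fin (d + 1) → CohB1.polyGrading d k 1 := fun j =>
    ⟨ProjMor.Poly.lin d k (Pi.single ⟨j⟩ 1), ProjMor.Poly.lin_mem d k _⟩
  have hpre : ∀ j, π ⁻¹ᵁ Proj.basicOpen (CohB1.polyGrading d k) (b j : MvPolynomial (Fin (d + 1)) k) =
      ι ⁻¹ᵁ Proj.basicOpen (CohB1.polyGrading n k) (a j : MvPolynomial (Fin (n + 1)) k) := fun j => by
    rw [← hloc j, ← hτ j, ProjMor.Sec.locus_iso τ, ProjMor.Sec.locus_pullback (hinv d) π,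
      ProjMor.Poly.coord_eq]
    exact congrArg (fun U => π ⁻¹ᵁ U) (ProjMor.Frame.locus_g (hcov d) (b j)).symm
  haveI : IsAffineHom π := isAffineHom_of_forall_exists_isAffineOpen π fun y => by
    obtain ⟨i, hi⟩ := exists_X_not_mem (k := k) (n := d) y
    refine ⟨Proj.basicOpen (CohB1.polyGrading d k) (b i : MvPolynomial (Fin (d + 1)) k), ?_,
      Proj.isAffineOpen_basicOpen _ _ (b i).2 zero_lt_one, ?_⟩
    · show (b i : MvPolynomial (Fin (d + 1)) k) ∉ idl y
      rwa [show (b i : MvPolynomial (Fin (d + 1)) k) = MvPolynomial.X i from ProjMor.Poly.lin_single d k i]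
    · rw [hpre]
      exact IsAffineOpen.preimage (Y := CohB1.ProjSpace n k)
        (U := Proj.basicOpen (CohB1.polyGrading n k) (a i : MvPolynomial (Fin (n + 1)) k))
        (Proj.isAffineOpen_basicOpen _ _ (a i).2 zero_lt_one) ι
  haveI : IsProper (π ≫ CohB1.ProjSpace.toSpec d k) := by rw [hπ]; infer_instance
  haveI : IsProper π := IsProper.of_comp π (CohB1.ProjSpace.toSpec d k)
  haveI : IsFinite π := IsFinite.iff_isProper_and_isAffineHom.mpr ⟨inferInstance, inferInstance⟩
  refine ⟨π, hπ, inferInstance, ?_, ⟨τ⟩⟩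
  -- a point of maximal dimension maps to the generic point
  let q := CohB1.ProjSpace.toSpec d k
  let f := ι ≫ CohB1.ProjSpace.toSpec n k
  have htd : ∀ x, VarDim.Basic.tdAt π x = 0 := fun x => by
    have h1 := VarDim.Fibre.tdAt_le_topologicalKrullDim_fibre π x
    have h2 : topologicalKrullDim ↥(π.base ⁻¹' {π x}) ≤ 0 := by
      haveI := π.finite_preimage_singleton (π x) |>.to_subtype
      haveI : T1Space ↥(π.base ⁻¹' {π x}) := t1Space_iff_specializes_imp_eq.2 fun a b h =>
        Subtype.ext (SchTopo.Basic.isIntegralHom_eq_of_specializes π ((subtype_specializes_iff _ _).1 h)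
          (a.2.trans b.2.symm))
      exact topologicalKrullDim_zero_of_discreteTopology _
    exact_mod_cast le_antisymm (by exact_mod_cast h1.trans h2) (Nat.zero_le _)
  obtain ⟨x, hx⟩ : ∃ x, d ≤ VarDim.Basic.pdim f x := by
    by_contra! h
    rcases Nat.eq_zero_or_pos d with h0 | h0
    · have : Nonempty ↥X := by
        by_contra he
        rw [not_nonempty_iff] at he
        have : (d : WithBot ℕ∞) ≤ ⊥ := hd ▸ (VarDim.Basic.topologicalKrullDim_scheme_le_iff f _).2 fun x => he.elim x
        simp at this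
      exact absurd (h this.some) (by omega)
    · have : (d : WithBot ℕ∞) ≤ ((d - 1 : ℕ) : WithBot ℕ∞) :=
        hd ▸ (VarDim.Basic.topologicalKrullDim_scheme_le_iff f _).2 fun x => by
          exact_mod_cast (show VarDim.Basic.pdim f x ≤ d - 1 by have := h x; omega)
      have h' : d ≤ d - 1 := by exact_mod_cast this
      omega
  have hη : genericPoint ↥(CohB1.ProjSpace d k) ⤳ π x := genericPoint_specializes _
  have hdimP : VarDim.Basic.pdim q (genericPoint ↥(CohB1.ProjSpace d k)) ≤ d := by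
    have h1 := VarDim.Basic.pdim_le_topologicalKrullDim_scheme q (genericPoint ↥(CohB1.ProjSpace d k))
    rw [ProjSpace.Dim.topologicalKrullDim_projSpace, ringKrullDim_eq_zero_of_field, zero_add] at h1
    exact_mod_cast h1
  have heq : genericPoint ↥(CohB1.ProjSpace d k) = π x := by
    refine VarDim.Basic.eq_of_pdim_le q hη (hdimP.trans (hx.trans ?_))
    rw [VarDim.Fibre.pdim_eq_add f q π hπ x, htd, add_zero]
  intro y
  have hcl : IsClosed (Set.range π.base) := π.isClosedMap.isClosed_range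
  exact (genericPoint_specializes y).mem_closed hcl ⟨x, heq.symm⟩

end Groth.Agent.H20.ProjNoether
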