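import Groth.Agent.H20.ValFP
import Groth.Agent.S2050
import Mathlib.RingTheory.MvPolynomial.Localization
import Mathlib.Algebra.Module.LocalizedModule.Submodule
import Mathlib.RingTheory.Localization.Module
import Mathlib.RingTheory.Localization.BaseChange
import Mathlib.RingTheory.TensorProduct.IsBaseChangePi

/-!
Polynomial rings over a domain with valuation rings as local rings are coherent, and finite modules
over them which are torsion-free over the base are finitely presented.
-/

set_option autoImplicit false

universe u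

open scoped TensorProduct

namespace Groth.Agent.H20.PruferCoherent

variable {R : Type u} [CommRing R] [IsDomain R]

attribute [local instance] MvPolynomial.algebraMvPolynomial in
theorem exists_fg_near {n m : ℕ}
    (N : Submodule (MvPolynomial (Fin n) R) (Fin m → MvPolynomial (Fin n) R))
    (hN : ∀ (a : R) (v : Fin m → MvPolynomial (Fin n) R), a ≠ 0 → a • v ∈ N → v ∈ N)
    (p : Ideal R) [p.IsPrime] [ValuationRing (Localization.AtPrime p)] :
    ∃ J : Submodule (MvPolynomial (Fin n) R) (Fin m → MvPolynomial (Fin n) R), J.FG ∧ J ≤ N ∧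
      ∀ x ∈ N, ∃ r : R, r ∉ p ∧ MvPolynomial.C (σ := Fin n) r • x ∈ J := by
  classical
  let P := MvPolynomial (Fin n) R
  let Rp := Localization.AtPrime p
  let Pp := MvPolynomial (Fin n) Rp
  let W : Submonoid P := p.primeCompl.map (MvPolynomial.C (σ := Fin n) (R := R))
  haveI : IsLocalization W Pp := MvPolynomial.isLocalization p.primeCompl Rp
  haveI : IsDomain Rp := IsLocalization.isDomain_of_le_nonZeroDivisors Rp p.primeCompl_le_nonZeroDivisors
  let mapV : (Fin m → P) →ₗ[P] (Fin m → Pp) :=
    LinearMap.pi fun i => (Algebra.linearMap P Pp).comp (LinearMap.proj i)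
  haveI : IsLocalizedModule W mapV := inferInstance
  let Nl : Submodule Pp (Fin m → Pp) := N.localized' Pp W mapV
  have halg : ∀ r : R, algebraMap P Pp (MvPolynomial.C r) = MvPolynomial.C (algebraMap R Rp r) := fun r =>
    MvPolynomial.map_C _ r
  have hsat : ∀ (a : Rp) (v : Fin m → Pp), a ≠ 0 → a • v ∈ Nl → v ∈ Nl := by
    intro a v ha hav
    obtain ⟨r, s, rfl⟩ := IsLocalization.exists_mk'_eq p.primeCompl a
    have hr : r ≠ 0 := fun h => ha (by rw [h, IsLocalization.mk'_zero])
    obtain ⟨⟨w, t⟩, hwt⟩ := IsLocalizedModule.surj W mapV v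
    have hrw : MvPolynomial.C (σ := Fin n) (algebraMap R Rp r) • mapV w ∈ Nl := by
      have h1 : MvPolynomial.C (σ := Fin n) (algebraMap R Rp r) • mapV w =
          (algebraMap P Pp (t : P) * MvPolynomial.C (algebraMap R Rp (s : R))) •
            (IsLocalization.mk' Rp r s • v) := by
        rw [← hwt, Submonoid.smul_def]
        funext i
        show MvPolynomial.C (algebraMap R Rp r) * ((t : P) • v i) =
          (algebraMap P Pp (t : P) * MvPolynomial.C (algebraMap R Rp (s : R))) * (IsLocalization.mk' Rp r s • v i)
        rw [Algebra.smul_def, MvPolynomial.smul_eq_C_mul, ← IsLocalization.mk'_spec Rp r s, map_mul]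
        ring
      exact h1 ▸ Nl.smul_mem _ hav
    rw [← halg, algebraMap_smul, ← map_smul] at hrw
    obtain ⟨z, hz, u, hzu⟩ := (Submodule.mem_localized' ..).mp hrw
    rw [IsLocalizedModule.mk'_eq_iff, Submonoid.smul_def, ← map_smul] at hzu
    obtain ⟨c, hc⟩ := IsLocalizedModule.exists_of_eq (S := W) hzu
    rw [Submonoid.smul_def, Submonoid.smul_def] at hc
    have hmem : (c : P) • (u : P) • w ∈ N := by
      refine hN r _ hr ?_
      rw [← algebraMap_smul P r, MvPolynomial.algebraMap_eq, smul_comm, smul_comm (MvPolynomial.C r) (u : P), ← hc]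
      exact N.smul_mem _ hz
    refine (Submodule.mem_localized' ..).mpr ⟨_, hmem, c * u * t, ?_⟩
    rw [IsLocalizedModule.mk'_eq_iff, map_smul, map_smul, ← hwt]
    simp only [Submonoid.smul_def, Submonoid.coe_mul, mul_smul]
  have hfg : Nl.FG := Groth.Agent.H20.ValFP.fg_of_saturated Nl hsat
  have hspan : Nl = Submodule.span Pp (mapV '' N) := Submodule.localized'_eq_span ..
  obtain ⟨T, hTN, hT⟩ := (Submodule.fg_span_iff_fg_span_finset_subset (mapV '' N)).mp (hspan ▸ hfg)
  choose! pre hpre hpre' using fun z (hz : z ∈ T) => hTN hz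
  refine ⟨Submodule.span P (T.image pre : Set (Fin m → P)), ⟨_, rfl⟩, ?_, fun x hx => ?_⟩
  · rw [Submodule.span_le]
    intro z hz
    obtain ⟨q, hq, rfl⟩ := Finset.mem_image.mp hz
    exact hpre q hq
  · have h1 : mapV x ∈ Submodule.span Pp (mapV '' (Submodule.span P (T.image pre : Set (Fin m → P)) : Set (Fin m → P))) := by
      have : mapV x ∈ Submodule.span Pp (T : Set (Fin m → Pp)) := hT ▸ Submodule.subset_span ⟨x, hx, rfl⟩
      refine Submodule.span_mono ?_ this
      exact fun q hq => ⟨pre q, Submodule.subset_span (Finset.mem_image_of_mem pre hq), hpre' q hq⟩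
    rw [← Submodule.localized'_eq_span Pp W mapV] at h1
    obtain ⟨z, hz, u, hzu⟩ := (Submodule.mem_localized' ..).mp h1
    rw [IsLocalizedModule.mk'_eq_iff, Submonoid.smul_def, ← map_smul] at hzu
    obtain ⟨c, hc⟩ := IsLocalizedModule.exists_of_eq (S := W) hzu
    rw [Submonoid.smul_def, Submonoid.smul_def, smul_smul] at hc
    rcases c with ⟨_, r, hr, rfl⟩
    rcases u with ⟨_, r', hr', rfl⟩
    refine ⟨r * r', fun h => (Ideal.IsPrime.mem_or_mem ‹_› h).elim hr hr', ?_⟩
    rw [map_mul]
    exact hc ▸ Submodule.smul_mem _ _ hz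

variable (hR : ∀ (p : Ideal R) [p.IsPrime], ValuationRing (Localization.AtPrime p))
include hR

theorem fg_of_saturated {n m : ℕ}
    (N : Submodule (MvPolynomial (Fin n) R) (Fin m → MvPolynomial (Fin n) R))
    (hN : ∀ (a : R) (v : Fin m → MvPolynomial (Fin n) R), a ≠ 0 → a • v ∈ N → v ∈ N) : N.FG := by
  classical
  let P := MvPolynomial (Fin n) R
  let M := (Fin m → P) ⧸ N
  have hflat : Module.Flat R M := by
    refine Module.flat_of_localized_maximal (R := R) M fun p _ => ?_
    haveI := hR p
    haveI : IsDomain (Localization.AtPrime p) :=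
      IsLocalization.isDomain_of_le_nonZeroDivisors _ p.primeCompl_le_nonZeroDivisors
    rw [← Module.flat_iff_of_isLocalization (Localization.AtPrime p) p.primeCompl,
      Module.Flat.flat_iff_torsion_eq_bot_of_isBezout, eq_bot_iff]
    rintro z ⟨a, ha⟩
    obtain ⟨⟨r, s⟩, hrs⟩ := IsLocalization.surj p.primeCompl (a : Localization.AtPrime p)
    have hr : r ≠ 0 := fun h => nonZeroDivisors.ne_zero a.2 (by
      have h1 : (a : Localization.AtPrime p) * algebraMap R _ (s : R) = 0 := by rw [hrs, h, map_zero]
      exact (mul_eq_zero.mp h1).resolve_right (IsLocalization.map_units _ s).ne_zero)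
    induction z using LocalizedModule.induction_on with
    | _ x t =>
      have h2 : r • LocalizedModule.mk x t = 0 := by
        rw [← algebraMap_smul (Localization.AtPrime p) r, ← hrs, mul_comm, mul_smul,
          show (a : Localization.AtPrime p) • LocalizedModule.mk x t = 0 from ha, smul_zero]
      rw [LocalizedModule.smul'_mk, ← LocalizedModule.zero_mk t, LocalizedModule.mk_eq] at h2
      obtain ⟨u, hu⟩ := h2
      rw [smul_zero, smul_zero] at hu
      obtain ⟨v, rfl⟩ := Submodule.Quotient.mk_surjective N x
      rw [Submodule.mem_bot, ← LocalizedModule.zero_mk t, LocalizedModule.mk_eq]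
      refine ⟨u, ?_⟩
      rw [smul_zero, smul_zero]
      have hu' : (u : R) • (t : R) • r • v ∈ N := (Submodule.Quotient.mk_eq_zero N).mp hu
      refine (Submodule.Quotient.mk_eq_zero N).mpr (hN r ((u : R) • (t : R) • v) hr ?_)
      rwa [smul_comm r (u : R), smul_comm r (t : R)]
  let s : Finset (PrimeSpectrum R) := {⟨⊥, Ideal.isPrime_bot⟩}
  have hs : Function.Injective fun r : R => fun p : s => algebraMap R (Localization.AtPrime p.1.asIdeal) r := by
    intro a b h
    have := congrFun h ⟨⟨⊥, Ideal.isPrime_bot⟩, Finset.mem_singleton_self _⟩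
    exact IsLocalization.injective (Localization.AtPrime (⊥ : Ideal R))
      (Ideal.primeCompl_le_nonZeroDivisors (⊥ : Ideal R)) this
  have hloc : ∀ (p : Ideal R) [p.IsPrime], Module.FinitePresentation
      (Localization (Algebra.algebraMapSubmonoid P p.primeCompl))
      (LocalizedModule (Algebra.algebraMapSubmonoid P p.primeCompl) M) := by
    intro p _
    haveI := hR p
    obtain ⟨J, hJfg, hJ, hJk⟩ := exists_fg_near N hN p
    let W := Algebra.algebraMapSubmonoid P p.primeCompl
    haveI : Module.FinitePresentation P ((Fin m → P) ⧸ J) :=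
      Module.finitePresentation_of_surjective J.mkQ (Submodule.mkQ_surjective _) (by rwa [Submodule.ker_mkQ])
    haveI : Module.FinitePresentation (Localization W) (LocalizedModule W ((Fin m → P) ⧸ J)) := inferInstance
    let g := LocalizedModule.map W (Submodule.factor hJ)
    have hg : Function.Bijective g := by
      refine ⟨(injective_iff_map_eq_zero g).mpr fun z hz => ?_,
        LocalizedModule.map_surjective W _ (Submodule.factor_surjective hJ)⟩
      induction z using LocalizedModule.induction_on with
      | _ y t =>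
        obtain ⟨v, rfl⟩ := Submodule.Quotient.mk_surjective J y
        rw [LocalizedModule.map_mk, ← LocalizedModule.zero_mk t, LocalizedModule.mk_eq] at hz
        obtain ⟨u, hu⟩ := hz
        rw [smul_zero, smul_zero] at hu
        obtain ⟨r, hr, hrJ⟩ := hJk ((u : P) • (t : P) • v) ((Submodule.Quotient.mk_eq_zero N).mp hu)
        rw [← LocalizedModule.zero_mk t, LocalizedModule.mk_eq]
        refine ⟨⟨MvPolynomial.C r, r, hr, rfl⟩ * u, ?_⟩
        rw [smul_zero, smul_zero]
        refine (Submodule.Quotient.mk_eq_zero J).mpr (?_ : (MvPolynomial.C r * (u : P)) • (t : P) • v ∈ J)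
        rw [mul_smul]
        exact hrJ
    exact Module.finitePresentation_of_surjective g hg.2 (by rw [LinearMap.ker_eq_bot.mpr hg.1]; exact Submodule.fg_bot)
  haveI : Module.FinitePresentation P M := Groth.Agent.S2050.result n s hs hloc
  have h := Module.FinitePresentation.fg_ker N.mkQ (Submodule.mkQ_surjective _)
  rwa [Submodule.ker_mkQ] at h

/-- Coherence: a finitely generated submodule of a free module is finitely presented. -/
theorem finitePresentation_of_fg {n m : ℕ}
    (N : Submodule (MvPolynomial (Fin n) R) (Fin m → MvPolynomial (Fin n) R)) (hN : N.FG) :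
    Module.FinitePresentation (MvPolynomial (Fin n) R) N := by
  haveI : Module.Finite (MvPolynomial (Fin n) R) N := Module.Finite.iff_fg.mpr hN
  obtain ⟨k, π, hπ⟩ := Module.Finite.exists_fin' (MvPolynomial (Fin n) R) N
  refine Module.finitePresentation_of_surjective π hπ (fg_of_saturated hR _ fun a v ha hav => ?_)
  rw [LinearMap.mem_ker, LinearMap.map_smul_of_tower] at hav
  rw [LinearMap.mem_ker]
  apply Subtype.ext
  funext i
  have h1 : a • (π v : Fin m → MvPolynomial (Fin n) R) i = 0 := congrFun (congrArg Subtype.val hav) i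
  rw [MvPolynomial.smul_eq_C_mul, mul_eq_zero] at h1
  exact h1.resolve_left (fun h => ha ((MvPolynomial.C_eq_zero).mp h))

end Groth.Agent.H20.PruferCoherent
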