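import Mathlib.RingTheory.Valuation.ValuationRing
import Mathlib.RingTheory.Ideal.Height
import Mathlib.RingTheory.Localization.AtPrime.Basic
import Mathlib.RingTheory.KrullDimension.Basic

/-!
Prime ideals of semilocal Prüfer domains of finite dimension.
-/

universe u

namespace Groth.Agent.H20.PruferSpec

theorem le_total_of_le (R : Type u) [CommRing R] [IsDomain R]
    (hR : ∀ (p : Ideal R) [p.IsPrime], ValuationRing (Localization.AtPrime p))
    {m p q : Ideal R} [m.IsPrime] [p.IsPrime] [q.IsPrime] (hp : p ≤ m) (hq : q ≤ m) :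
    p ≤ q ∨ q ≤ p := by
  haveI := hR m
  have hc : ∀ {r : Ideal R}, r.IsPrime → r ≤ m →
      (r.map (algebraMap R (Localization.AtPrime m))).comap
        (algebraMap R (Localization.AtPrime m)) = r := fun {r} hr hle =>
    IsLocalization.comap_map_of_isPrime_disjoint m.primeCompl _ hr
      (Set.disjoint_left.mpr fun x hx hx' => hx (hle hx'))
  rcases (ValuationRing.iff_ideal_total.mp (hR m)).total
    (p.map (algebraMap R (Localization.AtPrime m)))
    (q.map (algebraMap R (Localization.AtPrime m))) with h | h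
  · left
    rw [← hc ‹p.IsPrime› hp, ← hc ‹q.IsPrime› hq]
    exact Ideal.comap_mono h
  · right
    rw [← hc ‹p.IsPrime› hp, ← hc ‹q.IsPrime› hq]
    exact Ideal.comap_mono h

theorem finite_primeSpectrum (R : Type u) [CommRing R] [IsDomain R]
    (hR : ∀ (p : Ideal R) [p.IsPrime], ValuationRing (Localization.AtPrime p))
    (hfin : Finite (MaximalSpectrum R)) (hdim : ringKrullDim R < ⊤) :
    Finite (PrimeSpectrum R) := by
  obtain ⟨d, hd⟩ : ∃ d : ℕ, ringKrullDim R ≤ (d : WithBot ℕ∞) := by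
    obtain ⟨l, hl⟩ : ∃ l : ℕ∞, ringKrullDim R = l :=
      (WithBot.ne_bot_iff_exists.mp (ne_bot_of_le_ne_bot (by simp) ringKrullDim_nonneg_of_nontrivial)).imp fun _ h => h.symm
    have hne : l ≠ ⊤ := fun h => hdim.ne (by rw [hl, h]; rfl)
    obtain ⟨d, rfl⟩ := ENat.ne_top_iff_exists.mp hne
    exact ⟨d, hl.le⟩
  have hh : ∀ p : PrimeSpectrum R, p.asIdeal.height ≤ (d : ℕ∞) := fun p =>
    WithBot.coe_le_coe.mp ((Ideal.height_le_ringKrullDim_of_ne_top p.2.ne_top).trans hd)
  choose m hm hle using fun p : PrimeSpectrum R => Ideal.exists_le_maximal p.asIdeal p.2.ne_top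
  refine Finite.of_injective (β := MaximalSpectrum R × Fin (d + 1))
    (fun p => (⟨m p, hm p⟩, ⟨p.asIdeal.height.toNat,
      Nat.lt_succ_of_le (ENat.toNat_le_of_le_natCast (hh p))⟩)) fun p q h => ?_
  obtain ⟨h1, h2⟩ := Prod.ext_iff.mp h
  have h1' : m p = m q := congrArg MaximalSpectrum.asIdeal h1
  have h2' : p.asIdeal.height.toNat = q.asIdeal.height.toNat := congrArg Fin.val h2
  have hne : ∀ p : PrimeSpectrum R, p.asIdeal.height ≠ ⊤ := fun p =>
    ne_top_of_le_ne_top (ENat.natCast_ne_top d) (hh p)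
  have hEq : p.asIdeal.height = q.asIdeal.height := by
    rw [← ENat.natCast_toNat (hne p), ← ENat.natCast_toNat (hne q), h2']
  have := (hm q).isPrime
  haveI : ∀ p : PrimeSpectrum R, p.asIdeal.FiniteHeight := fun p => ⟨Or.inr (hne p)⟩
  by_contra hpq
  rcases le_total_of_le R hR (m := m q) (h1' ▸ hle p) (hle q) with h | h
  · exact (Ideal.height_strict_mono_of_isPrime
      (lt_of_le_of_ne h fun e => hpq (PrimeSpectrum.ext e))).ne hEq
  · exact (Ideal.height_strict_mono_of_isPrime
      (lt_of_le_of_ne h fun e => hpq (PrimeSpectrum.ext e.symm))).ne hEq.symm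

end Groth.Agent.H20.PruferSpec
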