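import Groth.Agent.H20.PrimeChainBound
import Groth.Agent.H20.PruferSpec
import Mathlib.RingTheory.ZariskisMainTheorem
import Mathlib.RingTheory.Ideal.GoingUp
import Mathlib.RingTheory.AlgebraicIndependent.TranscendenceBasis
import Mathlib.RingTheory.Ideal.Height
import Mathlib.RingTheory.Ideal.Maximal
import Mathlib.RingTheory.FiniteType
import Mathlib.RingTheory.Algebraic.Integral

/-!
Transcendence degrees along primes of finite type algebras over Prüfer domains.
-/

universe u

open MvPolynomial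

namespace Groth.Agent.H20.PruferDim

variable {R S : Type u} [CommRing R] [CommRing S] [Algebra R S]

/-- Transcendence degree of `S/P` over `R/(P ∩ R)`. -/
noncomputable def tau (R : Type u) {S : Type u} [CommRing R] [CommRing S] [Algebra R S]
    (P : Ideal S) : ℕ :=
  (Algebra.trdeg (R ⧸ P.under R) (S ⧸ P)).toNat

/-- `t` is algebraically independent modulo `P`. -/
def IndepMod (R : Type u) {S : Type u} [CommRing R] [CommRing S] [Algebra R S] (P : Ideal S)
    {ι : Type*} (t : ι → S) : Prop :=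
  ∀ f : MvPolynomial ι R, aeval t f ∈ P → ∀ e, f.coeff e ∈ P.under R

theorem aeval_mk (P : Ideal S) {ι : Type*} (t : ι → S) (f : MvPolynomial ι R) :
    aeval (fun i => Ideal.Quotient.mk P (t i)) (f.map (Ideal.Quotient.mk (P.under R))) =
      Ideal.Quotient.mk P (aeval t f) := by
  rw [show Ideal.Quotient.mk (P.under R) = algebraMap R (R ⧸ P.under R) from rfl, aeval_map_algebraMap]
  exact (DFunLike.congr_fun (comp_aeval t (Ideal.Quotient.mkₐ R P)) f).symm

theorem indepMod_iff (P : Ideal S) {ι : Type*} (t : ι → S) :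
    IndepMod R P t ↔ AlgebraicIndependent (R ⧸ P.under R) fun i => Ideal.Quotient.mk P (t i) := by
  rw [algebraicIndependent_iff]
  constructor
  · intro h f hf
    obtain ⟨f, rfl⟩ := MvPolynomial.map_surjective _ Ideal.Quotient.mk_surjective f
    rw [aeval_mk, Ideal.Quotient.eq_zero_iff_mem] at hf
    ext e
    rw [coeff_map, coeff_zero, Ideal.Quotient.eq_zero_iff_mem]
    exact h f hf e
  · intro h f hf e
    have := h _ (by rw [aeval_mk, Ideal.Quotient.eq_zero_iff_mem]; exact hf)
    rw [← Ideal.Quotient.eq_zero_iff_mem, ← coeff_map, this, coeff_zero]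

theorem exists_spanning_bound (P : Ideal S) [P.IsPrime] {n : ℕ} (t : Fin n → S)
    (h : Algebra.IsAlgebraic (Algebra.adjoin (R ⧸ P.under R)
      (Set.range fun i => Ideal.Quotient.mk P (t i))) (S ⧸ P)) :
    Algebra.trdeg (R ⧸ P.under R) (S ⧸ P) ≤ (n : Cardinal) := by
  haveI := h
  haveI : FaithfulSMul (R ⧸ P.under R) (S ⧸ P) :=
    (faithfulSMul_iff_algebraMap_injective _ _).mpr (Ideal.algebraMap_quotient_injective)
  obtain ⟨u, hu, hbasis⟩ := exists_isTranscendenceBasis_subset (R := R ⧸ P.under R) (A := S ⧸ P)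
    (Set.range fun i => Ideal.Quotient.mk P (t i))
  rw [← hbasis.cardinalMk_eq_trdeg]
  refine (Cardinal.mk_le_mk_of_subset hu).trans ?_
  have h := Cardinal.mk_range_le_lift (f := fun i : Fin n => Ideal.Quotient.mk P (t i))
  simp at h
  exact h

theorem trdeg_lt_aleph0 [Algebra.FiniteType R S] (P : Ideal S) [P.IsPrime] :
    Algebra.trdeg (R ⧸ P.under R) (S ⧸ P) < Cardinal.aleph0 := by
  obtain ⟨s, hs⟩ := Algebra.FiniteType.out (R := R) (A := S)
  let t : Fin s.card → S := fun i => (s.equivFin.symm i : S)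
  refine (exists_spanning_bound P t ?_).trans_lt Cardinal.natCast_lt_aleph0
  refine ⟨fun z => ?_⟩
  obtain ⟨z, rfl⟩ := Ideal.Quotient.mk_surjective z
  set T := Algebra.adjoin (R ⧸ P.under R) (Set.range fun i => Ideal.Quotient.mk P (t i))
  have : Ideal.Quotient.mk P z ∈ T := by
    have hz : z ∈ Algebra.adjoin R (s : Set S) := by rw [hs]; exact Algebra.mem_top
    induction hz using Algebra.adjoin_induction with
    | mem x hx => exact Algebra.subset_adjoin ⟨s.equivFin ⟨x, hx⟩, by simp [t]⟩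
    | algebraMap r => exact T.algebraMap_mem (Ideal.Quotient.mk _ r)
    | add a b _ _ ha hb => rw [map_add]; exact add_mem ha hb
    | mul a b _ _ ha hb => rw [map_mul]; exact mul_mem ha hb
  exact isAlgebraic_algebraMap (A := S ⧸ P) (⟨_, this⟩ : T)

theorem card_le_tau [Algebra.FiniteType R S] (P : Ideal S) [P.IsPrime] {ι : Type} [Fintype ι]
    (t : ι → S) (h : IndepMod R P t) : Fintype.card ι ≤ tau R P := by
  have h1 := ((indepMod_iff P t).mp h).lift_cardinalMk_le_trdeg
  rw [Cardinal.mk_fintype, Cardinal.lift_natCast, Cardinal.lift_uzero] at h1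
  exact (Cardinal.toNat_natCast _).symm.le.trans
    (Cardinal.toNat_le_toNat h1 (trdeg_lt_aleph0 P))

theorem tau_le (P : Ideal S) [P.IsPrime] {n : ℕ} (t : Fin n → S)
    (h : Algebra.IsAlgebraic (Algebra.adjoin (R ⧸ P.under R)
      (Set.range fun i => Ideal.Quotient.mk P (t i))) (S ⧸ P)) : tau R P ≤ n :=
  (Cardinal.toNat_le_toNat (exists_spanning_bound P t h) Cardinal.natCast_lt_aleph0).trans
    (Cardinal.toNat_natCast n).le

/-- A transcendence basis modulo `P`, lifted to `S`. -/
theorem exists_basis [Algebra.FiniteType R S] (P : Ideal S) [P.IsPrime] :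
    ∃ t : Fin (tau R P) → S, IndepMod R P t ∧
      IsTranscendenceBasis (R ⧸ P.under R) fun i => Ideal.Quotient.mk P (t i) := by
  haveI : FaithfulSMul (R ⧸ P.under R) (S ⧸ P) :=
    (faithfulSMul_iff_algebraMap_injective _ _).mpr (Ideal.algebraMap_quotient_injective)
  obtain ⟨u, hu⟩ := exists_isTranscendenceBasis (R ⧸ P.under R) (S ⧸ P)
  have hcard : Cardinal.mk u = (tau R P : Cardinal) := by
    rw [hu.cardinalMk_eq_trdeg, tau, Cardinal.cast_toNat_of_lt_aleph0 (trdeg_lt_aleph0 P)]
  obtain ⟨e⟩ : Nonempty (Fin (tau R P) ≃ u) := by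
    have : Cardinal.lift.{u} (Cardinal.mk (Fin (tau R P))) = Cardinal.lift.{0} (Cardinal.mk u) := by
      rw [hcard, Cardinal.mk_fin, Cardinal.lift_natCast, Cardinal.lift_natCast]
    exact Cardinal.lift_mk_eq'.mp this
  choose t ht using fun i => Ideal.Quotient.mk_surjective ((e i : u) : S ⧸ P)
  have hb : IsTranscendenceBasis (R ⧸ P.under R) fun i => Ideal.Quotient.mk P (t i) := by
    rw [show (fun i => Ideal.Quotient.mk P (t i)) = (fun x : u => (x : S ⧸ P)) ∘ e from funext ht]
    exact hu.comp_equiv e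
  exact ⟨t, (indepMod_iff P t).mpr hb.1, hb⟩

theorem exists_aeval_mem_of_algebraic (X : Ideal S) {Q : Ideal S} [Q.IsPrime] {n : ℕ}
    (t : Fin n → S)
    (hQ : Algebra.IsAlgebraic (Algebra.adjoin (R ⧸ Q.under R)
      (Set.range fun i => Ideal.Quotient.mk Q (t i))) (S ⧸ Q))
    (hlt : Q < X) : ∃ f : MvPolynomial (Fin n) R, aeval t f ∈ X ∧ aeval t f ∉ Q := by
  obtain ⟨x, hx, hxQ⟩ := SetLike.exists_of_lt hlt
  set T := Algebra.adjoin (R ⧸ Q.under R) (Set.range fun i => Ideal.Quotient.mk Q (t i))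
  have hne := Ideal.comap_ne_bot_of_algebraic_mem (R := T) (I := X.map (Ideal.Quotient.mk Q))
    (x := Ideal.Quotient.mk Q x) (fun h => hxQ (Ideal.Quotient.eq_zero_iff_mem.mp h))
    (Ideal.mem_map_of_mem _ hx) (hQ.isAlgebraic _)
  obtain ⟨⟨a, haT⟩, ha, ha0⟩ := Submodule.exists_mem_ne_zero_of_ne_bot hne
  rw [show T = (aeval (R := R ⧸ Q.under R) fun i => Ideal.Quotient.mk Q (t i)).range from
    Algebra.adjoin_range_eq_range_aeval _ _] at haT
  obtain ⟨f, rfl⟩ := haT
  obtain ⟨f, rfl⟩ := MvPolynomial.map_surjective _ Ideal.Quotient.mk_surjective f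
  have h2 : Ideal.Quotient.mk Q (aeval t f) ∈ X.map (Ideal.Quotient.mk Q) := by
    rw [← aeval_mk]
    exact ha
  obtain ⟨y, hy, hyx⟩ := (Ideal.mem_map_iff_of_surjective _ Ideal.Quotient.mk_surjective).mp h2
  refine ⟨f, ?_, fun h => ha0 (Subtype.ext ?_)⟩
  · have := X.add_mem (hlt.le (Ideal.Quotient.eq.mp hyx.symm)) hy
    rwa [sub_add_cancel] at this
  · show aeval (R := R ⧸ Q.under R) _ _ = 0
    rw [aeval_mk]
    exact Ideal.Quotient.eq_zero_iff_mem.mpr h

/-- Key estimate: a prime isolated in its fibre over `R[t]` bounds the transcendence degree of every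
generization. -/
theorem tau_le_of_isolated [Algebra.FiniteType R S] {P Q : Ideal S} [P.IsPrime] [Q.IsPrime]
    (hle : P ≤ Q) {n : ℕ} (t : Fin n → S)
    (hQ : Algebra.IsAlgebraic (Algebra.adjoin (R ⧸ Q.under R)
      (Set.range fun i => Ideal.Quotient.mk Q (t i))) (S ⧸ Q))
    (hmin : ∀ X : Ideal S, X.IsPrime → P ≤ X → X < Q →
      ∃ f : MvPolynomial (Fin n) R, aeval t f ∈ Q ∧ aeval t f ∉ X) : tau R P ≤ n := by
  classical
  let A := MvPolynomial (Fin n) R
  letI : Algebra A (S ⧸ P) := ((Ideal.Quotient.mk P).comp (aeval (R := R) t).toRingHom).toAlgebra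
  haveI : IsScalarTower R A (S ⧸ P) := .of_algebraMap_eq fun r => by
    change _ = Ideal.Quotient.mk P (aeval t (MvPolynomial.C r))
    rw [aeval_C]; rfl
  haveI : Algebra.FiniteType A (S ⧸ P) := Algebra.FiniteType.of_restrictScalars_finiteType R A (S ⧸ P)
  let Qb : Ideal (S ⧸ P) := Q.map (Ideal.Quotient.mk P)
  have hQb : Qb.comap (Ideal.Quotient.mk P) = Q := by
    rw [Ideal.comap_map_of_surjective' _ Ideal.Quotient.mk_surjective, Ideal.mk_ker, sup_eq_left]
    exact hle
  haveI : Qb.IsPrime := Ideal.map_isPrime_of_surjective Ideal.Quotient.mk_surjective (by rwa [Ideal.mk_ker])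
  let q₀ := Qb.under A
  haveI : q₀.IsPrime := Ideal.IsPrime.comap _
  haveI : Qb.LiesOver q₀ := ⟨rfl⟩
  let e := PrimeSpectrum.primesOverOrderIsoFiber A (S ⧸ P) q₀
  let Qo : q₀.primesOver (S ⧸ P) := ⟨Qb, ‹_›, ‹_›⟩
  have huniq : ∀ Y : q₀.primesOver (S ⧸ P), (Y ≤ Qo ∨ Qo ≤ Y) → Y = Qo := by
    intro Y hY
    haveI := Y.2.1
    let X := Y.1.comap (Ideal.Quotient.mk P)
    haveI : X.IsPrime := Ideal.IsPrime.comap _
    have hmem : ∀ f : A, aeval t f ∈ X ↔ aeval t f ∈ Q := fun f => by
      have h1 := SetLike.ext_iff.mp (Y.2.2.over.symm) f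
      rw [← hQb]
      exact h1
    have hXQ : X = Q := by
      rcases hY with h | h
      · rcases (Ideal.comap_mono (f := Ideal.Quotient.mk P) h).trans hQb.le |>.lt_or_eq with h | h
        · obtain ⟨f, hf, hfX⟩ := hmin X ‹_› ((Ideal.mk_ker (I := P)).ge.trans (Ideal.comap_mono bot_le)) h
          exact absurd ((hmem f).mpr hf) hfX
        · exact h
      · rcases (hQb.ge.trans (Ideal.comap_mono (f := Ideal.Quotient.mk P) h)).lt_or_eq with h | h
        · obtain ⟨f, hf, hfQ⟩ := exists_aeval_mem_of_algebraic X t hQ h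
          exact absurd ((hmem f).mp hf) hfQ
        · exact h.symm
    refine Subtype.ext ?_
    rw [← Ideal.map_comap_of_surjective _ Ideal.Quotient.mk_surjective Y.1]
    exact congrArg _ hXQ
  haveI : IsNoetherianRing (q₀.Fiber (S ⧸ P)) := Algebra.FiniteType.isNoetherianRing q₀.ResidueField _
  have huniq' : ∀ Z, (Z ≤ e Qo ∨ e Qo ≤ Z) → Z = e Qo := fun Z hZ => by
    obtain ⟨Y, rfl⟩ := e.surjective Z
    rw [huniq Y (by simpa using hZ)]
  have hopen : IsOpen ({e Qo} : Set (PrimeSpectrum (q₀.Fiber (S ⧸ P)))) := by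
    have hfin := minimalPrimes.finite_of_isNoetherianRing (q₀.Fiber (S ⧸ P))
    let M := hfin.toFinset.erase (e Qo).asIdeal
    have hnot : ∀ Z ∈ M, ¬ Z ≤ (e Qo).asIdeal := by
      intro Z hZ hle
      obtain ⟨hne, hmemZ⟩ := Finset.mem_erase.mp hZ
      rw [Set.Finite.mem_toFinset] at hmemZ
      exact hne (congrArg PrimeSpectrum.asIdeal (huniq' ⟨Z, hmemZ.1.1⟩ (Or.inl hle)))
    choose g hg hgQ using fun Z : M => SetLike.not_le_iff_exists.mp (hnot Z.1 Z.2)
    have hs : ∏ Z : M, g Z ∉ (e Qo).asIdeal := fun h => by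
      obtain ⟨Z, -, hZ⟩ := Ideal.IsPrime.prod_mem_iff.mp h
      exact hgQ Z hZ
    convert (PrimeSpectrum.basicOpen (∏ Z : M, g Z)).isOpen
    ext Z
    refine ⟨fun h => h ▸ hs, fun hZ => ?_⟩
    obtain ⟨W, hW, hWZ⟩ := Ideal.exists_minimalPrimes_le (I := ⊥) (J := Z.asIdeal) bot_le
    by_cases hWQ : W = (e Qo).asIdeal
    · exact huniq' Z (Or.inr (show (e Qo).asIdeal ≤ Z.asIdeal from hWQ ▸ hWZ))
    · have hWM : W ∈ M := Finset.mem_erase.mpr ⟨hWQ, hfin.mem_toFinset.mpr hW⟩
      exact absurd (hWZ (Ideal.mem_of_dvd _ (Finset.dvd_prod_of_mem g (Finset.mem_univ ⟨W, hWM⟩))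
        (hg ⟨W, hWM⟩))) hZ
  haveI := Algebra.QuasiFiniteAt.of_isOpen_singleton (R := q₀.ResidueField) (e Qo) hopen
  haveI : Algebra.QuasiFiniteAt A Qb := Algebra.QuasiFiniteAt.of_quasiFiniteAt_residueField q₀ Qb
    (e Qo).asIdeal (congrArg (fun Y : q₀.primesOver (S ⧸ P) => Y.1) (e.symm_apply_apply Qo))
  obtain ⟨S', hS', r, hr, hbij⟩ :=
    Algebra.QuasiFiniteAt.exists_fg_and_exists_notMem_and_awayMap_bijective (R := A) Qb
  haveI : Module.Finite A S' := ⟨(Submodule.fg_top _).mpr hS'⟩
  refine tau_le P t ⟨fun x => ?_⟩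
  set T := Algebra.adjoin (R ⧸ P.under R) (Set.range fun i => Ideal.Quotient.mk P (t i))
  have hint : ∀ y : S ⧸ P, y ∈ S' → IsAlgebraic T y := by
    intro y hy
    obtain ⟨p, hp, hpy⟩ : IsIntegral A y :=
      (Algebra.IsIntegral.isIntegral (⟨y, hy⟩ : S')).map S'.val
    have hmem : ∀ f : A, algebraMap A (S ⧸ P) f ∈ T := fun f => by
      change Ideal.Quotient.mk P (aeval t f) ∈ T
      rw [← aeval_mk]
      rw [show T = (aeval (R := R ⧸ P.under R) fun i => Ideal.Quotient.mk P (t i)).range from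
        Algebra.adjoin_range_eq_range_aeval _ _]
      exact AlgHom.mem_range_self _ _
    let φ : A →+* T := (algebraMap A (S ⧸ P)).codRestrict T hmem
    haveI : Nontrivial (S ⧸ P) := inferInstance
    refine ⟨p.map φ, (hp.map φ).ne_zero, ?_⟩
    rw [Polynomial.aeval_def, Polynomial.eval₂_map]
    exact hpy
  have hr0 : (r : S ⧸ P) ≠ 0 := fun h => hr (h ▸ Qb.zero_mem)
  obtain ⟨z, hz⟩ := hbij.2 (algebraMap _ _ x)
  obtain ⟨z, ⟨_, m, rfl⟩, rfl⟩ := IsLocalization.exists_mk'_eq (Submonoid.powers r) z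
  have hx : (r : S ⧸ P) ^ m * x = (z : S ⧸ P) := by
    rw [Localization.awayMap, IsLocalization.Away.map, IsLocalization.map_mk',
      IsLocalization.mk'_eq_iff_eq_mul, ← map_mul] at hz
    have hinj : Function.Injective (algebraMap (S ⧸ P) (Localization.Away (S'.val.toRingHom r))) :=
      IsLocalization.injective (M := Submonoid.powers (S'.val.toRingHom r)) _ (powers_le_nonZeroDivisors_of_noZeroDivisors hr0)
    have := hinj hz
    simpa [mul_comm] using this.symm
  refine IsAlgebraic.of_mul (y := (r : S ⧸ P) ^ m) (mem_nonZeroDivisors_of_ne_zero (pow_ne_zero _ hr0))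
    (hint _ (pow_mem r.2 m)) ?_
  rw [hx]
  exact hint _ z.2

/-- Independence modulo a prime propagates to generizations. -/
theorem indepMod_of_le [IsDomain R]
    (hR : ∀ (p : Ideal R) [p.IsPrime], ValuationRing (Localization.AtPrime p)) {P Q : Ideal S} [P.IsPrime] [Q.IsPrime] (hle : P ≤ Q) {ι : Type*} {t : ι → S}
    (h : IndepMod R Q t) : IndepMod R P t := by
  classical
  intro f hf
  by_contra hne
  push Not at hne
  obtain ⟨e₁, he₁⟩ := hne
  haveI := hR (Q.under R)
  haveI : (Q.under R).IsPrime := inferInstance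
  have hdiv : ∀ u : Finset (ι →₀ ℕ), u.Nonempty → ∃ e₀ ∈ u, ∀ e ∈ u,
      ∃ w c : R, w ∉ Q.under R ∧ w * f.coeff e = f.coeff e₀ * c := by
    intro u hu
    induction hu using Finset.Nonempty.cons_induction with
    | singleton a =>
      exact ⟨a, Finset.mem_singleton_self a, fun e he => by
        rw [Finset.mem_singleton.mp he]
        exact ⟨1, 1, (Q.under R).ne_top_iff_one.mp (Ideal.IsPrime.ne_top inferInstance), by rw [one_mul, mul_one]⟩⟩
    | cons a u ha _ ih =>
      obtain ⟨e₀, he₀, h₀⟩ := ih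
      rcases PrimeChainBound.total (Q.under R) (f.coeff a) (f.coeff e₀) with ⟨w, c, hw, hh⟩ | ⟨w, c, hw, hh⟩
      · refine ⟨a, Finset.mem_cons_self a u, fun e he => ?_⟩
        rcases Finset.mem_cons.mp he with rfl | he
        · exact ⟨1, 1, (Q.under R).ne_top_iff_one.mp (Ideal.IsPrime.ne_top inferInstance), by rw [one_mul, mul_one]⟩
        · obtain ⟨w', c', hw', h'⟩ := h₀ e he
          refine ⟨w * w', c * c', fun hh => (Ideal.IsPrime.mem_or_mem inferInstance hh).elim hw hw', ?_⟩
          rw [mul_assoc, h', ← mul_assoc, hh, mul_assoc]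
      · refine ⟨e₀, Finset.mem_cons.mpr (Or.inr he₀), fun e he => ?_⟩
        rcases Finset.mem_cons.mp he with rfl | he
        · exact ⟨w, c, hw, hh⟩
        · exact h₀ e he
  have he₁s : e₁ ∈ f.support := mem_support_iff.mpr fun h0 => he₁ (h0 ▸ (P.under R).zero_mem)
  obtain ⟨e₀, he₀, h₀⟩ := hdiv f.support ⟨e₁, he₁s⟩
  choose! w c hw hc using h₀
  have hc0 : f.coeff e₀ ∉ P.under R := by
    intro h0
    have h1 : w e₁ * f.coeff e₁ ∈ P.under R := (hc e₁ he₁s) ▸ Ideal.mul_mem_right _ _ h0
    rcases Ideal.IsPrime.mem_or_mem inferInstance h1 with h2 | h2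
    · exact hw e₁ he₁s (Ideal.comap_mono hle h2)
    · exact he₁ h2
  let W := ∏ e ∈ f.support, w e
  have hW : W ∉ Q.under R := fun h => by
    obtain ⟨e, he, hwe⟩ := Ideal.IsPrime.prod_mem_iff.mp h
    exact hw e he hwe
  let g : MvPolynomial ι R := ∑ e ∈ f.support, monomial e (c e * ∏ e' ∈ f.support.erase e, w e')
  have hfg : MvPolynomial.C W * f = MvPolynomial.C (f.coeff e₀) * g := by
    conv_lhs => rw [f.as_sum]
    simp only [g, Finset.mul_sum, C_mul_monomial]
    refine Finset.sum_congr rfl fun e he => ?_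
    congr 1
    rw [show W = w e * ∏ e' ∈ f.support.erase e, w e' from (Finset.mul_prod_erase _ w he).symm]
    linear_combination (∏ e' ∈ f.support.erase e, w e') * hc e he
  have hg : aeval t g ∈ P := by
    have h1 : aeval t (MvPolynomial.C W * f) ∈ P := by rw [map_mul]; exact P.mul_mem_left _ hf
    rw [hfg, map_mul, aeval_C] at h1
    exact (Ideal.IsPrime.mem_or_mem ‹P.IsPrime› h1).resolve_left hc0
  have hcoef := h g (hle hg) e₀
  have : g.coeff e₀ = c e₀ * ∏ e' ∈ f.support.erase e₀, w e' := by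
    simp only [g, coeff_sum, coeff_monomial]
    rw [Finset.sum_eq_single e₀ (fun e _ hne => if_neg hne) (fun h => absurd he₀ h), if_pos rfl]
  rw [this] at hcoef
  rcases Ideal.IsPrime.mem_or_mem inferInstance hcoef with h2 | h2
  · have h3 : w e₀ * f.coeff e₀ = f.coeff e₀ * c e₀ := hc e₀ he₀
    rw [mul_comm] at h3
    have hne0 : f.coeff e₀ ≠ 0 := mem_support_iff.mp he₀
    exact hw e₀ he₀ (mul_left_cancel₀ hne0 h3 ▸ h2)
  · exact hW (by rw [show W = w e₀ * ∏ e' ∈ f.support.erase e₀, w e' from (Finset.mul_prod_erase _ w he₀).symm]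
                 exact Ideal.mul_mem_left _ _ h2)

theorem tau_lt_of_same_contraction [Algebra.FiniteType R S] {P Q : Ideal S} [P.IsPrime] [Q.IsPrime]
    (hlt : P < Q) (hpq : P.under R = Q.under R) : tau R Q < tau R P := by
  obtain ⟨t, ht, -⟩ := exists_basis (R := R) Q
  have htP : IndepMod R P t := fun f hf e => hpq ▸ ht f (hlt.le hf) e
  have hle : tau R Q ≤ tau R P := (Fintype.card_fin _).symm.le.trans (card_le_tau P t htP)
  refine lt_of_le_of_ne hle fun heq => ?_
  have hb : IsTranscendenceBasis (R ⧸ P.under R) fun i => Ideal.Quotient.mk P (t i) := by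
    haveI : FaithfulSMul (R ⧸ P.under R) (S ⧸ P) :=
      (faithfulSMul_iff_algebraMap_injective _ _).mpr (Ideal.algebraMap_quotient_injective)
    refine ((indepMod_iff P t).mp htP).isTranscendenceBasis_of_lift_trdeg_le
      (trdeg_lt_aleph0 P) ?_
    rw [Cardinal.mk_fin, Cardinal.lift_natCast, Cardinal.lift_uzero, heq, tau,
      Cardinal.cast_toNat_of_lt_aleph0 (trdeg_lt_aleph0 P)]
  obtain ⟨f, hfQ, hfP⟩ := exists_aeval_mem_of_algebraic Q t hb.isAlgebraic hlt
  refine hfP ?_
  have h2 : aeval (fun i => Ideal.Quotient.mk P (t i)) (f.map (Ideal.Quotient.mk (P.under R))) = 0 := by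
    have : f.map (Ideal.Quotient.mk (P.under R)) = 0 := by
      ext e
      rw [coeff_map, coeff_zero, Ideal.Quotient.eq_zero_iff_mem, hpq]
      exact ht f hfQ e
    rw [this, map_zero]
  rw [aeval_mk, Ideal.Quotient.eq_zero_iff_mem] at h2
  exact h2

/-- A prime over each intermediate prime of the base. -/
theorem exists_between [IsDomain R]
    (hR : ∀ (p : Ideal R) [p.IsPrime], ValuationRing (Localization.AtPrime p)) {P Q : Ideal S} [P.IsPrime] [Q.IsPrime] (hle : P ≤ Q) (p' : Ideal R) [p'.IsPrime]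
    (h₁ : P.under R ≤ p') (h₂ : p' ≤ Q.under R) :
    ∃ X : Ideal S, X.IsPrime ∧ P ≤ X ∧ X ≤ Q ∧ X.under R = p' := by
  haveI := hR (Q.under R)
  let M : Submonoid S := Algebra.algebraMapSubmonoid S p'.primeCompl ⊔ Q.primeCompl
  have key : ∀ z ∈ p'.map (algebraMap R S), ∃ u a : R, u ∉ Q.under R ∧ a ∈ p' ∧
      ∃ y : S, algebraMap R S u * z = algebraMap R S a * y := by
    intro z hz
    rw [Ideal.map] at hz
    induction hz using Submodule.span_induction with
    | mem x hx =>
      obtain ⟨a, ha, rfl⟩ := hx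
      exact ⟨1, a, (Q.under R).ne_top_iff_one.mp (Ideal.IsPrime.ne_top inferInstance), ha, 1, by simp⟩
    | zero => exact ⟨1, 0, (Q.under R).ne_top_iff_one.mp (Ideal.IsPrime.ne_top inferInstance), p'.zero_mem, 0, by simp⟩
    | smul c x _ ih =>
      obtain ⟨u, a, hu, ha, y, h⟩ := ih
      exact ⟨u, a, hu, ha, c * y, by rw [smul_eq_mul]; linear_combination c * h⟩
    | add x x' _ _ ih ih' =>
      obtain ⟨u, a, hu, ha, y, h⟩ := ih
      obtain ⟨u', a', hu', ha', y', h'⟩ := ih'
      rcases PrimeChainBound.total (Q.under R) a' a with ⟨w, c, hw, hh⟩ | ⟨w, c, hw, hh⟩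
      · refine ⟨u * u' * w, a', fun hm => ?_, ha', algebraMap R S u' * algebraMap R S c * y +
          algebraMap R S u * algebraMap R S w * y', ?_⟩
        · rcases Ideal.IsPrime.mem_or_mem inferInstance hm with h1 | h1
          · exact (Ideal.IsPrime.mem_or_mem inferInstance h1).elim hu hu'
          · exact hw h1
        · have hh' := congrArg (algebraMap R S) hh
          simp only [map_mul] at hh' ⊢
          linear_combination (algebraMap R S u' * algebraMap R S w) * h +
            (algebraMap R S u * algebraMap R S w) * h' + algebraMap R S u' * y * hh'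
      · refine ⟨u * u' * w, a, fun hm => ?_, ha, algebraMap R S u' * algebraMap R S w * y +
          algebraMap R S u * algebraMap R S c * y', ?_⟩
        · rcases Ideal.IsPrime.mem_or_mem inferInstance hm with h1 | h1
          · exact (Ideal.IsPrime.mem_or_mem inferInstance h1).elim hu hu'
          · exact hw h1
        · have hh' := congrArg (algebraMap R S) hh
          simp only [map_mul] at hh' ⊢
          linear_combination (algebraMap R S u' * algebraMap R S w) * h +
            (algebraMap R S u * algebraMap R S w) * h' + algebraMap R S u * y' * hh'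
  have hdisj : Disjoint ((P ⊔ p'.map (algebraMap R S) : Ideal S) : Set S) M := by
    rw [Set.disjoint_left]
    intro m hm hmM
    obtain ⟨_, ⟨w, hwp, rfl⟩, s, hs, rfl⟩ := Submonoid.mem_sup.mp hmM
    obtain ⟨π, hπ, z, hz, hsum⟩ := Submodule.mem_sup.mp hm
    obtain ⟨u, a, hu, ha, y, hy⟩ := key z hz
    rcases PrimeChainBound.total (Q.under R) a w with ⟨v, c, hv, hh⟩ | ⟨v, c, hv, hh⟩
    · refine hwp ?_
      have : v * w ∈ p' := hh ▸ p'.mul_mem_right _ ha
      exact (Ideal.IsPrime.mem_or_mem ‹p'.IsPrime› this).resolve_left fun h => hv (h₂ h)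
    · have hcp : c ∈ p' := by
        have : w * c ∈ p' := hh ▸ p'.mul_mem_left _ ha
        exact (Ideal.IsPrime.mem_or_mem ‹p'.IsPrime› this).resolve_left hwp
      have hh' := congrArg (algebraMap R S) hh
      simp only [map_mul] at hh'
      have h4 : algebraMap R S w *
          (algebraMap R S u * algebraMap R S v * s - algebraMap R S c * y) ∈ P := by
        have : algebraMap R S w * (algebraMap R S u * algebraMap R S v * s - algebraMap R S c * y) =
            algebraMap R S u * algebraMap R S v * π := by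
          linear_combination -(algebraMap R S u * algebraMap R S v) * hsum + algebraMap R S v * hy +
            y * hh'
        rw [this]
        exact P.mul_mem_left _ hπ
      have h5 := hle ((Ideal.IsPrime.mem_or_mem ‹P.IsPrime› h4).resolve_left fun h => hwp (h₁ h))
      have h6 : algebraMap R S u * algebraMap R S v * s ∈ Q := by
        simpa using add_mem h5 (Q.mul_mem_right y (show algebraMap R S c ∈ Q from h₂ hcp))
      rcases Ideal.IsPrime.mem_or_mem ‹Q.IsPrime› h6 with h7 | h7
      · exact (Ideal.IsPrime.mem_or_mem ‹Q.IsPrime› h7).elim hu hv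
      · exact hs h7
  obtain ⟨X, hX, hle', hXM⟩ := Ideal.exists_le_prime_disjoint _ M hdisj
  refine ⟨X, hX, le_sup_left.trans hle', fun x hx => ?_, le_antisymm (fun r hr => ?_)
    (Ideal.le_comap_map.trans (Ideal.comap_mono (le_sup_right.trans hle')))⟩
  · by_contra hxQ
    exact Set.disjoint_left.mp hXM hx (Submonoid.mem_sup_right hxQ)
  · by_contra hrp
    exact Set.disjoint_left.mp hXM hr (Submonoid.mem_sup_left ⟨r, hrp, rfl⟩)

theorem tau_le_of_le [IsDomain R]
    (hR : ∀ (p : Ideal R) [p.IsPrime], ValuationRing (Localization.AtPrime p)) [Algebra.FiniteType R S] {P Q : Ideal S} [P.IsPrime] [Q.IsPrime] (hle : P ≤ Q) :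
    tau R Q ≤ tau R P := by
  obtain ⟨t, ht, -⟩ := exists_basis (R := R) Q
  exact (Fintype.card_fin _).symm.le.trans (card_le_tau P t (indepMod_of_le hR hle ht))

theorem delta_lt [IsDomain R]
    (hR : ∀ (p : Ideal R) [p.IsPrime], ValuationRing (Localization.AtPrime p)) [Algebra.FiniteType R S] (hfin : ∀ p : Ideal R, p.IsPrime → p.height ≠ ⊤)
    {P Q : Ideal S} [P.IsPrime] [Q.IsPrime] (hlt : P < Q) :
    (tau R Q : ℤ) - (Q.under R).height.toNat < (tau R P : ℤ) - (P.under R).height.toNat := by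
  haveI : (P.under R).FiniteHeight := ⟨Or.inr (hfin _ inferInstance)⟩
  haveI : (Q.under R).FiniteHeight := ⟨Or.inr (hfin _ inferInstance)⟩
  rcases (Ideal.comap_mono (f := algebraMap R S) hlt.le).lt_or_eq with h | h
  · have h1 := tau_le_of_le (R := R) hR hlt.le
    have h2 : (P.under R).height < (Q.under R).height := Ideal.height_strict_mono_of_isPrime h
    have h3 : (P.under R).height.toNat < (Q.under R).height.toNat := by
      rw [← ENat.coe_lt_coe, ENat.natCast_toNat (hfin _ inferInstance),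
        ENat.natCast_toNat (hfin _ inferInstance)]
      exact h2
    omega
  · have h1 := tau_lt_of_same_contraction hlt h
    have h3 : (P.under R).height = (Q.under R).height := congrArg Ideal.height h
    rw [h3]
    omega

theorem delta_covBy [IsDomain R]
    (hR : ∀ (p : Ideal R) [p.IsPrime], ValuationRing (Localization.AtPrime p)) [Algebra.FiniteType R S] (hfin : ∀ p : Ideal R, p.IsPrime → p.height ≠ ⊤)
    {P Q : Ideal S} [P.IsPrime] [Q.IsPrime]
    (hcov : (⟨P, inferInstance⟩ : PrimeSpectrum S) ⋖ ⟨Q, inferInstance⟩) :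
    (tau R P : ℤ) - (P.under R).height.toNat = (tau R Q : ℤ) - (Q.under R).height.toNat + 1 := by
  have hlt : P < Q := hcov.lt
  have hno : ∀ X : Ideal S, X.IsPrime → P ≤ X → X < Q → X = P := fun X hX h₁ h₂ => by
    by_contra hne
    exact hcov.2 (c := ⟨X, hX⟩) (lt_of_le_of_ne (show (⟨P, inferInstance⟩ : PrimeSpectrum S) ≤ ⟨X, hX⟩ from h₁) fun h => hne (congrArg PrimeSpectrum.asIdeal h).symm) h₂
  obtain ⟨t, -, htb⟩ := exists_basis (R := R) Q
  rcases (Ideal.comap_mono (f := algebraMap R S) hlt.le).lt_or_eq with h | h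
  · have h1 := tau_le_of_le (R := R) hR hlt.le
    have h2 : tau R P ≤ tau R Q := by
      refine tau_le_of_isolated hlt.le t htb.isAlgebraic fun X hX h₁ h₂ => ?_
      obtain rfl := hno X hX h₁ h₂
      obtain ⟨r, hrQ, hrP⟩ := SetLike.exists_of_lt h
      exact ⟨MvPolynomial.C r, by rw [aeval_C]; exact hrQ, by rw [aeval_C]; exact hrP⟩
    haveI : (P.under R).FiniteHeight := ⟨Or.inr (hfin _ inferInstance)⟩
    have hq : (Q.under R).height = (P.under R).height + 1 := by
      refine le_antisymm ?_ (Ideal.height_add_one_le_of_lt_of_isPrime h)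
      obtain ⟨n, hn⟩ := ENat.ne_top_iff_exists.mp (hfin (P.under R) inferInstance)
      rw [← hn]
      rw [show (Q.under R) = (⟨Q.under R, inferInstance⟩ : PrimeSpectrum R).asIdeal from rfl,
        PrimeSpectrum.height_eq_orderHeight]
      rw [← Nat.cast_one, ← Nat.cast_add, Order.height_le_coe_iff]
      intro y hy
      have hyQ : y.asIdeal < Q.under R := hy
      have hyP : y.asIdeal ≤ P.under R := by
        rcases PruferSpec.le_total_of_le R hR (m := Q.under R) hyQ.le h.le with h' | h'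
        · exact h'
        · rcases h'.lt_or_eq with h'' | h''
          · obtain ⟨X, hX, hX₁, hX₂, hX₃⟩ := exists_between hR hlt.le y.asIdeal h' hyQ.le
            rcases hX₂.lt_or_eq with h4 | h4
            · rw [hno X hX hX₁ h4] at hX₃
              exact absurd hX₃ h''.ne
            · subst h4
              exact absurd hX₃ hyQ.ne'
          · exact h''.ge
      calc Order.height y ≤ (n : ℕ∞) := by
            rw [← PrimeSpectrum.height_eq_orderHeight, hn]
            exact Ideal.height_mono hyP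
        _ < ((n + 1 : ℕ) : ℕ∞) := by exact_mod_cast Nat.lt_succ_self n
    have h3 : (Q.under R).height.toNat = (P.under R).height.toNat + 1 := by
      rw [hq]
      obtain ⟨n, hn⟩ := ENat.ne_top_iff_exists.mp (hfin (P.under R) inferInstance)
      rw [← hn, ← Nat.cast_one, ← Nat.cast_add, ENat.toNat_natCast, ENat.toNat_natCast]
    omega
  · have h1 := tau_lt_of_same_contraction hlt h
    obtain ⟨x, hxQ, hxP⟩ := SetLike.exists_of_lt hlt
    have h2 : tau R P ≤ tau R Q + 1 := by
      refine tau_le_of_isolated hlt.le (Fin.snoc t x) ?_ fun X hX h₁ h₂ => ?_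
      · haveI := htb.isAlgebraic
        have hsub : Algebra.adjoin (R ⧸ Q.under R) (Set.range fun i => Ideal.Quotient.mk Q (t i)) ≤
            Algebra.adjoin (R ⧸ Q.under R)
              (Set.range fun i => Ideal.Quotient.mk Q ((Fin.snoc t x : Fin (tau R Q + 1) → S) i)) :=
          Algebra.adjoin_mono (by
            rintro _ ⟨i, rfl⟩
            exact ⟨i.castSucc, by simp⟩)
        refine ⟨fun z => ?_⟩
        obtain ⟨p, hp, hpz⟩ := (htb.isAlgebraic).isAlgebraic z
        refine ⟨p.map (Subalgebra.inclusion hsub).toRingHom,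
          (Polynomial.map_ne_zero_iff (Subalgebra.inclusion_injective hsub)).mpr hp, ?_⟩
        rw [Polynomial.aeval_def, Polynomial.eval₂_map]
        exact hpz
      · obtain rfl := hno X hX h₁ h₂
        exact ⟨MvPolynomial.X (Fin.last _), by simpa using hxQ, by simpa using hxP⟩
    have h3 : (P.under R).height = (Q.under R).height := congrArg Ideal.height h
    rw [h3]
    omega

end Groth.Agent.H20.PruferDim
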