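import Groth.Agent.H20.PruferCoherent
import Mathlib.RingTheory.FiniteType
import Mathlib.RingTheory.Finiteness.Basic

/-!
Coherence of algebras of finite type over Prüfer domains for torsion-free targets.
-/

set_option autoImplicit false

universe u

namespace Groth.Agent.H20.PruferFP

variable {R : Type u} [CommRing R] [IsDomain R]
variable (hR : ∀ (p : Ideal R) [p.IsPrime], ValuationRing (Localization.AtPrime p))
include hR

theorem finitePresentation_poly {n : ℕ} {M : Type u} [AddCommGroup M] [Module (MvPolynomial (Fin n) R) M]
    [Module.Finite (MvPolynomial (Fin n) R) M] [Module R M] [IsScalarTower R (MvPolynomial (Fin n) R) M]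
    (h : ∀ (a : R) (x : M), a ≠ 0 → a • x = 0 → x = 0) :
    Module.FinitePresentation (MvPolynomial (Fin n) R) M := by
  obtain ⟨k, π, hπ⟩ := Module.Finite.exists_fin' (MvPolynomial (Fin n) R) M
  refine Module.finitePresentation_of_surjective π hπ (PruferCoherent.fg_of_saturated hR _ fun a v ha hv => ?_)
  have h1 : π (a • v) = 0 := hv
  rw [LinearMap.map_smul_of_tower] at h1
  exact h a _ ha h1

/-- The kernel of a map from a finite module to a torsion-free module is finitely generated. -/
theorem fg_ker {A : Type u} [CommRing A] [Algebra R A] [Algebra.FiniteType R A] {M N : Type u}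
    [AddCommGroup M] [Module A M] [Module.Finite A M]
    [AddCommGroup N] [Module A N] [Module R N] [IsScalarTower R A N]
    (h : ∀ (a : R) (x : N), a ≠ 0 → a • x = 0 → x = 0) (f : M →ₗ[A] N) : (LinearMap.ker f).FG := by
  obtain ⟨n, ψ, hψ⟩ := Algebra.FiniteType.iff_quotient_mvPolynomial''.1 (inferInstance : Algebra.FiniteType R A)
  let P := MvPolynomial (Fin n) R
  letI : Algebra P A := ψ.toRingHom.toAlgebra
  haveI : IsScalarTower R P A := IsScalarTower.of_algebraMap_eq fun a => (ψ.commutes a).symm
  haveI : Module.Finite P A := Module.Finite.of_surjective (Algebra.linearMap P A) hψ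
  obtain ⟨k, g, hg⟩ := Module.Finite.exists_fin' A M
  let f' : (Fin k → A) →ₗ[A] N := f ∘ₗ g
  suffices (LinearMap.ker f').FG by
    have := this.map g
    rwa [LinearMap.ker_comp, Submodule.map_comap_eq_of_surjective hg] at this
  letI : Module P N := Module.compHom N (algebraMap P A)
  haveI : IsScalarTower P A N := IsScalarTower.of_algebraMap_smul fun _ _ => rfl
  haveI : IsScalarTower R P N := IsScalarTower.of_algebraMap_smul fun a x => by
    show algebraMap P A (algebraMap R P a) • x = a • x
    rw [← IsScalarTower.algebraMap_apply, algebraMap_smul]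
  let fP : (Fin k → A) →ₗ[P] N :=
    { toFun := f'
      map_add' := map_add f'
      map_smul' := fun c v => by
        rw [RingHom.id_apply, ← algebraMap_smul A c v, map_smul, algebraMap_smul] }
  haveI : Module.Finite P (LinearMap.range fP) := Module.Finite.range fP
  haveI : Module.FinitePresentation P (LinearMap.range fP) :=
    finitePresentation_poly hR (M := ↥(LinearMap.range fP)) fun a x ha hx => Subtype.ext (h a _ ha (congrArg Subtype.val hx))
  have hK := @Module.FinitePresentation.fg_ker P (Fin k → A) (LinearMap.range fP) _ _ _ _ _ _ _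
    fP.rangeRestrict fP.surjective_rangeRestrict
  rw [LinearMap.ker_rangeRestrict] at hK
  exact Submodule.FG.of_restrictScalars P (show ((LinearMap.ker f').restrictScalars P).FG from hK)

/-- A finite torsion-free module is finitely presented. -/
theorem finitePresentation {A : Type u} [CommRing A] [Algebra R A] [Algebra.FiniteType R A] {M : Type u}
    [AddCommGroup M] [Module A M] [Module.Finite A M] [Module R M] [IsScalarTower R A M]
    (h : ∀ (a : R) (x : M), a ≠ 0 → a • x = 0 → x = 0) : Module.FinitePresentation A M := by
  obtain ⟨k, π, hπ⟩ := Module.Finite.exists_fin' A M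
  exact Module.finitePresentation_of_surjective π hπ (fg_ker hR h π)

/-- Coherence: the kernel of a surjection of finitely presented modules is finitely presented. -/
theorem finitePresentation_ker {A : Type u} [CommRing A] [Algebra R A] [Algebra.FiniteType R A]
    (hA : ∀ (a : R) (x : A), a ≠ 0 → a • x = 0 → x = 0) {M N : Type u}
    [AddCommGroup M] [Module A M] [Module.FinitePresentation A M]
    [AddCommGroup N] [Module A N] [Module.FinitePresentation A N] (f : M →ₗ[A] N) (hf : Function.Surjective f) :
    Module.FinitePresentation A (LinearMap.ker f) := by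
  obtain ⟨k, π, hπ⟩ := Module.Finite.exists_fin' A M
  let L := LinearMap.ker (f ∘ₗ π)
  haveI : Module.Finite A L := Module.Finite.iff_fg.2 (Module.FinitePresentation.fg_ker _ (hf.comp hπ))
  haveI : Module.FinitePresentation A L := finitePresentation hR (M := ↥L) fun a x ha hx =>
    Subtype.ext (funext fun i => hA a _ ha (congrFun (congrArg Subtype.val hx) i))
  let g : L →ₗ[A] LinearMap.ker f := LinearMap.codRestrict _ (π ∘ₗ L.subtype) fun x => x.2
  have hg : Function.Surjective g := by
    rintro ⟨x, hx⟩
    obtain ⟨v, rfl⟩ := hπ x
    exact ⟨⟨v, hx⟩, Subtype.ext rfl⟩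
  refine Module.finitePresentation_of_surjective g hg ?_
  refine (Submodule.fg_map_iff L.subtype L.subtype_injective).1 ?_
  have : (LinearMap.ker g).map L.subtype = LinearMap.ker π := by
    refine le_antisymm ?_ fun v hv => ?_
    · rintro _ ⟨y, hy, rfl⟩
      exact congrArg Subtype.val (LinearMap.mem_ker.1 hy)
    · exact ⟨⟨v, by show f (π v) = 0; rw [show π v = 0 from hv, map_zero]⟩, Subtype.ext hv, rfl⟩
  rw [this]
  exact Module.FinitePresentation.fg_ker π hπ

end Groth.Agent.H20.PruferFP
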