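import Groth.Agent.H20.PruferFP
import Groth.Agent.Lib.ProjCoh.Coherent
import Groth.Agent.Lib.DerivedOX.ProjClosed
import Groth.Agent.Lib.Modules.AffineSections
import Groth.Agent.Lib.ZarCoh.Morph
import Groth.Agent.Lib.QCoh.Pushforward
import Groth.Agent.Lib.Ample.Pow
import Groth.Agent.H26.FreeCrit
import Groth.Agent.H34.HOne

/-!
Serre vanishing for finitely presented modules on flat closed subschemes of projective space over a
Prüfer domain.
-/

set_option linter.style.haveILetI false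

noncomputable section

universe u

open CategoryTheory CategoryTheory.Limits AlgebraicGeometry TopologicalSpace

namespace Groth.Agent.H20.PruferSerre

open Groth.Agent.Lib Groth.Agent.Lib.ProjCoh Groth.Agent.Lib.ProjCoh.Coherent Groth.Agent.Lib.ProjCoh.Sections TensorMod.Basic

variable {n : ℕ} {R : Type u} [CommRing R]

/-- Quasi-coherent with finitely presented sections on affine opens. -/
def Good {X : Scheme.{u}} (M : X.Modules) : Prop :=
  M.IsQuasicoherent ∧ ∀ U : X.Opens, IsAffineOpen U → Module.FinitePresentation Γ(X, U) Γ(M, U)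

theorem Good.isCoh {X : Scheme.{u}} {M : X.Modules} (h : Good M) : Coh.IsCoh M :=
  haveI := h.1
  CohBasics.Closure.isCoh_of_finite_sections fun U hU => haveI := h.2 U hU; inferInstance

variable (n R) in
/-- Scalars. -/
def base (U : (CohB1.ProjSpace n R).Opens) : R →+* Γ(CohB1.ProjSpace n R, U) :=
  ((CohB1.ProjSpace.toSpec n R).appLE ⊤ U (by simp)).hom.comp (Scheme.ΓSpecIso (CommRingCat.of R)).inv.hom

theorem base_flat_finiteType (U : (CohB1.ProjSpace n R).Opens) (hU : IsAffineOpen U) :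
    (base n R U).Flat ∧ (base n R U).FiniteType := by
  haveI : Smooth (CohB1.ProjSpace.toSpec n R) := inferInstance
  haveI : IsProper (CohB1.ProjSpace.toSpec n R) := ProjSpace.Basic.isProper_toSpec n R
  exact ⟨RingHom.Flat.comp (RingHom.Flat.of_bijective (Scheme.ΓSpecIso (CommRingCat.of R)).commRingCatIsoToRingEquiv.symm.bijective)
      ((CohB1.ProjSpace.toSpec n R).flat_appLE (isAffineOpen_top _) hU _),
    ((CohB1.ProjSpace.toSpec n R).finiteType_appLE (isAffineOpen_top _) hU _).comp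
      (RingHom.FiniteType.of_surjective _ (Scheme.ΓSpecIso (CommRingCat.of R)).commRingCatIsoToRingEquiv.symm.surjective)⟩

variable [IsDomain R] (hR : ∀ (p : Ideal R) [p.IsPrime], ValuationRing (Localization.AtPrime p))

theorem isFinLocFree_sumTS (k : ℕ) (a : ℤ) : FlatMod.IsFinLocFree (sumTS n R k a) := by
  obtain ⟨e⟩ := nonempty_freeMod_tensor (n := n) (R := R) k a
  exact TensorMod.LocFree.of_iso e (TensorMod.LocFree.isFinLocFree_tensorMod
    (TensorMod.LocFree.of_rank (TensorMod.LocFree.isFinLocFree_freeMod _ k)) (TensorMod.LocFree.of_rank (TensorMod.LocFree.of_isInvertible (isInvertible_tw a))))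

theorem torsionFree_sumTS (k : ℕ) (a : ℤ) (U : (CohB1.ProjSpace n R).Opens) (hU : IsAffineOpen U)
    (r : R) (x : Γ(sumTS n R k a, U)) (hr : r ≠ 0) (h : base n R U r • x = 0) : x = 0 := by
  haveI := (isCoh_sumTS (n := n) (R := R) k a).1
  obtain ⟨h1, h2⟩ := Modules.AffineSections.finite_projective_sections (isFinLocFree_sumTS k a) hU
  letI : Algebra R Γ(CohB1.ProjSpace n R, U) := (base n R U).toAlgebra
  haveI : Module.Flat R Γ(CohB1.ProjSpace n R, U) := (base_flat_finiteType U hU).1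
  letI : Module R Γ(sumTS n R k a, U) := Module.compHom _ (base n R U)
  haveI : IsScalarTower R Γ(CohB1.ProjSpace n R, U) Γ(sumTS n R k a, U) :=
    IsScalarTower.of_algebraMap_smul fun _ _ => rfl
  haveI : Module.Flat R Γ(sumTS n R k a, U) := Module.Flat.trans R Γ(CohB1.ProjSpace n R, U) _
  have : IsSMulRegular Γ(sumTS n R k a, U) r :=
    Module.Flat.isSMulRegular_of_nonZeroDivisors (mem_nonZeroDivisors_of_ne_zero hr)
  exact this (show r • x = r • (0 : Γ(sumTS n R k a, U)) by rw [smul_zero]; exact h)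

include hR

theorem good_kernel {k : ℕ} {a : ℤ} {M : (CohB1.ProjSpace n R).Modules} (hM : Good M)
    (p : sumTS n R k a ⟶ M) [Epi p] : Good (kernel p) := by
  haveI := hM.1
  haveI := (isCoh_sumTS (n := n) (R := R) k a).1
  haveI : (kernel p).IsQuasicoherent := QCoh.Closure.isQCoh_kernel p
  refine ⟨inferInstance, fun U hU => ?_⟩
  haveI := hM.2 U hU
  haveI := (Modules.AffineSections.finite_projective_sections (isFinLocFree_sumTS (n := n) (R := R) k a) hU).1
  letI : Algebra R Γ(CohB1.ProjSpace n R, U) := (base n R U).toAlgebra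
  haveI : Algebra.FiniteType R Γ(CohB1.ProjSpace n R, U) := (base_flat_finiteType U hU).2
  letI : Module R Γ(kernel p, U) := Module.compHom _ (base n R U)
  haveI : IsScalarTower R Γ(CohB1.ProjSpace n R, U) Γ(kernel p, U) :=
    IsScalarTower.of_algebraMap_smul fun _ _ => rfl
  let i := CohBasics.Affine.secₗ (kernel.ι p) U
  have hi : Function.Injective i := QCoh.Closure.sections_injective_of_mono _ U
  have hsurj : Function.Surjective (CohBasics.Affine.secₗ p U) := QCoh.Closure.sections_surjective_of_epi p hU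
  have hrange : LinearMap.range i = LinearMap.ker (CohBasics.Affine.secₗ p U) := by
    refine le_antisymm ?_ fun x hx => ?_
    · rintro _ ⟨y, rfl⟩
      show (kernel.ι p ≫ p).app U y = 0
      rw [kernel.condition]
      rfl
    · let S := ShortComplex.mk (kernel.ι p) p (kernel.condition p)
      haveI : Mono S.f := inferInstanceAs (Mono (kernel.ι p))
      exact QCoh.Closure.sections_exact (S := S) (ShortComplex.exact_of_f_is_kernel _ (kernelIsKernel p)) U x hx
  haveI : Module.Finite Γ(CohB1.ProjSpace n R, U) (LinearMap.ker (CohBasics.Affine.secₗ p U)) :=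
    Module.Finite.iff_fg.2 (Module.FinitePresentation.fg_ker _ hsurj)
  haveI : Module.Finite Γ(CohB1.ProjSpace n R, U) Γ(kernel p, U) :=
    Module.Finite.equiv ((LinearEquiv.ofInjective i hi).trans (LinearEquiv.ofEq _ _ hrange)).symm
  refine PruferFP.finitePresentation hR fun r x hr hx => hi ?_
  rw [map_zero]
  refine torsionFree_sumTS k a U hU r _ hr ?_
  show base n R U r • i x = 0
  rw [← map_smul, show base n R U r • x = 0 from hx, map_zero]

theorem exists_shortExact {M : (CohB1.ProjSpace n R).Modules} (hM : Good M) :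
    ∃ (k : ℕ) (m : ℕ) (S : ShortComplex (CohB1.ProjSpace n R).Modules),
      S.ShortExact ∧ Good S.X₁ ∧ S.X₂ = sumTS n R k (-(m : ℤ)) ∧ S.X₃ = M := by
  obtain ⟨k, m, p, hp⟩ := exists_epi M hM.isCoh
  exact ⟨k, m, ShortComplex.mk (kernel.ι p) p (kernel.condition p),
    { exact := ShortComplex.exact_of_f_is_kernel _ (kernelIsKernel p), epi_g := hp },
    good_kernel hR hM p, rfl, rfl⟩

theorem exists_forall_subsingleton (M : (CohB1.ProjSpace n R).Modules) (hM : Good M) :
    ∃ d₀ : ℕ, ∀ d : ℤ, (d₀ : ℤ) ≤ d → ∀ q : ℕ,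
      Subsingleton (Coh.HH (CohB1.ProjSpace n R) (CohB1.tensorMod M (tw n R d)) (q + 1)) := by
  suffices H : ∀ j q : ℕ, n ≤ q + j → ∀ M : (CohB1.ProjSpace n R).Modules, Good M →
      ∃ d₀ : ℕ, ∀ d : ℤ, (d₀ : ℤ) ≤ d → ∀ q', q ≤ q' →
        Subsingleton (Coh.HH (CohB1.ProjSpace n R) (CohB1.tensorMod M (tw n R d)) (q' + 1)) by
    obtain ⟨d₀, hd⟩ := H n 0 (by omega) M hM
    exact ⟨d₀, fun d h q => hd d h q q.zero_le⟩
  intro j
  induction j with
  | zero =>
    intro q hq M hM
    refine ⟨0, fun d _ q' hq' => ?_⟩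
    have : Coh.IsQCoh (CohB1.tensorMod M (tw n R d)) := (isCoh_tensorMod hM.isCoh (isCoh_tw d)).1
    exact ProjCoh.Twist.subsingleton_HH_of_lt _ (by omega)
  | succ j ih =>
    intro q hq M hM
    obtain ⟨k, m, S, hS, h1, h2, rfl⟩ := exists_shortExact hR hM
    obtain ⟨d₁, hd₁⟩ := ih (q + 1) (by omega) S.X₁ h1
    refine ⟨max d₁ m, fun d hd q' hq' => ?_⟩
    have hT := shortExact_tw hS d
    have hs2 : Subsingleton (Coh.HH (CohB1.ProjSpace n R) (S.map (tensorBy (tw n R d))).X₂ (q' + 1)) := by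
      change Subsingleton (Coh.HH _ (CohB1.tensorMod S.X₂ (tw n R d)) (q' + 1))
      rw [h2]
      have := subsingleton_HH_sumTS (n := n) (R := R) k (a := -(m : ℤ) + d) (q := q' + 1)
        (ProjCoh.Twist.subsingleton_HH_of_neg_le n R (by omega) (Nat.succ_ne_zero _))
      exact (Curves.LES.isoK R (sumTensor k (-(m : ℤ)) d) (q' + 1)).injective.subsingleton
    have hs1 : Subsingleton (Coh.HH (CohB1.ProjSpace n R) (S.map (tensorBy (tw n R d))).X₁ (q' + 2)) :=
      hd₁ d (by omega) (q' + 1) (by omega)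
    refine subsingleton_of_forall_eq 0 fun x => ?_
    obtain ⟨y, hy⟩ := ((Curves.LES.exactK₃ R hT (q' + 1) (q' + 2) rfl) x).1 (Subsingleton.elim _ _)
    rw [← hy, Subsingleton.elim y 0, map_zero]
    rfl

variable {X : Scheme.{u}} (ι : X ⟶ CohB1.ProjSpace n R) [IsClosedImmersion ι]
  [hflat : Flat (ι ≫ CohB1.ProjSpace.toSpec n R)]

include hflat in
theorem finitePresentation_app (U : (CohB1.ProjSpace n R).Opens) (hU : IsAffineOpen U) :
    letI := (ι.app U).hom.toAlgebra
    Module.Finite Γ(CohB1.ProjSpace n R, U) Γ(X, ι ⁻¹ᵁ U) ∧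
      Module.FinitePresentation Γ(CohB1.ProjSpace n R, U) Γ(X, ι ⁻¹ᵁ U) := by
  letI := (ι.app U).hom.toAlgebra
  letI : Algebra R Γ(CohB1.ProjSpace n R, U) := (base n R U).toAlgebra
  haveI : Algebra.FiniteType R Γ(CohB1.ProjSpace n R, U) := (base_flat_finiteType U hU).2
  haveI : Module.Finite Γ(CohB1.ProjSpace n R, U) Γ(X, ι ⁻¹ᵁ U) :=
    Module.Finite.of_surjective (Algebra.linearMap _ _) (ι.app_surjective U hU)
  refine ⟨inferInstance, ?_⟩
  letI : Algebra R Γ(X, ι ⁻¹ᵁ U) := ((ι.app U).hom.comp (base n R U)).toAlgebra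
  haveI : IsScalarTower R Γ(CohB1.ProjSpace n R, U) Γ(X, ι ⁻¹ᵁ U) := IsScalarTower.of_algebraMap_eq fun _ => rfl
  have hf : ((ι.app U).hom.comp (base n R U)).Flat := by
    have h := (ι ≫ CohB1.ProjSpace.toSpec n R).flat_appLE (isAffineOpen_top _) (hU.preimage ι) (by simp)
    have : ((ι ≫ CohB1.ProjSpace.toSpec n R).appLE ⊤ (ι ⁻¹ᵁ U) (by simp)).hom =
        (ι.app U).hom.comp ((CohB1.ProjSpace.toSpec n R).appLE ⊤ U (by simp)).hom := by
      rw [← CommRingCat.hom_comp, Scheme.Hom.app_eq_appLE]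
      exact congrArg CommRingCat.Hom.hom (Scheme.Hom.appLE_comp_appLE ..).symm
    rw [this] at h
    rw [base, ← RingHom.comp_assoc]
    exact RingHom.Flat.comp (RingHom.Flat.of_bijective (Scheme.ΓSpecIso (CommRingCat.of R)).commRingCatIsoToRingEquiv.symm.bijective) h
  haveI : Module.Flat R Γ(X, ι ⁻¹ᵁ U) := hf
  refine PruferFP.finitePresentation hR fun r x hr hx => ?_
  exact (Module.Flat.isSMulRegular_of_nonZeroDivisors (M := Γ(X, ι ⁻¹ᵁ U)) (mem_nonZeroDivisors_of_ne_zero hr))
    (show r • x = r • (0 : Γ(X, ι ⁻¹ᵁ U)) by rw [smul_zero]; exact hx)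

include hflat in
theorem good_push {F : X.Modules} (hF : Good F) : Good ((Coh.push ι).obj F) := by
  haveI := hF.1
  refine ⟨QCoh.Pushforward.isQCoh_pushforward ι (M := F), fun U hU => ?_⟩
  letI := (ι.app U).hom.toAlgebra
  haveI := hF.2 _ (hU.preimage ι)
  haveI := (finitePresentation_app hR ι U hU).2
  letI : Module Γ(CohB1.ProjSpace n R, U) Γ(F, ι ⁻¹ᵁ U) := Module.compHom _ (ι.app U).hom
  haveI : IsScalarTower Γ(CohB1.ProjSpace n R, U) Γ(X, ι ⁻¹ᵁ U) Γ(F, ι ⁻¹ᵁ U) :=
    IsScalarTower.of_algebraMap_smul fun _ _ => rfl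
  exact Module.FinitePresentation.trans Γ(CohB1.ProjSpace n R, U) Γ(F, ι ⁻¹ᵁ U) Γ(X, ι ⁻¹ᵁ U)

omit hR in
theorem good_of_isFP {Y : Scheme.{u}} {F : Y.Modules} (hF : CohB1.IsFP F) : Good F :=
  haveI := H26.FreeCrit.isQuasicoherent_of_isFP hF
  ⟨inferInstance, fun _ hU => Modules.AffineSections.finitePresentation_sections hF hU⟩

omit hR in
/-- The twisting sheaf pulled back. -/
abbrev twX (d : ℤ) : X.Modules := (Scheme.Modules.pullback ι).obj (tw n R d)

omit hR in
theorem twX_tensorPow (d : ℕ) :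
    Nonempty (twX ι (d : ℤ) ≅ CohB1.tensorPow ((Scheme.Modules.pullback ι).obj (Twist.twistProjSpace n R 1)) d) := by
  obtain ⟨j⟩ := nonempty_tensorPow_iso (n := n) (R := R) d
  exact ⟨(Scheme.Modules.pullback ι).mapIso j ≪≫ Ample.Pow.pullbackPow ι _ d⟩

omit hR in
theorem isQCoh_twX (d : ℤ) : (twX ι d).IsQuasicoherent :=
  Modules.AffineSections.isQCoh_of_isFinLocFree (TensorMod.LocFree.isFinLocFree_pullback ι
    (TensorMod.LocFree.of_rank (TensorMod.LocFree.of_isInvertible (isInvertible_tw d))))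

include hflat in
/-- Serre vanishing on a flat closed subscheme. -/
theorem exists_forall_subsingleton_sub (F : X.Modules) [F.IsQuasicoherent] (hF : Good ((Coh.push ι).obj F)) :
    ∃ d₀ : ℕ, ∀ d : ℕ, d₀ ≤ d → ∀ q : ℕ,
      Subsingleton (Coh.HH X (CohB1.tensorMod F (twX ι (d : ℤ))) (q + 1)) := by
  obtain ⟨d₀, hd⟩ := exists_forall_subsingleton hR _ hF
  refine ⟨d₀, fun d h q => ?_⟩
  haveI := isQCoh_twX ι (d : ℤ)
  haveI : (CohB1.tensorMod (twX ι (d : ℤ)) F).IsQuasicoherent := TensorMod.TensorQCoh.isQCoh_tensorMod _ _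
  haveI := hd (d : ℤ) (by exact_mod_cast h) q
  haveI := DerivedOX.ProjClosed.isIso_theta ι (tw n R (d : ℤ)) F
  let e : CohB1.tensorMod ((Coh.push ι).obj F) (tw n R (d : ℤ)) ≅
      (Coh.push ι).obj (CohB1.tensorMod (twX ι (d : ℤ)) F) :=
    TensorMod.Basic.comm _ _ ≪≫ asIso (Modules.ProjFormula.theta ι (tw n R (d : ℤ)) F)
  haveI : Subsingleton (Coh.HH (CohB1.ProjSpace n R) ((Coh.push ι).obj (CohB1.tensorMod (twX ι (d : ℤ)) F)) (q + 1)) :=
    (Curves.LES.isoK R e (q + 1)).symm.injective.subsingleton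
  haveI : Subsingleton (Coh.HH X (CohB1.tensorMod (twX ι (d : ℤ)) F) (q + 1)) :=
    (ZarCoh.Morph.affineEquiv ι _ (q + 1)).symm.injective.subsingleton
  letI : X.Over (Spec (CommRingCat.of R)) := ⟨ι ≫ CohB1.ProjSpace.toSpec n R⟩
  exact (Curves.LES.isoK R (TensorMod.Basic.comm (twX ι (d : ℤ)) F) (q + 1)).symm.injective.subsingleton

omit hR in
theorem nonempty_twX_cancel (d : ℕ) :
    Nonempty (CohB1.tensorMod (CohB1.tensorPow ((Scheme.Modules.pullback ι).obj (Twist.twistProjSpace n R 1)) d)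
      (twX ι (-(d : ℤ))) ≅ Coh.structureModule X) := by
  obtain ⟨j⟩ := twX_tensorPow ι d
  exact ⟨TensorMod.Basic.tensorIso j.symm (Iso.refl _) ≪≫
    (TensorMod.Pullback.pullbackTensorIso ι (tw n R (d : ℤ)) (tw n R (-(d : ℤ)))).symm ≪≫
    (Scheme.Modules.pullback ι).mapIso (twCancel (d : ℤ) (-(d : ℤ)) (by omega)) ≪≫
    PicLoc.pullbackStructureIso ι⟩

include hflat in
theorem good_push_kernel {F G : X.Modules} (hF : Good F) (hG : Good G) (φ : F ⟶ G) [Epi φ] :
    Good ((Coh.push ι).obj (kernel φ)) := by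
  haveI := hF.1
  haveI := hG.1
  haveI : (kernel φ).IsQuasicoherent := QCoh.Closure.isQCoh_kernel φ
  refine ⟨QCoh.Pushforward.isQCoh_pushforward ι (M := kernel φ), fun U hU => ?_⟩
  letI := (ι.app U).hom.toAlgebra
  letI : Algebra R Γ(CohB1.ProjSpace n R, U) := (base n R U).toAlgebra
  haveI : Algebra.FiniteType R Γ(CohB1.ProjSpace n R, U) := (base_flat_finiteType U hU).2
  haveI : Module.Flat R Γ(CohB1.ProjSpace n R, U) := (base_flat_finiteType U hU).1
  haveI := (good_push hR ι hF).2 U hU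
  haveI := (good_push hR ι hG).2 U hU
  let f := CohBasics.Affine.secₗ ((Coh.push ι).map φ) U
  have hf : Function.Surjective f := QCoh.Closure.sections_surjective_of_epi φ (hU.preimage ι)
  let i := CohBasics.Affine.secₗ ((Coh.push ι).map (kernel.ι φ)) U
  have hi : Function.Injective i := QCoh.Closure.sections_injective_of_mono (kernel.ι φ) (ι ⁻¹ᵁ U)
  have hrange : LinearMap.range i = LinearMap.ker f := by
    refine le_antisymm ?_ fun x hx => ?_
    · rintro _ ⟨y, rfl⟩
      show (kernel.ι φ ≫ φ).app (ι ⁻¹ᵁ U) y = 0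
      rw [kernel.condition]
      rfl
    · let S := ShortComplex.mk (kernel.ι φ) φ (kernel.condition φ)
      haveI : Mono S.f := inferInstanceAs (Mono (kernel.ι φ))
      exact QCoh.Closure.sections_exact (S := S) (ShortComplex.exact_of_f_is_kernel _ (kernelIsKernel φ)) _ x hx
  haveI := PruferFP.finitePresentation_ker hR (fun r x hr hx =>
    (Module.Flat.isSMulRegular_of_nonZeroDivisors (M := Γ(CohB1.ProjSpace n R, U)) (mem_nonZeroDivisors_of_ne_zero hr))
      (show r • x = r • (0 : Γ(CohB1.ProjSpace n R, U)) by rw [smul_zero]; exact hx)) f hf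
  exact Module.FinitePresentation.of_equiv ((LinearEquiv.ofInjective i hi).trans (LinearEquiv.ofEq _ _ hrange)).symm

include hflat in
theorem exists_forall_surjective {F G : X.Modules} (hF : Good F) (hG : Good G) (φ : F ⟶ G) [Epi φ] :
    ∃ d₀ : ℕ, ∀ d : ℕ, d₀ ≤ d → Function.Surjective (((tensorBy
      (CohB1.tensorPow ((Scheme.Modules.pullback ι).obj (Twist.twistProjSpace n R 1)) d)).map φ).app ⊤) := by
  haveI := hF.1
  haveI := hG.1
  haveI : (kernel φ).IsQuasicoherent := QCoh.Closure.isQCoh_kernel φ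
  obtain ⟨d₀, hd⟩ := exists_forall_subsingleton_sub hR ι (kernel φ) (good_push_kernel hR ι hF hG φ)
  refine ⟨d₀, fun d h => ?_⟩
  obtain ⟨e⟩ := nonempty_twX_cancel ι d
  obtain ⟨j⟩ := twX_tensorPow ι d
  haveI : (tensorBy (CohB1.tensorPow ((Scheme.Modules.pullback ι).obj (Twist.twistProjSpace n R 1)) d)).IsEquivalence :=
    (CategoryTheory.Equivalence.mk _ (tensorBy (twX ι (-(d : ℤ)))) (cancelNat e).symm
      (cancelNat (TensorMod.Basic.comm _ _ ≪≫ e))).isEquivalence_functor
  haveI : (tensorBy (CohB1.tensorPow ((Scheme.Modules.pullback ι).obj (Twist.twistProjSpace n R 1)) d)).Additive :=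
    Functor.additive_of_preserves_binary_products _
  have hS : (ShortComplex.mk (kernel.ι φ) φ (kernel.condition φ)).ShortExact :=
    { exact := ShortComplex.exact_of_f_is_kernel _ (kernelIsKernel φ) }
  have hT := hS.map_of_exact (tensorBy (CohB1.tensorPow ((Scheme.Modules.pullback ι).obj (Twist.twistProjSpace n R 1)) d))
  letI : X.Over (Spec (CommRingCat.of R)) := ⟨ι ≫ CohB1.ProjSpace.toSpec n R⟩
  haveI := hd d h 0
  exact H34.HOne.app_top_surjective hT
    ((Curves.LES.isoK R (TensorMod.Basic.tensorIso (Iso.refl (kernel φ)) j) 1).symm.injective.subsingleton)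

end Groth.Agent.H20.PruferSerre
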