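import Groth.Agent.H20.FibreDimBC
import Groth.Agent.Lib.FibreDim.Semicont
import Mathlib.RingTheory.ZariskisMainTheorem
import Mathlib.RingTheory.RingHom.QuasiFinite
import Mathlib.RingTheory.Ideal.KrullsHeightTheorem
import Mathlib.RingTheory.AlgebraicIndependent.TranscendenceBasis

/-!
Quasi-finite maps from polynomial rings adapted to a prime.
-/

open TensorProduct Groth.Agent.Lib.Dim

universe u

namespace Groth.Agent.H20.QuasiFinitePoly

open FibreDimBC

section incomparable

variable {A B : Type u} [CommRing A] [CommRing B] [Algebra A B] [Algebra.FiniteType A B]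

theorem isOpen_singleton_of_maximal_minimal {F : Type u} [CommRing F] [IsNoetherianRing F]
    (Q : PrimeSpectrum F) (hmax : ∀ z : PrimeSpectrum F, Q ≤ z → z = Q)
    (hmin : ∀ z : PrimeSpectrum F, z ≤ Q → z = Q) : IsOpen ({Q} : Set (PrimeSpectrum F)) := by
  classical
  have hfin := (minimalPrimes.finite_of_isNoetherianRing F)
  let T := hfin.toFinset.erase Q.asIdeal
  have hne : ∀ P ∈ T, ∃ x ∈ P, x ∉ Q.asIdeal := by
    intro P hP
    obtain ⟨hPQ, hP⟩ := Finset.mem_erase.mp hP
    rw [Set.Finite.mem_toFinset] at hP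
    by_contra! hc
    exact hPQ (congrArg PrimeSpectrum.asIdeal (hmin ⟨P, hP.1.1⟩ hc))
  choose x hxP hxQ using hne
  let y := ∏ P : T, x P.1 P.2
  have hy : y ∉ Q.asIdeal := fun h => by
    obtain ⟨P, -, hP⟩ := Ideal.IsPrime.prod_mem_iff.mp h
    exact hxQ _ _ hP
  have : ({Q} : Set (PrimeSpectrum F)) = PrimeSpectrum.basicOpen y := by
    ext z
    refine ⟨fun h => (Set.mem_singleton_iff.mp h).symm ▸ hy, fun hz => ?_⟩
    obtain ⟨P, hP, hPz⟩ := Ideal.exists_minimalPrimes_le (bot_le (a := z.asIdeal))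
    rcases eq_or_ne P Q.asIdeal with rfl | hPQ
    · exact hmax z hPz
    · have hPT : P ∈ T := Finset.mem_erase.mpr ⟨hPQ, hfin.mem_toFinset.mpr hP⟩
      exact absurd (hPz (Ideal.mem_of_dvd _ (Finset.dvd_prod_of_mem
        (fun P : T => x P.1 P.2) (Finset.mem_univ ⟨P, hPT⟩)) (hxP P hPT))) hz
  rw [this]
  exact (PrimeSpectrum.basicOpen y).isOpen

theorem quasiFiniteAt_of_incomparable (q : Ideal B) [q.IsPrime]
    (h : ∀ z : Ideal B, z.IsPrime → z.under A = q.under A → (z ≤ q ∨ q ≤ z) → z = q) :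
    Algebra.QuasiFiniteAt A q := by
  let p : PrimeSpectrum A := ⟨q.under A, inferInstance⟩
  let q0 : PrimeSpectrum B := ⟨q, inferInstance⟩
  refine Algebra.QuasiFiniteAt.of_isOpen_singleton_fiber (R := A) q0 ?_
  let e := PrimeSpectrum.preimageHomeomorphFiber A B p
  let o := PrimeSpectrum.preimageOrderIsoFiber A B p
  have : IsNoetherianRing (p.asIdeal.Fiber B) :=
    Algebra.FiniteType.isNoetherianRing p.asIdeal.ResidueField _
  let qf : PrimeSpectrum.comap (algebraMap A B) ⁻¹' {p} := ⟨q0, rfl⟩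
  have key : IsOpen ({e qf} : Set (PrimeSpectrum (p.asIdeal.Fiber B))) := by
    refine isOpen_singleton_of_maximal_minimal _ (fun z hz => ?_) (fun z hz => ?_)
    all_goals
      obtain ⟨w, rfl⟩ := e.surjective z
      refine congrArg e (Subtype.ext (PrimeSpectrum.ext (h w.1.asIdeal w.1.2
        (congrArg PrimeSpectrum.asIdeal w.2) ?_)))
    · exact .inr (o.le_iff_le.mp hz)
    · exact .inl (o.le_iff_le.mp hz)
  rwa [← Set.image_singleton, e.isOpen_image] at key

theorem exists_quasiFinite_away (q : Ideal B) [q.IsPrime] [Algebra.QuasiFiniteAt A q] :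
    ∃ g : B, g ∉ q ∧ Algebra.QuasiFinite A (Localization.Away g) := by
  obtain ⟨B', hB', r, hr, H⟩ :=
    Algebra.QuasiFiniteAt.exists_fg_and_exists_notMem_and_awayMap_bijective (R := A) q
  have : Module.Finite A B' := ⟨(Submodule.fg_top _).mpr hB'⟩
  have : Algebra.QuasiFinite A (Localization.Away r) := .trans _ B' _
  exact ⟨r.1, hr, .of_surjective_algHom (Localization.awayMapₐ B'.val r) H.2⟩

end incomparable

section abstract

variable {k F : Type u} [Field k] [CommRing F] [Algebra k F]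

theorem exists_transcendenceBasis_comp {D : Type u} [CommRing D] [IsDomain D] [Algebra k D]
    [Algebra.FiniteType k D] {ι' : Type u} (g : ι' → D)
    (hg : Algebra.adjoin k (Set.range g) = ⊤) :
    ∃ x : Fin (Basic.trdegNat k D) → ι', IsTranscendenceBasis k (fun i => g (x i)) := by
  have : Algebra.IsAlgebraic (Algebra.adjoin k (Set.range g)) D :=
    ⟨fun z => isAlgebraic_algebraMap (⟨z, hg ▸ trivial⟩ : Algebra.adjoin k (Set.range g))⟩
  obtain ⟨t, htS, ht⟩ := exists_isTranscendenceBasis_subset (R := k) (Set.range g)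
  have htr : Cardinal.mk t = Basic.trdegNat k D :=
    ht.cardinalMk_eq_trdeg.trans (Basic.trdeg_eq_trdegNat k D)
  obtain ⟨et⟩ : Nonempty (Fin (Basic.trdegNat k D) ≃ t) := by
    rw [← Cardinal.lift_mk_eq'.{0, u}, Cardinal.mk_fin, htr]
    simp
  have hx : ∀ i, ∃ s, g s = et i := fun i => htS (et i).2
  choose x hx using hx
  refine ⟨x, ?_⟩
  convert ht.comp_equiv et using 1
  funext i
  exact hx i

theorem le_of_transcendenceBasis [Algebra.FiniteType k F] (Q Z : Ideal F) [Q.IsPrime] [Z.IsPrime]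
    (hQZ : Q ≤ Z) {r : ℕ} (x : Fin r → F)
    (hx : IsTranscendenceBasis k (fun i => Ideal.Quotient.mkₐ k Q (x i)))
    (h : ∀ f : MvPolynomial (Fin r) k, MvPolynomial.aeval x f ∈ Z → f = 0) : Z ≤ Q := by
  intro w hw
  by_contra hwQ
  let π := Ideal.Quotient.mkₐ k Q
  have hw0 : π w ≠ 0 := fun h0 => hwQ (Ideal.Quotient.eq_zero_iff_mem.mp h0)
  have := hx.isAlgebraic
  obtain ⟨⟨b, hb⟩, hbZ, hb0⟩ := Submodule.exists_mem_ne_zero_of_ne_bot
    (Ideal.comap_ne_bot_of_algebraic_mem
      (R := Algebra.adjoin k (Set.range fun i => π (x i))) hw0 (Ideal.mem_map_of_mem π hw)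
      (Algebra.IsAlgebraic.isAlgebraic (π w)))
  rw [Algebra.adjoin_range_eq_range_aeval] at hb
  obtain ⟨f, hf⟩ := hb
  apply hb0
  apply Subtype.ext
  show b = 0
  rw [← hf]
  have hb' : π (MvPolynomial.aeval x f) = b := by
    rw [← hf]; exact MvPolynomial.comp_aeval_apply x π f
  have hZ : MvPolynomial.aeval x f ∈ Z := by
    have h2 : π (MvPolynomial.aeval x f) ∈ Z.map π := hb' ▸ hbZ
    obtain ⟨w', hw', he⟩ :=
      (Ideal.mem_map_iff_of_surjective π Ideal.Quotient.mk_surjective).mp h2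
    have : w' - MvPolynomial.aeval x f ∈ Q := Ideal.Quotient.eq.mp he
    simpa using sub_mem hw' (hQZ this)
  rw [h f hZ, map_zero]

variable {R S : Type u} [CommRing R] [CommRing S] [Algebra R S] [Algebra R k] [Algebra R F]
  [IsScalarTower R k F]

theorem map_eq_zero_of_aeval_mem (ι : S →ₐ[R] F) (Q : Ideal F) {r : ℕ} (x : Fin r → S)
    (hx : AlgebraicIndependent k (fun i => Ideal.Quotient.mkₐ k Q (ι (x i))))
    (f : MvPolynomial (Fin r) R) (hf : ι (MvPolynomial.aeval x f) ∈ Q) :
    MvPolynomial.map (algebraMap R k) f = 0 := by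
  apply algebraicIndependent_iff.mp hx
  rw [MvPolynomial.aeval_map_algebraMap]
  have hcomp := MvPolynomial.comp_aeval_apply x
    (((Ideal.Quotient.mkₐ k Q).restrictScalars R).comp ι) f
  exact hcomp.symm.trans (Ideal.Quotient.eq_zero_iff_mem.mpr hf)

theorem apply_aeval_eq (ι : S →ₐ[R] F) {r : ℕ} (x : Fin r → S) (f₀ : MvPolynomial (Fin r) R)
    (c : R) (f : MvPolynomial (Fin r) k)
    (h : MvPolynomial.C (algebraMap R k c) * f = MvPolynomial.map (algebraMap R k) f₀) :
    ι (MvPolynomial.aeval x f₀) =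
      algebraMap k F (algebraMap R k c) * MvPolynomial.aeval (fun i => ι (x i)) f := by
  rw [MvPolynomial.comp_aeval_apply, ← MvPolynomial.aeval_map_algebraMap k, ← h,
    map_mul, MvPolynomial.aeval_C]

theorem adjoin_quotient_eq_top (Q : Ideal F) (ι : S →ₐ[R] F)
    (hι : Algebra.adjoin k (Set.range ι) = ⊤) :
    Algebra.adjoin k (Set.range fun s : S => Ideal.Quotient.mkₐ k Q (ι s)) = ⊤ := by
  rw [show (fun s : S => Ideal.Quotient.mkₐ k Q (ι s)) = Ideal.Quotient.mkₐ k Q ∘ ι from rfl,
    Set.range_comp, ← AlgHom.map_adjoin, hι, Algebra.map_top, AlgHom.range_eq_top]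
  exact Ideal.Quotient.mkₐ_surjective k Q

end abstract

theorem adjoin_range_includeRight {R S A : Type u} [CommRing R] [CommRing S] [CommRing A]
    [Algebra R S] [Algebra R A] :
    Algebra.adjoin A (Set.range (Algebra.TensorProduct.includeRight : S →ₐ[R] A ⊗[R] S)) = ⊤ := by
  rw [eq_top_iff]
  rintro z -
  induction z using TensorProduct.induction_on with
  | zero => exact zero_mem _
  | tmul c s =>
    have h : algebraMap A (A ⊗[R] S) c * (1 : A) ⊗ₜ[R] s = c ⊗ₜ[R] s := by simp
    rw [← h]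
    exact mul_mem (Subalgebra.algebraMap_mem _ c) (Algebra.subset_adjoin ⟨s, rfl⟩)
  | add x y hx hy => exact add_mem hx hy

section poly

variable {R S : Type u} [CommRing R] [CommRing S] [Algebra R S]

/-- Substituting zero for the variables outside `r`. -/
theorem sub_subst_mem {n : ℕ} (r : ℕ) (f : MvPolynomial (Fin n) R) :
    f - MvPolynomial.aeval (fun i : Fin n => if r ≤ (i : ℕ) then 0 else MvPolynomial.X i) f ∈
      Ideal.span (Set.range fun i : {i : Fin n // r ≤ (i : ℕ)} =>
        (MvPolynomial.X (i : Fin n) : MvPolynomial (Fin n) R)) := by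
  rw [← Ideal.Quotient.eq]
  set I := Ideal.span (Set.range fun i : {i : Fin n // r ≤ (i : ℕ)} =>
    (MvPolynomial.X (i : Fin n) : MvPolynomial (Fin n) R))
  show Ideal.Quotient.mkₐ R I f = ((Ideal.Quotient.mkₐ R I).comp (MvPolynomial.aeval _)) f
  congr 1
  refine MvPolynomial.algHom_ext fun i => ?_
  rw [AlgHom.comp_apply, MvPolynomial.aeval_X]
  split
  next h =>
    rw [map_zero]
    exact Ideal.Quotient.eq_zero_iff_mem.mpr (Ideal.subset_span ⟨⟨i, h⟩, rfl⟩)
  next h => rfl

theorem comap_aeval_eq {n r : ℕ} (hrn : r ≤ n) (q : Ideal S) (a : Fin n → S)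
    (ha : ∀ i : Fin n, r ≤ (i : ℕ) → a i ∈ q)
    (hindep : ∀ f : MvPolynomial (Fin r) R,
      MvPolynomial.aeval (fun j => a (Fin.castLE hrn j)) f ∈ q →
        f ∈ (q.under R).map MvPolynomial.C) :
    q.comap (MvPolynomial.aeval (R := R) a) =
      (q.under R).map (algebraMap R (MvPolynomial (Fin n) R)) ⊔
        Ideal.span (Set.range fun i : {i : Fin n // r ≤ (i : ℕ)} =>
          (MvPolynomial.X (i : Fin n) : MvPolynomial (Fin n) R)) := by
  have hspan : Ideal.span (Set.range fun i : {i : Fin n // r ≤ (i : ℕ)} =>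
      (MvPolynomial.X (i : Fin n) : MvPolynomial (Fin n) R)) ≤
        q.comap (MvPolynomial.aeval (R := R) a) := by
    refine Ideal.span_le.mpr ?_
    rintro _ ⟨i, rfl⟩
    simpa using ha i.1 i.2
  refine le_antisymm (fun f hf => ?_) (sup_le ?_ hspan)
  · let κ : MvPolynomial (Fin r) R →ₐ[R] MvPolynomial (Fin n) R :=
      MvPolynomial.rename (Fin.castLE hrn)
    let σ : MvPolynomial (Fin n) R →ₐ[R] MvPolynomial (Fin r) R :=
      MvPolynomial.aeval fun i => if hi : (i : ℕ) < r then MvPolynomial.X ⟨i, hi⟩ else 0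
    have hσ : MvPolynomial.aeval (fun i : Fin n =>
        if r ≤ (i : ℕ) then (0 : MvPolynomial (Fin n) R) else MvPolynomial.X i) f = κ (σ f) := by
      rw [← AlgHom.comp_apply]
      congr 1
      refine MvPolynomial.algHom_ext fun i => ?_
      simp only [σ, κ, AlgHom.comp_apply, MvPolynomial.aeval_X]
      by_cases hi : (i : ℕ) < r
      · rw [dif_pos hi, if_neg (by omega), MvPolynomial.rename_X]
        rfl
      · rw [dif_neg hi, if_pos (by omega), map_zero]
    have h1 := sub_subst_mem (R := R) r f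
    rw [hσ] at h1
    rw [show f = κ (σ f) + (f - κ (σ f)) by ring]
    refine Submodule.add_mem_sup ?_ h1
    have h4 : MvPolynomial.aeval a (κ (σ f)) ∈ q := by
      simpa using sub_mem hf (hspan h1)
    rw [MvPolynomial.aeval_rename] at h4
    have h6 : κ (σ f) ∈ ((q.under R).map MvPolynomial.C).map (κ : MvPolynomial (Fin r) R →+* _) :=
      Ideal.mem_map_of_mem _ (hindep _ h4)
    rw [Ideal.map_map] at h6
    rw [MvPolynomial.algebraMap_eq]
    have hC : ((κ : MvPolynomial (Fin r) R →+* MvPolynomial (Fin n) R).comp MvPolynomial.C) =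
        MvPolynomial.C :=
      RingHom.ext fun c => by simp [κ]
    rwa [hC] at h6
  · rw [Ideal.map_le_iff_le_comap]
    intro c hc
    rw [Ideal.mem_comap, Ideal.mem_comap, AlgHom.commutes]
    exact hc

theorem exists_quasiFinite_mvPolynomial [Algebra.FiniteType R S] (q : Ideal S) [q.IsPrime] :
    ∃ r : ℕ, Basic.dimQ (q.under R).ResidueField (fibrePoint R S q).asIdeal = r ∧
      r ≤ fdim R S q ∧ ∃ (a : Fin (fdim R S q) → S) (g : S), g ∉ q ∧
        ((IsScalarTower.toAlgHom R S (Localization.Away g)).comp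
          (MvPolynomial.aeval a)).toRingHom.QuasiFinite ∧
        q.comap (MvPolynomial.aeval (R := R) a) =
          (q.under R).map (algebraMap R (MvPolynomial (Fin (fdim R S q)) R)) ⊔
            Ideal.span (Set.range fun i : {i : Fin (fdim R S q) // r ≤ (i : ℕ)} =>
              (MvPolynomial.X (i : Fin (fdim R S q)) : MvPolynomial (Fin (fdim R S q)) R)) := by
  classical
  let p := q.under R
  let k := p.ResidueField
  let F := p.Fiber S
  let Qs : PrimeSpectrum F := fibrePoint R S q
  let Q : Ideal F := Qs.asIdeal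
  let ι : S →ₐ[R] F := Algebra.TensorProduct.includeRight
  have hQι : ∀ s : S, ι s ∈ Q ↔ s ∈ q := fun s => SetLike.ext_iff.mp (comap_fibrePoint q) s
  have : IsNoetherianRing F := Algebra.FiniteType.isNoetherianRing k F
  set r := Basic.dimQ k Q with hr
  let π : F →ₐ[k] F ⧸ Q := Ideal.Quotient.mkₐ k Q
  have hsT : Algebra.adjoin k (Set.range fun s : S => π (ι s)) = ⊤ :=
    adjoin_quotient_eq_top Q ι adjoin_range_includeRight
  obtain ⟨x, hxtb⟩ : ∃ x : Fin r → S, IsTranscendenceBasis k (fun i => π (ι (x i))) :=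
    exists_transcendenceBasis_comp (fun s : S => π (ι s)) hsT
  obtain ⟨Y, hY, hYcard⟩ := Q.exists_finset_card_eq_height_of_isNoetherianRing
  let h := Y.card
  have hd : fdim R S q = r + h := by
    have : fdim R S q = Q.height.toNat + r := rfl
    rw [this, ← hYcard, ENat.toNat_natCast, add_comm]
  have hy : ∀ z : Y, ∃ s ∈ q, Associated (ι s) z.1 := by
    intro z
    obtain ⟨c, hc, s, hs⟩ := Ideal.Fiber.exists_smul_eq_one_tmul p z.1
    have hs' : ι s = algebraMap R F c * z.1 := by rw [← Algebra.smul_def, hs]; rfl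
    refine ⟨s, (hQι s).mp ?_, ?_⟩
    · rw [hs']
      exact Ideal.mul_mem_left _ _ (hY.1.2 (Ideal.subset_span z.2))
    · rw [hs']
      have hu : IsUnit (algebraMap R F c) := by
        rw [IsScalarTower.algebraMap_apply R k F]
        refine IsUnit.map _ (Ne.isUnit fun h0 => hc ?_)
        exact Ideal.algebraMap_residueField_eq_zero.mp h0
      exact associated_unit_mul_left _ _ hu
  choose y hyq hyassoc using hy
  let ey : Fin h ≃ Y := Y.equivFin.symm
  let a : Fin (fdim R S q) → S := fun i => Fin.append x (fun j => y (ey j)) (Fin.cast hd i)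
  refine ⟨r, rfl, by omega, a, ?_⟩
  have ha_lt : ∀ j : Fin r, a (Fin.cast hd.symm (Fin.castAdd h j)) = x j := fun j => by simp [a]
  have ha_ge : ∀ j : Fin h, a (Fin.cast hd.symm (Fin.natAdd r j)) = y (ey j) := fun j => by simp [a]
  have ha_q : ∀ i : Fin (fdim R S q), r ≤ (i : ℕ) → a i ∈ q := by
    intro i hi
    have : i = Fin.cast hd.symm (Fin.natAdd r ⟨i - r, by omega⟩) := by
      apply Fin.ext; simp; omega
    rw [this, ha_ge]
    exact hyq _
  -- polynomials in the first `r` variables detect membership in `q`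
  have hindep : ∀ f : MvPolynomial (Fin r) R,
      MvPolynomial.aeval x f ∈ q → f ∈ p.map MvPolynomial.C := by
    intro f hf
    have h2 := map_eq_zero_of_aeval_mem ι Q x hxtb.1 f ((hQι _).mpr hf)
    rw [MvPolynomial.mem_map_C_iff]
    intro m
    have := congrArg (MvPolynomial.coeff m) h2
    rw [MvPolynomial.coeff_map, MvPolynomial.coeff_zero] at this
    exact Ideal.algebraMap_residueField_eq_zero.mp this
  let Φ : MvPolynomial (Fin (fdim R S q)) R →ₐ[R] S := MvPolynomial.aeval a
  have hrn : r ≤ fdim R S q := by omega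
  have hacast : (fun j : Fin r => a (Fin.castLE hrn j)) = x := funext fun j => by
    rw [← ha_lt j]; rfl
  let κ : MvPolynomial (Fin r) R →ₐ[R] MvPolynomial (Fin (fdim R S q)) R :=
    MvPolynomial.rename (Fin.castLE hrn)
  have hΦκ : ∀ f, Φ (κ f) = MvPolynomial.aeval x f := fun f =>
    (MvPolynomial.aeval_rename _ _ f).trans (congrArg (fun v => MvPolynomial.aeval v f) hacast)
  have hP := comap_aeval_eq hrn q a ha_q (by rw [hacast]; exact hindep)
  let algΦ : Algebra (MvPolynomial (Fin (fdim R S q)) R) S := Φ.toRingHom.toAlgebra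
  have : IsScalarTower R (MvPolynomial (Fin (fdim R S q)) R) S :=
    IsScalarTower.of_algebraMap_eq fun c => (Φ.commutes c).symm
  have : Algebra.FiniteType (MvPolynomial (Fin (fdim R S q)) R) S :=
    Algebra.FiniteType.of_restrictScalars_finiteType R _ _
  have hqf : Algebra.QuasiFiniteAt (MvPolynomial (Fin (fdim R S q)) R) q := by
    refine quasiFiniteAt_of_incomparable q fun z hz hzu hcomp => ?_
    have hzΦ : z.comap Φ = q.comap Φ := hzu
    have hzp : z.LiesOver p := ⟨by
      ext c
      have := SetLike.ext_iff.mp hzΦ (algebraMap R _ c)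
      simp only [Ideal.mem_comap, AlgHom.commutes] at this
      exact this.symm⟩
    let o := PrimeSpectrum.primesOverOrderIsoFiber R S p
    let Z : PrimeSpectrum F := o ⟨z, hz, hzp⟩
    have hQo : o ⟨q, inferInstance, ⟨rfl⟩⟩ = Qs := rfl
    have hZι : ∀ s : S, ι s ∈ Z.asIdeal ↔ s ∈ z := fun s =>
      SetLike.ext_iff.mp (congrArg Subtype.val (o.symm_apply_apply ⟨z, hz, hzp⟩)) s
    suffices Z = Qs by
      exact congrArg Subtype.val (o.injective (this.trans hQo.symm))
    rcases hcomp with hle | hle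
    · have hZQ : Z ≤ Qs := hQo ▸ o.monotone (show (⟨z, hz, hzp⟩ : p.primesOver S) ≤ _ from hle)
      refine le_antisymm hZQ ?_
      refine hY.2 ⟨Z.2, Ideal.span_le.mpr fun w hw => ?_⟩ hZQ
      obtain ⟨j, hj⟩ := ey.surjective ⟨w, hw⟩
      have h1 : y (ey j) ∈ z := by
        rw [← ha_ge j]
        have h2 : MvPolynomial.X (Fin.cast hd.symm (Fin.natAdd r j)) ∈ q.comap Φ := by
          simpa [Φ] using ha_q _ (by simp)
        rw [← hzΦ] at h2
        simpa [Φ] using h2
      have h3 := (hyassoc (ey j)).dvd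
      rw [hj] at h3 h1
      exact Z.asIdeal.mem_of_dvd h3 ((hZι _).mpr h1)
    · have hQZ : Qs ≤ Z := hQo ▸ o.monotone (show _ ≤ (⟨z, hz, hzp⟩ : p.primesOver S) from hle)
      refine (le_antisymm hQZ (le_of_transcendenceBasis Q Z.asIdeal hQZ
        (fun i => ι (x i)) hxtb fun f hf => ?_)).symm
      obtain ⟨c, hc, f₀, hf₀⟩ :=
        Groth.Agent.Lib.FibreDim.Semicont.exists_C_mul_eq_map p f
      have h1 := apply_aeval_eq ι x f₀ c f hf₀
      have h2 : MvPolynomial.aeval x f₀ ∈ q := by
        have h3 : κ f₀ ∈ z.comap Φ := by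
          simpa [hΦκ] using (hZι _).mp (h1 ▸ Ideal.mul_mem_left _ _ hf)
        rw [hzΦ] at h3
        simpa [hΦκ] using h3
      have h4 : MvPolynomial.map (algebraMap R k) f₀ = 0 := by
        ext m
        rw [MvPolynomial.coeff_map, MvPolynomial.coeff_zero]
        exact Ideal.algebraMap_residueField_eq_zero.mpr (MvPolynomial.mem_map_C_iff.mp (hindep _ h2) m)
      rw [← hf₀] at h4
      refine (mul_eq_zero.mp h4).resolve_left fun h0 => hc ?_
      rw [map_eq_zero_iff _ (MvPolynomial.C_injective _ _)] at h0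
      exact Ideal.algebraMap_residueField_eq_zero.mp h0
  obtain ⟨g, hg, hgqf⟩ := exists_quasiFinite_away (A := MvPolynomial (Fin (fdim R S q)) R) q
  refine ⟨g, hg, ?_, hP⟩
  exact RingHom.quasiFinite_algebraMap.mpr hgqf

end poly

end Groth.Agent.H20.QuasiFinitePoly
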