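import Groth.Agent.H52.Ass.FlatTensorProd
import Groth.Agent.H52.FBase.NoEmb
import Groth.Agent.H46.FiberStalk
import Groth.Agent.Lib.Normalization.Relative
import Mathlib.AlgebraicGeometry.Fiber
import Mathlib.RingTheory.EssentialFiniteness

/-!
# Associated points after an extension of the base field

`ass_pullback_field`: for `π : Q → Y` the base change of a field extension along `p : Y → Spec k`
locally of finite type, the associated points of `π^* E` are the generic points of the fibres of `π`
over the associated points of `E`.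
-/

set_option autoImplicit false

universe u

open CategoryTheory CategoryTheory.Limits AlgebraicGeometry IsLocalRing
open Groth.Agent.Lib.AssPt.Basic Groth.Agent.Lib.Flat55
open Groth.Agent.H52.Ass.FlatTensor Groth.Agent.H52.Ass.FlatTensorScheme Groth.Agent.H52.FBase.NoEmb

namespace Groth.Agent.H20.RelAssBC

theorem minimalPrimes_self_bot {T : Scheme.{u}} {k : Type u} [Field k]
    (p : T ⟶ Spec (CommRingCat.of k)) (κ : Type u) [Field κ] (e : T ≅ Spec (CommRingCat.of κ)) :
    AssSch.NoEmbedded (Coh.structureModule T) := by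
  intro x _ y _ _
  have hs : Subsingleton T := (Scheme.homeoOfIso e).toEquiv.subsingleton
  exact Subsingleton.elim x y

theorem maxAssoc_stalk_iff {k K : Type u} [Field k] [Field K] [Algebra k K] {Y : Scheme.{u}}
    (p : Y ⟶ Spec (CommRingCat.of k)) [LocallyOfFiniteType p] (y : Y) {Z : Scheme.{u}}
    (q₁ : Z ⟶ Spec (Y.residueField y)) (q₂ : Z ⟶ Spec (CommRingCat.of K))
    (h : IsPullback q₁ q₂ (Y.fromSpecResidueField y ≫ p) (Spec.map (CommRingCat.ofHom (algebraMap k K))))
    [IsLocallyNoetherian Z] (z : Z) :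
    MaxAssoc (Z.presheaf.stalk z) ↔ z ∈ genericPoints Z := by
  constructor
  · intro hz
    let p' : Spec (Y.residueField y) ⟶ Spec (CommRingCat.of k) := Y.fromSpecResidueField y ≫ p
    let e : Z ≅ _root_.FBase.bc p' K := h.isoPullback
    haveI : IsLocallyNoetherian (_root_.FBase.bc p' K) := isLocallyNoetherian_of_isOpenImmersion e.inv
    have hne : AssSch.NoEmbedded (Coh.structureModule (_root_.FBase.bc p' K)) :=
      (Groth.Agent.H52.FBase.NoEmb.noEmbedded_bc (K := K) p').1
        (minimalPrimes_self_bot p' (Y.residueField y) (Iso.refl _))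
    have h2 := Groth.Agent.H52.FBase.NoEmb.noEmbedded_iff.1 hne (e.hom z)
      (maxAssoc_of_ringEquiv (asIso (e.hom.stalkMap z)).commRingCatIsoToRingEquiv.symm hz)
    refine GenericPoints.mem_of_forall_specializes fun w hw => e.hom.homeomorph.injective ?_
    exact GenericPoints.eq_of_specializes h2 (hw.map e.hom.continuous)
  · intro hz
    have hm := (Groth.Agent.H52.FBase.NoEmb.mem_genericPoints_iff z).1 hz
    exact maxAssoc_iff.2 ⟨1, one_ne_zero, fun a ha => by
      obtain ⟨n, hn⟩ := hm a ha
      exact ⟨n, by rw [hn, zero_mul]⟩⟩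

theorem isLocallyNoetherian_fibre {k K : Type u} [Field k] [Field K] [Algebra k K] {Y : Scheme.{u}}
    (p : Y ⟶ Spec (CommRingCat.of k)) [LocallyOfFiniteType p] (y : Y) {Z : Scheme.{u}}
    (q₁ : Z ⟶ Spec (Y.residueField y)) (q₂ : Z ⟶ Spec (CommRingCat.of K))
    (h : IsPullback q₁ q₂ (Y.fromSpecResidueField y ≫ p) (Spec.map (CommRingCat.ofHom (algebraMap k K)))) :
    IsLocallyNoetherian Z := by
  let c := (Spec (CommRingCat.of k)).fromSpecResidueField (p y)
  haveI : IsClosedImmersion c := IsClosedImmersion.of_isPreimmersion c (by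
    rw [Scheme.range_fromSpecResidueField]; exact isClosed_discrete _)
  haveI : Surjective c := ⟨fun w => ⟨closedPoint _, Subsingleton.elim _ _⟩⟩
  haveI : IsIso c := isIso_of_isClosedImmersion_of_surjective c
  let ψ : CommRingCat.of k ⟶ (Spec (CommRingCat.of k)).residueField (p y) := Spec.preimage c
  have hψ : Spec.map ψ = c := Spec.map_preimage c
  haveI : IsIso ψ := by
    haveI : IsIso (Spec.map ψ) := by rw [hψ]; infer_instance
    haveI : IsIso (Scheme.Spec.map ψ.op) := this
    haveI := isIso_of_fully_faithful Scheme.Spec ψ.op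
    exact isIso_of_op ψ
  let ρ : CommRingCat.of k ⟶ Y.residueField y := ψ ≫ p.residueFieldMap y
  have hρ : Spec.map ρ = Y.fromSpecResidueField y ≫ p := by
    rw [Spec.map_comp, hψ, Scheme.Hom.SpecMap_residueFieldMap_fromSpecResidueField]
  have hess : ρ.hom.EssFiniteType :=
    Groth.Agent.Lib.Normalization.Relative.essFiniteType_comp
      (RingHom.FiniteType.of_surjective ψ.hom (ConcreteCategory.bijective_of_isIso ψ).2).essFiniteType
      (RingHom.EssFiniteType.residueFieldMap (LocallyOfFiniteType.stalkMap p y))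
  letI : Algebra k (Y.residueField y) := ρ.hom.toAlgebra
  haveI : Algebra.EssFiniteType k (Y.residueField y) := hess
  haveI : IsNoetherianRing (TensorProduct k K (Y.residueField y)) :=
    Algebra.EssFiniteType.isNoetherianRing K _
  let e : Z ≅ Spec (CommRingCat.of (TensorProduct k K (Y.residueField y))) :=
    h.flip.isoPullback ≪≫ pullback.congrHom rfl hρ.symm ≪≫ pullbackSpecIso k K (Y.residueField y)
  exact isLocallyNoetherian_of_isOpenImmersion e.hom

theorem hasAss_quot_iff {S Q : Type u} [CommRing S] [IsLocalRing S] [IsNoetherianRing S]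
    [CommRing Q] [IsLocalRing Q] [IsNoetherianRing Q] (J : Ideal S) (e : (S ⧸ J) ≃+* Q) :
    HasAss S (S ⧸ (J • (⊤ : Submodule S S))) ↔ MaxAssoc Q := by
  let φ : S →+* Q := e.toRingHom.comp (Ideal.Quotient.mk J)
  have hJ : (J • (⊤ : Submodule S S)) = J := Ideal.mul_top J
  let e' : (S ⧸ (J • (⊤ : Submodule S S))) ≃+ Q :=
    (Submodule.quotEquivOfEq _ _ hJ).toAddEquiv.trans e.toAddEquiv
  refine (hasAss_of_surjective φ (e.surjective.comp Ideal.Quotient.mk_surjective) e' fun s w => ?_)
  obtain ⟨w, rfl⟩ := Submodule.Quotient.mk_surjective _ w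
  exact map_mul e (Ideal.Quotient.mk J s) (Ideal.Quotient.mk J w)

theorem ass_pullback_field {k K : Type u} [Field k] [Field K] [Algebra k K] {Y Q : Scheme.{u}}
    (p : Y ⟶ Spec (CommRingCat.of k)) [LocallyOfFiniteType p] (π : Q ⟶ Y) (q : Q ⟶ Spec (CommRingCat.of K))
    (h : IsPullback π q p (Spec.map (CommRingCat.ofHom (algebraMap k K)))) (E : Y.Modules) (a : Q) :
    a ∈ AssSch.Ass ((Scheme.Modules.pullback π).obj E) ↔
      π a ∈ AssSch.Ass E ∧ ∀ a' : Q, π a' = π a → a' ⤳ a → a' = a := by
  haveI : Flat (Spec.map (CommRingCat.ofHom (algebraMap k K))) :=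
    Groth.Agent.Lib.FibreDeg.Basic.flat_of_field _
  haveI : Flat π := MorphismProperty.of_isPullback h.flip inferInstance
  haveI : LocallyOfFiniteType q := MorphismProperty.of_isPullback h inferInstance
  haveI : IsLocallyNoetherian Y := LocallyOfFiniteType.isLocallyNoetherian p
  haveI : IsLocallyNoetherian Q := LocallyOfFiniteType.isLocallyNoetherian q
  rw [Groth.Agent.H52.Ass.FlatTensorProd.ass_pullback_iff π E a]
  refine and_congr_right fun _ => ?_
  haveI : IsNoetherianRing ((π.fiber (π a)).presheaf.stalk (π.asFiber a)) :=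
    isNoetherianRing_fibre_stalk π (π a) (π.asFiber a)
  refine (hasAss_quot_iff _ (Groth.Agent.H46.FiberStalk.quotientEquiv π a)).trans ?_
  haveI : IsLocallyNoetherian (π.fiber (π a)) := isLocallyNoetherian_fibre p (π a) _ _
    ((IsPullback.of_hasPullback π (Y.fromSpecResidueField (π a))).flip.paste_vert h)
  rw [maxAssoc_stalk_iff p (π a) (π.fiberToSpecResidueField (π a)) (π.fiberι (π a) ≫ q)
    ((IsPullback.of_hasPullback π (Y.fromSpecResidueField (π a))).flip.paste_vert h) (π.asFiber a)]
  constructor
  · intro hg a' ha' hsp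
    have hr : a' ∈ Set.range (π.fiberι (π a)) := by rw [π.range_fiberι]; exact ha'
    obtain ⟨w, rfl⟩ := hr
    have hw : w ⤳ π.asFiber a := by
      rw [← (π.fiberι (π a)).isEmbedding.toIsInducing.specializes_iff, π.fiberι_asFiber]
      exact hsp
    rw [GenericPoints.eq_of_specializes hg hw, π.fiberι_asFiber]
  · intro hmin
    refine GenericPoints.mem_of_forall_specializes fun w hw => (π.fiberι (π a)).isEmbedding.injective ?_
    rw [π.fiberι_asFiber]
    refine hmin _ ?_ ?_
    · have : π.fiberι (π a) w ∈ π ⁻¹' {π a} := by rw [← π.range_fiberι]; exact ⟨w, rfl⟩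
      exact this
    · have := hw.map (π.fiberι (π a)).continuous
      rwa [π.fiberι_asFiber] at this

end Groth.Agent.H20.RelAssBC
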