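import Groth.Agent.H20.PruferFP
import Mathlib.RingTheory.Flat.Equalizer
import Mathlib.RingTheory.Flat.Tensor
import Mathlib.RingTheory.Flat.Stability
import Mathlib.RingTheory.Flat.TorsionFree
import Mathlib.RingTheory.Localization.BaseChange
import Mathlib.RingTheory.FinitePresentation
import Mathlib.RingTheory.Valuation.ValuationRing
import Mathlib.LinearAlgebra.TensorProduct.Quotient

/-!
Flatness and finite presentation over a semi-valuation ring.
-/

set_option autoImplicit false
set_option linter.style.haveILetI false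

universe u

namespace Groth.Agent.H20.SemiValuation

open scoped TensorProduct
open TensorProduct

variable {O : Type u} [CommRing O]

theorem regular_tensor {C I : Type u} [AddCommGroup C] [Module O C] [AddCommGroup I] [Module O I] (s : O)
    (hI : IsSMulRegular I s) (hC : IsSMulRegular C s)
    (hflat : Module.Flat (O ⧸ Ideal.span {s}) ((O ⧸ Ideal.span {s}) ⊗[O] C)) :
    IsSMulRegular (C ⊗[O] I) s := by
  classical
  haveI := hflat
  let Q := O ⧸ Ideal.span {s}
  let F := I →₀ O
  let π : F →ₗ[O] I := Finsupp.linearCombination O id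
  have hπ : Function.Surjective π := Finsupp.linearCombination_id_surjective O I
  let ι : LinearMap.ker π →ₗ[O] F := (LinearMap.ker π).subtype
  have hιQ : Function.Injective (ι.baseChange Q) := by
    rw [← LinearMap.ker_eq_bot, Submodule.eq_bot_iff]
    intro z hz
    obtain ⟨n, rfl⟩ := TensorProduct.mk_surjective O (LinearMap.ker π) Q Ideal.Quotient.mk_surjective z
    have h0 : (1 : Q) ⊗ₜ[O] ι n = 0 := hz
    have hc : ∀ i, s ∣ (n : F) i := fun i => by
      have h1 := congrArg (TensorProduct.rid O Q) (congrArg (LinearMap.lTensor Q (Finsupp.lapply i)) h0)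
      simp only [LinearMap.lTensor_tmul, map_zero, TensorProduct.rid_tmul, Finsupp.lapply_apply] at h1
      rw [← Algebra.algebraMap_eq_smul_one, Ideal.Quotient.algebraMap_eq, Ideal.Quotient.eq_zero_iff_mem,
        Ideal.mem_span_singleton] at h1
      exact h1
    choose g hg using hc
    let f : F := ∑ i ∈ (n : F).support, Finsupp.single i (g i)
    have hf : (n : F) = s • f := by
      conv_lhs => rw [← Finsupp.sum_single (n : F), Finsupp.sum]
      rw [Finset.smul_sum]
      refine Finset.sum_congr rfl fun i _ => ?_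
      rw [Finsupp.smul_single, smul_eq_mul, ← hg i]
    have hfker : f ∈ LinearMap.ker π := by
      have : s • π f = s • (0 : I) := by rw [← map_smul, ← hf, smul_zero]; exact n.2
      exact hI this
    have hn : n = s • (⟨f, hfker⟩ : LinearMap.ker π) := Subtype.ext hf
    show (1 : Q) ⊗ₜ[O] n = 0
    rw [hn, ← TensorProduct.smul_tmul, ← Algebra.algebraMap_eq_smul_one, Ideal.Quotient.algebraMap_eq,
      Ideal.Quotient.eq_zero_iff_mem.2 (Ideal.mem_span_singleton_self s), TensorProduct.zero_tmul]
  let e : ∀ (X : Type u) [AddCommGroup X] [Module O X],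
      (Q ⊗[O] C) ⊗[Q] (Q ⊗[O] X) ≃ₗ[O] Q ⊗[O] (C ⊗[O] X) := fun X _ _ =>
    ((AlgebraTensorModule.cancelBaseChange O Q Q (Q ⊗[O] C) X).restrictScalars O).trans
      (TensorProduct.assoc O Q C X)
  have hnat : ∀ z, e F (LinearMap.lTensor (Q ⊗[O] C) (ι.baseChange Q) z) =
      LinearMap.lTensor Q (LinearMap.lTensor C ι) (e (LinearMap.ker π) z) := by
    intro z
    induction z using TensorProduct.induction_on with
    | zero => simp
    | add a b ha hb => simp only [map_add, ha, hb]
    | tmul m w =>
      induction m using TensorProduct.induction_on with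
      | zero => simp
      | add a b ha hb => simp only [TensorProduct.add_tmul, map_add, ha, hb]
      | tmul q c =>
        induction w using TensorProduct.induction_on with
        | zero => simp
        | add a b ha hb => simp only [TensorProduct.tmul_add, map_add, ha, hb]
        | tmul r x => simp [e, smul_tmul']
  have key : Function.Injective (LinearMap.lTensor Q (LinearMap.lTensor C ι)) := by
    intro a b hab
    obtain ⟨a, rfl⟩ := (e (LinearMap.ker π)).surjective a
    obtain ⟨b, rfl⟩ := (e (LinearMap.ker π)).surjective b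
    rw [← hnat, ← hnat] at hab
    exact congrArg _ (Module.Flat.lTensor_preserves_injective_linearMap (M := Q ⊗[O] C) _ hιQ ((e F).injective hab))
  have hex : Function.Exact ι π := LinearMap.exact_subtype_ker_map π
  refine IsSMulRegular.of_right_eq_zero_of_smul (fun x hx => ?_)
  obtain ⟨x', rfl⟩ := LinearMap.lTensor_surjective C hπ x
  rw [← map_smul] at hx
  obtain ⟨y, hy⟩ := (lTensor_exact C (M := ↥(LinearMap.ker π)) hex hπ (s • x')).1 hx
  have hy0 : (1 : Q) ⊗ₜ[O] y = 0 := key (by
    rw [LinearMap.lTensor_tmul, map_zero, hy, ← TensorProduct.smul_tmul, ← Algebra.algebraMap_eq_smul_one,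
      Ideal.Quotient.algebraMap_eq, Ideal.Quotient.eq_zero_iff_mem.2 (Ideal.mem_span_singleton_self s),
      TensorProduct.zero_tmul])
  have hy1 := congrArg (TensorProduct.quotTensorEquivQuotSMul (C ⊗[O] LinearMap.ker π) (Ideal.span {s})) hy0
  rw [map_zero, ← map_one (Ideal.Quotient.mk (Ideal.span {s})), TensorProduct.quotTensorEquivQuotSMul_mk_tmul,
    one_smul, Submodule.Quotient.mk_eq_zero, Submodule.ideal_span_singleton_smul,
    Submodule.mem_smul_pointwise_iff_exists] at hy1
  obtain ⟨y', -, rfl⟩ := hy1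
  have hF : IsSMulRegular (C ⊗[O] F) s := by
    intro a b hab
    let eF := TensorProduct.finsuppScalarRight O O C I
    refine eF.injective (Finsupp.ext fun i => hC ?_)
    have := congrArg (fun t => eF t i) hab
    simpa using this
  have hxy : x' = LinearMap.lTensor C ι y' := hF (by show s • x' = s • _; rw [← map_smul]; exact hy.symm)
  rw [hxy]
  exact (lTensor_exact C (M := ↥(LinearMap.ker π)) hex hπ _).2 ⟨y', rfl⟩

theorem flat_of_localization {A C : Type u} [CommRing A] [Algebra O A] [AddCommGroup C] [Module O C]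
    (M : Submonoid O) [IsLocalization M A] (hO : ∀ s ∈ M, IsSMulRegular O s)
    (hC : ∀ s ∈ M, IsSMulRegular C s) (hflat : Module.Flat A (A ⊗[O] C))
    (hmod : ∀ s ∈ M, Module.Flat (O ⧸ Ideal.span {s}) ((O ⧸ Ideal.span {s}) ⊗[O] C)) : Module.Flat O C := by
  haveI := hflat
  haveI : Module.Flat O A := IsLocalization.flat A M
  haveI : Module.Flat O (A ⊗[O] C) := Module.Flat.trans O A (A ⊗[O] C)
  rw [Module.Flat.iff_lTensor_injective']
  intro I
  rw [← LinearMap.ker_eq_bot, Submodule.eq_bot_iff]
  intro x hx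
  have hinj : Function.Injective (LinearMap.lTensor A (LinearMap.lTensor C I.subtype)) := by
    have h := Module.Flat.lTensor_preserves_injective_linearMap (M := A ⊗[O] C) I.subtype I.subtype_injective
    have hnat : ∀ z, TensorProduct.assoc O A C O (LinearMap.lTensor (A ⊗[O] C) I.subtype z) =
        LinearMap.lTensor A (LinearMap.lTensor C I.subtype) (TensorProduct.assoc O A C I z) := fun z => by
      rw [LinearMap.lTensor_tensor]
      simp
    intro a b hab
    obtain ⟨a, rfl⟩ := (TensorProduct.assoc O A C I).surjective a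
    obtain ⟨b, rfl⟩ := (TensorProduct.assoc O A C I).surjective b
    rw [← hnat, ← hnat] at hab
    exact congrArg _ (h ((TensorProduct.assoc O A C O).injective hab))
  have h1 : TensorProduct.mk O A (C ⊗[O] I) 1 x = 0 := hinj (by
    rw [TensorProduct.mk_apply, LinearMap.lTensor_tmul, show LinearMap.lTensor C I.subtype x = 0 from hx,
      TensorProduct.tmul_zero, map_zero])
  obtain ⟨⟨s, hs⟩, hsx⟩ := (IsLocalizedModule.eq_zero_iff M (TensorProduct.mk O A (C ⊗[O] I) 1)).1 h1
  have hI : IsSMulRegular I s := fun a b hab => Subtype.ext (hO s hs (congrArg Subtype.val hab))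
  exact (regular_tensor s hI (hC s hs) (hmod s hs)).right_eq_zero_of_smul hsx

theorem mem_smul_of_flat_quotient {P : Type u} [AddCommGroup P] [Module O P] (N : Submodule O P) [Module.Flat O (P ⧸ N)]
    (I : Ideal O) {n : P} (hn : n ∈ N) (hn' : n ∈ I • (⊤ : Submodule O P)) : n ∈ I • N := by
  have hinj := LinearMap.lTensor_injective_of_exact_of_flat N.mkQ (Submodule.mkQ_surjective _) _
      N.subtype_injective (LinearMap.exact_subtype_mkQ N) (O ⧸ I)
  have h0 : (1 : O ⧸ I) ⊗ₜ[O] n = 0 := by
    apply (TensorProduct.quotTensorEquivQuotSMul P I).injective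
    rw [map_zero, ← map_one (Ideal.Quotient.mk I), TensorProduct.quotTensorEquivQuotSMul_mk_tmul, one_smul,
      Submodule.Quotient.mk_eq_zero]
    exact hn'
  have h1 : (1 : O ⧸ I) ⊗ₜ[O] (⟨n, hn⟩ : N) = 0 := hinj (by rw [LinearMap.lTensor_tmul, map_zero]; exact h0)
  have h2 := congrArg (TensorProduct.quotTensorEquivQuotSMul N I) h1
  rw [map_zero, ← map_one (Ideal.Quotient.mk I), TensorProduct.quotTensorEquivQuotSMul_mk_tmul, one_smul,
    Submodule.Quotient.mk_eq_zero] at h2
  have h3 := Submodule.mem_map_of_mem (f := N.subtype) h2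
  rw [Submodule.map_smul'', Submodule.map_subtype_top] at h3
  exact h3

variable {A : Type u} [CommRing A] [IsLocalRing A] [Algebra O A]

theorem valuationRing_localization {V : Type u} [CommRing V] [IsDomain V] [ValuationRing V] (p : Ideal V) [p.IsPrime] :
    ValuationRing (Localization.AtPrime p) := by
  refine ValuationRing.iff_dvd_total.2 ⟨fun x y => ?_⟩
  obtain ⟨a, s, rfl⟩ := IsLocalization.exists_mk'_eq p.primeCompl x
  obtain ⟨b, t, rfl⟩ := IsLocalization.exists_mk'_eq p.primeCompl y
  have key : ∀ (a b : V) (s t : p.primeCompl), a ∣ b →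
      IsLocalization.mk' (Localization.AtPrime p) a s ∣ IsLocalization.mk' (Localization.AtPrime p) b t := by
    intro a b s t h
    obtain ⟨c, rfl⟩ := h
    exact ⟨IsLocalization.mk' _ (c * (s : V)) t, by rw [← IsLocalization.mk'_mul, IsLocalization.mk'_eq_iff_eq]; congr 1; push_cast; ring⟩
  rcases ValuationRing.dvd_total a b with h | h
  · exact Or.inl (key a b s t h)
  · exact Or.inr (key b a t s h)

variable {C : Type u} [CommRing C] [Algebra O C]

/-- Main statement: `O ⊆ A` contains the maximal ideal, with valuation ring quotient having fraction field the residue field. -/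
theorem main (hinj : Function.Injective (algebraMap O A))
    (hm : ∀ x ∈ IsLocalRing.maximalIdeal A, ∃ o, algebraMap O A o = x)
    (hval : ∀ a, (∃ o, algebraMap O A o = a) ∨ ∃ o, a * algebraMap O A o = 1)
    [Algebra.FiniteType O C]
    (hadm : Function.Injective (Algebra.TensorProduct.includeRight : C →ₐ[O] A ⊗[O] C))
    (hflat : Module.Flat A (A ⊗[O] C)) (hfp : Algebra.FinitePresentation A (A ⊗[O] C)) :
    Module.Flat O C ∧ Algebra.FinitePresentation O C := by
  classical
  haveI := hflat
  haveI := hfp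
  let m : Ideal O := (IsLocalRing.maximalIdeal A).comap (algebraMap O A)
  haveI : m.IsPrime := Ideal.IsPrime.comap _
  let M : Submonoid O := (IsUnit.submonoid A).comap (algebraMap O A)
  have hM : ∀ s, s ∈ M ↔ s ∉ m := fun s => by
    show IsUnit (algebraMap O A s) ↔ _
    simp [m]
  haveI : IsLocalization M A := by
    refine ⟨⟨fun s => s.2, fun a => ?_, fun {x y} h => ⟨1, by rw [hinj h]⟩⟩⟩
    rcases hval a with ⟨o, ho⟩ | ⟨o, ho⟩
    · exact ⟨⟨o, 1⟩, by simp [ho]⟩
    · exact ⟨⟨1, ⟨o, show IsUnit _ from IsUnit.of_mul_eq_one_right a ho⟩⟩, by simpa using ho⟩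
  have hC : ∀ s ∈ M, IsSMulRegular C s := fun s hs a b hab => hadm (by
    have h1 := congrArg (Algebra.TensorProduct.includeRight : C →ₐ[O] A ⊗[O] C) hab
    simp only [map_smul] at h1
    rw [← algebraMap_smul A s, ← algebraMap_smul A s] at h1
    exact (IsUnit.smul_left_cancel hs).1 h1)
  -- the residual valuation ring
  let Rb := O ⧸ m
  haveI : ValuationRing Rb := by
    refine ValuationRing.iff_dvd_total.2 ⟨fun x y => ?_⟩
    obtain ⟨a, rfl⟩ := Ideal.Quotient.mk_surjective x
    obtain ⟨b, rfl⟩ := Ideal.Quotient.mk_surjective y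
    by_cases hb : b ∈ m
    · exact Or.inl ⟨0, by rw [mul_zero, Ideal.Quotient.eq_zero_iff_mem.2 hb]⟩
    obtain ⟨u, hu⟩ := (hM b).2 hb
    rcases hval (algebraMap O A a * (↑u⁻¹ : A)) with ⟨o, ho⟩ | ⟨o, ho⟩
    · refine Or.inr ⟨Ideal.Quotient.mk m o, ?_⟩
      rw [← map_mul]
      congr 1
      apply hinj
      rw [map_mul, ho, ← hu, mul_left_comm, Units.mul_inv, mul_one]
    · refine Or.inl ⟨Ideal.Quotient.mk m o, ?_⟩
      rw [← map_mul]
      congr 1
      apply hinj
      rw [map_mul, ← hu, ← mul_one (u : A), ← ho]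
      rw [← mul_assoc, mul_left_comm, Units.mul_inv, mul_one]
  let Cb := Rb ⊗[O] C
  have htf : ∀ (a : Rb) (x : Cb), a ≠ 0 → a • x = 0 → x = 0 := by
    intro a x ha hax
    obtain ⟨s, rfl⟩ := Ideal.Quotient.mk_surjective a
    obtain ⟨c, rfl⟩ := TensorProduct.mk_surjective O C Rb Ideal.Quotient.mk_surjective x
    have hs : s ∉ m := fun h => ha (Ideal.Quotient.eq_zero_iff_mem.2 h)
    have e1 : ∀ c : C, (1 : Rb) ⊗ₜ[O] c = 0 ↔ c ∈ m • (⊤ : Submodule O C) := fun c => by
      rw [← (TensorProduct.quotTensorEquivQuotSMul C m).map_eq_zero_iff, ← map_one (Ideal.Quotient.mk m),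
        TensorProduct.quotTensorEquivQuotSMul_mk_tmul, one_smul, Submodule.Quotient.mk_eq_zero]
    change (1 : Rb) ⊗ₜ[O] c = 0
    have h1 : (1 : Rb) ⊗ₜ[O] (s • c) = 0 := by
      rw [TensorProduct.tmul_smul]
      exact (algebraMap_smul Rb s _).symm.trans hax
    rw [e1] at h1 ⊢
    have hsm : m • (⊤ : Submodule O C) ≤ (m • (⊤ : Submodule O C)).map (LinearMap.lsmul O C s) := by
      refine Submodule.smul_le.2 fun x hx d _ => ?_
      obtain ⟨u, hu⟩ := (hM s).2 hs
      obtain ⟨o, ho⟩ := hm (algebraMap O A x * (↑u⁻¹ : A))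
        (Ideal.mul_mem_right _ _ (show algebraMap O A x ∈ IsLocalRing.maximalIdeal A from hx))
      refine ⟨o • d, Submodule.smul_mem_smul (show algebraMap O A o ∈ IsLocalRing.maximalIdeal A by
        rw [ho]; exact Ideal.mul_mem_right _ _ (show algebraMap O A x ∈ IsLocalRing.maximalIdeal A from hx)) Submodule.mem_top, ?_⟩
      have : s * o = x := hinj (by rw [map_mul, ho, ← hu, mul_left_comm, Units.mul_inv, mul_one])
      rw [LinearMap.lsmul_apply, smul_smul, this]
    obtain ⟨c', hc', hcc⟩ := hsm h1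
    rw [LinearMap.lsmul_apply] at hcc
    rwa [← hC s ((hM s).2 hs) hcc]
  haveI : Module.Flat Rb Cb := by
    rw [Module.Flat.flat_iff_torsion_eq_bot_of_isBezout, Submodule.eq_bot_iff]
    rintro x ⟨⟨a, ha⟩, hax⟩
    exact htf a x (nonZeroDivisors.ne_zero ha) hax
  have hfl : Module.Flat O C := by
    refine flat_of_localization (A := A) M (fun s hs a b hab => hinj ?_) hC hflat fun s hs => ?_
    · have h1 : algebraMap O A s * algebraMap O A a = algebraMap O A s * algebraMap O A b := by
        rw [← map_mul, ← map_mul]; exact congrArg _ hab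
      exact (IsUnit.mul_right_inj hs).1 h1
    · have hle : m ≤ Ideal.span {s} := fun x hx => by
        obtain ⟨u, hu⟩ := hs
        obtain ⟨o, ho⟩ := hm (algebraMap O A x * (↑u⁻¹ : A))
          (Ideal.mul_mem_right _ _ (show algebraMap O A x ∈ IsLocalRing.maximalIdeal A from hx))
        exact Ideal.mem_span_singleton.2 ⟨o, hinj (by rw [map_mul, ho, ← hu, mul_left_comm, Units.mul_inv, mul_one])⟩
      letI : Algebra Rb (O ⧸ Ideal.span {s}) := (Ideal.Quotient.factor hle).toAlgebra
      haveI : IsScalarTower O Rb (O ⧸ Ideal.span {s}) := IsScalarTower.of_algebraMap_eq fun _ => rfl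
      exact Module.Flat.of_linearEquiv (AlgebraTensorModule.cancelBaseChange O Rb (O ⧸ Ideal.span {s})
        (O ⧸ Ideal.span {s}) C).symm
  refine ⟨hfl, ?_⟩
  obtain ⟨n, φ, hφ⟩ := Algebra.FiniteType.iff_quotient_mvPolynomial''.1 (inferInstance : Algebra.FiniteType O C)
  let φA : MvPolynomial (Fin n) A →ₐ[A] A ⊗[O] C := MvPolynomial.aeval fun i => 1 ⊗ₜ[O] φ (MvPolynomial.X i)
  let incl : MvPolynomial (Fin n) O →ₐ[O] MvPolynomial (Fin n) A := MvPolynomial.mapAlgHom (Algebra.ofId O A)
  have hincl : Function.Injective incl := MvPolynomial.map_injective _ hinj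
  have hφA : ∀ p, φA (incl p) = (1 : A) ⊗ₜ[O] φ p := fun p => by
    have : (φA.restrictScalars O).comp incl = Algebra.TensorProduct.includeRight.comp φ :=
      MvPolynomial.algHom_ext fun i => by simp [φA, incl]
    exact AlgHom.congr_fun this p
  have hφAsurj : Function.Surjective φA := fun z => by
    induction z using TensorProduct.induction_on with
    | zero => exact ⟨0, map_zero _⟩
    | tmul a c =>
      obtain ⟨p, rfl⟩ := hφ c
      exact ⟨a • incl p, by rw [map_smul, hφA, smul_tmul', smul_eq_mul, mul_one]⟩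
    | add x y hx hy =>
      obtain ⟨p, rfl⟩ := hx; obtain ⟨q, rfl⟩ := hy
      exact ⟨p + q, map_add _ _ _⟩
  have hC' : ∀ (a : A) (ha : a ∈ IsLocalRing.maximalIdeal A) (g : MvPolynomial (Fin n) A),
      ∃ p, incl p = a • g := by
    intro a ha g
    induction g using MvPolynomial.induction_on' with
    | monomial d b =>
      obtain ⟨o, ho⟩ := hm (a * b) (Ideal.mul_mem_right _ _ ha)
      exact ⟨MvPolynomial.monomial d o, by simp [incl, ho, MvPolynomial.smul_monomial]⟩
    | add x y hx hy =>
      obtain ⟨p, hp⟩ := hx; obtain ⟨q, hq⟩ := hy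
      exact ⟨p + q, by rw [map_add, hp, hq, smul_add]⟩
  let J := RingHom.ker φ.toRingHom
  -- generators of the kernel over A coming from J
  have hker : RingHom.ker φA.toRingHom ≤ J.map incl := by
    intro g hg
    letI : Algebra (MvPolynomial (Fin n) O) (MvPolynomial (Fin n) A) := incl.toRingHom.toAlgebra
    obtain ⟨⟨s, hs⟩, hsg⟩ : ∃ s : M, ∃ p, incl p = algebraMap O A s • g := by
      clear hg
      induction g using MvPolynomial.induction_on' with
      | monomial d b =>
        obtain ⟨⟨o, s⟩, ho⟩ := IsLocalization.surj M b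
        refine ⟨s, MvPolynomial.monomial d o, ?_⟩
        rw [MvPolynomial.smul_monomial, smul_eq_mul, mul_comm, ho]
        exact MvPolynomial.map_monomial _ _ _
      | add x y hx hy =>
        obtain ⟨s, p, hp⟩ := hx; obtain ⟨t, q, hq⟩ := hy
        refine ⟨s * t, (t : O) • p + (s : O) • q, ?_⟩
        rw [map_add, map_smul, map_smul, hp, hq, smul_add, Submonoid.coe_mul, map_mul,
          ← algebraMap_smul A (t : O), ← algebraMap_smul A (s : O), smul_smul, smul_smul,
          mul_comm (algebraMap O A (t : O))]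
    obtain ⟨p, hp⟩ := hsg
    have hpJ : p ∈ J := hadm (by
      show (1 : A) ⊗ₜ[O] φ p = _
      rw [← hφA, hp, map_smul, show φA g = 0 from hg, smul_zero, map_zero])
    obtain ⟨u, hu⟩ := hs
    have : g = MvPolynomial.C (↑u⁻¹ : A) * incl p := by
      rw [hp, ← MvPolynomial.C_mul', ← hu, ← mul_assoc, ← map_mul, Units.inv_mul, map_one, one_mul]
    rw [this]
    exact Ideal.mul_mem_left _ _ (Ideal.mem_map_of_mem _ hpJ)
  have hker' : J.map incl = RingHom.ker φA.toRingHom := le_antisymm (Ideal.map_le_iff_le_comap.2 fun p hp => by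
    show φA (incl p) = 0
    rw [hφA, show φ p = 0 from hp, tmul_zero]) hker
  obtain ⟨J0, hJ0, hJ0fg, hJ0eq⟩ : ∃ J0 : Ideal (MvPolynomial (Fin n) O), J0 ≤ J ∧ J0.FG ∧ J0.map incl = RingHom.ker φA.toRingHom := by
    have hfg := Algebra.FinitePresentation.ker_fG_of_surjective φA hφAsurj
    rw [← hker', Ideal.map, Ideal.span] at hfg
    obtain ⟨T, hTsub, hT⟩ := (Submodule.fg_span_iff_fg_span_finset_subset _).1 hfg
    obtain ⟨U, hU, rfl⟩ := Finset.subset_set_image_iff.1 hTsub
    refine ⟨Ideal.span U, Ideal.span_le.2 hU, ⟨U, rfl⟩, ?_⟩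
    rw [← hker', Ideal.map_span, ← Finset.coe_image]
    exact hT.symm
  -- generators modulo m
  let mk : MvPolynomial (Fin n) O →+* MvPolynomial (Fin n) Rb := MvPolynomial.map (Ideal.Quotient.mk m)
  have hmk : Function.Surjective mk := MvPolynomial.map_surjective _ Ideal.Quotient.mk_surjective
  obtain ⟨J1, hJ1, hJ1fg, hJ1eq⟩ : ∃ J1 : Ideal (MvPolynomial (Fin n) O), J1 ≤ J ∧ J1.FG ∧ J.map mk ≤ J1.map mk := by
    let φb : MvPolynomial (Fin n) Rb →ₐ[Rb] Cb := MvPolynomial.aeval fun i => 1 ⊗ₜ[O] φ (MvPolynomial.X i)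
    have hφb : ∀ p, φb (mk p) = (1 : Rb) ⊗ₜ[O] φ p := fun p => by
      have : (φb.restrictScalars O).comp (MvPolynomial.mapAlgHom (Algebra.ofId O Rb)) = Algebra.TensorProduct.includeRight.comp φ :=
        MvPolynomial.algHom_ext fun i => by simp [φb]
      exact AlgHom.congr_fun this p
    have hfg : (RingHom.ker φb.toRingHom).FG := by
      letI : Algebra (MvPolynomial (Fin n) Rb) Cb := φb.toRingHom.toAlgebra
      haveI : IsScalarTower Rb (MvPolynomial (Fin n) Rb) Cb := IsScalarTower.of_algebraMap_eq fun a => (φb.commutes a).symm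
      exact PruferFP.fg_ker (R := Rb) (fun p _ => valuationRing_localization p) (A := MvPolynomial (Fin n) Rb)
        (M := MvPolynomial (Fin n) Rb) (N := Cb) htf (Algebra.linearMap (MvPolynomial (Fin n) Rb) Cb)
    have hkerb : RingHom.ker φb.toRingHom ≤ J.map mk := by
      intro g hg
      obtain ⟨p, rfl⟩ := hmk g
      have h1 : φ p ∈ m • (⊤ : Submodule O C) := by
        have : (1 : Rb) ⊗ₜ[O] φ p = 0 := by rw [← hφb]; exact hg
        rwa [← (TensorProduct.quotTensorEquivQuotSMul C m).map_eq_zero_iff, ← map_one (Ideal.Quotient.mk m),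
          TensorProduct.quotTensorEquivQuotSMul_mk_tmul, one_smul, Submodule.Quotient.mk_eq_zero] at this
      have h2 : m • (⊤ : Submodule O C) ≤ (m • (⊤ : Submodule O (MvPolynomial (Fin n) O))).map φ.toLinearMap := by
        rw [Submodule.map_smul'', Submodule.map_top, LinearMap.range_eq_top.2 hφ]
      obtain ⟨q, hq, hqp⟩ := h2 h1
      have hq0 : mk q = 0 := by
        refine Submodule.smul_induction_on hq (fun a ha x _ => ?_) fun x y hx hy => by rw [map_add, hx, hy, add_zero]
        rw [Algebra.smul_def, map_mul, MvPolynomial.algebraMap_eq, MvPolynomial.map_C,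
          Ideal.Quotient.eq_zero_iff_mem.2 ha, map_zero, zero_mul]
      have : p - q ∈ J := by
        show φ (p - q) = 0
        rw [map_sub]; exact sub_eq_zero.2 hqp.symm
      have h3 := Ideal.mem_map_of_mem mk this
      rwa [map_sub, hq0, sub_zero] at h3
    have hJle : J.map mk ≤ RingHom.ker φb.toRingHom := Ideal.map_le_iff_le_comap.2 fun p hp => by
      show φb (mk p) = 0
      rw [hφb, show φ p = 0 from hp, tmul_zero]
    obtain ⟨T, hT⟩ := hfg
    have hT' : ∀ t : T, ∃ j ∈ J, mk j = t := fun t =>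
      (Ideal.mem_map_iff_of_surjective mk hmk).1 (hkerb (hT ▸ Ideal.subset_span t.2))
    choose j hj hjt using hT'
    refine ⟨Ideal.span (Set.range j), Ideal.span_le.2 (Set.range_subset_iff.2 hj),
      Submodule.fg_span (Set.finite_range j), ?_⟩
    rw [le_antisymm hJle hkerb, ← hT, Ideal.map_span]
    exact Ideal.span_le.2 fun t ht => Ideal.subset_span ⟨j ⟨t, ht⟩, ⟨⟨t, ht⟩, rfl⟩, hjt _⟩
  haveI : Module.Flat A (MvPolynomial (Fin n) A ⧸ LinearMap.ker φA.toLinearMap) :=
    Module.Flat.of_linearEquiv (φA.toLinearMap.quotKerEquivOfSurjective hφAsurj)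
  refine Algebra.FinitePresentation.of_surjective hφ ?_
  suffices hle : J ≤ J0 ⊔ J1 by
    show J.FG
    rw [le_antisymm hle (sup_le hJ0 hJ1)]
    exact Submodule.FG.sup hJ0fg hJ1fg
  intro p hp
  obtain ⟨p1, hp1, hp1p⟩ := (Ideal.mem_map_iff_of_surjective mk hmk).1 (hJ1eq (Ideal.mem_map_of_mem mk hp))
  suffices p - p1 ∈ J0 by
    rw [show p = (p - p1) + p1 from (sub_add_cancel p p1).symm]
    exact Submodule.add_mem_sup this hp1
  let d := p - p1
  have hd : d ∈ J := sub_mem hp (hJ1 hp1)
  have hdm : ∀ k, d.coeff k ∈ m := fun k => by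
    rw [← Ideal.Quotient.eq_zero_iff_mem, ← MvPolynomial.coeff_map]
    show (mk d).coeff k = 0
    simp [d, hp1p]
  have hd1 : incl d ∈ IsLocalRing.maximalIdeal A • (⊤ : Submodule A (MvPolynomial (Fin n) A)) := by
    rw [d.as_sum, map_sum]
    refine sum_mem fun k _ => ?_
    have : incl (MvPolynomial.monomial k (d.coeff k)) = algebraMap O A (d.coeff k) • MvPolynomial.monomial k (1 : A) := by
      rw [MvPolynomial.smul_monomial, smul_eq_mul, mul_one]
      exact MvPolynomial.map_monomial _ _ _
    rw [this]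
    exact Submodule.smul_mem_smul (hdm k) Submodule.mem_top
  have hd2 : incl d ∈ LinearMap.ker φA.toLinearMap := by
    show φA (incl d) = 0
    rw [hφA, show φ d = 0 from hd, tmul_zero]
  have hd3 := mem_smul_of_flat_quotient _ _ hd2 hd1
  have hd4 : ∃ q ∈ J0, incl q = incl d := by
    refine Submodule.smul_induction_on hd3 (fun a ha g hg => ?_) fun x y ⟨q, hq, hqx⟩ ⟨r, hr, hry⟩ =>
      ⟨q + r, add_mem hq hr, by rw [map_add, hqx, hry]⟩
    have hg' : g ∈ J0.map incl := by rw [hJ0eq]; exact hg
    clear hg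
    revert a
    induction hg' using Submodule.span_induction with
    | mem g hg => intro a ha; obtain ⟨q, hq, rfl⟩ := hg
                  obtain ⟨o, ho⟩ := hm a ha
                  exact ⟨o • q, Submodule.smul_of_tower_mem _ o hq, by rw [map_smul, ← ho, algebraMap_smul]⟩
    | zero => intro a ha; exact ⟨0, zero_mem _, by simp⟩
    | add x y _ _ hx hy =>
      intro a ha
      obtain ⟨q, hq, hqx⟩ := hx a ha; obtain ⟨r, hr, hry⟩ := hy a ha
      exact ⟨q + r, add_mem hq hr, by rw [map_add, hqx, hry, smul_add]⟩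
    | smul c x _ hx =>
      intro a ha
      induction c using MvPolynomial.induction_on' with
      | monomial k b =>
        obtain ⟨q, hq, hqx⟩ := hx (a * b) (Ideal.mul_mem_right _ _ ha)
        refine ⟨MvPolynomial.monomial k 1 * q, Ideal.mul_mem_left _ _ hq, ?_⟩
        rw [map_mul, hqx, smul_eq_mul, MvPolynomial.smul_eq_C_mul, MvPolynomial.smul_eq_C_mul]
        simp [incl]
        rw [show MvPolynomial.monomial k b = MvPolynomial.C b * MvPolynomial.monomial k (1:A) by simp [MvPolynomial.C_mul_monomial]]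
        ring
      | add c1 c2 h1 h2 =>
        obtain ⟨q, hq, hqx⟩ := h1; obtain ⟨r, hr, hry⟩ := h2
        exact ⟨q + r, add_mem hq hr, by rw [map_add, hqx, hry, add_smul, smul_add]⟩
  obtain ⟨q, hq, hqd⟩ := hd4
  show d ∈ J0
  rwa [← hincl hqd]

end Groth.Agent.H20.SemiValuation
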