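import Mathlib.RingTheory.Smooth.Locus
import Mathlib.RingTheory.Smooth.Field
import Mathlib.RingTheory.Localization.FractionRing
import Mathlib.RingTheory.Localization.AtPrime.Basic
import Mathlib.RingTheory.FinitePresentation
import Mathlib.RingTheory.EssentialFiniteness

/-!
# Smooth finite type models of a formally smooth field extension
-/

set_option autoImplicit false

universe u v

namespace Groth.Agent.H20.SmoothModel

theorem exists_smooth_subalgebra (k : Type v) [CommRing k] [IsNoetherianRing k] (K : Type u) [Field K]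
    [Algebra k K] [Algebra.FormallySmooth k K] (A₀ : Subalgebra k K) [Algebra.FiniteType k A₀]
    [IsFractionRing A₀ K] :
    ∃ A : Subalgebra k K, Algebra.FiniteType k A ∧ Algebra.Smooth k A ∧ IsFractionRing A K := by
  have : Algebra.FinitePresentation k A₀ := Algebra.FinitePresentation.of_finiteType.mp ‹_›
  have : (⊥ : Ideal A₀).IsPrime := Ideal.isPrime_bot
  have hloc : IsLocalization.AtPrime K (⊥ : Ideal A₀) := by
    unfold IsLocalization.AtPrime
    rw [Ideal.primeCompl_bot]
    infer_instance
  have : Algebra.IsSmoothAt k (⊥ : Ideal A₀) :=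
    Algebra.FormallySmooth.of_equiv
      ((IsLocalization.algEquiv (⊥ : Ideal A₀).primeCompl K
        (Localization.AtPrime (⊥ : Ideal A₀))).restrictScalars k)
  obtain ⟨f, hf, hsm⟩ := Algebra.IsSmoothAt.exists_notMem_smooth (R := k) (⊥ : Ideal A₀)
  have hf0 : f ≠ 0 := by simpa using hf
  have hu : IsUnit (algebraMap A₀ K f) :=
    isUnit_iff_ne_zero.mpr ((map_ne_zero_iff _ (IsFractionRing.injective A₀ K)).mpr hf0)
  let φ : Localization.Away f →ₐ[k] K :=
    IsLocalization.liftAlgHom (M := Submonoid.powers f) (f := IsScalarTower.toAlgHom k A₀ K)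
      (fun y => by
        obtain ⟨n, hn⟩ := y.2
        rw [← hn]
        simpa using hu.pow n)
  have hφ : Function.Injective φ := by
    change Function.Injective φ.toRingHom
    refine (IsLocalization.lift_injective_iff _).mpr fun x y => ?_
    have hle : Submonoid.powers f ≤ nonZeroDivisors A₀ :=
      powers_le_nonZeroDivisors_of_noZeroDivisors hf0
    simp only [IsLocalization.eq_iff_exists (Submonoid.powers f)]
    refine ⟨?_, fun h => ⟨1, by simpa using IsFractionRing.injective A₀ K h⟩⟩
    rintro ⟨c, hc⟩
    have := mul_left_cancel₀ (nonZeroDivisors.ne_zero (hle c.2)) hc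
    rw [this]
  let e : Localization.Away f ≃ₐ[k] φ.range := AlgEquiv.ofInjective φ hφ
  have hsmA : Algebra.Smooth k φ.range := Algebra.Smooth.of_equiv e
  refine ⟨φ.range, Algebra.FiniteType.equiv inferInstance e, hsmA,
    IsFractionRing.of_field _ _ fun x => ?_⟩
  obtain ⟨a, b, -, rfl⟩ := IsFractionRing.div_surjective A₀ x
  exact ⟨⟨algebraMap A₀ K a, algebraMap A₀ _ a, by simp [φ]⟩,
    ⟨algebraMap A₀ K b, algebraMap A₀ _ b, by simp [φ]⟩, rfl⟩

end Groth.Agent.H20.SmoothModel
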