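import Mathlib.RingTheory.FinitePresentation
import Mathlib.RingTheory.Localization.AtPrime.Basic
import Mathlib.RingTheory.Localization.Away.Basic

/-!
Spreading out maps between local rings of finitely presented algebras.
-/

universe u

namespace Groth.Agent.H20.SpreadIso

variable {R S : Type u} [CommRing R] [CommRing S] [Algebra R S]

noncomputable def res {g h : S} (hgh : g ∣ h) : Localization.Away g →ₐ[S] Localization.Away h :=
  { IsLocalization.Away.lift g (g := algebraMap S (Localization.Away h))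
      (isUnit_of_dvd_unit (map_dvd _ hgh) (IsLocalization.Away.algebraMap_isUnit h)) with
    commutes' := fun r => IsLocalization.Away.lift_eq g _ r }

noncomputable def toLoc (q : Ideal S) [q.IsPrime] {g : S} (hg : g ∉ q) :
    Localization.Away g →ₐ[S] Localization.AtPrime q :=
  { IsLocalization.Away.lift g (g := algebraMap S (Localization.AtPrime q))
      (IsLocalization.map_units _ (⟨g, hg⟩ : q.primeCompl)) with
    commutes' := fun r => IsLocalization.Away.lift_eq g _ r }

theorem away_algHom_ext {g : S} {T : Type u} [CommRing T] [Algebra S T]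
    (f₁ f₂ : Localization.Away g →ₐ[S] T) : f₁ = f₂ :=
  IsLocalization.algHom_ext (Submonoid.powers g) (by ext)

theorem toLoc_res (q : Ideal S) [q.IsPrime] {g h : S} (hgh : g ∣ h) (hg : g ∉ q) (hh : h ∉ q)
    (x : Localization.Away g) : toLoc q hh (res hgh x) = toLoc q hg x :=
  DFunLike.congr_fun (away_algHom_ext ((toLoc q hh).comp (res hgh)) (toLoc q hg)) x

theorem exists_res_eq_zero (q : Ideal S) [q.IsPrime] {g : S} (hg : g ∉ q)
    (x : Localization.Away g) (hx : toLoc q hg x = 0) :
    ∃ h, g ∣ h ∧ h ∉ q ∧ ∀ h', h ∣ h' → ∀ hgh' : g ∣ h', res hgh' x = 0 := by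
  obtain ⟨a, ⟨_, n, rfl⟩, rfl⟩ := IsLocalization.exists_mk'_eq (Submonoid.powers g) x
  have h0 : algebraMap S (Localization.AtPrime q) a = 0 := by
    have := congrArg (toLoc q hg) (IsLocalization.mk'_spec (Localization.Away g) a
      (⟨g ^ n, n, rfl⟩ : Submonoid.powers g))
    rw [map_mul, hx, zero_mul, AlgHom.commutes] at this
    exact this.symm
  obtain ⟨⟨t, ht⟩, hta⟩ := (IsLocalization.map_eq_zero_iff q.primeCompl _ a).mp h0
  refine ⟨g * t, dvd_mul_right g t, Ideal.IsPrime.mul_notMem ‹_› hg ht, fun h' hh' hgh' => ?_⟩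
  have hu : IsUnit (algebraMap S (Localization.Away h') (g ^ n)) := by
    rw [map_pow]
    exact (isUnit_of_dvd_unit (map_dvd _ hgh') (IsLocalization.Away.algebraMap_isUnit h')).pow n
  have hut : IsUnit (algebraMap S (Localization.Away h') t) :=
    isUnit_of_dvd_unit (map_dvd _ ((dvd_mul_left t g).trans hh'))
      (IsLocalization.Away.algebraMap_isUnit h')
  have h1 := congrArg (res hgh') (IsLocalization.mk'_spec (Localization.Away g) a
      (⟨g ^ n, n, rfl⟩ : Submonoid.powers g))
  rw [map_mul, AlgHom.commutes, AlgHom.commutes] at h1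
  have ha : algebraMap S (Localization.Away h') a = 0 := by
    refine hut.mul_left_cancel ?_
    rw [← map_mul, mul_zero]
    exact (congrArg _ hta).trans (map_zero _)
  rw [ha] at h1
  exact hu.mul_left_eq_zero.mp h1

theorem exists_res_eq (q : Ideal S) [q.IsPrime] {g : S} (hg : g ∉ q) {A : Type u} [CommRing A]
    [Algebra R A] [Algebra.FiniteType R A] (f₁ f₂ : A →ₐ[R] Localization.Away g)
    (h : ∀ a, toLoc q hg (f₁ a) = toLoc q hg (f₂ a)) :
    ∃ g', ∃ hgg' : g ∣ g', g' ∉ q ∧ ∀ a, res hgg' (f₁ a) = res hgg' (f₂ a) := by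
  classical
  obtain ⟨s, hs⟩ := Algebra.FiniteType.out (R := R) (A := A)
  choose h' hgh' hh' hz using fun a =>
    exists_res_eq_zero q hg (f₁ a - f₂ a) (by rw [map_sub, h, sub_self])
  refine ⟨g * ∏ a ∈ s, h' a, dvd_mul_right _ _,
    Ideal.IsPrime.mul_notMem ‹_› hg (prod_mem (S := q.primeCompl) fun a _ => hh' a), fun a => ?_⟩
  have : ((res (dvd_mul_right g (∏ a ∈ s, h' a))).restrictScalars R).comp f₁ =
      ((res (dvd_mul_right g (∏ a ∈ s, h' a))).restrictScalars R).comp f₂ := by
    refine AlgHom.ext_of_adjoin_eq_top hs fun a ha => ?_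
    simp only [AlgHom.comp_apply, AlgHom.restrictScalars_apply]
    rw [← sub_eq_zero, ← map_sub]
    exact hz a _ ((Finset.dvd_prod_of_mem h' ha).mul_left g) _
  exact DFunLike.congr_fun this a

theorem exists_lift (q : Ideal S) [q.IsPrime] {A : Type u} [CommRing A]
    [Algebra R A] [Algebra.FinitePresentation R A] (ψ : A →ₐ[R] Localization.AtPrime q) :
    ∃ g, ∃ hg : g ∉ q, ∃ φ : A →ₐ[R] Localization.Away g, ∀ a, toLoc q hg (φ a) = ψ a := by
  classical
  obtain ⟨n, π, hπ, rels, hrels⟩ := Algebra.FinitePresentation.out (R := R) (A := A)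
  choose a t ha using fun i => IsLocalization.exists_mk'_eq q.primeCompl (ψ (π (MvPolynomial.X i)))
  let g₀ : S := ∏ i, (t i : S)
  have hg₀ : g₀ ∉ q := prod_mem (S := q.primeCompl) fun i _ => (t i).2
  have hu : ∀ i, IsUnit (algebraMap S (Localization.Away g₀) (t i)) := fun i =>
    isUnit_of_dvd_unit (map_dvd _ (Finset.dvd_prod_of_mem (fun i => (t i : S)) (Finset.mem_univ i)))
      (IsLocalization.Away.algebraMap_isUnit g₀)
  let P : MvPolynomial (Fin n) R →ₐ[R] Localization.Away g₀ :=
    MvPolynomial.aeval fun i => algebraMap S _ (a i) * ↑(hu i).unit⁻¹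
  have hP : ((toLoc q hg₀).restrictScalars R).comp P = ψ.comp π := by
    refine MvPolynomial.algHom_ext fun i => ?_
    simp only [AlgHom.comp_apply, AlgHom.restrictScalars_apply, P, MvPolynomial.aeval_X]
    rw [← ha i, IsLocalization.eq_mk'_iff_mul_eq, ← AlgHom.commutes (toLoc q hg₀),
      ← map_mul, mul_assoc, IsUnit.val_inv_mul, mul_one, AlgHom.commutes]
  have hzero : ∀ r : rels, toLoc q hg₀ (P r) = 0 := fun r => by
    rw [← AlgHom.restrictScalars_apply R (toLoc q hg₀), ← AlgHom.comp_apply, hP, AlgHom.comp_apply,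
      show π r = 0 from (RingHom.mem_ker (f := π.toRingHom)).mp
        (hrels ▸ Ideal.subset_span r.2), map_zero]
  choose h' hgh' hh' hz using fun r : rels => exists_res_eq_zero q hg₀ (P r) (hzero r)
  let g := g₀ * ∏ r, h' r
  have hgg : g₀ ∣ g := dvd_mul_right _ _
  have hg : g ∉ q := Ideal.IsPrime.mul_notMem ‹_› hg₀ (prod_mem (S := q.primeCompl) fun r _ => hh' r)
  let P' := ((res hgg).restrictScalars R).comp P
  have hker : RingHom.ker π.toRingHom ≤ RingHom.ker P'.toRingHom := by
    rw [← hrels, Ideal.span_le]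
    intro r hr
    exact hz ⟨r, hr⟩ g ((Finset.dvd_prod_of_mem h' (Finset.mem_univ _)).mul_left g₀) hgg
  refine ⟨g, hg, AlgHom.liftOfSurjective π hπ P' hker, fun x => ?_⟩
  obtain ⟨x, rfl⟩ := hπ x
  rw [AlgHom.liftOfSurjective_apply]
  simp only [P', AlgHom.comp_apply, AlgHom.restrictScalars_apply]
  rw [toLoc_res q hgg hg₀ hg]
  exact DFunLike.congr_fun hP x

end Groth.Agent.H20.SpreadIso
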