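import Groth.Agent.H20.FlatFibreTrdeg
import Groth.Agent.H24.EssEtale.Basic
import Groth.Agent.Lib.Henselian.Permanence
import Mathlib.RingTheory.Unramified.LocalRing
import Mathlib.RingTheory.Ideal.GoingDown
import Mathlib.RingTheory.KrullDimension.NonZeroDivisors
import Mathlib.RingTheory.Ideal.MinimalPrime.Noetherian

/-!
# Dimension and residue extensions of quotients of strict henselizations

* `dim_quotient_eq`: unramified local extensions of local rings essentially of finite type over a
  field do not change the dimension of quotients by primes;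
* `dim_quotient_strict`: the same for a strict henselization;
* `isAlgebraic_residueField`: residue field extensions of a strict henselization are algebraic.
-/

set_option autoImplicit false
set_option linter.style.haveILetI false

universe u

open IsLocalRing

namespace Groth.Agent.H20.StrictStage

/-- Dimension formula for a prime quotient of a local algebra essentially of finite type over a
field. -/
theorem dim_add_trdeg (k D : Type u) [Field k] [CommRing D] [IsLocalRing D] [Algebra k D]
    [Algebra.EssFiniteType k D] (q : Ideal D) [q.IsPrime] :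
    ∃ d e : ℕ, ringKrullDim (D ⧸ q) = d ∧ Algebra.trdeg k (ResidueField D) = e ∧
      Algebra.trdeg k q.ResidueField = (d + e : ℕ) := by
  haveI : IsLocalRing (D ⧸ q) :=
    .of_surjective' (Ideal.Quotient.mk q) Ideal.Quotient.mk_surjective
  haveI : IsLocalHom (algebraMap k (D ⧸ q)) :=
    ⟨fun a ha => (isUnit_iff_ne_zero.2 fun h => by
      rw [h, map_zero] at ha
      exact not_isUnit_zero ha)⟩
  haveI : Algebra.EssFiniteType k (D ⧸ q) := Algebra.EssFiniteType.comp k D _
  obtain ⟨d, e, hd, he, hB⟩ := FlatFibreTrdeg.main (A := k) (B := D ⧸ q)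
  have h1 : (maximalIdeal k).map (algebraMap k (D ⧸ q)) = ⊥ := by
    rw [IsLocalRing.maximalIdeal_eq_bot, Ideal.map_bot]
  refine ⟨d, e, ?_, ?_, ?_⟩
  · rw [← hd]
    exact (ringKrullDim_eq_of_ringEquiv ((Ideal.quotEquivOfEq h1).trans (RingEquiv.quotientBot _))).symm
  · haveI : IsLocalHom (Ideal.Quotient.mk q) := .of_surjective _ Ideal.Quotient.mk_surjective
    let φ : ResidueField D →ₐ[k] ResidueField (D ⧸ q) :=
      { ResidueField.map (Ideal.Quotient.mk q) with commutes' := fun _ => rfl }
    have hφ : Function.Bijective φ := by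
      refine ⟨φ.toRingHom.injective, fun z => ?_⟩
      obtain ⟨z, rfl⟩ := residue_surjective z
      obtain ⟨w, rfl⟩ := Ideal.Quotient.mk_surjective z
      exact ⟨residue D w, rfl⟩
    rw [(AlgEquiv.ofBijective φ hφ).trdeg_eq, ← he]
    have : Algebra.IsAlgebraic k (ResidueField k) := by
      haveI : Module.Finite k (ResidueField k) := RingHom.finite_algebraMap.1
        (RingHom.Finite.of_surjective (algebraMap k (ResidueField k)) residue_surjective)
      exact Algebra.IsAlgebraic.of_finite _ _
    have h := trdeg_add_eq k (ResidueField k) (A := ResidueField (D ⧸ q))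
    rw [trdeg_eq_zero (R := k), zero_add] at h
    exact h.symm
  · rw [← hB]
    haveI : Algebra.IsAlgebraic (D ⧸ q) q.ResidueField :=
      IsLocalization.isAlgebraic _ (nonZeroDivisors (D ⧸ q))
    have h := trdeg_add_eq k (D ⧸ q) (A := q.ResidueField)
    rw [trdeg_eq_zero (R := D ⧸ q), add_zero] at h
    exact h.symm

/-- Unramified local extensions preserve the dimensions of prime quotients. -/
theorem dim_quotient_eq (k : Type u) {A D : Type u} [Field k] [CommRing A] [IsLocalRing A]
    [CommRing D] [IsLocalRing D] [Algebra k A] [Algebra k D] [Algebra A D] [IsScalarTower k A D]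
    [Algebra.EssFiniteType k A] [Algebra.EssFiniteType A D] [Algebra.FormallyUnramified A D]
    [IsLocalHom (algebraMap A D)] (q : Ideal D) [q.IsPrime] (p : Ideal A) [p.IsPrime]
    [q.LiesOver p] : ringKrullDim (D ⧸ q) = ringKrullDim (A ⧸ p) := by
  haveI : Algebra.EssFiniteType k D := Algebra.EssFiniteType.comp k A D
  obtain ⟨d, e, hd, he, hq⟩ := dim_add_trdeg k D q
  obtain ⟨d', e', hd', he', hp⟩ := dim_add_trdeg k A p
  haveI : Algebra.IsAlgebraic (ResidueField A) (ResidueField D) :=
    Algebra.IsAlgebraic.of_finite _ _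
  haveI : Algebra.FormallyUnramified A (Localization.AtPrime q) :=
    Algebra.FormallyUnramified.comp A D _
  letI := Localization.AtPrime.algebraOfLiesOver p q
  haveI : Algebra.IsAlgebraic p.ResidueField q.ResidueField :=
    Algebra.IsAlgebraic.of_finite _ _
  have he_eq := trdeg_add_eq k (ResidueField A) (A := ResidueField D)
  rw [trdeg_eq_zero (R := ResidueField A), add_zero, he, he'] at he_eq
  have hq_eq := trdeg_add_eq k p.ResidueField (A := q.ResidueField)
  rw [trdeg_eq_zero (R := p.ResidueField), add_zero, hq, hp] at hq_eq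
  have h1 : e' = e := by exact_mod_cast he_eq
  have h2 : d' + e' = d + e := by exact_mod_cast hq_eq
  rw [hd, hd']
  congr 1
  exact_mod_cast (by omega : d = d')

/-- Some prime over `q` in a faithfully flat algebra has quotient of at least the same dimension. -/
theorem exists_dim_ge {A A' : Type u} [CommRing A] [CommRing A'] [IsLocalRing A] [IsNoetherianRing A]
    [Algebra A A'] [Module.FaithfullyFlat A A'] (p : PrimeSpectrum A) :
    ∃ q : PrimeSpectrum A', q.comap (algebraMap A A') = p ∧
      ringKrullDim (A ⧸ p.asIdeal) ≤ ringKrullDim (A' ⧸ q.asIdeal) := by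
  haveI : IsLocalRing (A ⧸ p.asIdeal) :=
    .of_surjective' (Ideal.Quotient.mk p.asIdeal) Ideal.Quotient.mk_surjective
  let l0 : LTSeries (PrimeSpectrum (A ⧸ p.asIdeal)) := LTSeries.longestOf _
  let l : LTSeries (PrimeSpectrum A) := l0.map (PrimeSpectrum.comap (Ideal.Quotient.mk p.asIdeal))
    (RingHom.strictMono_comap_of_surjective Ideal.Quotient.mk_surjective)
  obtain ⟨P, hP⟩ := PrimeSpectrum.comap_surjective_of_faithfullyFlat (B := A') l.last
  haveI : P.asIdeal.LiesOver l.last.asIdeal := ⟨congr($(hP.symm).asIdeal)⟩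
  obtain ⟨L, hlen, -, hspec⟩ := Ideal.exists_ltSeries_of_hasGoingDown l P.asIdeal
  haveI : L.head.asIdeal.LiesOver l.head.asIdeal := by
    constructor
    rw [← L.toList_getElem_zero_eq_head, ← l.toList_getElem_zero_eq_head, Ideal.under_def]
    have : l.toList[0] = (PrimeSpectrum.comap (algebraMap A A')) L.toList[0] := by
      rw [List.getElem_map_rev (PrimeSpectrum.comap (algebraMap A A')),
        List.getElem_of_eq hspec.symm _]
    rwa [PrimeSpectrum.ext_iff] at this
  have hle : p.asIdeal ≤ l.head.asIdeal := by
    rw [LTSeries.head_map]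
    intro z hz
    show Ideal.Quotient.mk p.asIdeal z ∈ l0.head.asIdeal
    rw [Ideal.Quotient.eq_zero_iff_mem.2 hz]
    exact zero_mem _
  obtain ⟨Q, hQle, hQ, hQover⟩ :=
    Ideal.exists_ideal_le_liesOver_of_le (S := A') L.head.asIdeal hle
  refine ⟨⟨Q, hQ⟩, PrimeSpectrum.ext hQover.over.symm, ?_⟩
  rw [ringKrullDim, Order.krullDim_eq_length_of_finiteDimensionalOrder, ringKrullDim_quotient]
  let L' : LTSeries (PrimeSpectrum.zeroLocus (Q : Set A')) :=
    ⟨L.length, fun i => ⟨L i, hQle.trans (LTSeries.head_le L i)⟩, fun i => L.step i⟩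
  refine le_trans (le_of_eq ?_) (Order.LTSeries.length_le_krullDim L')
  show ((l0.length : ℕ) : WithBot ℕ∞) = (L.length : WithBot ℕ∞)
  rw [hlen]
  rfl

variable {A R : Type u} [CommRing A] [IsLocalRing A] [IsNoetherianRing A] [CommRing R] [IsLocalRing R]
  [Algebra A R] [IsLocalHom (algebraMap A R)] [Hensel.IsStrictHenselization A R]

omit [IsNoetherianRing A] in
theorem dim_quotient_le (P : PrimeSpectrum R) (p : Ideal A)
    (hp : P.asIdeal.comap (algebraMap A R) = p) : ringKrullDim (R ⧸ P.asIdeal) ≤ ringKrullDim (A ⧸ p) := by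
  subst hp
  rw [ringKrullDim_quotient, ringKrullDim_quotient]
  refine Order.krullDim_le_of_strictMono
    (fun z => ⟨z.1.comap (algebraMap A R), Ideal.comap_mono z.2⟩) fun z w h => ?_
  refine lt_of_le_of_ne (Ideal.comap_mono h.le) fun he => h.ne (Subtype.ext (PrimeSpectrum.ext ?_))
  exact Lib.Henselian.Permanence.strict_eq_of_le_of_comap_eq A R (show z.1.asIdeal ≤ w.1.asIdeal from h.le)
    congr($(he).1.asIdeal)

theorem finite_over (p : PrimeSpectrum A) :
    {Q : PrimeSpectrum R | Q.comap (algebraMap A R) = p}.Finite := by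
  haveI : IsNoetherianRing R := Lib.Henselian.Permanence.strict_isNoetherianRing A R
  refine Set.Finite.of_finite_image (f := fun Q : PrimeSpectrum R => Q.asIdeal)
    (((p.asIdeal.map (algebraMap A R)).finite_minimalPrimes_of_isNoetherianRing).subset ?_)
    (fun Q _ Q' _ h => PrimeSpectrum.ext h)
  rintro - ⟨Q, hQ, rfl⟩
  refine ⟨⟨Q.isPrime, Ideal.map_le_iff_le_comap.2 congr($(hQ).asIdeal).ge⟩, ?_⟩
  rintro J ⟨hJ, hpJ⟩ hJQ
  exact (Lib.Henselian.Permanence.strict_eq_of_le_of_comap_eq A R hJQ (le_antisymm (Ideal.comap_mono hJQ)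
    (congr($(hQ).asIdeal).le.trans (Ideal.map_le_iff_le_comap.1 hpJ)))).ge

omit [IsNoetherianRing A] in
/-- Two primes of a strict henselization over the same prime are incomparable. -/
theorem exists_mem_notMem {P Q : PrimeSpectrum R}
    (h : Q.comap (algebraMap A R) = P.comap (algebraMap A R)) (hne : Q ≠ P) :
    ∃ g ∈ Q.asIdeal, g ∉ P.asIdeal := by
  by_contra! hc
  exact hne (PrimeSpectrum.ext
    (Lib.Henselian.Permanence.strict_eq_of_le_of_comap_eq A R hc congr($(h).asIdeal)))

variable (k : Type u) [Field k] [Algebra k A] [Algebra.EssFiniteType k A]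

include k in
/-- Prime quotients of a strict henselization of a local ring essentially of finite type over a field
have the dimension of the quotient by the contracted prime. -/
theorem dim_quotient_strict (P : PrimeSpectrum R) :
    ringKrullDim (R ⧸ P.asIdeal) = ringKrullDim (A ⧸ P.asIdeal.comap (algebraMap A R)) := by
  classical
  refine le_antisymm (dim_quotient_le P _ rfl) ?_
  let p := P.comap (algebraMap A R)
  let O := (finite_over (R := R) p).toFinset.filter (· ≠ P)
  have hO : ∀ Q ∈ O, ∃ g ∈ Q.asIdeal, g ∉ P.asIdeal := fun Q hQ => by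
    simp only [O, Finset.mem_filter, Set.Finite.mem_toFinset] at hQ
    exact exists_mem_notMem hQ.1 hQ.2
  choose g hg1 hg2 using hO
  let s : Finset R := O.attach.image fun Q : {x // x ∈ O} => g Q.1 Q.2
  obtain ⟨E, iE, hs, hloc, hE, hff⟩ := H24.EssEtale.exists_stage (A := A) s
  haveI := H24.EssEtale.isLocalHom hE
  haveI := (H24.EssEtale.iff_flat.1 hE).1
  haveI := (H24.EssEtale.iff_flat.1 hE).2.1
  haveI : IsNoetherianRing E := Algebra.EssFiniteType.isNoetherianRing A E
  let q : PrimeSpectrum E := P.comap (algebraMap E R)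
  haveI : q.asIdeal.LiesOver p.asIdeal := ⟨rfl⟩
  obtain ⟨Q, hQq, hdim⟩ := exists_dim_ge (A' := R) q
  obtain rfl : Q = P := by
    by_contra hne
    have hQp : Q.comap (algebraMap A R) = p :=
      congrArg (PrimeSpectrum.comap (algebraMap A E)) hQq
    have hQO : Q ∈ O := by
      simp only [O, Finset.mem_filter, Set.Finite.mem_toFinset]
      exact ⟨hQp, hne⟩
    have hgE : g Q hQO ∈ E := hs (Finset.mem_image.2 ⟨⟨Q, hQO⟩, Finset.mem_attach _ _, rfl⟩)
    exact hg2 Q hQO (show (⟨_, hgE⟩ : E) ∈ q.asIdeal by rw [← hQq]; exact hg1 Q hQO)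
  letI : Algebra k E := ((algebraMap A E).comp (algebraMap k A)).toAlgebra
  haveI : IsScalarTower k A E := IsScalarTower.of_algebraMap_eq' rfl
  exact (dim_quotient_eq k q.asIdeal p.asIdeal).symm.trans_le hdim

omit [IsNoetherianRing A] in
/-- The residue field extensions of a strict henselization are algebraic. -/
theorem isAlgebraic_residueField (P : PrimeSpectrum R) (p : Ideal A) [p.IsPrime]
    (hp : P.asIdeal.comap (algebraMap A R) = p) :
    letI := (Ideal.ResidueField.map p P.asIdeal (algebraMap A R) hp.symm).toAlgebra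
    Algebra.IsAlgebraic p.ResidueField P.asIdeal.ResidueField := by
  classical
  letI := (Ideal.ResidueField.map p P.asIdeal (algebraMap A R) hp.symm).toAlgebra
  have hR : ∀ z : R, IsIntegral p.ResidueField (algebraMap R P.asIdeal.ResidueField z) := by
    intro z
    obtain ⟨E, iE, hs, hloc, hE, hff⟩ := H24.EssEtale.exists_stage (A := A) {z}
    haveI : IsLocalHom (algebraMap A E) := H24.EssEtale.isLocalHom hE
    haveI := (H24.EssEtale.iff_flat.1 hE).1
    haveI := (H24.EssEtale.iff_flat.1 hE).2.1
    let q : PrimeSpectrum E := P.comap (algebraMap E R)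
    haveI : q.asIdeal.LiesOver p := ⟨hp.symm⟩
    haveI : Algebra.FormallyUnramified A (Localization.AtPrime q.asIdeal) :=
      Algebra.FormallyUnramified.comp A E _
    letI := Localization.AtPrime.algebraOfLiesOver p q.asIdeal
    let j : q.asIdeal.ResidueField →ₐ[p.ResidueField] P.asIdeal.ResidueField :=
      { Ideal.ResidueField.map q.asIdeal P.asIdeal (algebraMap E R) rfl with
        commutes' := fun c => by
          have : (Ideal.ResidueField.map q.asIdeal P.asIdeal (algebraMap E R) rfl).comp
              (algebraMap p.ResidueField q.asIdeal.ResidueField) =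
              algebraMap p.ResidueField P.asIdeal.ResidueField := by
            refine Ideal.ResidueField.ringHom_ext ?_
            refine RingHom.ext fun a => ?_
            have e1 : algebraMap p.ResidueField q.asIdeal.ResidueField (algebraMap A p.ResidueField a) =
                algebraMap E q.asIdeal.ResidueField (algebraMap A E a) :=
              ((IsScalarTower.algebraMap_apply A p.ResidueField q.asIdeal.ResidueField a).symm.trans
                (IsScalarTower.algebraMap_apply A E q.asIdeal.ResidueField a))
            show Ideal.ResidueField.map q.asIdeal P.asIdeal (algebraMap E R) rfl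
                (algebraMap p.ResidueField q.asIdeal.ResidueField (algebraMap A p.ResidueField a)) =
              Ideal.ResidueField.map p P.asIdeal (algebraMap A R) hp.symm (algebraMap A p.ResidueField a)
            rw [e1]
            exact (Ideal.ResidueField.map_algebraMap q.asIdeal P.asIdeal (algebraMap E R) rfl
              (algebraMap A E a)).trans
              (Ideal.ResidueField.map_algebraMap p P.asIdeal (algebraMap A R) hp.symm a).symm
          exact congr($this c) }
    have hz : z ∈ E := hs (by simp)
    have := (Algebra.IsIntegral.isIntegral (R := p.ResidueField)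
      (algebraMap E q.asIdeal.ResidueField ⟨z, hz⟩)).map j
    have hj : j (algebraMap E q.asIdeal.ResidueField ⟨z, hz⟩) = algebraMap R _ z :=
      Ideal.ResidueField.map_algebraMap q.asIdeal P.asIdeal (algebraMap E R) rfl ⟨z, hz⟩
    rwa [hj] at this
  refine ⟨fun x => ?_⟩
  obtain ⟨a, b, hb0, rfl⟩ := IsFractionRing.div_surjective (R ⧸ P.asIdeal) x
  obtain ⟨a, rfl⟩ := Ideal.Quotient.mk_surjective a
  obtain ⟨b, rfl⟩ := Ideal.Quotient.mk_surjective b
  rw [div_eq_mul_inv]
  exact ((hR a).mul (hR b).inv).isAlgebraic

end Groth.Agent.H20.StrictStage
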