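import Groth.Prelude.Def_Wider
import Mathlib.AlgebraicGeometry.Modules.Tilde
import Mathlib.RingTheory.Nilpotent.Lemmas

/-!
Sections of `M~` on the complement of a closed set.
-/

set_option autoImplicit false
set_option linter.style.haveILetI false

universe u

open CategoryTheory AlgebraicGeometry TopologicalSpace Opposite

namespace Groth.Agent.H20.TildeSections

variable {R : Type u} [CommRing R] (M : ModuleCat.{u} R)

theorem isLocalizedModule_toOpen {R : CommRingCat.{u}} (M : ModuleCat.{u} R) (f : R) :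
    IsLocalizedModule (Submonoid.powers f) (tilde.toOpen M (PrimeSpectrum.basicOpen f)).hom := inferInstance

/-- Sections of `M~`. -/
abbrev Sec (V : (Spec (CommRingCat.of R)).Opens) : Type u :=
  ↑((modulesSpecToSheaf.obj (tilde (R := CommRingCat.of R) M)).presheaf.obj (op V))

/-- Restriction of sections. -/
noncomputable abbrev res {V W : (Spec (CommRingCat.of R)).Opens} (h : W ≤ V) : Sec M V →ₗ[R] Sec M W :=
  ((modulesSpecToSheaf.obj (tilde (R := CommRingCat.of R) M)).presheaf.map (homOfLE h).op).hom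

/-- The canonical map to sections. -/
noncomputable abbrev toU (V : (Spec (CommRingCat.of R)).Opens) : M →ₗ[R] Sec M V :=
  (tilde.toOpen (R := CommRingCat.of R) M V).hom

/-- Basic opens. -/
abbrev D (g : R) : (Spec (CommRingCat.of R)).Opens := PrimeSpectrum.basicOpen g

noncomputable instance isLocalizedModule_toU (g : R) : IsLocalizedModule (Submonoid.powers g) (toU M (D g)) :=
  isLocalizedModule_toOpen (R := CommRingCat.of R) M g

theorem res_toU {V W : (Spec (CommRingCat.of R)).Opens} (h : W ≤ V) (m : M) :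
    res M h (toU M V m) = toU M W m := by
  have := tilde.toOpen_res (R := CommRingCat.of R) M V W (homOfLE h)
  exact LinearMap.congr_fun (congrArg ModuleCat.Hom.hom this) m

theorem res_res {U V W : (Spec (CommRingCat.of R)).Opens} (h : V ≤ U) (h' : W ≤ V) (s : Sec M U) :
    res M h' (res M h s) = res M (h'.trans h) s := by
  have := ((modulesSpecToSheaf.obj (tilde (R := CommRingCat.of R) M)).presheaf.map_comp (homOfLE h).op (homOfLE h').op)
  exact (LinearMap.congr_fun (congrArg ModuleCat.Hom.hom this) s).symm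

variable (a : Ideal R)

theorem basicOpen_le {g : R} (hg : g ∈ a) :
    D g ≤ LocCoh.puncturedOpen R a := fun p hp hpa => hp (hpa hg)

theorem ext_of_generators {W : (Spec (CommRingCat.of R)).Opens} (s t : Sec M W) (G : Set R)
    (hGW : ∀ g ∈ G, D g ≤ W) (hW : ∀ p ∈ W, ∃ g ∈ G, g ∉ p.asIdeal)
    (h : ∀ g (hg : g ∈ G), res M (hGW g hg) s = res M (hGW g hg) t) : s = t := by
  refine TopCat.Presheaf.IsSheaf.section_ext (modulesSpecToSheaf.obj (tilde (R := CommRingCat.of R) M)).2
    fun x hx => ?_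
  obtain ⟨g, hg, hgx⟩ := hW x hx
  exact ⟨_, hGW g hg, hgx, h g hg⟩

theorem exists_gen_notMem (G : Set R) (hG : Ideal.span G = a) (p : PrimeSpectrum R)
    (hp : p ∈ LocCoh.puncturedOpen R a) : ∃ g ∈ G, g ∉ p.asIdeal := by
  by_contra hcon
  push Not at hcon
  exact hp (show (a : Set R) ⊆ p.asIdeal from hG ▸ Ideal.span_le.2 hcon)

theorem isPowerTorsion_of_forall {N : Type u} [AddCommGroup N] [Module R N] (hfg : a.FG) {x : N}
    (h : ∀ g ∈ a, ∃ n : ℕ, g ^ n • x = 0) : ∃ n : ℕ, ∀ c ∈ a ^ n, c • x = 0 := by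
  have hle : a ≤ Ideal.radical (R := R) (LinearMap.ker (LinearMap.toSpanSingleton R N x)) := fun g hg => by
    obtain ⟨n, hn⟩ := h g hg
    exact ⟨n, hn⟩
  obtain ⟨n, hn⟩ := Ideal.exists_pow_le_of_le_radical_of_fg hle hfg
  exact ⟨n, fun c hc => hn hc⟩

theorem ker_toU [IsNoetherianRing R] :
    LinearMap.ker (toU M (LocCoh.puncturedOpen R a)) = ⨆ n : ℕ, LocCoh.torsionBy (a ^ n) M := by
  refine le_antisymm (fun m hm => ?_) (iSup_le fun n m hm => ?_)
  · obtain ⟨n, hn⟩ := isPowerTorsion_of_forall a (IsNoetherian.noetherian a) (x := m) fun g hg => by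
      have h0 : toU M (D g) m = 0 := by
        rw [← res_toU M (basicOpen_le a hg), LinearMap.mem_ker.1 hm, map_zero]
      obtain ⟨⟨_, k, rfl⟩, hk⟩ := (IsLocalizedModule.eq_zero_iff (Submonoid.powers g) (toU M (D g))).1 h0
      exact ⟨k, hk⟩
    exact Submodule.mem_iSup_of_mem n ((Submodule.mem_torsionBySet_iff _ _).2 fun c => hn c.1 c.2)
  · refine LinearMap.mem_ker.2 (ext_of_generators M _ _ (a : Set R) (fun g hg => basicOpen_le a hg)
      (exists_gen_notMem a _ (Ideal.span_eq a)) fun g hg => ?_)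
    rw [res_toU, map_zero, IsLocalizedModule.eq_zero_iff (Submonoid.powers g)]
    exact ⟨⟨g ^ n, n, rfl⟩, (Submodule.mem_torsionBySet_iff _ _).1 hm ⟨g ^ n, Ideal.pow_mem_pow hg n⟩⟩

theorem torsion_sec :
    (⨆ n : ℕ, LocCoh.torsionBy (a ^ n) (Sec M (LocCoh.puncturedOpen R a))) = ⊥ := by
  rw [eq_bot_iff]
  refine iSup_le fun n s hs => ?_
  rw [Submodule.mem_bot]
  refine ext_of_generators M _ _ (a : Set R) (fun g hg => basicOpen_le a hg)
    (exists_gen_notMem a _ (Ideal.span_eq a)) fun g hg => ?_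
  rw [map_zero]
  have h1 : g ^ n • res M (basicOpen_le a hg) s = 0 := by
    rw [← map_smul, (Submodule.mem_torsionBySet_iff _ _).1 hs ⟨g ^ n, Ideal.pow_mem_pow hg n⟩, map_zero]
  have h2 := IsLocalizedModule.map_units (toU M (D g)) (⟨g ^ n, n, rfl⟩ : Submonoid.powers g)
  rw [Module.End.isUnit_iff] at h2
  exact h2.1 (by rw [Module.algebraMap_end_apply, map_zero]; exact h1)

theorem powerTorsion_coker [IsNoetherianRing R] :
    LocCoh.IsPowerTorsion a (Sec M (LocCoh.puncturedOpen R a) ⧸ LinearMap.range (toU M (LocCoh.puncturedOpen R a))) := by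
  classical
  intro q
  obtain ⟨s, rfl⟩ := Submodule.Quotient.mk_surjective _ q
  refine isPowerTorsion_of_forall a (IsNoetherian.noetherian a) fun g hg => ?_
  obtain ⟨G, hG⟩ := IsNoetherian.noetherian a
  have hGa : ∀ h ∈ G, h ∈ a := fun h hh => hG ▸ Submodule.subset_span hh
  obtain ⟨⟨m, ⟨_, n, rfl⟩⟩, hmn⟩ :=
    IsLocalizedModule.surj (Submonoid.powers g) (toU M (D g)) (res M (basicOpen_le a hg) s)
  replace hmn : g ^ n • res M (basicOpen_le a hg) s = toU M (D g) m := hmn
  let t := g ^ n • s - toU M (LocCoh.puncturedOpen R a) m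
  have ht : res M (basicOpen_le a hg) t = 0 := by
    simp only [t, map_sub, map_smul, res_toU]
    rw [hmn]
    exact sub_self _
  have key : ∀ h : {h // h ∈ G}, ∃ k : ℕ, g ^ k • res M (basicOpen_le a (hGa h h.2)) t = 0 := by
    rintro ⟨h, hh⟩
    obtain ⟨⟨m', ⟨_, l, rfl⟩⟩, hml⟩ :=
      IsLocalizedModule.surj (Submonoid.powers h) (toU M (D h)) (res M (basicOpen_le a (hGa h hh)) t)
    replace hml : h ^ l • res M (basicOpen_le a (hGa h hh)) t = toU M (D h) m' := hml
    have hle1 : D (g * h) ≤ D h := PrimeSpectrum.basicOpen_mul_le_right g h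
    have hle2 : D (g * h) ≤ D g := PrimeSpectrum.basicOpen_mul_le_left g h
    have h0 : toU M (D (g * h)) m' = 0 := by
      rw [← res_toU M hle1, ← hml, map_smul, res_res]
      rw [← res_res M (basicOpen_le a hg) hle2, ht, map_zero, smul_zero]
    obtain ⟨⟨_, k, rfl⟩, hk⟩ := (IsLocalizedModule.eq_zero_iff (Submonoid.powers (g * h)) (toU M (D (g * h)))).1 h0
    change (g * h) ^ k • m' = 0 at hk
    refine ⟨k, ?_⟩
    have hu := IsLocalizedModule.map_units (toU M (D h)) (⟨h ^ (k + l), k + l, rfl⟩ : Submonoid.powers h)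
    rw [Module.End.isUnit_iff] at hu
    refine hu.1 ?_
    rw [Module.algebraMap_end_apply, Module.algebraMap_end_apply, smul_zero, smul_smul,
      show h ^ (k + l) * g ^ k = (g * h) ^ k * h ^ l by ring, mul_smul, hml, ← map_smul, hk, map_zero]
  choose k hk using key
  let K := Finset.univ.sup k
  refine ⟨K + n, ?_⟩
  rw [← Submodule.Quotient.mk_smul, Submodule.Quotient.mk_eq_zero]
  refine ⟨g ^ K • m, ?_⟩
  have : g ^ K • t = 0 := by
    refine ext_of_generators M _ _ (G : Set R) (fun h hh => basicOpen_le a (hGa h hh))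
      (exists_gen_notMem a _ hG) fun h hh => ?_
    rw [map_smul, map_zero]
    obtain ⟨d, hd⟩ := Nat.exists_eq_add_of_le (Finset.le_sup (f := k) (Finset.mem_univ (⟨h, hh⟩ : {h // h ∈ G})))
    rw [show K = d + k ⟨h, hh⟩ by rw [add_comm]; exact hd, pow_add, mul_smul, hk ⟨h, hh⟩, smul_zero]
  rw [smul_sub, sub_eq_zero, smul_smul, ← pow_add, ← map_smul] at this
  exact this.symm

theorem eq_zero_of_le_basicOpen {g : R} {n : ℕ} {V : (Spec (CommRingCat.of R)).Opens} (hV : V = D g) (x : Sec M V)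
    (h : g ^ n • x = 0) : x = 0 := by
  subst hV
  have h2 := IsLocalizedModule.map_units (toU M (D g)) (⟨g ^ n, n, rfl⟩ : Submonoid.powers g)
  rw [Module.End.isUnit_iff] at h2
  exact h2.1 (by rw [Module.algebraMap_end_apply, map_zero]; exact h)

/-- A section vanishing on `D(g)` is killed by a power of `g`. -/
theorem exists_pow_smul [IsNoetherianRing R] {W : (Spec (CommRingCat.of R)).Opens} (t : Sec M W) {g : R}
    (hg : D g ≤ W) (ht : res M hg t = 0) : ∃ k : ℕ, g ^ k • t = 0 := by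
  classical
  have hc : IsCompact (W.carrier : Set (PrimeSpectrum R)) := NoetherianSpace.isCompact (α := PrimeSpectrum R) _
  obtain ⟨G, hG⟩ : ∃ G : Finset R, (∀ h ∈ G, D h ≤ W) ∧ ∀ p ∈ W, ∃ h ∈ G, h ∉ p.asIdeal := by
    have hcov : (W.carrier : Set (PrimeSpectrum R)) ⊆ ⋃ h : {h : R // D h ≤ W}, ((D h.1).carrier : Set (PrimeSpectrum R)) := fun p hp => by
      obtain ⟨_, ⟨_, ⟨h, rfl⟩, rfl⟩, hph, hhW⟩ :=
        PrimeSpectrum.isBasis_basic_opens.exists_subset_of_mem_open hp W.2
      exact Set.mem_iUnion.2 ⟨⟨h, hhW⟩, hph⟩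
    obtain ⟨T, hT⟩ := hc.elim_finite_subcover (fun h : {h : R // D h ≤ W} => ((D h.1).carrier : Set (PrimeSpectrum R))) (fun h => (D h.1).2) hcov
    refine ⟨T.image Subtype.val, fun h hh => ?_, fun p hp => ?_⟩
    · obtain ⟨x, -, rfl⟩ := Finset.mem_image.1 hh
      exact x.2
    · obtain ⟨x, hx, hpx⟩ := Set.mem_iUnion₂.1 (hT hp)
      exact ⟨x.1, Finset.mem_image_of_mem _ hx, hpx⟩
  have key : ∀ h : {h // h ∈ G}, ∃ k : ℕ, g ^ k • res M (hG.1 h h.2) t = 0 := by
    rintro ⟨h, hh⟩
    obtain ⟨⟨m', ⟨_, l, rfl⟩⟩, hml⟩ :=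
      IsLocalizedModule.surj (Submonoid.powers h) (toU M (D h)) (res M (hG.1 h hh) t)
    replace hml : h ^ l • res M (hG.1 h hh) t = toU M (D h) m' := hml
    have hle1 : D (g * h) ≤ D h := PrimeSpectrum.basicOpen_mul_le_right g h
    have hle2 : D (g * h) ≤ D g := PrimeSpectrum.basicOpen_mul_le_left g h
    have h0 : toU M (D (g * h)) m' = 0 := by
      rw [← res_toU M hle1, ← hml, map_smul, res_res]
      rw [← res_res M hg hle2, ht, map_zero, smul_zero]
    obtain ⟨⟨_, k, rfl⟩, hk⟩ := (IsLocalizedModule.eq_zero_iff (Submonoid.powers (g * h)) (toU M (D (g * h)))).1 h0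
    change (g * h) ^ k • m' = 0 at hk
    refine ⟨k, eq_zero_of_le_basicOpen M rfl _ (n := k + l) ?_⟩
    rw [smul_smul, show h ^ (k + l) * g ^ k = (g * h) ^ k * h ^ l by ring, mul_smul, hml, ← map_smul, hk, map_zero]
  choose k hk using key
  refine ⟨Finset.univ.sup k, ext_of_generators M _ _ (G : Set R) hG.1 hG.2 fun h hh => ?_⟩
  rw [map_smul, map_zero]
  obtain ⟨d, hd⟩ := Nat.exists_eq_add_of_le (Finset.le_sup (f := k) (Finset.mem_univ (⟨h, hh⟩ : {h // h ∈ G})))
  rw [show Finset.univ.sup k = d + k ⟨h, hh⟩ by rw [add_comm]; exact hd, pow_add, mul_smul, hk ⟨h, hh⟩, smul_zero]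

variable [IsNoetherianRing R] {W : (Spec (CommRingCat.of R)).Opens} (hUW : LocCoh.puncturedOpen R a ≤ W)

theorem ker_res : LinearMap.ker (res M hUW) = ⨆ n : ℕ, LocCoh.torsionBy (a ^ n) (Sec M W) := by
  refine le_antisymm (fun s hs => ?_) (iSup_le fun n s hs => ?_)
  · obtain ⟨n, hn⟩ := isPowerTorsion_of_forall a (IsNoetherian.noetherian a) (x := s) fun g hg =>
      exists_pow_smul M s ((basicOpen_le a hg).trans hUW) (by
        rw [← res_res M hUW (basicOpen_le a hg), LinearMap.mem_ker.1 hs, map_zero])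
    exact Submodule.mem_iSup_of_mem n ((Submodule.mem_torsionBySet_iff _ _).2 fun c => hn c.1 c.2)
  · have h := torsion_sec M a
    rw [eq_bot_iff] at h
    refine LinearMap.mem_ker.2 ((Submodule.mem_bot R).1 (h (Submodule.mem_iSup_of_mem n ?_)))
    refine (Submodule.mem_torsionBySet_iff _ _).2 fun c => ?_
    rw [← map_smul, (Submodule.mem_torsionBySet_iff _ _).1 hs c, map_zero]

theorem powerTorsion_coker_res :
    LocCoh.IsPowerTorsion a (Sec M (LocCoh.puncturedOpen R a) ⧸ LinearMap.range (res M hUW)) := by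
  intro q
  obtain ⟨s, rfl⟩ := Submodule.Quotient.mk_surjective _ q
  obtain ⟨n, hn⟩ := powerTorsion_coker M a (Submodule.Quotient.mk s)
  refine ⟨n, fun c hc => ?_⟩
  have := hn c hc
  rw [← Submodule.Quotient.mk_smul, Submodule.Quotient.mk_eq_zero] at this ⊢
  obtain ⟨m, hm⟩ := this
  exact ⟨toU M W m, by rw [res_toU]; exact hm⟩

end Groth.Agent.H20.TildeSections
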