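import Mathlib.RingTheory.Localization.AtPrime.Basic
import Mathlib.RingTheory.Localization.FractionRing
import Mathlib.RingTheory.Localization.Integral
import Mathlib.RingTheory.IntegralClosure.IntegrallyClosed
import Mathlib.RingTheory.Polynomial.ScaleRoots
import Mathlib.RingTheory.Valuation.ValuationRing
import Mathlib.Algebra.Ring.Pi

/-!
# Localizations of infinite products at primes
-/

set_option autoImplicit false

universe u

namespace Groth.Agent.H20.UltraProd

variable {ι : Type u} (R : ι → Type u) [∀ i, CommRing (R i)] (P : Ideal (∀ i, R i)) [P.IsPrime]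

open scoped Classical in
/-- The idempotent of a subset. -/
noncomputable def ind (s : Set ι) : ∀ i, R i := fun i => if i ∈ s then 1 else 0

theorem ind_mem_or (s : Set ι) : ind R s ∉ P ∨ ind R sᶜ ∉ P := by
  by_contra h
  push Not at h
  refine ‹P.IsPrime›.ne_top ((Ideal.eq_top_iff_one _).mpr ?_)
  convert P.add_mem h.1 h.2
  funext i
  by_cases hi : i ∈ s <;> simp [ind, hi]

theorem algebraMap_eq_zero_of {a : ∀ i, R i} {s : Set ι} (hs : ind R s ∉ P) (h : ∀ i ∈ s, a i = 0) :
    algebraMap (∀ i, R i) (Localization.AtPrime P) a = 0 := by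
  refine (IsLocalization.map_eq_zero_iff P.primeCompl _ _).mpr ⟨⟨ind R s, hs⟩, ?_⟩
  funext i
  by_cases hi : i ∈ s <;> simp [ind, hi, h]

theorem isUnit_algebraMap {u : ∀ i, R i} (hu : u ∉ P) :
    IsUnit (algebraMap (∀ i, R i) (Localization.AtPrime P) u) :=
  IsLocalization.map_units (M := P.primeCompl) (Localization.AtPrime P) ⟨u, hu⟩

theorem isDomain [∀ i, IsDomain (R i)] : IsDomain (Localization.AtPrime P) := by
  have : NoZeroDivisors (Localization.AtPrime P) := by
    refine ⟨fun {x y} hxy => ?_⟩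
    obtain ⟨⟨a, s⟩, rfl⟩ := IsLocalization.exists_mk'_eq P.primeCompl x |> fun ⟨a, s, h⟩ =>
      (⟨(a, s), h⟩ : ∃ z : (∀ i, R i) × P.primeCompl, IsLocalization.mk' _ z.1 z.2 = x)
    obtain ⟨b, t, rfl⟩ := IsLocalization.exists_mk'_eq P.primeCompl y
    rw [← IsLocalization.mk'_mul, IsLocalization.mk'_eq_zero_iff] at hxy
    obtain ⟨c, hc⟩ := hxy
    rcases ind_mem_or R P {i | a i = 0} with h | h
    · left
      rw [IsLocalization.mk'_eq_mul_mk'_one, algebraMap_eq_zero_of R P h (fun i hi => hi), zero_mul]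
    · right
      rw [IsLocalization.mk'_eq_mul_mk'_one]
      have h0 : algebraMap (∀ i, R i) (Localization.AtPrime P) ((c : ∀ i, R i) * b) = 0 :=
        algebraMap_eq_zero_of R P h fun i hi => by
          have := congrFun hc i
          simp only [Pi.mul_apply, Pi.zero_apply] at this
          rw [mul_left_comm] at this
          exact (mul_eq_zero.mp this).resolve_left hi
      rw [map_mul] at h0
      rw [(isUnit_algebraMap R P c.2).mul_right_eq_zero.mp h0, zero_mul]
  exact NoZeroDivisors.to_isDomain _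

theorem preValuationRing [∀ i, IsDomain (R i)] [∀ i, ValuationRing (R i)] :
    PreValuationRing (Localization.AtPrime P) := by
  classical
  refine ⟨fun x y => ?_⟩
  obtain ⟨a, s, rfl⟩ := IsLocalization.exists_mk'_eq P.primeCompl x
  obtain ⟨b, t, rfl⟩ := IsLocalization.exists_mk'_eq P.primeCompl y
  have key : ∀ (a b : ∀ i, R i) (s t : P.primeCompl), ind R {i | a i ∣ b i} ∉ P →
      ∃ c : Localization.AtPrime P,
        IsLocalization.mk' _ a s * c = IsLocalization.mk' (Localization.AtPrime P) b t := by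
    intro a b s t h
    refine ⟨IsLocalization.mk' (Localization.AtPrime P)
      ((fun i => if hd : a i ∣ b i then hd.choose else 0) * (s : ∀ i, R i)) t, ?_⟩
    rw [← IsLocalization.mk'_mul, IsLocalization.mk'_eq_iff_eq]
    refine (IsLocalization.eq_iff_exists P.primeCompl _).mpr ⟨⟨ind R {i | a i ∣ b i}, h⟩, ?_⟩
    funext i
    by_cases hi : a i ∣ b i
    · simp only [Pi.mul_apply, ind, Set.mem_ofPred_eq, hi, if_true, dif_pos, one_mul,
        Submonoid.coe_mul]
      conv_rhs => rw [hi.choose_spec]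
      ring
    · simp [ind, hi]
  rcases ind_mem_or R P {i | a i ∣ b i} with h | h
  · obtain ⟨c, hc⟩ := key a b s t h
    exact ⟨c, Or.inl hc⟩
  · have h' : ind R {i | b i ∣ a i} ∉ P := fun hm => h (by
      have he : ind R {i | a i ∣ b i}ᶜ = ind R {i | a i ∣ b i}ᶜ * ind R {i | b i ∣ a i} := by
        funext i
        by_cases hi : a i ∣ b i
        · simp [ind, hi]
        · simp [ind, hi, (ValuationRing.dvd_total (a i) (b i)).resolve_left hi]
      rw [he]; exact P.mul_mem_left _ hm)
    obtain ⟨c, hc⟩ := key b a t s h'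
    exact ⟨c, Or.inr hc⟩

theorem isIntegrallyClosed [∀ i, IsDomain (R i)] [∀ i, IsIntegrallyClosed (R i)] :
    IsIntegrallyClosed (Localization.AtPrime P) := by
  classical
  have := isDomain R P
  let Rp := Localization.AtPrime P
  let K := FractionRing Rp
  rw [isIntegrallyClosed_iff K]
  intro x hx
  obtain ⟨s, hs⟩ := IsIntegral.exists_multiple_integral_of_isLocalization (R := ∀ i, R i)
    P.primeCompl x hx
  have halg : ∀ r, algebraMap (∀ i, R i) K r = algebraMap Rp K (algebraMap (∀ i, R i) Rp r) :=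
    fun r => IsScalarTower.algebraMap_apply _ _ _ r
  suffices h : ∃ y, algebraMap Rp K y = algebraMap (∀ i, R i) K (s : ∀ i, R i) * x by
    obtain ⟨y, hy⟩ := h
    obtain ⟨v, hv⟩ := isUnit_algebraMap R P s.2
    refine ⟨↑v⁻¹ * y, ?_⟩
    rw [map_mul, hy, halg, ← hv, ← mul_assoc, ← map_mul, Units.inv_mul, map_one, one_mul]
  rw [Submonoid.smul_def, Algebra.smul_def] at hs
  generalize algebraMap (∀ i, R i) K (s : ∀ i, R i) * x = z at hs ⊢
  obtain ⟨num, den, hden, rfl⟩ := IsFractionRing.div_surjective Rp z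
  obtain ⟨a, t, rfl⟩ := IsLocalization.exists_mk'_eq P.primeCompl num
  obtain ⟨b, w, rfl⟩ := IsLocalization.exists_mk'_eq P.primeCompl den
  set A : ∀ i, R i := a * (w : ∀ i, R i)
  set B : ∀ i, R i := b * (t : ∀ i, R i)
  have hb0 : algebraMap (∀ i, R i) Rp b ≠ 0 := fun h0 =>
    nonZeroDivisors.ne_zero hden (by rw [IsLocalization.mk'_eq_mul_mk'_one, h0, zero_mul])
  have hB0 : algebraMap (∀ i, R i) Rp B ≠ 0 := by
    rw [map_mul]; exact mul_ne_zero hb0 (isUnit_algebraMap R P t.2).ne_zero
  have hBK : algebraMap (∀ i, R i) K B ≠ 0 := by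
    rwa [halg, Ne, map_eq_zero_iff _ (IsFractionRing.injective Rp K)]
  have hz : algebraMap Rp K (IsLocalization.mk' Rp a t) / algebraMap Rp K (IsLocalization.mk' Rp b w) =
      algebraMap (∀ i, R i) K A / algebraMap (∀ i, R i) K B := by
    rw [div_eq_div_iff ((map_ne_zero_iff _ (IsFractionRing.injective Rp K)).mpr
      (nonZeroDivisors.ne_zero hden)) hBK, halg A, halg B, ← map_mul, ← map_mul,
      IsLocalization.mk'_eq_mul_mk'_one a t, IsLocalization.mk'_eq_mul_mk'_one b w]
    congr 1
    simp only [A, B, map_mul]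
    have e1 : algebraMap (∀ i, R i) Rp (t : ∀ i, R i) * IsLocalization.mk' Rp (1 : ∀ i, R i) t = 1 := by
      rw [IsLocalization.mk'_spec', map_one]
    have e2 : algebraMap (∀ i, R i) Rp (w : ∀ i, R i) * IsLocalization.mk' Rp (1 : ∀ i, R i) w = 1 := by
      rw [IsLocalization.mk'_spec', map_one]
    linear_combination (algebraMap (∀ i, R i) Rp a * algebraMap (∀ i, R i) Rp b) * e1 -
      (algebraMap (∀ i, R i) Rp a * algebraMap (∀ i, R i) Rp b) * e2
  rw [hz] at hs ⊢
  obtain ⟨p, hp, hpe⟩ := hs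
  have h0 : algebraMap (∀ i, R i) Rp ((p.scaleRoots B).eval A) = 0 := by
    apply IsFractionRing.injective Rp K
    rw [map_zero, ← halg, ← Polynomial.eval₂_at_apply,
      show algebraMap (∀ i, R i) K A = algebraMap (∀ i, R i) K B *
        (algebraMap (∀ i, R i) K A / algebraMap (∀ i, R i) K B) from (mul_div_cancel₀ _ hBK).symm,
      Polynomial.scaleRoots_eval₂_mul, hpe, mul_zero]
  obtain ⟨u, hu⟩ := (IsLocalization.map_eq_zero_iff P.primeCompl _ _).mp h0
  let S : Set ι := {i | (u : ∀ i, R i) i ≠ 0 ∧ B i ≠ 0}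
  have hS : ind R S ∉ P := fun hmem => hB0 (algebraMap_eq_zero_of R P (s := {i | B i = 0}) (fun hm => by
    refine u.2 ?_
    have : (u : ∀ i, R i) = (u : ∀ i, R i) * ind R S + (u : ∀ i, R i) * ind R {i | B i = 0} := by
      funext i
      by_cases h1 : (u : ∀ i, R i) i = 0
      · simp [h1]
      · by_cases h2 : B i = 0 <;> simp [ind, S, h1, h2]
    rw [this]
    exact P.add_mem (P.mul_mem_left _ hmem) (P.mul_mem_left _ hm)) fun i hi => hi)
  have hex : ∀ i, ∃ d : R i, i ∈ S → d * B i = A i := by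
    intro i
    by_cases hi : i ∈ S
    swap
    · exact ⟨0, fun h => absurd h hi⟩
    have h1 : ((p.scaleRoots B).eval A) i = 0 := by
      have := congrFun hu i
      simp only [Pi.mul_apply, Pi.zero_apply] at this
      exact (mul_eq_zero.mp this).resolve_left hi.1
    have h2 : ((p.map (Pi.evalRingHom R i)).scaleRoots (B i)).eval (A i) = 0 := by
      rw [show B i = Pi.evalRingHom R i B from rfl,
        ← Polynomial.map_scaleRoots _ _ _ (by simp [hp.leadingCoeff]), Polynomial.eval_map,
        show A i = Pi.evalRingHom R i A from rfl, Polynomial.eval₂_at_apply]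
      exact h1
    let L := FractionRing (R i)
    have hBL : algebraMap (R i) L (B i) ≠ 0 :=
      (map_ne_zero_iff _ (IsFractionRing.injective (R i) L)).mpr hi.2
    have h3 : IsIntegral (R i) (algebraMap (R i) L (A i) / algebraMap (R i) L (B i)) := by
      refine ⟨p.map (Pi.evalRingHom R i), hp.map _, ?_⟩
      have := Polynomial.scaleRoots_eval₂_mul (p := p.map (Pi.evalRingHom R i)) (algebraMap (R i) L)
        (algebraMap (R i) L (A i) / algebraMap (R i) L (B i)) (B i)
      rw [mul_div_cancel₀ _ hBL, Polynomial.eval₂_at_apply, h2, map_zero] at this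
      exact (mul_eq_zero.mp this.symm).resolve_left (pow_ne_zero _ hBL)
    obtain ⟨d, hd⟩ := IsIntegrallyClosed.algebraMap_eq_of_integral h3
    refine ⟨d, fun _ => IsFractionRing.injective (R i) L ?_⟩
    rw [map_mul, hd, div_mul_cancel₀ _ hBL]
  choose d hd using hex
  refine ⟨algebraMap (∀ i, R i) Rp d, ?_⟩
  rw [eq_div_iff hBK, halg A, halg B, ← map_mul, ← map_mul]
  congr 1
  refine (IsLocalization.eq_iff_exists P.primeCompl _).mpr ⟨⟨ind R S, hS⟩, ?_⟩
  funext i
  by_cases hi : i ∈ S <;> simp [ind, hi, hd i]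

end Groth.Agent.H20.UltraProd
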