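import Groth.Agent.H20.ValLoc
import Groth.Agent.H20.EssAffine
import Groth.Agent.H20.FlatTor
import Mathlib.RingTheory.Nakayama

/-!
Over a valuation ring: maps into flat modules which are injective modulo the maximal ideal are
injective with flat cokernel.
-/

set_option autoImplicit false

universe u

namespace Groth.Agent.H20.ValFlat

open IsLocalRing

theorem injective_and_flat_coker {A B : Type u} [CommRing A] [IsDomain A] [ValuationRing A] [CommRing B] [IsLocalRing B]
    [Algebra A B] [IsLocalHom (algebraMap A B)] [Algebra.EssFiniteType A B]
    {N M : Type u} [AddCommGroup N] [Module B N] [Module A N] [IsScalarTower A B N] [Module.Finite B N]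
    [AddCommGroup M] [Module B M] [Module A M] [IsScalarTower A B M] [Module.Finite B M] [Module.Flat A M]
    (u : N →ₗ[B] M) (hu : ∀ x : N, u x ∈ maximalIdeal A • (⊤ : Submodule A M) → x ∈ maximalIdeal A • (⊤ : Submodule A N)) :
    Function.Injective u ∧ Module.Flat A (M ⧸ LinearMap.range u) := by
  classical
  obtain ⟨d, q, _, hq, ψ, hψ⟩ := EssAffine.exists_localization_surjection A B
  let T := Localization.AtPrime q
  letI : Algebra T B := ψ.toRingHom.toAlgebra
  haveI : IsScalarTower A T B := IsScalarTower.of_algebraMap_eq fun a => (ψ.commutes a).symm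
  haveI : Module.Finite T B := Module.Finite.of_surjective (Algebra.linearMap T B) hψ
  letI : Module T N := Module.compHom N (algebraMap T B)
  haveI : IsScalarTower T B N := IsScalarTower.of_algebraMap_smul fun _ _ => rfl
  haveI : IsScalarTower A T N := IsScalarTower.of_algebraMap_smul fun a x => by
    show algebraMap T B (algebraMap A T a) • x = a • x
    rw [← IsScalarTower.algebraMap_apply, algebraMap_smul]
  letI : Module T M := Module.compHom M (algebraMap T B)
  haveI : IsScalarTower T B M := IsScalarTower.of_algebraMap_smul fun _ _ => rfl
  haveI : IsScalarTower A T M := IsScalarTower.of_algebraMap_smul fun a x => by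
    show algebraMap T B (algebraMap A T a) • x = a • x
    rw [← IsScalarTower.algebraMap_apply, algebraMap_smul]
  haveI : Module.Finite T N := Module.Finite.trans B N
  haveI : Module.Finite T M := Module.Finite.trans B M
  haveI : Module.FinitePresentation T M := ValLoc.finitePresentation_loc q fun a x => ValLoc.torsionFree_of_flat a x
  let uT : N →ₗ[T] M := u.restrictScalars T
  refine ⟨?_, ?_⟩
  · let f := uT.rangeRestrict
    have hf : Function.Surjective f := uT.surjective_rangeRestrict
    have htf : ∀ (a : A) (y : LinearMap.range uT), a ≠ 0 → a • y = 0 → y = 0 := fun a y ha hy =>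
      Subtype.ext (ValLoc.torsionFree_of_flat a (y : M) ha (congrArg Subtype.val hy))
    haveI : Module.Finite T (LinearMap.range uT) := Module.Finite.range uT
    haveI : Module.FinitePresentation T (LinearMap.range uT) := ValLoc.finitePresentation_loc q (M := ↥(LinearMap.range uT)) htf
    haveI : Module.Flat A (LinearMap.range uT) := ValLoc.flat_of_torsionFree (M := ↥(LinearMap.range uT)) htf
    have hK : (LinearMap.ker f).FG := @Module.FinitePresentation.fg_ker T N (LinearMap.range uT) _ _ _ _ _ _ _ f hf
    let I : Ideal T := (maximalIdeal A).map (algebraMap A T)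
    have hle : LinearMap.ker f ≤ I • LinearMap.ker f := fun x hx => by
      have hx' : u x = 0 := by
        have := congrArg Subtype.val (LinearMap.mem_ker.mp hx)
        exact this
      let fA : N →ₗ[A] LinearMap.range uT :=
        { toFun := f
          map_add' := map_add f
          map_smul' := fun a y => Subtype.ext ((u.restrictScalars A).map_smul a y) }
      have hx0 : fA x = 0 := LinearMap.mem_ker.mp hx
      have h1 := ValLoc.mem_smul_ker_of_flat (X := N) (Y := ↥(LinearMap.range uT)) (maximalIdeal A) fA hf (z := x) hx0
        (hu x (by rw [hx']; exact zero_mem _))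
      refine (Submodule.smul_induction_on h1 (fun a ha y hy => ?_) fun _ _ => add_mem :
        x ∈ I • LinearMap.ker f)
      rw [← algebraMap_smul T a y]
      exact Submodule.smul_mem_smul (Ideal.mem_map_of_mem _ ha) hy
    have hI : I ≤ Ideal.jacobson ⊥ := by
      rw [IsLocalRing.jacobson_eq_maximalIdeal ⊥ bot_ne_top, Ideal.map_le_iff_le_comap]
      intro a ha
      have h : (MvPolynomial.C a : MvPolynomial (Fin d) A) ∈ q := by
        rw [← hq] at ha; exact ha
      rw [Ideal.mem_comap, IsScalarTower.algebraMap_apply A (MvPolynomial (Fin d) A) T]
      exact (IsLocalization.AtPrime.to_map_mem_maximal_iff T q _).mpr h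
    have hbot := Submodule.eq_bot_of_le_smul_of_le_jacobson_bot I _ hK hle hI
    intro x y hxy
    have : x - y ∈ LinearMap.ker f := by
      refine LinearMap.mem_ker.mpr (Subtype.ext ?_)
      show u (x - y) = 0
      rw [map_sub, hxy, sub_self]
    rw [hbot, Submodule.mem_bot] at this
    exact sub_eq_zero.mp this
  · have h := FlatTor.flat_coker q hq uT hu
    have he : LinearMap.range uT = (LinearMap.range u).restrictScalars T := LinearMap.range_restrictScalars u
    exact Module.Flat.of_linearEquiv (((Submodule.quotEquivOfEq _ _ he).trans
      (Submodule.Quotient.restrictScalarsEquiv T (LinearMap.range u))).symm.restrictScalars A)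

end Groth.Agent.H20.ValFlat
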