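import Mathlib.RingTheory.Valuation.ValuationSubring
import Mathlib.RingTheory.Localization.AtPrime.Basic
import Mathlib.RingTheory.Spectrum.Maximal.Basic
import Mathlib.RingTheory.LocalRing.ResidueField.Basic
import Mathlib.GroupTheory.OrderOfElement
import Mathlib.Algebra.Field.GeomSum
import Mathlib.Data.Nat.Prime.Infinite
import Mathlib.RingTheory.Ideal.Prime

/-!
Finite intersections of valuation subrings (Nagata's lemma).
-/

universe u

open Finset

namespace Groth.Agent.H20.ValIntersection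

theorem exists_bound {F : Type u} [Field F] (r : F) :
    ∃ B : ℕ, ∀ m : ℕ, m.Prime → B < m → ∑ j ∈ range m, r ^ j ≠ 0 := by
  by_cases hr : r = 1
  · refine ⟨ringChar F, fun m hm hB h => ?_⟩
    simp [hr] at h
    have hdvd : ringChar F ∣ m := (ringChar.spec F m).mp h
    rcases (Nat.dvd_prime hm).mp hdvd with h1 | h1
    · exact CharP.ringChar_ne_one h1
    · omega
  · refine ⟨orderOf r, fun m hm hB h => ?_⟩
    have h1 := geom_sum_mul r m
    rw [h, zero_mul, eq_comm, sub_eq_zero] at h1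
    rcases (Nat.dvd_prime hm).mp (orderOf_dvd_of_pow_eq_one h1) with h2 | h2
    · exact hr (orderOf_eq_one_iff.mp h2)
    · omega

variable {K : Type u} [Field K] {ι : Type*} [Finite ι] (W : ι → ValuationSubring K)

/-- The intersection of the valuation subrings. -/
abbrev inter : Subring K := ⨅ i, (W i).toSubring

theorem mem_inter {x : K} : x ∈ inter W ↔ ∀ i, x ∈ W i := Subring.mem_iInf

theorem exists_partition (x : K) :
    ∃ m : ℕ, 2 ≤ m ∧ ∃ y : K, y * ∑ j ∈ range m, x ^ j = 1 ∧ ∀ j < m, x ^ j * y ∈ inter W := by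
  classical
  have := Fintype.ofFinite ι
  have hB : ∀ i, ∃ B : ℕ, ∀ m : ℕ, m.Prime → B < m → ∀ hx : x ∈ W i,
      IsUnit (∑ j ∈ range m, (⟨x, hx⟩ : W i) ^ j) := by
    intro i
    by_cases hx : x ∈ W i
    · obtain ⟨B, hB⟩ := exists_bound (IsLocalRing.residue (W i) ⟨x, hx⟩)
      exact ⟨B, fun m hm hBm hx' => by_contra fun h => hB m hm hBm (by
        have h0 := (IsLocalRing.residue_eq_zero_iff _).mpr h
        rwa [map_sum, Finset.sum_congr rfl fun j _ => map_pow _ _ j] at h0)⟩
    · exact ⟨0, fun _ _ _ hx' => absurd hx' hx⟩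
  choose B hB using hB
  obtain ⟨m, hm, hp⟩ := Nat.exists_infinite_primes (∑ i, B i + 2)
  have key : ∀ i, (∑ j ∈ range m, x ^ j) ≠ 0 ∧
      ∀ j < m, x ^ j * (∑ j ∈ range m, x ^ j)⁻¹ ∈ W i := by
    intro i
    have hle : B i < m := by
      have := Finset.single_le_sum (f := B) (fun _ _ => Nat.zero_le _) (Finset.mem_univ i)
      omega
    by_cases hx : x ∈ W i
    · obtain ⟨u, hu⟩ := hB i m hp hle hx
      have hux : ((u : W i) : K) = ∑ j ∈ range m, x ^ j := by rw [hu]; simp
      refine ⟨hux ▸ fun h => u.ne_zero (Subtype.ext h), fun j _ => ?_⟩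
      have hinv : (∑ j ∈ range m, x ^ j)⁻¹ = ((u⁻¹ : (W i)ˣ) : W i) := by
        refine inv_eq_of_mul_eq_one_right ?_
        rw [← hux, ← MulMemClass.coe_mul, Units.mul_inv, OneMemClass.coe_one]
      rw [hinv]
      exact (W i).mul_mem _ _ (pow_mem hx j) ((u⁻¹ : (W i)ˣ) : W i).2
    · have hx' : x⁻¹ ∈ W i := ((W i).mem_or_inv_mem x).resolve_left hx
      have hne : x ≠ 0 := fun h => hx (h ▸ (W i).zero_mem)
      let t : W i := ⟨x⁻¹, hx'⟩
      have ht : t ∈ IsLocalRing.maximalIdeal (W i) := by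
        intro hu
        obtain ⟨u, hu⟩ := hu
        refine hx ?_
        have h1 : x⁻¹ * (((u⁻¹ : (W i)ˣ) : W i) : K) = 1 := by
          have := congrArg (fun z : W i => (z : K)) (Units.mul_inv u)
          simpa [hu, t] using this
        have h2 := eq_inv_of_mul_eq_one_right h1
        rw [inv_inv] at h2
        exact h2 ▸ ((u⁻¹ : (W i)ˣ) : W i).2
      have hu : IsUnit (∑ j ∈ range m, t ^ j) := by
        refine by_contra fun h => ?_
        have h0 := (IsLocalRing.residue_eq_zero_iff _).mpr h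
        rw [map_sum, Finset.sum_congr rfl fun j _ => map_pow _ _ j,
          (IsLocalRing.residue_eq_zero_iff t).mpr ht] at h0
        obtain ⟨m', rfl⟩ : ∃ m', m = m' + 1 := ⟨m - 1, by omega⟩
        simp [Finset.sum_range_succ'] at h0
      obtain ⟨u, hu⟩ := hu
      have hux : ((u : W i) : K) = ∑ j ∈ range m, (x⁻¹) ^ j := by rw [hu]; simp [t]
      have hf : (∑ j ∈ range m, x ^ j) = x ^ (m - 1) * ((u : W i) : K) := by
        rw [hux, Finset.mul_sum, ← Finset.sum_range_reflect]
        refine Finset.sum_congr rfl fun j hj => ?_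
        rw [Finset.mem_range] at hj
        rw [inv_pow, ← pow_sub₀ x hne (by omega)]
      have hu0 : ((u : W i) : K) ≠ 0 := fun h => u.ne_zero (Subtype.ext h)
      refine ⟨by rw [hf]; exact mul_ne_zero (pow_ne_zero _ hne) hu0, fun j hj => ?_⟩
      have hinv : ((u : W i) : K)⁻¹ = ((u⁻¹ : (W i)ˣ) : W i) := inv_eq_of_mul_eq_one_right (by
        rw [← MulMemClass.coe_mul, Units.mul_inv, OneMemClass.coe_one])
      rw [hf, mul_inv, ← mul_assoc, hinv]
      refine (W i).mul_mem _ _ ?_ ((u⁻¹ : (W i)ˣ) : W i).2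
      have : x ^ j * (x ^ (m - 1))⁻¹ = x⁻¹ ^ (m - 1 - j) := by
        rw [inv_pow, show m - 1 = j + (m - 1 - j) by omega, pow_add, Nat.add_sub_cancel_left]
        field_simp
      rw [this]
      exact pow_mem hx' _
  by_cases hι : Nonempty ι
  · obtain ⟨i⟩ := hι
    exact ⟨m, by omega, _, inv_mul_cancel₀ (key i).1, fun j hj =>
      (mem_inter W).mpr fun i => (key i).2 j hj⟩
  · by_cases h : x + 1 = 0
    · refine ⟨3, by omega, (∑ j ∈ range 3, x ^ j)⁻¹, inv_mul_cancel₀ ?_,
        fun j _ => (mem_inter W).mpr fun i => absurd ⟨i⟩ hι⟩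
      rw [eq_neg_of_add_eq_zero_left h]
      simp [Finset.sum_range_succ]
    · refine ⟨2, le_rfl, (∑ j ∈ range 2, x ^ j)⁻¹, inv_mul_cancel₀ ?_,
        fun j _ => (mem_inter W).mpr fun i => absurd ⟨i⟩ hι⟩
      simpa [Finset.sum_range_succ, add_comm] using h

theorem exists_frac (x : K) : ∃ a ∈ inter W, ∃ b ∈ inter W, b ≠ 0 ∧ x * b = a := by
  obtain ⟨m, hm, y, hy, hmem⟩ := exists_partition W x
  refine ⟨x ^ 1 * y, hmem 1 (by omega), x ^ 0 * y, hmem 0 (by omega), ?_, by ring⟩
  rw [pow_zero, one_mul]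
  exact left_ne_zero_of_mul_eq_one hy

theorem valuationRing_atPrime (p : Ideal (inter W)) [p.IsPrime] :
    ValuationRing (Localization.AtPrime p) := by
  classical
  haveI : IsDomain (Localization.AtPrime p) :=
    IsLocalization.isDomain_localization p.primeCompl_le_nonZeroDivisors
  let A := Localization.AtPrime p
  rw [ValuationRing.iff_dvd_total]
  refine ⟨fun a b => ?_⟩
  obtain ⟨a, s, rfl⟩ := IsLocalization.exists_mk'_eq p.primeCompl a
  obtain ⟨b, t, rfl⟩ := IsLocalization.exists_mk'_eq p.primeCompl b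
  suffices h : (algebraMap (inter W) A a ∣ algebraMap _ A b) ∨ algebraMap (inter W) A b ∣ algebraMap _ A a by
    have hass : ∀ (c : inter W) (r : p.primeCompl),
        Associated (IsLocalization.mk' A c r) (algebraMap (inter W) A c) := fun c r =>
      ⟨(IsLocalization.map_units A r).unit, by rw [IsUnit.unit_spec, IsLocalization.mk'_spec]⟩
    exact h.imp (fun h => ((hass a s).dvd_iff_dvd_left.trans (hass b t).dvd_iff_dvd_right).mpr h)
      fun h => ((hass b t).dvd_iff_dvd_left.trans (hass a s).dvd_iff_dvd_right).mpr h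
  by_cases hb : b = 0
  · exact Or.inl (hb ▸ by simp)
  obtain ⟨m, hm, y, hy, hmem⟩ := exists_partition W ((a : K) / b)
  let z : ℕ → inter W := fun j => if hj : j < m then ⟨_, hmem j hj⟩ else 0
  have hz : ∀ j < m, (z j : K) = ((a : K) / b) ^ j * y := fun j hj => by simp [z, hj]
  obtain ⟨j, hj, hjp⟩ : ∃ j < m, z j ∉ p := by
    by_contra! hc
    refine Ideal.IsPrime.ne_top ‹_› ((Ideal.eq_top_iff_one p).mpr ?_)
    have : (1 : inter W) = ∑ j ∈ range m, z j := by
      apply Subtype.ext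
      rw [AddSubmonoidClass.coe_finsetSum, Finset.sum_congr rfl fun j hj => hz j (Finset.mem_range.mp hj),
        ← Finset.sum_mul, mul_comm, hy]
      rfl
    rw [this]
    exact sum_mem fun j hj => hc j (Finset.mem_range.mp hj)
  have hu : IsUnit (algebraMap (inter W) A (z j)) :=
    IsLocalization.map_units A (⟨z j, hjp⟩ : p.primeCompl)
  have hb' : (b : K) ≠ 0 := fun h => hb (Subtype.ext h)
  rcases Nat.eq_zero_or_pos j with rfl | hj0
  · refine Or.inr ((hu.dvd_mul_right (a := algebraMap _ A b)).mp ⟨algebraMap _ A (z 1), ?_⟩)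
    rw [← map_mul, ← map_mul]
    congr 1
    apply Subtype.ext
    rw [MulMemClass.coe_mul, MulMemClass.coe_mul, hz 0 hj, hz 1 (by omega)]
    field_simp
  · refine Or.inl ((hu.dvd_mul_right (a := algebraMap _ A a)).mp ⟨algebraMap _ A (z (j - 1)), ?_⟩)
    rw [← map_mul, ← map_mul]
    congr 1
    apply Subtype.ext
    rw [MulMemClass.coe_mul, MulMemClass.coe_mul, hz j hj, hz (j - 1) (by omega)]
    obtain ⟨i, rfl⟩ : ∃ i, j = i + 1 := ⟨j - 1, by omega⟩
    rw [Nat.add_sub_cancel, pow_succ]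
    field_simp

theorem exists_le_centre [Nonempty ι] (p : Ideal (inter W)) [p.IsPrime] :
    ∃ i, p ≤ (IsLocalRing.maximalIdeal (W i)).comap
      (Subring.inclusion (iInf_le (fun i => (W i).toSubring) i)) := by
  classical
  have := Fintype.ofFinite ι
  by_contra! hc
  let c : ι → Ideal (inter W) := fun i => (IsLocalRing.maximalIdeal (W i)).comap
    (Subring.inclusion (iInf_le (fun i => (W i).toSubring) i))
  have hnot : ¬ (p : Set (inter W)) ⊆ ⋃ i ∈ (↑(Finset.univ : Finset ι) : Set ι), c i := by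
    obtain ⟨i₀⟩ := ‹Nonempty ι›
    rw [Ideal.subset_union_prime i₀ i₀ (fun i _ _ _ => Ideal.IsPrime.comap _)]
    rintro ⟨i, -, hi⟩
    exact hc i hi
  obtain ⟨s, hsp, hs⟩ := Set.not_subset.mp hnot
  simp only [Finset.coe_univ, Set.mem_univ, Set.iUnion_true, Set.mem_iUnion, not_exists] at hs
  rcases eq_or_ne (s : K) 0 with h0 | h0
  · obtain ⟨i₀⟩ := ‹Nonempty ι›
    refine hs i₀ ?_
    rw [show s = 0 from Subtype.ext h0]
    exact (c i₀).zero_mem
  · refine Ideal.IsPrime.ne_top ‹p.IsPrime› (p.eq_top_of_isUnit_mem hsp ?_)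
    have hinv : (s : K)⁻¹ ∈ inter W := (mem_inter W).mpr fun i => by
      obtain ⟨u, hu⟩ := not_not.mp fun h => hs i h
      have : ((u : W i) : K) = s := by rw [hu]; rfl
      rw [← this, inv_eq_of_mul_eq_one_right (b := (((u⁻¹ : (W i)ˣ) : W i) : K))
        (by rw [← MulMemClass.coe_mul, Units.mul_inv, OneMemClass.coe_one])]
      exact ((u⁻¹ : (W i)ˣ) : W i).2
    exact ⟨⟨s, ⟨_, hinv⟩, Subtype.ext (mul_inv_cancel₀ h0), Subtype.ext (inv_mul_cancel₀ h0)⟩, rfl⟩

end Groth.Agent.H20.ValIntersection
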