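import Groth.Agent.H20.ValFlat
import Mathlib.Algebra.Category.ModuleCat.ProjectiveDimension
import Mathlib.RingTheory.LocalRing.Module
import Mathlib.RingTheory.Flat.Localization

/-!
Projective dimension over a local ring essentially of finite type over a valuation ring is read off
from the special fibre for modules flat over the base.
-/

set_option autoImplicit false

universe u

namespace Groth.Agent.H20.ValProjDim

open CategoryTheory IsLocalRing

section General

variable {A : Type u} [CommRing A] {F X : Type u} [AddCommGroup F] [Module A F] [AddCommGroup X] [Module A X]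

theorem pd_equiv (e : F ≃ₗ[A] X) (n : ℕ) (h : HasProjectiveDimensionLE (ModuleCat.of A F) n) :
    HasProjectiveDimensionLE (ModuleCat.of A X) n :=
  haveI : HasProjectiveDimensionLT (ModuleCat.of A F) (n + 1) := h
  hasProjectiveDimensionLT_of_iso e.toModuleIso _

theorem pd_zero_iff : HasProjectiveDimensionLE (ModuleCat.of A X) 0 ↔ Module.Projective A X := by
  rw [← projective_iff_hasProjectiveDimensionLE_zero, ← IsProjective.iff_projective]

theorem pd_succ_iff [Module.Projective A F] {f : F →ₗ[A] X} (hf : Function.Surjective f) (n : ℕ) :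
    HasProjectiveDimensionLE (ModuleCat.of A X) (n + 1) ↔
      HasProjectiveDimensionLE (ModuleCat.of A (LinearMap.ker f)) n :=
  (LinearMap.shortExact_shortComplexKer hf).hasProjectiveDimensionLT_X₃_iff n
    (ModuleCat.projective_of_categoryTheory_projective (ModuleCat.of A F))

theorem pd_mono {m n : ℕ} (h : m ≤ n) (hX : HasProjectiveDimensionLE (ModuleCat.of A X) m) :
    HasProjectiveDimensionLE (ModuleCat.of A X) n :=
  haveI : HasProjectiveDimensionLT (ModuleCat.of A X) (m + 1) := hX
  hasProjectiveDimensionLT_of_ge _ (m + 1) (n + 1) (by omega)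

end General

variable {W A : Type u} [CommRing W] [IsDomain W] [ValuationRing W] [CommRing A] [IsLocalRing A]
  [Algebra W A] [IsLocalHom (algebraMap W A)] [Algebra.EssFiniteType W A]

theorem torsionFree_pi [Module.Flat W A] {k : ℕ} (a : W) (x : Fin k → A) (ha : a ≠ 0) (h : a • x = 0) : x = 0 :=
  funext fun i => ValLoc.torsionFree_of_flat a (x i) ha (congrFun h i)

/-- Submodules of free modules which are finitely generated are finitely presented. -/
theorem fg_ker [Module.Flat W A] {k l : ℕ} (f : (Fin k → A) →ₗ[A] (Fin l → A)) : (LinearMap.ker f).FG := by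
  classical
  obtain ⟨d, q, _, hq, ψ, hψ⟩ := EssAffine.exists_localization_surjection W A
  let T := Localization.AtPrime q
  letI : Algebra T A := ψ.toRingHom.toAlgebra
  haveI : IsScalarTower W T A := IsScalarTower.of_algebraMap_eq fun a => (ψ.commutes a).symm
  haveI : Module.Finite T A := Module.Finite.of_surjective (Algebra.linearMap T A) hψ
  let fT := f.restrictScalars T
  haveI : Module.Finite T (LinearMap.range fT) := Module.Finite.range fT
  have htf : ∀ (a : W) (y : LinearMap.range fT), a ≠ 0 → a • y = 0 → y = 0 := fun a y ha hy =>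
    Subtype.ext (torsionFree_pi a (y : Fin l → A) ha (congrArg Subtype.val hy))
  haveI : Module.FinitePresentation T (LinearMap.range fT) :=
    ValLoc.finitePresentation_loc q (M := ↥(LinearMap.range fT)) htf
  have h := @Module.FinitePresentation.fg_ker T (Fin k → A) (LinearMap.range fT) _ _ _ _ _ _ _
    fT.rangeRestrict fT.surjective_rangeRestrict
  rw [LinearMap.ker_rangeRestrict, LinearMap.ker_restrictScalars] at h
  exact Submodule.FG.of_restrictScalars T h

/-- The kernel of a surjection of a free module onto a finite module flat over the base is finite. -/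
theorem fg_ker_flat {M : Type u} [AddCommGroup M] [Module A M] [Module W M] [IsScalarTower W A M]
    [Module.Finite A M] [Module.Flat W M] {k : ℕ} (f : (Fin k → A) →ₗ[A] M) (hf : Function.Surjective f) :
    (LinearMap.ker f).FG := by
  classical
  obtain ⟨d, q, _, hq, ψ, hψ⟩ := EssAffine.exists_localization_surjection W A
  let T := Localization.AtPrime q
  letI : Algebra T A := ψ.toRingHom.toAlgebra
  haveI : IsScalarTower W T A := IsScalarTower.of_algebraMap_eq fun a => (ψ.commutes a).symm
  haveI : Module.Finite T A := Module.Finite.of_surjective (Algebra.linearMap T A) hψ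
  letI : Module T M := Module.compHom M (algebraMap T A)
  haveI : IsScalarTower T A M := IsScalarTower.of_algebraMap_smul fun _ _ => rfl
  haveI : IsScalarTower W T M := IsScalarTower.of_algebraMap_smul fun a x => by
    show algebraMap T A (algebraMap W T a) • x = a • x
    rw [← IsScalarTower.algebraMap_apply, algebraMap_smul]
  haveI : Module.Finite T M := Module.Finite.trans A M
  haveI : Module.FinitePresentation T M :=
    ValLoc.finitePresentation_loc q (M := M) fun a x => ValLoc.torsionFree_of_flat a x
  have h := Module.FinitePresentation.fg_ker (f.restrictScalars T) (hf : Function.Surjective (f.restrictScalars T))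
  rw [LinearMap.ker_restrictScalars] at h
  exact Submodule.FG.of_restrictScalars T h

theorem pd_le_of_fibre [Module.Flat W A] (I : Ideal A) (hI : I = (maximalIdeal W).map (algebraMap W A)) :
    ∀ (j : ℕ) (M : Type u) [AddCommGroup M] [Module A M] [Module W M] [IsScalarTower W A M]
      [Module.Finite A M] [Module.Flat W M],
      HasProjectiveDimensionLE (ModuleCat.of (A ⧸ I) (M ⧸ (I • ⊤ : Submodule A M))) j →
      HasProjectiveDimensionLE (ModuleCat.of A M) j := by
  classical
  have hImax : I ≤ maximalIdeal A := by
    rw [hI, Ideal.map_le_iff_le_comap]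
    intro a ha
    simp only [Ideal.mem_comap, mem_maximalIdeal, mem_nonunits_iff] at ha ⊢
    exact fun h => ha (isUnit_of_map_unit (algebraMap W A) a h)
  have hW : ∀ (N : Type u) [AddCommGroup N] [Module A N] [Module W N] [IsScalarTower W A N] (x : N),
      x ∈ I • (⊤ : Submodule A N) ↔ x ∈ maximalIdeal W • (⊤ : Submodule W N) := by
    intro N _ _ _ _ x
    rw [← Submodule.restrictScalars_mem W, hI, Ideal.smul_restrictScalars, Submodule.restrictScalars_top]
  intro j
  induction j with
  | zero =>
    intro M _ _ _ _ _ _ hM
    haveI : IsLocalRing (A ⧸ I) :=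
      haveI : Nontrivial (A ⧸ I) := Ideal.Quotient.nontrivial_iff.mpr
        (ne_top_of_le_ne_top (maximalIdeal.isMaximal A).ne_top hImax)
      .of_surjective' (Ideal.Quotient.mk I) Ideal.Quotient.mk_surjective
    haveI : Module.Projective (A ⧸ I) (M ⧸ (I • ⊤ : Submodule A M)) := pd_zero_iff.1 hM
    haveI : Module.Finite (A ⧸ I) (M ⧸ (I • ⊤ : Submodule A M)) := Module.Finite.of_restrictScalars_finite A _ _
    haveI : Module.Free (A ⧸ I) (M ⧸ (I • ⊤ : Submodule A M)) := Module.free_of_flat_of_isLocalRing
    obtain ⟨k, b⟩ : Σ k : ℕ, Module.Basis (Fin k) (A ⧸ I) (M ⧸ (I • ⊤ : Submodule A M)) :=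
      ⟨_, Module.finBasis _ _⟩
    choose x hx using fun i => Submodule.Quotient.mk_surjective (I • ⊤ : Submodule A M) (b i)
    let u : (Fin k → A) →ₗ[A] M := Fintype.linearCombination A x
    have hu : ∀ a : Fin k → A, Submodule.Quotient.mk (p := (I • ⊤ : Submodule A M)) (u a) =
        ∑ i, Ideal.Quotient.mk I (a i) • b i := by
      intro a
      rw [Fintype.linearCombination_apply, ← Submodule.mkQ_apply, map_sum]
      exact Finset.sum_congr rfl fun i _ => by rw [map_smul, Submodule.mkQ_apply, hx i]; rfl
    have hsurj : Function.Surjective u := by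
      rw [← LinearMap.range_eq_top]
      refine top_le_iff.1 (Submodule.le_of_le_smul_of_le_jacobson_bot Module.Finite.fg_top
        (hImax.trans (jacobson_eq_maximalIdeal ⊥ bot_ne_top).ge) fun m _ => ?_)
      choose a ha using fun i => Ideal.Quotient.mk_surjective (b.repr (Submodule.Quotient.mk m) i)
      have : m - u a ∈ (I • ⊤ : Submodule A M) := by
        rw [← Submodule.Quotient.mk_eq_zero, Submodule.Quotient.mk_sub, hu]
        simp only [ha, b.sum_repr, sub_self]
      exact Submodule.mem_sup.2 ⟨u a, LinearMap.mem_range_self _ _, m - u a, this, add_sub_cancel _ _⟩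
    obtain ⟨hinj, -⟩ := ValFlat.injective_and_flat_coker (A := W) u fun a ha => by
      rw [← hW (Fin k → A) a]
      rw [← hW M, ← Submodule.Quotient.mk_eq_zero, hu] at ha
      have hzero := Fintype.linearIndependent_iff.1 b.linearIndependent _ ha
      rw [pi_eq_sum_univ' a]
      exact Submodule.sum_mem _ fun i _ =>
        Submodule.smul_mem_smul (Ideal.Quotient.eq_zero_iff_mem.1 (hzero i)) Submodule.mem_top
    haveI : Module.Projective A M := Module.Projective.of_equiv (LinearEquiv.ofBijective u ⟨hinj, hsurj⟩)
    exact pd_zero_iff.2 inferInstance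
  | succ j ih =>
    intro M _ _ _ _ _ _ hM
    obtain ⟨k, f, hf⟩ := Module.Finite.exists_fin' A M
    haveI : Module.Finite A (LinearMap.ker f) := Module.Finite.iff_fg.2 (fg_ker_flat (W := W) f hf)
    haveI : Module.Flat W (LinearMap.ker f) := ValLoc.flat_of_torsionFree (M := ↥(LinearMap.ker f))
      fun a x ha hax => Subtype.ext (torsionFree_pi a (x : Fin k → A) ha (congrArg Subtype.val hax))
    rw [pd_succ_iff hf]
    refine ih (LinearMap.ker f) ?_
    let fb : (Fin k → A ⧸ I) →ₗ[A ⧸ I] (M ⧸ (I • ⊤ : Submodule A M)) :=
      Fintype.linearCombination (A ⧸ I) fun i => Submodule.Quotient.mk (f (Pi.single i 1))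
    let qk : (Fin k → A) →ₗ[A] (Fin k → A ⧸ I) := LinearMap.pi fun i => (Ideal.Quotient.mkₐ A I).toLinearMap ∘ₗ LinearMap.proj i
    have hfb : ∀ a, fb (qk a) = Submodule.Quotient.mk (f a) := by
      intro a
      conv_rhs => rw [pi_eq_sum_univ' a, map_sum f, ← Submodule.mkQ_apply, map_sum]
      rw [Fintype.linearCombination_apply]
      exact Finset.sum_congr rfl fun i _ => by rw [map_smul, map_smul, Submodule.mkQ_apply]; rfl
    have hqk : Function.Surjective qk := fun v => by
      choose a ha using fun i => Ideal.Quotient.mk_surjective (v i)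
      exact ⟨a, funext ha⟩
    have hfbs : Function.Surjective fb := fun y => by
      obtain ⟨m, rfl⟩ := Submodule.Quotient.mk_surjective _ y
      obtain ⟨a, rfl⟩ := hf m
      exact ⟨qk a, hfb a⟩
    have hkb := (pd_succ_iff hfbs j).1 hM
    let g : LinearMap.ker f →ₗ[A] LinearMap.ker fb :=
      LinearMap.codRestrict ((LinearMap.ker fb).restrictScalars A) (qk ∘ₗ (LinearMap.ker f).subtype) fun x => by
        show fb (qk x.1) = 0
        rw [hfb, LinearMap.mem_ker.1 x.2, Submodule.Quotient.mk_zero]
    have hqker : ∀ a, qk a = 0 ↔ a ∈ (I • ⊤ : Submodule A (Fin k → A)) := by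
      intro a
      constructor
      · intro h
        rw [pi_eq_sum_univ' a]
        exact Submodule.sum_mem _ fun i _ =>
          Submodule.smul_mem_smul (Ideal.Quotient.eq_zero_iff_mem.1 (congrFun h i)) Submodule.mem_top
      · intro h
        refine Submodule.smul_induction_on h (fun r hr y _ => ?_) fun x y hx hy => by rw [map_add, hx, hy, add_zero]
        funext i
        exact Ideal.Quotient.eq_zero_iff_mem.2 (I.mul_mem_right _ hr)
    have hgsurj : Function.Surjective g := by
      rintro ⟨v, hv⟩
      obtain ⟨a, rfl⟩ := hqk v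
      have h1 : f a ∈ (I • ⊤ : Submodule A M) := by
        rw [← Submodule.Quotient.mk_eq_zero, ← hfb]
        exact hv
      rw [← LinearMap.range_eq_top.2 hf, ← Submodule.map_top, ← Submodule.map_smul''] at h1
      obtain ⟨e, he, hfe⟩ := h1
      refine ⟨⟨a - e, by rw [LinearMap.mem_ker, map_sub, hfe, sub_self]⟩, Subtype.ext ?_⟩
      show qk (a - e) = qk a
      rw [map_sub, (hqker e).2 he, sub_zero]
    have hgker : (I • ⊤ : Submodule A (LinearMap.ker f)) = LinearMap.ker g := by
      ext x
      have : g x = 0 ↔ qk x.1 = 0 := Subtype.ext_iff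
      rw [LinearMap.mem_ker, this, hqker]
      constructor
      · intro h
        have := Submodule.mem_map_of_mem (f := (LinearMap.ker f).subtype) h
        rw [Submodule.map_smul''] at this
        exact Submodule.smul_mono le_rfl le_top this
      · intro h
        rw [hW (Fin k → A)] at h
        rw [hW (LinearMap.ker f)]
        have h2 := ValLoc.mem_smul_ker_of_flat (maximalIdeal W) (f.restrictScalars W) hf (z := x.1)
          (LinearMap.mem_ker.1 x.2) h
        rw [← Submodule.map_subtype_top (LinearMap.ker (f.restrictScalars W)), ← Submodule.map_smul''] at h2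
        obtain ⟨y, hy, hyx⟩ := h2
        have : y = (x : LinearMap.ker (f.restrictScalars W)) := Subtype.ext hyx
        rw [this] at hy
        exact hy
    let e := (Submodule.quotEquivOfEq _ _ hgker).trans (g.quotKerEquivOfSurjective hgsurj)
    exact pd_equiv (LinearEquiv.extendScalarsOfSurjective Ideal.Quotient.mk_surjective e.symm) j hkb

end Groth.Agent.H20.ValProjDim
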