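import Groth.Agent.H20.ValProjDim
import Groth.Agent.H22.GlobalDim
import Mathlib.RingTheory.Flat.Localization
import Mathlib.RingTheory.EssentialFiniteness
import Mathlib.RingTheory.Valuation.ValuationRing
import Mathlib.LinearAlgebra.Dual.Defs

/-!
Projective dimension at a point of a flat finitely presented algebra over a valuation ring whose
fibre is regular at the point.
-/

set_option autoImplicit false

universe u

namespace Groth.Agent.H20.ValProjDimAt

open CategoryTheory IsLocalRing ValProjDim

variable (V : Type u) [CommRing V] [IsDomain V] [ValuationRing V]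
  (B : Type u) [CommRing B] [Algebra V B] [Module.Flat V B] [Algebra.FinitePresentation V B]
  (q : Ideal B) [q.IsPrime] (n : ℕ)
  (hreg : IsRegularLocalRing (Localization.AtPrime q ⧸ Ideal.map (algebraMap V (Localization.AtPrime q)) (Ideal.comap (algebraMap V B) q)))
  (hn : ringKrullDim (Localization.AtPrime q ⧸ Ideal.map (algebraMap V (Localization.AtPrime q)) (Ideal.comap (algebraMap V B) q)) = n)

include hreg hn

omit [Algebra.FinitePresentation V B] [Module.Flat V B] hreg hn in
theorem smul_eq_zero_of_loc (S : Submonoid V) (hS : (0 : V) ∉ S) {W M : Type u} [CommRing W] [Algebra V W]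
    [IsLocalization S W] [AddCommGroup M] [Module V M] [Module W M] [IsScalarTower V W M] [Module.Flat V M]
    (a : W) (x : M) (ha : a ≠ 0) (h : a • x = 0) : x = 0 := by
  obtain ⟨⟨v, s⟩, hvs⟩ := IsLocalization.surj S a
  have hv : v ≠ 0 := by
    rintro rfl
    rw [map_zero] at hvs
    exact ha ((IsLocalization.map_units W s).mul_left_eq_zero.1 hvs)
  refine ValLoc.torsionFree_of_flat v x hv ?_
  rw [← algebraMap_smul W v x, ← hvs, mul_comm, mul_smul, h, smul_zero]

omit [Algebra.FinitePresentation V B] [Module.Flat V B] hreg hn in
theorem valuationRing_loc (p : Ideal V) [p.IsPrime] [IsDomain (Localization.AtPrime p)] :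
    ValuationRing (Localization.AtPrime p) := by
  refine ValuationRing.iff_dvd_total.2 ⟨fun x y => ?_⟩
  obtain ⟨⟨a, s⟩, ha⟩ := IsLocalization.surj p.primeCompl x
  obtain ⟨⟨b, t⟩, hb⟩ := IsLocalization.surj p.primeCompl y
  have hs := IsLocalization.map_units (Localization.AtPrime p) s
  have ht := IsLocalization.map_units (Localization.AtPrime p) t
  rcases ValuationRing.dvd_total a b with h | h
  · left
    have := map_dvd (algebraMap V (Localization.AtPrime p)) h
    rw [← ha, ← hb] at this
    exact (ht.dvd_mul_right).1 ((dvd_mul_right x _).trans this)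
  · right
    have := map_dvd (algebraMap V (Localization.AtPrime p)) h
    rw [← ha, ← hb] at this
    exact (hs.dvd_mul_right).1 ((dvd_mul_right y _).trans this)

/-- Modules flat over the valuation ring have projective dimension at most the dimension of the fibre. -/
theorem pd_le (M : Type u) [AddCommGroup M] [Module (Localization.AtPrime q) M] [Module.Finite (Localization.AtPrime q) M]
    [Module V M] [IsScalarTower V (Localization.AtPrime q) M] [Module.Flat V M] :
    HasProjectiveDimensionLE (ModuleCat.of (Localization.AtPrime q) M) n := by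
  classical
  let p := Ideal.comap (algebraMap V B) q
  haveI : p.IsPrime := Ideal.IsPrime.comap _
  let W := Localization.AtPrime p
  let A := Localization.AtPrime q
  haveI : IsDomain W := IsLocalization.isDomain_localization p.primeCompl_le_nonZeroDivisors
  haveI : ValuationRing W := valuationRing_loc V p
  letI algWA : Algebra W A := (Localization.localRingHom p q (algebraMap V B) rfl).toAlgebra
  haveI : IsScalarTower V W A := IsScalarTower.of_algebraMap_eq fun v => by
    rw [RingHom.algebraMap_toAlgebra, Localization.localRingHom_to_map, ← IsScalarTower.algebraMap_apply]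
  haveI : IsLocalHom (algebraMap W A) := by
    rw [RingHom.algebraMap_toAlgebra]; infer_instance
  haveI : Algebra.EssFiniteType V A := Algebra.EssFiniteType.comp V B A
  haveI : Algebra.EssFiniteType W A := Algebra.EssFiniteType.of_comp V W A
  haveI : Module.Flat B A := IsLocalization.flat A q.primeCompl
  haveI : Module.Flat V A := Module.Flat.trans V B A
  have h0 : (0 : V) ∉ p.primeCompl := fun h => h p.zero_mem
  haveI : Module.Flat W A := ValLoc.flat_of_torsionFree fun a x =>
    smul_eq_zero_of_loc V p.primeCompl h0 a x
  letI : Module W M := Module.compHom M (algebraMap W A)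
  haveI : IsScalarTower W A M := IsScalarTower.of_algebraMap_smul fun _ _ => rfl
  haveI : IsScalarTower V W M := IsScalarTower.of_algebraMap_smul fun v x => by
    show algebraMap W A (algebraMap V W v) • x = v • x
    rw [← IsScalarTower.algebraMap_apply, algebraMap_smul]
  haveI : Module.Flat W M := ValLoc.flat_of_torsionFree fun a x => smul_eq_zero_of_loc V p.primeCompl h0 a x
  let I := Ideal.map (algebraMap V A) p
  have hI : I = (maximalIdeal W).map (algebraMap W A) := by
    rw [← IsLocalization.AtPrime.map_eq_maximalIdeal p W, Ideal.map_map, ← IsScalarTower.algebraMap_eq]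
  refine pd_le_of_fibre (W := W) I hI n M ?_
  haveI := hreg
  exact Groth.Agent.H22.GlobalDim.hasProjectiveDimensionLT_regular n hn _

/-- Finitely presented modules have projective dimension at most one more than the dimension of the fibre. -/
theorem pd_le_succ (M : Type u) [AddCommGroup M] [Module (Localization.AtPrime q) M]
    [Module.FinitePresentation (Localization.AtPrime q) M] :
    HasProjectiveDimensionLE (ModuleCat.of (Localization.AtPrime q) M) (n + 1) := by
  let A := Localization.AtPrime q
  obtain ⟨k, f, hf⟩ := Module.Finite.exists_fin' A M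
  haveI : Module.Finite A (LinearMap.ker f) := Module.Finite.iff_fg.2 (Module.FinitePresentation.fg_ker f hf)
  haveI : Module.Flat B A := IsLocalization.flat A q.primeCompl
  haveI : Module.Flat V A := Module.Flat.trans V B A
  haveI : Module.Flat V (LinearMap.ker f) := ValLoc.flat_of_torsionFree (M := ↥(LinearMap.ker f))
    fun a x ha hax => Subtype.ext (funext fun i =>
      ValLoc.torsionFree_of_flat a ((x : Fin k → A) i) ha (congrFun (congrArg Subtype.val hax) i))
  exact (pd_succ_iff hf n).2 (pd_le V B q n hreg hn (LinearMap.ker f))

omit hreg hn in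
include V in
theorem fg_ker_free {k l : ℕ} (f : (Fin k → Localization.AtPrime q) →ₗ[Localization.AtPrime q] (Fin l → Localization.AtPrime q)) :
    (LinearMap.ker f).FG := by
  classical
  let p := Ideal.comap (algebraMap V B) q
  haveI : p.IsPrime := Ideal.IsPrime.comap _
  let W := Localization.AtPrime p
  let A := Localization.AtPrime q
  haveI : IsDomain W := IsLocalization.isDomain_localization p.primeCompl_le_nonZeroDivisors
  haveI : ValuationRing W := valuationRing_loc V p
  letI algWA : Algebra W A := (Localization.localRingHom p q (algebraMap V B) rfl).toAlgebra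
  haveI : IsScalarTower V W A := IsScalarTower.of_algebraMap_eq fun v => by
    rw [RingHom.algebraMap_toAlgebra, Localization.localRingHom_to_map, ← IsScalarTower.algebraMap_apply]
  haveI : IsLocalHom (algebraMap W A) := by
    rw [RingHom.algebraMap_toAlgebra]; infer_instance
  haveI : Algebra.EssFiniteType V A := Algebra.EssFiniteType.comp V B A
  haveI : Algebra.EssFiniteType W A := Algebra.EssFiniteType.of_comp V W A
  haveI : Module.Flat B A := IsLocalization.flat A q.primeCompl
  haveI : Module.Flat V A := Module.Flat.trans V B A
  haveI : Module.Flat W A := ValLoc.flat_of_torsionFree fun a x =>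
    smul_eq_zero_of_loc V p.primeCompl (fun h => h p.zero_mem) a x
  exact fg_ker (W := W) f

/-- Reflexive modules are second syzygies. -/
theorem pd_le_pred (M : Type u) [AddCommGroup M] [Module (Localization.AtPrime q) M]
    [Module.FinitePresentation (Localization.AtPrime q) M] [Module.IsReflexive (Localization.AtPrime q) M] :
    HasProjectiveDimensionLE (ModuleCat.of (Localization.AtPrime q) M) (n - 1) := by
  classical
  let A := Localization.AtPrime q
  obtain ⟨a, f, hf⟩ := Module.Finite.exists_fin' A M
  obtain ⟨b, r, hr⟩ := Submodule.fg_iff_exists_fin_generating_family.1 (Module.FinitePresentation.fg_ker f hf)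
  -- the dual as a kernel
  let res : (Fin a → A) →ₗ[A] (Fin b → A) := LinearMap.pi fun j => Fintype.linearCombination A (r j)
  let emb : Module.Dual A M →ₗ[A] (Fin a → A) := LinearMap.pi fun i => Module.Dual.eval A M (f (Pi.single i 1))
  have hemb : ∀ (φ : Module.Dual A M) (v : Fin a → A), φ (f v) = ∑ i, v i * emb φ i := by
    intro φ v
    conv_lhs => rw [pi_eq_sum_univ' v]
    simp [emb, map_sum]
  have hembinj : Function.Injective emb := fun φ ψ h => LinearMap.ext fun x => by
    obtain ⟨v, rfl⟩ := hf x
    rw [hemb, hemb, h]
  have hembrange : LinearMap.range emb = LinearMap.ker res := by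
    refine le_antisymm ?_ fun w hw => ?_
    · rintro _ ⟨φ, rfl⟩
      refine LinearMap.mem_ker.2 (funext fun j => ?_)
      have h0 : f (r j) = 0 := by
        have : r j ∈ LinearMap.ker f := hr ▸ Submodule.subset_span ⟨j, rfl⟩
        exact this
      have := hemb φ (r j)
      rw [h0, map_zero] at this
      simp only [res, LinearMap.pi_apply, Fintype.linearCombination_apply, smul_eq_mul, Pi.zero_apply]
      rw [this]
      exact Finset.sum_congr rfl fun i _ => mul_comm _ _
    · let ψ : (Fin a → A) →ₗ[A] A := Fintype.linearCombination A w
      have hψ : LinearMap.ker f ≤ LinearMap.ker ψ := by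
        rw [← hr, Submodule.span_le]
        rintro _ ⟨j, rfl⟩
        refine LinearMap.mem_ker.2 ?_
        have := congrFun (LinearMap.mem_ker.1 hw) j
        simp only [res, LinearMap.pi_apply, Fintype.linearCombination_apply, smul_eq_mul, Pi.zero_apply] at this
        simp only [ψ, Fintype.linearCombination_apply, smul_eq_mul]
        rw [← this]
        exact Finset.sum_congr rfl fun i _ => mul_comm _ _
      let φ : Module.Dual A M := (LinearMap.ker f).liftQ ψ hψ ∘ₗ (f.quotKerEquivOfSurjective hf).symm.toLinearMap
      refine ⟨φ, funext fun i => ?_⟩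
      show φ (f (Pi.single i 1)) = w i
      have : (f.quotKerEquivOfSurjective hf).symm (f (Pi.single i 1)) = Submodule.Quotient.mk (Pi.single i 1) :=
        (LinearEquiv.symm_apply_eq _).2 rfl
      simp only [φ, LinearMap.comp_apply, LinearEquiv.coe_coe, this, Submodule.liftQ_apply, ψ,
        Fintype.linearCombination_apply_single, one_smul]
  -- the dual is finitely presented
  obtain ⟨c, e, he⟩ := Submodule.fg_iff_exists_fin_generating_family.1 (hembrange.symm ▸ fg_ker_free V B q res : (LinearMap.range emb).FG)
  have hemem : ∀ i, e i ∈ LinearMap.range emb := fun i => he ▸ Submodule.subset_span ⟨i, rfl⟩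
  choose φ hφ using hemem
  let g : (Fin c → A) →ₗ[A] (Fin a → A) := Fintype.linearCombination A e
  obtain ⟨d, s, hs⟩ := Submodule.fg_iff_exists_fin_generating_family.1 (fg_ker_free V B q g)
  let g₂ : (Fin c → A) →ₗ[A] (Fin d → A) := LinearMap.pi fun j => Fintype.linearCombination A (s j)
  let ι : M →ₗ[A] (Fin c → A) := LinearMap.pi fun i => φ i
  let φc : (Fin c → A) →ₗ[A] Module.Dual A M := Fintype.linearCombination A φ
  have hφc : Function.Surjective φc := fun ψ => by
    have : emb ψ ∈ Submodule.span A (Set.range e) := he ▸ LinearMap.mem_range_self emb ψ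
    obtain ⟨x, hx⟩ := (Submodule.mem_span_range_iff_exists_fun A).1 this
    refine ⟨x, hembinj ?_⟩
    simp only [φc, Fintype.linearCombination_apply, map_sum, map_smul, hφ, hx]
  have hι : ∀ (x : Fin c → A) (m : M), φc x m = ∑ i, x i * ι m i := fun x m => by
    simp [φc, ι, Fintype.linearCombination_apply]
  have hker : ∀ x, g x = 0 ↔ φc x = 0 := fun x => by
    rw [← hembinj.eq_iff, map_zero]
    simp only [g, φc, Fintype.linearCombination_apply, map_sum, map_smul, hφ]
  have hιinj : Function.Injective ι := fun x y h => (Module.bijective_dual_eval A M).1 (LinearMap.ext fun ψ => by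
    obtain ⟨w, rfl⟩ := hφc ψ
    simp only [Module.Dual.eval_apply, hι, h])
  have hιrange : LinearMap.range ι = LinearMap.ker g₂ := by
    refine le_antisymm ?_ fun w hw => ?_
    · rintro _ ⟨m, rfl⟩
      refine LinearMap.mem_ker.2 (funext fun j => ?_)
      have h0 : φc (s j) = 0 := (hker _).1 (by
        have : s j ∈ LinearMap.ker g := hs ▸ Submodule.subset_span ⟨j, rfl⟩
        exact this)
      have := hι (s j) m
      rw [h0, LinearMap.zero_apply] at this
      simp only [g₂, LinearMap.pi_apply, Fintype.linearCombination_apply, smul_eq_mul, Pi.zero_apply]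
      rw [this]
      exact Finset.sum_congr rfl fun i _ => mul_comm _ _
    · let ψ : (Fin c → A) →ₗ[A] A := Fintype.linearCombination A w
      have hψ : LinearMap.ker φc ≤ LinearMap.ker ψ := by
        have : LinearMap.ker φc = LinearMap.ker g := by
          ext x; simp only [LinearMap.mem_ker]; exact (hker x).symm
        rw [this, ← hs, Submodule.span_le]
        rintro _ ⟨j, rfl⟩
        refine LinearMap.mem_ker.2 ?_
        have := congrFun (LinearMap.mem_ker.1 hw) j
        simp only [g₂, LinearMap.pi_apply, Fintype.linearCombination_apply, smul_eq_mul, Pi.zero_apply] at this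
        simp only [ψ, Fintype.linearCombination_apply, smul_eq_mul]
        rw [← this]
        exact Finset.sum_congr rfl fun i _ => mul_comm _ _
      obtain ⟨m, hm⟩ := (Module.bijective_dual_eval A M).2
        ((LinearMap.ker φc).liftQ ψ hψ ∘ₗ (φc.quotKerEquivOfSurjective hφc).symm.toLinearMap)
      refine ⟨m, funext fun i => ?_⟩
      have h1 : φ i = φc (Pi.single i 1) := by
        simp only [φc, Fintype.linearCombination_apply_single, one_smul]
      have h2 := LinearMap.congr_fun hm (φc (Pi.single i 1))
      have : (φc.quotKerEquivOfSurjective hφc).symm (φc (Pi.single i 1)) = Submodule.Quotient.mk (Pi.single i 1) :=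
        (LinearEquiv.symm_apply_eq _).2 rfl
      simp only [Module.Dual.eval_apply, LinearMap.comp_apply, LinearEquiv.coe_coe, this, Submodule.liftQ_apply, ψ,
        Fintype.linearCombination_apply_single, one_smul] at h2
      rw [← h2, ← h1]
      rfl
  -- conclude
  haveI : Module.FinitePresentation A ((Fin d → A) ⧸ LinearMap.range g₂) :=
    Module.finitePresentation_of_surjective (LinearMap.range g₂).mkQ (Submodule.mkQ_surjective _)
      (by rw [Submodule.ker_mkQ]; exact Module.Finite.iff_fg.mp (Module.Finite.range g₂))
  have hC := pd_le_succ V B q n hreg hn ((Fin d → A) ⧸ LinearMap.range g₂)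
  have hI : HasProjectiveDimensionLE (ModuleCat.of A (LinearMap.range g₂)) n :=
    pd_equiv (LinearEquiv.ofEq _ _ (Submodule.ker_mkQ _)) n ((pd_succ_iff (Submodule.mkQ_surjective _) n).1 hC)
  have e' : M ≃ₗ[A] LinearMap.ker g₂.rangeRestrict :=
    (LinearEquiv.ofInjective ι hιinj).trans (LinearEquiv.ofEq _ _ (hιrange.trans g₂.ker_rangeRestrict.symm))
  refine pd_equiv e'.symm (n - 1) ?_
  rcases n with _ | m
  · exact (pd_succ_iff g₂.surjective_rangeRestrict 0).1 (pd_mono (Nat.zero_le 1) hI)
  · exact (pd_succ_iff g₂.surjective_rangeRestrict m).1 hI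

end Groth.Agent.H20.ValProjDimAt
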