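import Groth.Agent.Lib.EtMod.WeakAssAlg
import Groth.Agent.S8899
import Mathlib.Algebra.Polynomial.Module.TensorProduct
import Mathlib.RingTheory.PolynomialAlgebra
import Mathlib.RingTheory.QuasiFinite.Basic
import Mathlib.RingTheory.Ideal.GoingUp
import Mathlib.RingTheory.Ideal.GoingDown
import Mathlib.FieldTheory.IntermediateField.Adjoin.Algebra
import Mathlib.LinearAlgebra.TensorProduct.Basis

/-!
# Weakly associated primes of field base changes

For a field extension `K/k` and a module `N` over a `k`-algebra `A`, a weakly associated prime of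
`K ⊗ N` contracts to a weakly associated prime of `N`.
-/

set_option autoImplicit false
universe u

open TensorProduct

namespace Groth.Agent.H20.WeakAssField

open Groth.Agent.Lib.EtMod.WeakAssAlg

/-- Weakly associated primes of base changes contract to weakly associated primes. -/
def Contracts (A B : Type u) [CommRing A] [CommRing B] [Algebra A B] : Prop :=
  ∀ (N : Type u) [AddCommGroup N] [Module A N] (q : Ideal B) [q.IsPrime],
    IsWA (B ⊗[A] N) q → IsWA N (q.comap (algebraMap A B))

theorem minimalPrimes_comap {A B : Type u} [CommRing A] [CommRing B] [Algebra A B]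
    [Module.Flat A B] {J : Ideal A} {q : Ideal B}
    (hq : q ∈ (J.map (algebraMap A B)).minimalPrimes) :
    q.comap (algebraMap A B) ∈ J.minimalPrimes := by
  haveI := hq.1.1
  haveI : q.LiesOver (q.comap (algebraMap A B)) := ⟨rfl⟩
  refine ⟨⟨inferInstance, Ideal.map_le_iff_le_comap.1 hq.1.2⟩, fun p' hp' hle => ?_⟩
  haveI := hp'.1
  obtain ⟨Q, hQq, hQ, hQp⟩ := Ideal.exists_ideal_le_liesOver_of_le (S := B) q hle
  have := hq.2 ⟨hQ, Ideal.map_le_iff_le_comap.2 (hp'.2.trans hQp.over.le)⟩ hQq
  exact (Ideal.comap_mono this).trans hQp.over.ge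

theorem ann_unit_smul {A M : Type*} [CommRing A] [AddCommGroup M] [Module A M] {a : A}
    (ha : IsUnit a) (x : M) : Ann (A := A) (a • x) = Ann (A := A) x := by
  ext t
  rw [mem_Ann, mem_Ann, smul_comm, ha.smul_eq_zero]

theorem ann_congr {A M M' : Type*} [CommRing A] [AddCommGroup M] [Module A M] [AddCommGroup M']
    [Module A M'] (e : M ≃ₗ[A] M') (x : M) : Ann (A := A) (e x) = Ann (A := A) x := by
  ext t
  rw [mem_Ann, mem_Ann, ← map_smul, e.map_eq_zero_iff]

theorem trans {A B C : Type u} [CommRing A] [CommRing B] [CommRing C] [Algebra A B] [Algebra B C]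
    [Algebra A C] [IsScalarTower A B C] (h₁ : Contracts A B) (h₂ : Contracts B C) :
    Contracts A C := by
  intro N _ _ q _ h
  have hAB : q.comap (algebraMap A C) =
      (q.comap (algebraMap B C)).comap (algebraMap A B) := by
    rw [Ideal.comap_comap, ← IsScalarTower.algebraMap_eq]
  let e := TensorProduct.AlgebraTensorModule.cancelBaseChange A B C C N
  rw [hAB]
  exact h₁ N _ (h₂ (B ⊗[A] N) q (h.of_injective (f := e.symm.toLinearMap) e.symm.injective))

theorem of_isLocalization {A B : Type u} [CommRing A] [CommRing B] [Algebra A B] (S : Submonoid A)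
    [IsLocalization S B] : Contracts A B := by
  intro N _ _ q _ ⟨z, hz⟩
  haveI : Module.Flat A B := IsLocalization.flat B S
  haveI : IsLocalizedModule S (TensorProduct.mk A B N 1) :=
    (isLocalizedModule_iff_isBaseChange S B _).2 (TensorProduct.isBaseChange A N B)
  obtain ⟨⟨n, s⟩, hns⟩ := IsLocalizedModule.surj S (TensorProduct.mk A B N 1) z
  refine ⟨n, minimalPrimes_comap ?_⟩
  have h1 : Ann (A := B) z = (Ann (A := A) n).map (algebraMap A B) := by
    refine Eq.trans ?_ (Groth.Agent.S8899.ann_one_tmul (T := B) n)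
    refine (ann_unit_smul (IsLocalization.map_units B s) z).symm.trans ?_
    rw [algebraMap_smul]
    exact congrArg (fun w => Ann (A := B) w) hns
  rwa [← h1]

theorem isWA_finsupp {A N : Type*} [CommRing A] [AddCommGroup N] [Module A N] {ι : Type*}
    {p : Ideal A} (h : IsWA (ι →₀ N) p) : IsWA N p := by
  obtain ⟨x, hx⟩ := h
  have hp := hx.1.1
  have hle : x.support.inf (fun i => Ann (A := A) (x i)) ≤ p := fun a ha => by
    refine hx.1.2 (mem_Ann.2 ?_)
    ext i
    rw [Finsupp.smul_apply, Finsupp.zero_apply]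
    by_cases hi : i ∈ x.support
    · exact mem_Ann.1 ((Submodule.mem_finsetInf.1 ha) i hi)
    · rw [Finsupp.notMem_support_iff.1 hi, smul_zero]
  obtain ⟨i, -, hi⟩ := (hp.inf_le').1 hle
  refine ⟨x i, ⟨hp, hi⟩, fun q hq hqp => hx.2 ⟨hq.1, fun a ha => hq.2 (mem_Ann.2 ?_)⟩ hqp⟩
  rw [mem_Ann] at ha
  rw [← Finsupp.smul_apply, ha, Finsupp.zero_apply]

theorem exists_pow_mul_mem {R : Type*} [CommRing R] {J q : Ideal R} (hq : q ∈ J.minimalPrimes)
    {a : R} (ha : a ∈ q) : ∃ s ∉ q, ∃ n : ℕ, a ^ n * s ∈ J := by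
  by_contra hcon
  push Not at hcon
  haveI := hq.1.1
  have hd : Disjoint (J : Set R) (Submonoid.powers a ⊔ q.primeCompl : Submonoid R) := by
    refine Set.disjoint_right.2 fun t ht htJ => ?_
    obtain ⟨u, ⟨n, rfl⟩, s, hs, rfl⟩ := Submonoid.mem_sup.1 ht
    exact hcon s hs n htJ
  obtain ⟨Q, hQ, hle, hdQ⟩ := Ideal.exists_le_prime_disjoint J _ hd
  have hQq : Q ≤ q := fun t ht => by
    by_contra htq
    exact Set.disjoint_left.1 hdQ ht ((le_sup_right : q.primeCompl ≤ Submonoid.powers a ⊔ _) htq)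
  exact Set.disjoint_left.1 hdQ (hq.2 ⟨hQ, hle⟩ hQq ha)
    ((le_sup_left : Submonoid.powers a ≤ _ ⊔ q.primeCompl) (Submonoid.mem_powers a))

/-- Weakly associated primes of a module over an integral extension with finite fibres. -/
theorem isWA_restrict {A B M : Type u} [CommRing A] [CommRing B] [Algebra A B]
    [Module.Finite A B] [AddCommGroup M] [Module B M] [Module A M]
    [IsScalarTower A B M] {q : Ideal B} (h : IsWA M q) :
    IsWA M (q.comap (algebraMap A B)) := by
  obtain ⟨z, hz⟩ := h
  haveI := hz.1.1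
  set p := q.comap (algebraMap A B) with hp
  haveI : p.IsPrime := inferInstanceAs (q.comap _).IsPrime
  have hfin : (p.primesOver B).Finite := Algebra.QuasiFinite.finite_primesOver p
  have hpq : q ∈ p.primesOver B := ⟨hz.1.1, ⟨hp⟩⟩
  obtain ⟨a, haq, ha⟩ : ∃ a ∈ q, ∀ Q ∈ p.primesOver B, a ∈ Q → Q = q := by
    classical
    by_contra hcon
    push Not at hcon
    have hsub : (q : Set B) ⊆ ⋃ Q ∈ (hfin.toFinset.erase q : Set (Ideal B)), (Q : Set B) :=
      fun a ha => by
        obtain ⟨Q, hQ, haQ, hne⟩ := hcon a ha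
        exact Set.mem_biUnion (by simp [hne, hQ]) haQ
    obtain ⟨Q, hQ, hqQ⟩ := (Ideal.subset_union_prime q q (fun Q hQ _ _ =>
      (hfin.mem_toFinset.1 (Finset.mem_of_mem_erase hQ)).1)).1 hsub
    obtain ⟨hne, hQ⟩ := Finset.mem_erase.1 hQ
    obtain ⟨hQ1, hQ2⟩ := hfin.mem_toFinset.1 hQ
    rcases hqQ.eq_or_lt with h | h
    · exact hne h.symm
    · exact (Ideal.IsIntegral.comap_lt_comap (R := A) h).ne (hp.symm.trans hQ2.over)
  obtain ⟨s, hs, n, hn⟩ : ∃ s ∉ q, ∃ n : ℕ, (a ^ n * s) • z = 0 := by
    exact exists_pow_mul_mem hz haq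
  have hsz : Ann (A := B) (s • z) ≤ q := fun t ht => by
    rw [mem_Ann, smul_smul] at ht
    exact (hz.1.1.mem_or_mem (hz.1.2 ht)).resolve_right hs
  have hA : Ann (A := A) (s • z) = (Ann (A := B) (s • z)).comap (algebraMap A B) :=
    Ideal.ext fun t => by rw [Ideal.mem_comap, mem_Ann, mem_Ann, algebraMap_smul]
  refine ⟨s • z, ⟨inferInstance, hA.trans_le (Ideal.comap_mono hsz)⟩, fun p' hp' hle => ?_⟩
  haveI := hp'.1
  obtain ⟨Q, hQJ, hQ, hQp⟩ :=
    Ideal.exists_ideal_over_prime_of_isIntegral p' (Ann (A := B) (s • z)) (hA ▸ hp'.2)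
  obtain ⟨Q', hQQ', hQ', hQp'⟩ := Ideal.exists_ideal_over_prime_of_isIntegral p Q (hQp.trans_le hle)
  have haQ : a ∈ Q := hQ.mem_of_pow_mem n (hQJ (by rwa [mem_Ann, smul_smul]))
  have hQ'q : Q' = q := ha Q' ⟨hQ', ⟨hQp'.symm⟩⟩ (hQQ' haQ)
  have := hz.2 ⟨hQ, fun t ht => hQJ (by rw [mem_Ann, smul_comm, mem_Ann.1 ht, smul_zero])⟩
    (hQ'q ▸ hQQ')
  exact (Ideal.comap_mono this).trans hQp.le

theorem of_free_finite {A B : Type u} [CommRing A] [CommRing B] [Algebra A B] [Module.Free A B]
    [Module.Finite A B] : Contracts A B := by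
  intro N _ _ q _ h
  exact isWA_finsupp ((isWA_restrict (A := A) h).of_injective
    (f := (TensorProduct.equivFinsuppOfBasisLeft (Module.Free.chooseBasis A B)).toLinearMap)
    (LinearEquiv.injective _))

theorem of_bijective {A B : Type u} [CommRing A] [CommRing B] [Algebra A B]
    (h : Function.Bijective (algebraMap A B)) : Contracts A B :=
  haveI : IsLocalization (IsUnit.submonoid A) B :=
    IsLocalization.of_le_isUnit_of_bijective Algebra.algebraMapSubmonoid_isUnit_le_isUnit h
  of_isLocalization (IsUnit.submonoid A)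

theorem exists_smul_eq_zero {A N : Type u} [CommRing A] [AddCommGroup N] [Module A N]
    (p : Ideal A) [p.IsPrime] (g : Polynomial A) {e : ℕ} (he : g.coeff e ∉ p)
    (f : PolynomialModule A N) (hf : g • f = 0) : ∃ s ∉ p, s • f = 0 := by
  suffices H : ∀ m (f : PolynomialModule A N), (∀ l, m ≤ l → f.coeff l = 0) → g • f = 0 →
      ∃ s ∉ p, s • f = 0 by
    refine H (f.coeff.support.sup id + 1) f (fun l hl => ?_) hf
    by_contra hne
    have : l ≤ f.coeff.support.sup id :=
      Finset.le_sup (f := id) (Finsupp.mem_support_iff.2 hne)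
    lia
  intro m
  induction m with
  | zero =>
    intro f hm _
    refine ⟨1, p.primeCompl.one_mem, ?_⟩
    rw [one_smul]
    exact PolynomialModule.ext (Finsupp.ext fun l => hm l (Nat.zero_le l))
  | succ m ih =>
    intro f hm hf
    have main : ∀ d, ∃ s ∉ p, ∀ i, g.natDegree + 1 - d ≤ i → (s * g.coeff i) • f = 0 := by
      intro d
      induction d with
      | zero =>
        refine ⟨1, p.primeCompl.one_mem, fun i hi => ?_⟩
        rw [Polynomial.coeff_eq_zero_of_natDegree_lt (by lia), mul_zero, zero_smul]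
      | succ d hd =>
        obtain ⟨s, hs, hsi⟩ := hd
        by_cases hd' : g.natDegree + 1 - d = 0
        · exact ⟨s, hs, fun i _ => hsi i (by lia)⟩
        set j := g.natDegree + 1 - (d + 1) with hj
        have hjm : (s * g.coeff j) • f.coeff m = 0 := by
          have h0 : ∀ x ∈ Finset.antidiagonal (j + m), x ≠ (j, m) →
              s • g.coeff x.1 • f.coeff x.2 = 0 := by
            rintro ⟨i, l⟩ hx hne
            rw [Finset.mem_antidiagonal] at hx
            rcases lt_trichotomy i j with h | h | h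
            · rw [hm l (by dsimp at hx; lia), smul_zero, smul_zero]
            · exact absurd (Prod.ext h (by dsimp at hx ⊢; lia)) hne
            · have := congrArg (fun y : PolynomialModule A N => y.coeff l) (hsi i (by lia))
              rw [smul_smul]
              exact this
          have := congrArg (fun y : PolynomialModule A N => s • y.coeff (j + m)) hf
          rw [PolynomialModule.smul_apply, PolynomialModule.coeff_zero, Finsupp.zero_apply,
            smul_zero, Finset.smul_sum, Finset.sum_eq_single (j, m) h0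
              (fun h => absurd (Finset.mem_antidiagonal (a := (j, m)).2 rfl) h), smul_smul] at this
          exact this
        obtain ⟨t, ht, htf⟩ := ih ((s * g.coeff j) • f) (fun l hl => by
            change (s * g.coeff j) • f.coeff l = 0
            rcases hl.eq_or_lt with rfl | hl
            · exact hjm
            · rw [hm l hl, smul_zero])
          (by rw [smul_comm, hf, smul_zero])
        refine ⟨t * s, (p.primeCompl.mul_mem ht hs), fun i hi => ?_⟩
        rw [mul_assoc, mul_smul]
        rcases hi.eq_or_lt with rfl | hi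
        · exact htf
        · rw [hsi i (by lia), smul_zero]
    obtain ⟨s, hs, hsi⟩ := main (g.natDegree + 1)
    exact ⟨s * g.coeff e, p.primeCompl.mul_mem hs he, hsi e (by lia)⟩

theorem of_polynomial {A : Type u} [CommRing A] : Contracts A (Polynomial A) := by
  intro N _ _ q _ h
  obtain ⟨f, hf⟩ := h.of_injective
    (f := (PolynomialModule.polynomialTensorProductLEquivPolynomialModule A N).toLinearMap)
    (LinearEquiv.injective _)
  set p := q.comap (algebraMap A (Polynomial A)) with hp
  haveI : p.IsPrime := inferInstanceAs (q.comap _).IsPrime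
  have hle : f.coeff.support.inf (fun i => Ann (A := A) (f.coeff i)) ≤ p := fun a ha => by
    refine hf.1.2 (mem_Ann.2 ?_)
    rw [algebraMap_smul]
    refine PolynomialModule.ext (Finsupp.ext fun i => ?_)
    change a • f.coeff i = 0
    by_cases hi : i ∈ f.coeff.support
    · exact mem_Ann.1 ((Submodule.mem_finsetInf.1 ha) i hi)
    · rw [Finsupp.notMem_support_iff.1 hi, smul_zero]
  obtain ⟨i, -, hi⟩ := (Ideal.IsPrime.inf_le' inferInstance).1 hle
  refine ⟨f.coeff i, ⟨inferInstance, hi⟩, fun p' hp' hle' => ?_⟩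
  by_contra hne
  haveI := hp'.1
  haveI : (p'.map Polynomial.C).IsPrime := Ideal.isPrime_map_C_of_isPrime
  have hQq : p'.map Polynomial.C ≤ q := Ideal.map_le_iff_le_comap.2 hle'
  have hQne : ¬ q ≤ p'.map Polynomial.C := fun hqQ => hne fun a ha => by
    have := Ideal.mem_map_C_iff.1 (hqQ ha) 0
    simpa using this
  obtain ⟨g, hg, hgQ⟩ := SetLike.not_le_iff_exists.1
    (fun hann => hQne (hf.2 ⟨inferInstance, hann⟩ hQq))
  rw [Ideal.mem_map_C_iff] at hgQ
  push Not at hgQ
  obtain ⟨e, he⟩ := hgQ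
  obtain ⟨s, hs, hsf⟩ := exists_smul_eq_zero p' g he f hg
  exact hs (hp'.2 (mem_Ann.2 (congrArg (fun y : PolynomialModule A N => y.coeff i) hsf)))

open scoped IntermediateField in
/-- A simple field extension. -/
theorem of_simple {k E : Type u} [Field k] [Field E] [Algebra k E] (x : E)
    (A B : Type u) [CommRing A] [CommRing B] [Algebra k A] [Algebra A B] [Algebra k⟮x⟯ B]
    [Algebra k B] [IsScalarTower k A B] [IsScalarTower k k⟮x⟯ B]
    [Algebra.IsPushout k A k⟮x⟯ B] : Contracts A B := by
  by_cases hx : IsIntegral k x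
  · haveI := IntermediateField.adjoin.finiteDimensional hx
    have hbc : IsBaseChange A (IsScalarTower.toAlgHom k k⟮x⟯ B).toLinearMap :=
      Algebra.IsPushout.out
    haveI : Module.Free A B := Module.Free.of_equiv hbc.equiv
    haveI : Module.Finite A B := Module.Finite.equiv hbc.equiv
    exact of_free_finite
  · set x' := IntermediateField.AdjoinSimple.gen k x with hx'
    letI : Algebra (Polynomial k) k⟮x⟯ := (Polynomial.aeval x').toRingHom.toAlgebra
    haveI : IsScalarTower k (Polynomial k) k⟮x⟯ :=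
      IsScalarTower.of_algebraMap_eq fun r => ((Polynomial.aeval x').commutes r).symm
    have hco : ∀ g : Polynomial k, ((Polynomial.aeval x' g : k⟮x⟯) : E) = Polynomial.aeval x g :=
      fun g => by rw [← IntermediateField.algebraMap_apply, ← Polynomial.aeval_algebraMap_apply,
        IntermediateField.algebraMap_apply, IntermediateField.AdjoinSimple.coe_gen]
    have hinj : Function.Injective (Polynomial.aeval x : Polynomial k →ₐ[k] E) :=
      transcendental_iff_injective.1 fun h => hx h.isIntegral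
    haveI : FaithfulSMul (Polynomial k) k⟮x⟯ := by
      rw [faithfulSMul_iff_algebraMap_injective]
      exact fun g g' h => hinj ((hco g).symm.trans ((congrArg Subtype.val h).trans (hco g')))
    haveI : IsFractionRing (Polynomial k) k⟮x⟯ := IsFractionRing.of_field _ _ fun z => by
      obtain ⟨r, s, hrs⟩ := IntermediateField.mem_adjoin_simple_iff k _ |>.1 z.2
      refine ⟨r, s, Subtype.ext ?_⟩
      rw [hrs]
      exact (congrArg₂ (· / ·) (hco r) (hco s)).symm
    letI : Algebra (Polynomial A) B :=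
      (Polynomial.aeval (algebraMap k⟮x⟯ B x') : Polynomial A →ₐ[A] B).toRingHom.toAlgebra
    haveI : IsScalarTower A (Polynomial A) B :=
      IsScalarTower.of_algebraMap_eq fun a =>
        ((Polynomial.aeval (algebraMap k⟮x⟯ B x') : Polynomial A →ₐ[A] B).commutes a).symm
    letI : Algebra (Polynomial k) B :=
      ((algebraMap k⟮x⟯ B).comp (algebraMap (Polynomial k) k⟮x⟯)).toAlgebra
    haveI : IsScalarTower (Polynomial k) k⟮x⟯ B := IsScalarTower.of_algebraMap_eq' rfl
    haveI : IsScalarTower k (Polynomial k) B := IsScalarTower.of_algebraMap_eq fun r => by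
      rw [IsScalarTower.algebraMap_apply k k⟮x⟯ B, IsScalarTower.algebraMap_apply k (Polynomial k) k⟮x⟯]
      rfl
    haveI : IsScalarTower k (Polynomial A) B := IsScalarTower.of_algebraMap_eq fun r => by
      rw [IsScalarTower.algebraMap_apply k A (Polynomial A), ← IsScalarTower.algebraMap_apply,
        ← IsScalarTower.algebraMap_apply]
    letI : Algebra (Polynomial k) (Polynomial A) :=
      (Polynomial.mapRingHom (algebraMap k A)).toAlgebra
    haveI : IsScalarTower (Polynomial k) (Polynomial A) B := IsScalarTower.of_algebraMap_eq fun g => by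
      change algebraMap k⟮x⟯ B (Polynomial.aeval x' g) =
        Polynomial.aeval (algebraMap k⟮x⟯ B x') (g.map (algebraMap k A))
      rw [Polynomial.aeval_map_algebraMap, Polynomial.aeval_algebraMap_apply]
    have h1 : Algebra.IsPushout (Polynomial k) k⟮x⟯ (Polynomial A) B :=
      (Algebra.IsPushout.comp_iff (R := k) (S := Polynomial k) (T := k⟮x⟯) (R' := A)
        (S' := Polynomial A) (T' := B)).1 (Algebra.IsPushout.symm inferInstance)
    haveI : IsLocalization (Algebra.algebraMapSubmonoid (Polynomial A)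
        (nonZeroDivisors (Polynomial k))) B :=
      (Algebra.isLocalization_iff_isPushout (nonZeroDivisors (Polynomial k)) k⟮x⟯).2 h1.symm
    exact trans (of_polynomial (A := A))
      (of_isLocalization (Algebra.algebraMapSubmonoid (Polynomial A) (nonZeroDivisors (Polynomial k))))

open scoped IntermediateField in
theorem of_fg {k K : Type u} [Field k] [Field K] [Algebra k K] (L : IntermediateField k K)
    (hL : L.FG) (A : Type u) [CommRing A] [Algebra k A] : Contracts A (A ⊗[k] L) := by
  refine IntermediateField.induction_on_adjoin_fg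
    (fun L : IntermediateField k K => ∀ (A : Type u) [CommRing A] [Algebra k A],
      Contracts A (A ⊗[k] L)) ?_ ?_ L hL A
  · intro A _ _
    refine of_bijective ?_
    let e : A ⊗[k] (⊥ : IntermediateField k K) ≃ₐ[A] A :=
      (Algebra.TensorProduct.congr AlgEquiv.refl (IntermediateField.botEquiv k K)).trans
        (Algebra.TensorProduct.rid k A A)
    have he : ⇑(algebraMap A (A ⊗[k] (⊥ : IntermediateField k K))) = ⇑e.symm :=
      funext fun a => (e.symm.commutes a).symm
    rw [he]
    exact e.symm.bijective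
  · intro L x ih A _ _
    let M : IntermediateField k K := L⟮x⟯.restrictScalars k
    letI : Algebra L⟮x⟯ (A ⊗[k] M) := (Algebra.TensorProduct.includeRight :
      M →ₐ[k] (A ⊗[k] M)).toRingHom.toAlgebra
    let j : L →ₐ[k] M :=
      (IsScalarTower.toAlgHom k L L⟮x⟯)
    letI : Algebra (A ⊗[k] L) (A ⊗[k] M) :=
      (Algebra.TensorProduct.map (AlgHom.id A A) j).toRingHom.toAlgebra
    haveI : IsScalarTower A (A ⊗[k] L) (A ⊗[k] M) :=
      IsScalarTower.of_algebraMap_eq (R := A) (S := (A ⊗[k] L)) (A := (A ⊗[k] M)) fun a =>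
      ((Algebra.TensorProduct.map (AlgHom.id A A) j).commutes a).symm
    letI : Algebra L (A ⊗[k] L) := (Algebra.TensorProduct.includeRight :
      L →ₐ[k] (A ⊗[k] L)).toRingHom.toAlgebra
    letI : Algebra L (A ⊗[k] M) := RingHom.toAlgebra
      ((Algebra.TensorProduct.map (AlgHom.id A A) j).toRingHom.comp
        (Algebra.TensorProduct.includeRight : L →ₐ[k] (A ⊗[k] L)).toRingHom)
    haveI : IsScalarTower L (A ⊗[k] L) (A ⊗[k] M) := IsScalarTower.of_algebraMap_eq' rfl
    haveI : IsScalarTower L L⟮x⟯ (A ⊗[k] M) := IsScalarTower.of_algebraMap_eq fun l => by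
      change Algebra.TensorProduct.map (AlgHom.id A A) j ((1 : A) ⊗ₜ[k] l) = _
      rw [Algebra.TensorProduct.map_tmul]
      rfl
    haveI : IsScalarTower k L (A ⊗[k] L) := IsScalarTower.of_algebraMap_eq fun r =>
      ((Algebra.TensorProduct.includeRight : L →ₐ[k] (A ⊗[k] L)).commutes r).symm
    haveI : IsScalarTower k L⟮x⟯ (A ⊗[k] M) :=
      IsScalarTower.of_algebraMap_eq (R := k) (S := L⟮x⟯) (A := A ⊗[k] M) fun r =>
      ((Algebra.TensorProduct.includeRight : M →ₐ[k] (A ⊗[k] M)).commutes r).symm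
    haveI : IsScalarTower k (A ⊗[k] L) (A ⊗[k] M) :=
      IsScalarTower.of_algebraMap_eq (R := k) (S := A ⊗[k] L) (A := A ⊗[k] M) fun r =>
      (((Algebra.TensorProduct.map (AlgHom.id A A) j).restrictScalars k).commutes r).symm
    haveI : Algebra.IsPushout k L A (A ⊗[k] L) := Algebra.IsPushout.symm
      (inferInstanceAs (Algebra.IsPushout k A L (A ⊗[k] L)))
    letI : Algebra M (A ⊗[k] M) := (Algebra.TensorProduct.includeRight :
      M →ₐ[k] (A ⊗[k] M)).toRingHom.toAlgebra
    haveI hM : Algebra.IsPushout k A M (A ⊗[k] M) := inferInstance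
    haveI : Algebra.IsPushout k L⟮x⟯ A (A ⊗[k] M) := Algebra.IsPushout.symm hM
    haveI : Algebra.IsPushout L (A ⊗[k] L) L⟮x⟯ (A ⊗[k] M) :=
      ((Algebra.IsPushout.comp_iff (R := k) (S := L) (T := L⟮x⟯) (R' := A) (S' := A ⊗[k] L)
        (T' := (A ⊗[k] M))).1 inferInstance).symm
    exact trans (ih A) (of_simple (k := L) x (A ⊗[k] L) (A ⊗[k] M))

theorem descend {A A₁ B : Type u} [CommRing A] [CommRing A₁] [CommRing B] [Algebra A A₁]
    [Algebra A B] [Algebra A₁ B] [IsScalarTower A A₁ B] [Module.Flat A₁ B] (h : Contracts A A₁)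
    {N : Type u} [AddCommGroup N] [Module A N] (z' : A₁ ⊗[A] N) (q : Ideal B) [q.IsPrime]
    (hq : q ∈ (Ann (A := B)
      ((IsScalarTower.toAlgHom A A₁ B).toLinearMap.rTensor N z')).minimalPrimes) :
    IsWA N (q.comap (algebraMap A B)) := by
  let e := TensorProduct.AlgebraTensorModule.cancelBaseChange A A₁ B B N
  have he : e ((1 : B) ⊗ₜ[A₁] z') = (IsScalarTower.toAlgHom A A₁ B).toLinearMap.rTensor N z' := by
    clear hq
    induction z' with
    | zero => simp
    | tmul a n =>
      rw [TensorProduct.AlgebraTensorModule.cancelBaseChange_tmul]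
      simp [Algebra.smul_def]
    | add a b ha hb => rw [tmul_add, map_add, map_add, ha, hb]
  rw [← he, ann_congr e, show Ann (A := B) ((1 : B) ⊗ₜ[A₁] z') =
    (Ann (A := A₁) z').map (algebraMap A₁ B) from Groth.Agent.S8899.ann_one_tmul (T := B) z'] at hq
  rw [IsScalarTower.algebraMap_eq A A₁ B, ← Ideal.comap_comap]
  exact h N _ ⟨z', minimalPrimes_comap hq⟩

/-- Weakly associated primes of a field base change contract to weakly associated primes. -/
theorem contracts_tensor {k : Type u} [Field k] (A K : Type u) [CommRing A] [Algebra k A] [Field K]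
    [Algebra k K] : Contracts A (A ⊗[k] K) := by
  intro N _ _ q _ ⟨z, hz⟩
  classical
  let m (L : IntermediateField k K) : A ⊗[k] L →ₐ[A] A ⊗[k] K :=
    Algebra.TensorProduct.map (AlgHom.id A A) L.val
  have hb : ∀ b : A ⊗[k] K, ∃ S : Finset K, ∀ L : IntermediateField k K, ↑S ⊆ (L : Set K) →
      b ∈ Set.range (m L) := fun b => by
    induction b with
    | zero => exact ⟨∅, fun L _ => ⟨0, map_zero _⟩⟩
    | tmul a c => exact ⟨{c}, fun L hL => ⟨a ⊗ₜ ⟨c, hL (Finset.mem_coe.2 (Finset.mem_singleton_self c))⟩,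
        by simp [m]⟩⟩
    | add b c hb hc =>
      obtain ⟨S, hS⟩ := hb
      obtain ⟨T, hT⟩ := hc
      refine ⟨S ∪ T, fun L hL => ?_⟩
      rw [Finset.coe_union, Set.union_subset_iff] at hL
      obtain ⟨b', rfl⟩ := hS L hL.1
      obtain ⟨c', rfl⟩ := hT L hL.2
      exact ⟨b' + c', map_add _ _ _⟩
  obtain ⟨S, hS⟩ : ∃ S : Finset K, ∀ L : IntermediateField k K, ↑S ⊆ (L : Set K) →
      z ∈ Set.range ((m L).toLinearMap.rTensor N) := by
    clear hz
    induction z with
    | zero => exact ⟨∅, fun L _ => ⟨0, map_zero _⟩⟩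
    | tmul b n =>
      obtain ⟨S, hS⟩ := hb b
      refine ⟨S, fun L hL => ?_⟩
      obtain ⟨b', rfl⟩ := hS L hL
      exact ⟨b' ⊗ₜ n, rfl⟩
    | add b c hb hc =>
      obtain ⟨S, hS⟩ := hb
      obtain ⟨T, hT⟩ := hc
      refine ⟨S ∪ T, fun L hL => ?_⟩
      rw [Finset.coe_union, Set.union_subset_iff] at hL
      obtain ⟨b', rfl⟩ := hS L hL.1
      obtain ⟨c', rfl⟩ := hT L hL.2
      exact ⟨b' + c', map_add _ _ _⟩
  let L := IntermediateField.adjoin k (S : Set K)
  obtain ⟨z', hz'⟩ := hS L (IntermediateField.subset_adjoin k _)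
  letI : Algebra (A ⊗[k] L) (A ⊗[k] K) := (m L).toRingHom.toAlgebra
  haveI : IsScalarTower A (A ⊗[k] L) (A ⊗[k] K) :=
    IsScalarTower.of_algebraMap_eq (R := A) (S := (A ⊗[k] L)) (A := (A ⊗[k] K)) fun a => ((m L).commutes a).symm
  letI : Algebra L (A ⊗[k] L) := (Algebra.TensorProduct.includeRight : L →ₐ[k] (A ⊗[k] L)).toRingHom.toAlgebra
  letI : Algebra K (A ⊗[k] K) := (Algebra.TensorProduct.includeRight : K →ₐ[k] (A ⊗[k] K)).toRingHom.toAlgebra
  haveI : IsScalarTower L (A ⊗[k] L) (A ⊗[k] K) :=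
    IsScalarTower.of_algebraMap_eq (R := L) (S := A ⊗[k] L) (A := A ⊗[k] K) fun l => by
      change (1 : A) ⊗ₜ[k] ((l : L) : K) = m L ((1 : A) ⊗ₜ[k] l)
      simp [m]
  haveI : IsScalarTower L K (A ⊗[k] K) :=
    IsScalarTower.of_algebraMap_eq (R := L) (S := K) (A := A ⊗[k] K) fun l => rfl
  haveI : IsScalarTower k L (A ⊗[k] L) := IsScalarTower.of_algebraMap_eq fun r =>
    ((Algebra.TensorProduct.includeRight : L →ₐ[k] (A ⊗[k] L)).commutes r).symm
  haveI : IsScalarTower k K (A ⊗[k] K) := IsScalarTower.of_algebraMap_eq fun r =>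
    ((Algebra.TensorProduct.includeRight : K →ₐ[k] (A ⊗[k] K)).commutes r).symm
  haveI : IsScalarTower k (A ⊗[k] L) (A ⊗[k] K) :=
    IsScalarTower.of_algebraMap_eq (R := k) (S := A ⊗[k] L) (A := A ⊗[k] K) fun r =>
    (((m L).restrictScalars k).commutes r).symm
  haveI : Algebra.IsPushout k L A (A ⊗[k] L) := Algebra.IsPushout.symm
    (inferInstanceAs (Algebra.IsPushout k A L (A ⊗[k] L)))
  haveI : Algebra.IsPushout k K A (A ⊗[k] K) := Algebra.IsPushout.symm
    (inferInstanceAs (Algebra.IsPushout k A K (A ⊗[k] K)))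
  haveI : Algebra.IsPushout L K (A ⊗[k] L) (A ⊗[k] K) :=
    (Algebra.IsPushout.comp_iff (R := k) (S := L) (T := K) (R' := A) (S' := A ⊗[k] L) (T' := (A ⊗[k] K))).1
      inferInstance
  haveI : Module.Flat (A ⊗[k] L) (A ⊗[k] K) :=
    Module.Flat.isBaseChange L (A ⊗[k] L) K (A ⊗[k] K) (Algebra.IsPushout.symm inferInstance).out
  refine descend (A := A) (A₁ := A ⊗[k] L) (B := A ⊗[k] K) (of_fg L ⟨S, rfl⟩ A) z' q ?_
  rw [← hz'] at hz
  exact hz

end Groth.Agent.H20.WeakAssField
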